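import Mathlib

set_option autoImplicit false

namespace Cfsg.Agent.Lib.Helper89

open Subgroup
open scoped commutatorElement

section Calc
variable {G : Type*} [Group G]

theorem comm_mul_left_id (u u' v : G) :
    ⁅u * u', v⁆ = u * ⁅u', v⁆ * u⁻¹ * ⁅u, v⁆ := by
  simp only [commutatorElement_def]; group

theorem comm_mul_right_id (u v v' : G) :
    ⁅u, v * v'⁆ = ⁅u, v⁆ * (v * ⁅u, v'⁆ * v⁻¹) := by
  simp only [commutatorElement_def]; group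

theorem conj_comm_id (a u v : G) :
    a * ⁅u, v⁆ * a⁻¹ = ⁅a * u * a⁻¹, a * v * a⁻¹⁆ := by
  simp only [commutatorElement_def]; group

theorem conj_eq_comm_mul (u v : G) : u * v * u⁻¹ = ⁅u, v⁆ * v := by
  simp only [commutatorElement_def]; group

theorem conj_pow_id (a x : G) (n : ℕ) : a * x ^ n * a⁻¹ = (a * x * a⁻¹) ^ n := by
  induction n with
  | zero => simp
  | succ n ih => rw [pow_succ, pow_succ, ← ih]; group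

theorem comm_eq_one_iff (u v : G) : ⁅u, v⁆ = 1 ↔ u * v = v * u := by
  rw [commutatorElement_def]
  constructor
  · intro h
    have : u * v * u⁻¹ * v⁻¹ * (v * u) = 1 * (v * u) := by rw [h]
    rw [one_mul] at this
    rw [← this]; group
  · intro h
    rw [h]; group

/-- The configuration `Z ≤ L ≤ W ≤ R` with `Z` central in `R`, `[W,W] ≤ Z`, `[R,L] ≤ Z`,
`[R,W] ≤ L` and `L` abelian. -/
structure CubeData (Z L W R : Subgroup G) : Prop where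
  hZL : Z ≤ L
  hLW : L ≤ W
  hWR : W ≤ R
  hZc : ∀ ζ ∈ Z, ∀ r ∈ R, ζ * r = r * ζ
  hWW : ∀ u ∈ W, ∀ v ∈ W, ⁅u, v⁆ ∈ Z
  hRL : ∀ r ∈ R, ∀ l ∈ L, ⁅r, l⁆ ∈ Z
  hRW : ∀ r ∈ R, ∀ w ∈ W, ⁅r, w⁆ ∈ L
  hLL : ∀ l ∈ L, ∀ l' ∈ L, l * l' = l' * l

namespace CubeData
variable {Z L W R : Subgroup G} (h : CubeData Z L W R)
include h

theorem hZR : Z ≤ R := h.hZL.trans (h.hLW.trans h.hWR)
theorem hZW : Z ≤ W := h.hZL.trans h.hLW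
theorem hLR : L ≤ R := h.hLW.trans h.hWR

theorem conj_central {ζ r : G} (hζ : ζ ∈ Z) (hr : r ∈ R) : r * ζ * r⁻¹ = ζ := by
  rw [← h.hZc ζ hζ r hr]; group

/-- additivity on the left when the second commutator is central -/
theorem comm_mul_left {u u' v : G} (hu : u ∈ R) (hv : v ∈ R) (hζ : ⁅u', v⁆ ∈ Z) :
    ⁅u * u', v⁆ = ⁅u, v⁆ * ⁅u', v⁆ := by
  rw [comm_mul_left_id, h.conj_central hζ hu]
  exact h.hZc _ hζ _ (Subgroup.commutator_mem_commutator hu hv |> fun _ => by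
    rw [commutatorElement_def]
    exact R.mul_mem (R.mul_mem (R.mul_mem hu hv) (R.inv_mem hu)) (R.inv_mem hv))

theorem comm_mul_right {u v v' : G} (hv : v ∈ R) (hζ : ⁅u, v'⁆ ∈ Z) :
    ⁅u, v * v'⁆ = ⁅u, v⁆ * ⁅u, v'⁆ := by
  rw [comm_mul_right_id, h.conj_central hζ hv]

omit h in
theorem comm_mem_R {u v : G} (hu : u ∈ R) (hv : v ∈ R) : ⁅u, v⁆ ∈ R := by
  rw [commutatorElement_def]
  exact R.mul_mem (R.mul_mem (R.mul_mem hu hv) (R.inv_mem hu)) (R.inv_mem hv)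

theorem comm_central_left {ζ v : G} (hζ : ζ ∈ Z) (hv : v ∈ R) : ⁅ζ, v⁆ = 1 :=
  (comm_eq_one_iff ζ v).2 (h.hZc ζ hζ v hv)

theorem comm_central_right {u ζ : G} (hu : u ∈ R) (hζ : ζ ∈ Z) : ⁅u, ζ⁆ = 1 :=
  (comm_eq_one_iff u ζ).2 (h.hZc ζ hζ u hu).symm

theorem comm_pow_left {u v : G} (hu : u ∈ R) (hv : v ∈ R) (hζ : ⁅u, v⁆ ∈ Z) (n : ℕ) :
    ⁅u ^ n, v⁆ = ⁅u, v⁆ ^ n := by
  induction n with
  | zero => simp
  | succ n ih =>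
    rw [pow_succ, h.comm_mul_left (R.pow_mem hu n) hv hζ, ih, pow_succ]

theorem comm_pow_right {u v : G} (hv : v ∈ R) (hζ : ⁅u, v⁆ ∈ Z) (n : ℕ) :
    ⁅u, v ^ n⁆ = ⁅u, v⁆ ^ n := by
  induction n with
  | zero => simp
  | succ n ih =>
    rw [pow_succ, h.comm_mul_right (R.pow_mem hv n) hζ, ih, pow_succ]

/-- `R` normalizes `L`. -/
theorem conj_mem_L {r l : G} (hr : r ∈ R) (hl : l ∈ L) : r * l * r⁻¹ ∈ L := by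
  rw [conj_eq_comm_mul]
  exact L.mul_mem (h.hZL (h.hRL r hr l hl)) hl

/-- `R` normalizes `W`. -/
theorem conj_mem_W {r w : G} (hr : r ∈ R) (hw : w ∈ W) : r * w * r⁻¹ ∈ W := by
  rw [conj_eq_comm_mul]
  exact W.mul_mem (h.hLW (h.hRW r hr w hw)) hw

/-- the trilinear form -/
theorem E_mem {r w v : G} (hr : r ∈ R) (hw : w ∈ W) (hv : v ∈ W) : ⁅⁅r, w⁆, v⁆ ∈ Z :=
  h.hWW _ (h.hLW (h.hRW r hr w hw)) v hv

theorem E_mul_v {r w v v' : G} (hr : r ∈ R) (hw : w ∈ W) (hv : v ∈ W) (hv' : v' ∈ W) :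
    ⁅⁅r, w⁆, v * v'⁆ = ⁅⁅r, w⁆, v⁆ * ⁅⁅r, w⁆, v'⁆ :=
  h.comm_mul_right (h.hWR hv) (h.E_mem hr hw hv')

theorem E_of_w_mem_L {r w v : G} (hr : r ∈ R) (hw : w ∈ L) (hv : v ∈ W) : ⁅⁅r, w⁆, v⁆ = 1 :=
  h.comm_central_left (h.hRL r hr w hw) (h.hWR hv)

theorem E_of_v_mem_L {r w v : G} (hr : r ∈ R) (hw : w ∈ W) (hv : v ∈ L) : ⁅⁅r, w⁆, v⁆ = 1 :=
  (comm_eq_one_iff _ _).2 (h.hLL _ (h.hRW r hr w hw) v hv)

theorem E_mul_w {r w w' v : G} (hr : r ∈ R) (hw : w ∈ W) (hw' : w' ∈ W) (hv : v ∈ W) :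
    ⁅⁅r, w * w'⁆, v⁆ = ⁅⁅r, w⁆, v⁆ * ⁅⁅r, w'⁆, v⁆ := by
  have hc : ⁅r, w'⁆ ∈ L := h.hRW r hr w' hw'
  have hc1 : ⁅r, w⁆ ∈ L := h.hRW r hr w hw
  have hζ : ⁅w, ⁅r, w'⁆⁆ ∈ Z := h.hWW w hw _ (h.hLW hc)
  have h1 : ⁅r, w * w'⁆ = ⁅r, w⁆ * (⁅w, ⁅r, w'⁆⁆ * ⁅r, w'⁆) := by
    rw [comm_mul_right_id, conj_eq_comm_mul]
  rw [h1]
  have hvR : v ∈ R := h.hWR hv
  rw [h.comm_mul_left (h.hLR hc1) hvR, h.comm_mul_left (h.hZR hζ) hvR (h.E_mem hr hw' hv),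
    h.comm_central_left hζ hvR, one_mul]
  rw [h.comm_mul_left (h.hZR hζ) hvR (h.E_mem hr hw' hv), h.comm_central_left hζ hvR, one_mul]
  exact h.E_mem hr hw' hv

theorem E_mul_r {r r' w v : G} (hr : r ∈ R) (hr' : r' ∈ R) (hw : w ∈ W) (hv : v ∈ W) :
    ⁅⁅r * r', w⁆, v⁆ = ⁅⁅r, w⁆, v⁆ * ⁅⁅r', w⁆, v⁆ := by
  have hc : ⁅r', w⁆ ∈ L := h.hRW r' hr' w hw
  have hc1 : ⁅r, w⁆ ∈ L := h.hRW r hr w hw
  have hζ : ⁅r, ⁅r', w⁆⁆ ∈ Z := h.hRL r hr _ hc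
  have h1 : ⁅r * r', w⁆ = ⁅r, ⁅r', w⁆⁆ * ⁅r', w⁆ * ⁅r, w⁆ := by
    rw [comm_mul_left_id, conj_eq_comm_mul]
  rw [h1]
  have hvR : v ∈ R := h.hWR hv
  rw [h.comm_mul_left (R.mul_mem (h.hZR hζ) (h.hLR hc)) hvR (h.E_mem hr hw hv),
    h.comm_mul_left (h.hZR hζ) hvR (h.E_mem hr' hw hv), h.comm_central_left hζ hvR, one_mul]
  exact h.hZc _ (h.E_mem hr' hw hv) _ (comm_mem_R (h.hLR hc1) hvR)

theorem E_pow_v {r w v : G} (hr : r ∈ R) (hw : w ∈ W) (hv : v ∈ W) (n : ℕ) :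
    ⁅⁅r, w⁆, v ^ n⁆ = ⁅⁅r, w⁆, v⁆ ^ n :=
  h.comm_pow_right (h.hWR hv) (h.E_mem hr hw hv) n

theorem E_pow_w {r w v : G} (hr : r ∈ R) (hw : w ∈ W) (hv : v ∈ W) (n : ℕ) :
    ⁅⁅r, w ^ n⁆, v⁆ = ⁅⁅r, w⁆, v⁆ ^ n := by
  induction n with
  | zero => simp
  | succ n ih => rw [pow_succ, h.E_mul_w hr (W.pow_mem hw n) hw hv, ih, pow_succ]

theorem E_pow_r {r w v : G} (hr : r ∈ R) (hw : w ∈ W) (hv : v ∈ W) (n : ℕ) :
    ⁅⁅r ^ n, w⁆, v⁆ = ⁅⁅r, w⁆, v⁆ ^ n := by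
  induction n with
  | zero => simp
  | succ n ih => rw [pow_succ, h.E_mul_r (R.pow_mem hr n) hr hw hv, ih, pow_succ]

/-- the value of the trilinear form on `(x ^ k, m ^ i * l, m ^ j * l')`. -/
theorem E_eval {x m l l' : G} (hx : x ∈ R) (hm : m ∈ W) (hl : l ∈ L) (hl' : l' ∈ L)
    (k i j : ℕ) :
    ⁅⁅x ^ k, m ^ i * l⁆, m ^ j * l'⁆ = ⁅⁅x, m⁆, m⁆ ^ (k * i * j) := by
  have hxk : x ^ k ∈ R := R.pow_mem hx k
  have hmi : m ^ i ∈ W := W.pow_mem hm i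
  have hmj : m ^ j ∈ W := W.pow_mem hm j
  have hmil : m ^ i * l ∈ W := W.mul_mem hmi (h.hLW hl)
  rw [h.E_mul_v hxk hmil hmj (h.hLW hl'), h.E_of_v_mem_L hxk hmil hl', mul_one,
    h.E_mul_w hxk hmi (h.hLW hl) hmj, h.E_of_w_mem_L hxk hl hmj, mul_one,
    h.E_pow_v hxk hmi hm, h.E_pow_w hxk hm hm, h.E_pow_r hx hm hm, ← pow_mul, ← pow_mul,
    mul_assoc]

/-- powers of `m ^ s * l` stay in `m ^ (s * t) * L` -/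
theorem pow_mul_mem {m l : G} (hm : m ∈ W) (hl : l ∈ L) (s t : ℕ) :
    ∃ l' ∈ L, (m ^ s * l) ^ t = m ^ (s * t) * l' := by
  induction t with
  | zero => exact ⟨1, L.one_mem, by simp⟩
  | succ t ih =>
    obtain ⟨l', hl', he⟩ := ih
    refine ⟨(m ^ s)⁻¹ * l' * (m ^ s)⁻¹⁻¹ * l, L.mul_mem ?_ hl, ?_⟩
    · exact h.conj_mem_L (R.inv_mem (R.pow_mem (h.hWR hm) s)) hl'
    · rw [pow_succ, he, mul_add, mul_one, pow_add]; group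

end CubeData

end Calc

end Cfsg.Agent.Lib.Helper89
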