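import Mathlib
import Cfsg.Agent.Lib.Helper89.CubeCalc

set_option autoImplicit false

namespace Cfsg.Agent.Lib.Helper89

open Subgroup
open scoped commutatorElement

section Gen
variable {G : Type*} [Group G]

/-- `CubeData` together with generators `m` of `W` modulo `L` and `l₀` of `L` modulo `Z`. -/
structure CubeGen (p : ℕ) (Z L W R : Subgroup G) (m l₀ : G) : Prop where
  toData : CubeData Z L W R
  hm : m ∈ W
  hl₀ : l₀ ∈ L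
  hexp : ∀ w ∈ W, w ^ p = 1
  hWgen : ∀ w ∈ W, ∃ i : ℕ, ∃ l ∈ L, w = m ^ i * l
  hLgen : ∀ l ∈ L, ∃ i : ℕ, ∃ ζ ∈ Z, l = l₀ ^ i * ζ
  hZgen : ∀ ζ ∈ Z, ∃ n : ℕ, ζ = ⁅l₀, m⁆ ^ n
  hZmem : ∀ x ∈ W, (∀ w ∈ W, w * x = x * w) → x ∈ Z
  hz₀ : ⁅l₀, m⁆ ≠ 1

namespace CubeGen
variable {p : ℕ} {Z L W R : Subgroup G} {m l₀ : G} (h : CubeGen p Z L W R m l₀)
include h

theorem hmR : m ∈ R := h.toData.hWR h.hm
theorem hl₀W : l₀ ∈ W := h.toData.hLW h.hl₀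
theorem hl₀R : l₀ ∈ R := h.toData.hWR h.hl₀W

/-- an element of `R` commuting with `l₀` centralizes `L` -/
theorem comm_L {c : G} (hc : c ∈ R) (hcl : c * l₀ = l₀ * c) : ∀ l ∈ L, c * l = l * c := by
  intro l hl
  obtain ⟨i, ζ, hζ, rfl⟩ := h.hLgen l hl
  have h1 : Commute c (l₀ ^ i) := (show Commute c l₀ from hcl).pow_right i
  have h2 : Commute c ζ := (h.toData.hZc ζ hζ c hc).symm
  exact h1.mul_right h2

/-- an element of `R` commuting with `m` and `l₀` centralizes `W` -/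
theorem comm_W {c : G} (hc : c ∈ R) (hcm : c * m = m * c) (hcl : c * l₀ = l₀ * c) :
    ∀ w ∈ W, c * w = w * c := by
  intro w hw
  obtain ⟨i, l, hl, rfl⟩ := h.hWgen w hw
  have h1 : Commute c (m ^ i) := (show Commute c m from hcm).pow_right i
  have h2 : Commute c l := h.comm_L hc hcl l hl
  exact h1.mul_right h2

/-- an element of `L` commuting with `m` lies in `Z` -/
theorem mem_Z_of_comm {c : G} (hc : c ∈ L) (hcm : c * m = m * c) : c ∈ Z := by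
  apply h.hZmem c (h.toData.hLW hc)
  intro w hw
  have := h.comm_W (h.toData.hLR hc) hcm (h.toData.hLL c hc l₀ h.hl₀) w hw
  exact this.symm

theorem z₀_mem : ⁅l₀, m⁆ ∈ Z := h.toData.hWW l₀ h.hl₀W m h.hm

theorem z₀_pow [Fact p.Prime] : ⁅l₀, m⁆ ^ p = 1 := h.hexp _ (h.toData.hZW h.z₀_mem)

theorem comm_m_l₀ : ⁅m, l₀⁆ = ⁅l₀, m⁆⁻¹ := (commutatorElement_inv l₀ m).symm

/-- the elements of `R` acting trivially on `W / Z` lie in `W * C_R(W)`. -/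
theorem stepIII [Fact p.Prime] {r : G} (hr : r ∈ R) (hrm : ⁅r, m⁆ ∈ Z) :
    ∃ w ∈ W, ∃ c ∈ R, (∀ v ∈ W, c * v = v * c) ∧ r = w * c := by
  have hD := h.toData
  obtain ⟨j, hj⟩ := h.hZgen _ hrm
  obtain ⟨i, hi⟩ := h.hZgen _ (hD.hRL r hr l₀ h.hl₀)
  have hmi : m ^ i ∈ W := W.pow_mem h.hm i
  have hlj : l₀ ^ ((p - 1) * j) ∈ W := W.pow_mem h.hl₀W _
  have hu : m ^ i * l₀ ^ ((p - 1) * j) ∈ W := W.mul_mem hmi hlj
  have hp1 : p - 1 + 1 = p := Nat.sub_add_cancel (Fact.out : p.Prime).one_le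
  have hcm : ⁅m ^ i * l₀ ^ ((p - 1) * j) * r, m⁆ = 1 := by
    rw [hD.comm_mul_left (hD.hWR hu) h.hmR hrm,
      hD.comm_mul_left (hD.hWR hmi) h.hmR (hD.hWW _ hlj m h.hm),
      hD.comm_pow_left h.hl₀R h.hmR h.z₀_mem, hj]
    have h1 : ⁅m ^ i, m⁆ = 1 := (comm_eq_one_iff _ _).2 ((Commute.refl m).pow_left i)
    rw [h1, one_mul, ← pow_add]
    have : (p - 1) * j + j = p * j := by
      calc (p - 1) * j + j = (p - 1 + 1) * j := by ring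
        _ = p * j := by rw [hp1]
    rw [this, pow_mul, h.z₀_pow, one_pow]
  have hcl : ⁅m ^ i * l₀ ^ ((p - 1) * j) * r, l₀⁆ = 1 := by
    rw [hD.comm_mul_left (hD.hWR hu) h.hl₀R (hD.hRL r hr l₀ h.hl₀),
      hD.comm_mul_left (hD.hWR hmi) h.hl₀R (hD.hWW _ hlj l₀ h.hl₀W),
      hD.comm_pow_left h.hmR h.hl₀R (hD.hWW m h.hm l₀ h.hl₀W), hi, h.comm_m_l₀]
    have h1 : ⁅l₀ ^ ((p - 1) * j), l₀⁆ = 1 :=
      (comm_eq_one_iff _ _).2 ((Commute.refl l₀).pow_left _)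
    rw [h1, mul_one, inv_pow, inv_mul_cancel]
  have hcR : m ^ i * l₀ ^ ((p - 1) * j) * r ∈ R := R.mul_mem (hD.hWR hu) hr
  refine ⟨(m ^ i * l₀ ^ ((p - 1) * j))⁻¹, W.inv_mem hu, _, hcR,
    h.comm_W hcR ((comm_eq_one_iff _ _).1 hcm) ((comm_eq_one_iff _ _).1 hcl), ?_⟩
  group

/-- `⁅⁅r, m⁆, m⁆ = 1` forces `⁅r, m⁆ ∈ Z`. -/
theorem comm_mem_Z_of_E {r : G} (hr : r ∈ R) (hE : ⁅⁅r, m⁆, m⁆ = 1) : ⁅r, m⁆ ∈ Z :=
  h.mem_Z_of_comm (h.toData.hRW r hr m h.hm) ((comm_eq_one_iff _ _).1 hE)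

/-- if `⁅r, m⁆ ∈ Z` then `r` acts trivially on `W / Z`. -/
theorem comm_mem_Z_all {r : G} (hr : r ∈ R) (hrm : ⁅r, m⁆ ∈ Z) : ∀ w ∈ W, ⁅r, w⁆ ∈ Z := by
  have hD := h.toData
  intro w hw
  obtain ⟨i, l, hl, rfl⟩ := h.hWgen w hw
  rw [hD.comm_mul_right (R.pow_mem h.hmR i) (hD.hRL r hr l hl), hD.comm_pow_right h.hmR hrm]
  exact Z.mul_mem (Z.pow_mem hrm i) (hD.hRL r hr l hl)

/-- `m` has order `p`: powers only depend on the exponent modulo `p`. -/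
theorem m_pow_eq_one_of_dvd {i : ℕ} (hi : p ∣ i) : m ^ i = 1 := by
  obtain ⟨t, rfl⟩ := hi
  rw [pow_mul, h.hexp m h.hm, one_pow]

/-- `w ∈ W` with `⁅⁅x, w⁆, m⁆ = 1` lies in `L`, when `⁅⁅x, m⁆, m⁆ ≠ 1`. -/
theorem mem_L_of_E [Fact p.Prime] {x w : G} (hx : x ∈ R) (hz : ⁅⁅x, m⁆, m⁆ ≠ 1) (hw : w ∈ W)
    (hE : ⁅⁅x, w⁆, m⁆ = 1) : w ∈ L := by
  have hD := h.toData
  obtain ⟨i, l, hl, rfl⟩ := h.hWgen w hw
  have h1 := hD.E_eval hx h.hm hl L.one_mem 1 i 1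
  rw [pow_one, pow_one, mul_one, hE, one_mul, mul_one] at h1
  have hzp : ⁅⁅x, m⁆, m⁆ ^ p = 1 := h.hexp _ (hD.hZW (hD.E_mem hx h.hm h.hm))
  have hord : orderOf ⁅⁅x, m⁆, m⁆ = p := orderOf_eq_prime hzp hz
  have hdvd : p ∣ i := by
    rw [← hord]; exact orderOf_dvd_of_pow_eq_one h1.symm
  rw [h.m_pow_eq_one_of_dvd hdvd, one_mul]
  exact hl

end CubeGen

end Gen

end Cfsg.Agent.Lib.Helper89
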