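import Mathlib
import Cfsg.Agent.Lib.Helper26.NormalP3

set_option autoImplicit false

namespace Cfsg.Agent.Lib.Helper89

open Subgroup
open scoped commutatorElement

section Setup
variable {G : Type*} [Group G]

theorem card_subgroupOf_of_le {N R : Subgroup G} (h : N ≤ R) :
    Nat.card (N.subgroupOf R) = Nat.card N :=
  Nat.card_congr (Subgroup.subgroupOfEquivOfLe h).toEquiv

/-- coset representatives for a normal subgroup of prime index -/
theorem exists_pow_mul_of_relIndex_prime {p : ℕ} (hp : p.Prime) (N H : Subgroup G)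
    (hnorm : H ≤ normalizer (N : Set G)) (hidx : N.relIndex H = p) {g : G} (hg : g ∈ H)
    (hgN : g ∉ N) : ∀ h ∈ H, ∃ i : ℕ, ∃ n ∈ N, h = g ^ i * n := by
  have : Fact p.Prime := ⟨hp⟩
  have : (N.subgroupOf H).Normal := Subgroup.normal_subgroupOf_of_le_normalizer hnorm
  have hcard : Nat.card (↥H ⧸ N.subgroupOf H) = p := by
    rw [← Subgroup.index_eq_card]; exact hidx
  have hg1 : (QuotientGroup.mk (⟨g, hg⟩ : ↥H) : ↥H ⧸ N.subgroupOf H) ≠ 1 := by
    intro h
    rw [QuotientGroup.eq_one_iff, Subgroup.mem_subgroupOf] at h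
    exact hgN h
  intro h hh
  have := mem_powers_of_prime_card hcard hg1 (g' := (QuotientGroup.mk (⟨h, hh⟩ : ↥H)))
  obtain ⟨i, hi⟩ := (Submonoid.mem_powers_iff _ _).mp this
  rw [← QuotientGroup.mk_pow, QuotientGroup.eq, Subgroup.mem_subgroupOf] at hi
  refine ⟨i, _, hi, ?_⟩
  simp

/-- In a `p`-group `R` normalizing `N' < N`, there is a subgroup `N''` between them of index `p`
over `N'`, central modulo `N'`. -/
theorem step_central_sub [Finite G] {p : ℕ} [Fact p.Prime] (R N N' : Subgroup G)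
    (hR : IsPGroup p R) (hN : N ≤ R) (hN'N : N' ≤ N) (hne : N' ≠ N)
    (hNn : R ≤ normalizer (N : Set G)) (hN'n : R ≤ normalizer (N' : Set G)) :
    ∃ N'' : Subgroup G, N' ≤ N'' ∧ N'' ≤ N ∧ Nat.card N'' = p * Nat.card N' ∧
      ∀ n ∈ N'', ∀ g ∈ R, g * n * g⁻¹ * n⁻¹ ∈ N' := by
  have : (N.subgroupOf R).Normal := Subgroup.normal_subgroupOf_of_le_normalizer hNn
  have : (N'.subgroupOf R).Normal := Subgroup.normal_subgroupOf_of_le_normalizer hN'n
  have : Group.IsNilpotent ↥R := hR.isNilpotent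
  have hNp : IsPGroup p (N.subgroupOf R) := hR.to_subgroup _
  have hle : N'.subgroupOf R ≤ N.subgroupOf R := Subgroup.subgroupOf_mono R hN'N
  have hne' : N'.subgroupOf R ≠ N.subgroupOf R := by
    intro h
    apply hne
    apply le_antisymm hN'N
    intro x hx
    have : (⟨x, hN hx⟩ : ↥R) ∈ N.subgroupOf R := by rw [Subgroup.mem_subgroupOf]; exact hx
    rw [← h, Subgroup.mem_subgroupOf] at this
    exact this
  obtain ⟨M, _, hN'M, hMN, hcard, hcent⟩ :=
    Cfsg.Agent.Lib.Helper26.exists_normal_step_central (N.subgroupOf R) (N'.subgroupOf R) hNp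
      hle hne'
  refine ⟨M.map R.subtype, ?_, ?_, ?_, ?_⟩
  · intro x hx
    exact Subgroup.mem_map.mpr ⟨⟨x, hN (hN'N hx)⟩, hN'M (by rw [Subgroup.mem_subgroupOf]; exact hx),
      rfl⟩
  · intro x hx
    obtain ⟨y, hy, rfl⟩ := Subgroup.mem_map.mp hx
    have := hMN hy
    rw [Subgroup.mem_subgroupOf] at this
    exact this
  · rw [Subgroup.card_map_of_injective R.subtype_injective, hcard,
      card_subgroupOf_of_le (hN'N.trans hN)]
  · intro n hn g hg
    obtain ⟨y, hy, rfl⟩ := Subgroup.mem_map.mp hn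
    have := hcent y hy ⟨g, hg⟩
    rw [Subgroup.mem_subgroupOf] at this
    exact this

theorem relIndex_of_card_pow {p : ℕ} (hp : p.Prime) {K L : Subgroup G} (hKL : K ≤ L) {i : ℕ}
    (hK : Nat.card K = p ^ i) (hL : Nat.card L = p ^ (i + 1)) : K.relIndex L = p := by
  have h1 : (⊥ : Subgroup G).relIndex K * K.relIndex L = (⊥ : Subgroup G).relIndex L :=
    Subgroup.relIndex_mul_relIndex _ _ _ bot_le hKL
  rw [Subgroup.relIndex_bot_left, Subgroup.relIndex_bot_left, hK, hL] at h1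
  have : p ^ i * K.relIndex L = p ^ i * p := by rw [h1, pow_succ]
  exact Nat.eq_of_mul_eq_mul_left (pow_pos hp.pos i) this

/-- an element of a subgroup of prime order generates it (natural powers) -/
theorem exists_pow_eq_of_card_prime [Finite G] {p : ℕ} (hp : p.Prime) (Z : Subgroup G)
    (hZ : Nat.card Z = p) {z : G} (hz : z ∈ Z) (hz1 : z ≠ 1) : ∀ ζ ∈ Z, ∃ n : ℕ, ζ = z ^ n := by
  have : Fact p.Prime := ⟨hp⟩
  intro ζ hζ
  have hz1' : (⟨z, hz⟩ : ↥Z) ≠ 1 := by
    intro h
    exact hz1 (congrArg Subtype.val h)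
  have := mem_powers_of_prime_card hZ hz1' (g' := (⟨ζ, hζ⟩ : ↥Z))
  obtain ⟨n, hn⟩ := (Submonoid.mem_powers_iff _ _).mp this
  refine ⟨n, ?_⟩
  have := congrArg Subtype.val hn
  simpa using this.symm

end Setup

end Cfsg.Agent.Lib.Helper89
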