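import Mathlib
import Cfsg.Agent.Lib.Helper77.CoprimeInv
import Cfsg.Agent.Lib.Helper75.PGroupFrattini
import Cfsg.Agent.Lib.Helper26.Rank2Aut

set_option autoImplicit false
open Cfsg

namespace Cfsg.Agent.Lib.Helper89

open Cfsg.Agent.Lib.Helper77 Cfsg.Agent.Lib.Helper75 Cfsg.Agent.Lib.Helper26.Rank2Aut
open Subgroup

section
variable {G : Type*} [Group G]

/-- conjugation by an element normalizing `Y`, as an automorphism of `Y`. -/
noncomputable def conjAct (Y A : Subgroup G) (hA : A ≤ normalizer (Y : Set G)) : ↥A →* MulAut ↥Y :=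
  (Y.normalizerMonoidHom).comp (Subgroup.inclusion hA)

theorem conjAct_apply (Y A : Subgroup G) (hA : A ≤ normalizer (Y : Set G)) (a : ↥A) (y : ↥Y) :
    ((conjAct Y A hA a y : ↥Y) : G) = (a : G) * y * (a : G)⁻¹ := rfl

/-- In a noncyclic finite `p`-group `Y` with a coprime group `A` of operators and an invariant
subgroup `N` of index `p`, there is a proper invariant subgroup not contained in `N`. -/
theorem exists_invariant_lt [Finite G] {p : ℕ} [Fact p.Prime]
    (A Y N : Subgroup G) (hcop : (Nat.card A).Coprime p) (hY : IsPGroup p Y)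
    (hAY : A ≤ normalizer (Y : Set G)) (hAN : A ≤ normalizer (N : Set G))
    (hNY : N ≤ Y) (hidx : N.relIndex Y = p) (hnc : ¬ IsCyclic ↥Y) :
    ∃ Y₁ : Subgroup G, Y₁ ≤ Y ∧ Y₁ ≠ Y ∧ ¬ Y₁ ≤ N ∧ A ≤ normalizer (Y₁ : Set G) := by
  classical
  have hp : p.Prime := Fact.out
  set N' : Subgroup ↥Y := N.subgroupOf Y with hN'
  have hN'idx : N'.index = p := hidx
  have hN'top : N' ≠ ⊤ := by
    intro h
    rw [h, Subgroup.index_top] at hN'idx
    exact hp.one_lt.ne hN'idx
  letI : CommGroup (↥Y ⧸ frattini ↥Y) :=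
    { (inferInstance : Group (↥Y ⧸ frattini ↥Y)) with mul_comm := frattini_quotient_comm hY }
  let ψ : ↥A →* MulAut (↥Y ⧸ frattini ↥Y) := (frattQ ↥Y).comp (conjAct Y A hAY)
  letI : MulDistribMulAction ↥A (↥Y ⧸ frattini ↥Y) := MulDistribMulAction.compHom _ ψ
  have hmk : ∀ (a : ↥A) (x : ↥Y),
      a • (QuotientGroup.mk x : ↥Y ⧸ frattini ↥Y) = QuotientGroup.mk (conjAct Y A hAY a x) :=
    fun a x => rfl
  have hcardY : ∃ k : ℕ, Nat.card ↥Y = p ^ k := hY.exists_card_eq
  have hcopV : (Nat.card ↥A).Coprime (Nat.card (↥Y ⧸ frattini ↥Y)) := by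
    obtain ⟨k, hk⟩ := hcardY
    have hdvd : Nat.card (↥Y ⧸ frattini ↥Y) ∣ p ^ k := hk ▸ Subgroup.card_quotient_dvd_card _
    exact Nat.Coprime.coprime_dvd_right hdvd (Nat.Coprime.pow_right k hcop)
  let U : Subgroup (↥Y ⧸ frattini ↥Y) := N'.map (QuotientGroup.mk' (frattini ↥Y))
  have hN'inv : ∀ (a : ↥A) (x : ↥Y), x ∈ N' → conjAct Y A hAY a x ∈ N' := by
    intro a x hx
    rw [hN', Subgroup.mem_subgroupOf] at hx ⊢
    rw [conjAct_apply]
    have := hAN a.2
    rw [Subgroup.mem_normalizer_iff] at this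
    exact (this _).1 hx
  have hU : ∀ a : ↥A, ∀ u ∈ U, a • u ∈ U := by
    intro a u hu
    obtain ⟨x, hx, rfl⟩ := Subgroup.mem_map.mp hu
    exact Subgroup.mem_map.mpr ⟨conjAct Y A hAY a x, hN'inv a x hx, (hmk a x).symm⟩
  obtain ⟨W', hW'I, hUW', hUW't⟩ :=
    exists_invariant_compl (frattini_quotient_pow hY) hcopV U hU
  let Y₁' : Subgroup ↥Y := W'.comap (QuotientGroup.mk' (frattini ↥Y))
  have hfr_le : frattini ↥Y ≤ Y₁' := by
    intro x hx
    show (QuotientGroup.mk' (frattini ↥Y)) x ∈ W'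
    have h1 : (QuotientGroup.mk' (frattini ↥Y)) x = 1 := (QuotientGroup.eq_one_iff x).2 hx
    rw [h1]
    exact W'.one_mem
  have hmapY₁ : Y₁'.map (QuotientGroup.mk' (frattini ↥Y)) = W' :=
    Subgroup.map_comap_eq_self_of_surjective (QuotientGroup.mk'_surjective _) W'
  refine ⟨Y₁'.map Y.subtype, Subgroup.map_subtype_le _, ?_, ?_, ?_⟩
  · -- proper
    intro h
    have hY₁top : Y₁' = ⊤ := by
      rw [eq_top_iff]
      intro y _
      have : (y : G) ∈ Y₁'.map Y.subtype := by rw [h]; exact y.2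
      obtain ⟨y', hy', hyy'⟩ := Subgroup.mem_map.mp this
      have : y' = y := Subtype.ext hyy'
      rw [← this]; exact hy'
    have hW't : W' = ⊤ := by
      rw [← hmapY₁, hY₁top, ← MonoidHom.range_eq_map, MonoidHom.range_eq_top]
      exact QuotientGroup.mk'_surjective _
    have hUbot : U = ⊥ := by
      rw [hW't, inf_top_eq] at hUW'
      exact hUW'
    -- N' ≤ frattini
    have hN'fr : N' ≤ frattini ↥Y := by
      intro x hx
      have : (QuotientGroup.mk' (frattini ↥Y)) x ∈ U := Subgroup.mem_map_of_mem _ hx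
      rw [hUbot, Subgroup.mem_bot] at this
      exact (QuotientGroup.eq_one_iff x).1 this
    -- pick y ∉ N'
    obtain ⟨y, hy⟩ : ∃ y : ↥Y, y ∉ N' := by
      by_contra hcon
      apply hN'top
      rw [eq_top_iff]
      intro y _
      by_contra hy
      exact hcon ⟨y, hy⟩
    have hsup : zpowers y ⊔ N' = ⊤ := by
      have hlt : N' < zpowers y ⊔ N' := by
        refine lt_of_le_of_ne le_sup_right ?_
        intro h
        apply hy
        rw [h]
        exact (le_sup_left : zpowers y ≤ zpowers y ⊔ N') (Subgroup.mem_zpowers y)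
      by_contra hne
      have h1 : (zpowers y ⊔ N').index ∣ N'.index := Subgroup.index_dvd_of_le le_sup_right
      rw [hN'idx] at h1
      rcases (Nat.dvd_prime hp).1 h1 with h2 | h2
      · exact hne (Subgroup.index_eq_one.1 h2)
      · have hcard := Subgroup.card_mul_index N'
        have hcard2 := Subgroup.card_mul_index (zpowers y ⊔ N')
        rw [hN'idx] at hcard
        rw [h2] at hcard2
        have : Nat.card ↥N' = Nat.card ↥(zpowers y ⊔ N') := by
          have hpos : 0 < p := hp.pos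
          exact Nat.eq_of_mul_eq_mul_right hpos (hcard.trans hcard2.symm)
        have := Subgroup.eq_of_le_of_card_ge (le_of_lt hlt) (le_of_eq this.symm)
        exact (ne_of_lt hlt) this
    have hsup2 : zpowers y ⊔ frattini ↥Y = ⊤ := by
      rw [eq_top_iff, ← hsup]
      exact sup_le_sup_left hN'fr _
    have htop : zpowers y = ⊤ := frattini_nongenerating hsup2
    exact hnc ⟨⟨y, fun z => by
      have : z ∈ zpowers y := by rw [htop]; exact Subgroup.mem_top z
      exact this⟩⟩
  · -- not contained in N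
    intro h
    have hY₁N : Y₁' ≤ N' := by
      intro y hy
      rw [hN', Subgroup.mem_subgroupOf]
      exact h (Subgroup.mem_map_of_mem _ hy)
    have hW'U : W' ≤ U := by
      rw [← hmapY₁]
      exact Subgroup.map_mono hY₁N
    have hW'bot : W' = ⊥ := by
      rw [← hUW', inf_eq_right.2 hW'U]
    have hUtop : U = ⊤ := by
      rw [hW'bot, sup_bot_eq] at hUW't
      exact hUW't
    have hsup : N' ⊔ frattini ↥Y = ⊤ := by
      rw [eq_top_iff]
      intro y _
      have : (QuotientGroup.mk' (frattini ↥Y)) y ∈ U := by rw [hUtop]; exact Subgroup.mem_top _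
      obtain ⟨x, hx, hxy⟩ := Subgroup.mem_map.mp this
      have hq : x⁻¹ * y ∈ frattini ↥Y := by
        rw [← QuotientGroup.eq]
        exact hxy
      have : y = x * (x⁻¹ * y) := by group
      rw [this]
      exact Subgroup.mul_mem _ (Subgroup.mem_sup_left hx) (Subgroup.mem_sup_right hq)
    exact hN'top (frattini_nongenerating hsup)
  · -- invariant
    intro a ha
    rw [Subgroup.mem_normalizer_iff]
    have key : ∀ b ∈ A, ∀ h ∈ Y₁'.map Y.subtype, b * h * b⁻¹ ∈ Y₁'.map Y.subtype := by
      intro b hb h hh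
      obtain ⟨y, hy, rfl⟩ := Subgroup.mem_map.mp hh
      refine Subgroup.mem_map.mpr ⟨conjAct Y A hAY ⟨b, hb⟩ y, ?_, rfl⟩
      show (QuotientGroup.mk' (frattini ↥Y)) (conjAct Y A hAY ⟨b, hb⟩ y) ∈ W'
      have := hW'I ⟨b, hb⟩ (QuotientGroup.mk y) hy
      rw [hmk] at this
      exact this
    intro h
    constructor
    · exact key a ha h
    · intro hh
      have := key a⁻¹ (A.inv_mem ha) _ hh
      have h2 : a⁻¹ * (a * h * a⁻¹) * a⁻¹⁻¹ = h := by group
      rw [h2] at this
      exact this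

/-- **Cyclic cover lemma.**  If a `p'`-group `A` acts on the `p`-group `Y` and normalizes a subgroup
`N` of index `p`, then some `x ∈ Y ∖ N` generates an `A`-invariant cyclic subgroup. -/
theorem exists_invariant_cyclic [Finite G] {p : ℕ} [Fact p.Prime]
    (A : Subgroup G) (hcop : (Nat.card A).Coprime p) :
    ∀ (n : ℕ) (Y N : Subgroup G), Nat.card Y = n → IsPGroup p Y →
      A ≤ normalizer (Y : Set G) → A ≤ normalizer (N : Set G) → N ≤ Y → N.relIndex Y = p →
      ∃ x ∈ Y, x ∉ N ∧ ∀ a ∈ A, a * x * a⁻¹ ∈ zpowers x := by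
  classical
  have hp : p.Prime := Fact.out
  intro n
  induction n using Nat.strong_induction_on with
  | _ n ih =>
    intro Y N hcard hY hAY hAN hNY hidx
    by_cases hcyc : IsCyclic ↥Y
    · obtain ⟨g, hg⟩ := hcyc.exists_generator
      have hYg : ∀ y ∈ Y, y ∈ zpowers (g : G) := by
        intro y hy
        have h1 : (⟨y, hy⟩ : ↥Y) ∈ zpowers g := hg ⟨y, hy⟩
        obtain ⟨k, hk⟩ := Subgroup.mem_zpowers_iff.mp h1
        refine Subgroup.mem_zpowers_iff.mpr ⟨k, ?_⟩
        have := congrArg (fun t : ↥Y => (t : G)) hk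
        simpa using this
      refine ⟨(g : G), g.2, ?_, ?_⟩
      · intro hgN
        have hYN : Y ≤ N := by
          intro y hy
          have := hYg y hy
          exact (Subgroup.zpowers_le.mpr hgN) this
        have h1 : N.relIndex Y = 1 := Subgroup.relIndex_eq_one.mpr hYN
        rw [hidx] at h1
        exact hp.one_lt.ne' h1
      · intro a ha
        apply hYg
        have := hAY ha
        rw [Subgroup.mem_normalizer_iff] at this
        exact (this _).1 g.2
    · obtain ⟨Y₁, hY₁Y, hY₁ne, hY₁N, hAY₁⟩ :=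
        exists_invariant_lt A Y N hcop hY hAY hAN hNY hidx hcyc
      have hcardlt : Nat.card ↥Y₁ < n := by
        rw [← hcard]
        refine lt_of_le_of_ne (Subgroup.card_le_of_le hY₁Y) ?_
        intro h
        exact hY₁ne (Subgroup.eq_of_le_of_card_ge hY₁Y (le_of_eq h.symm))
      have hY₁p : IsPGroup p Y₁ := hY.to_le hY₁Y
      have hAN₁ : A ≤ normalizer ((N ⊓ Y₁ : Subgroup G) : Set G) := by
        intro a ha
        have h1 := hAN ha
        have h2 := hAY₁ ha
        rw [Subgroup.mem_normalizer_iff] at h1 h2 ⊢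
        intro h
        rw [Subgroup.mem_inf, Subgroup.mem_inf, h1 h, h2 h]
      have hidx₁ : (N ⊓ Y₁).relIndex Y₁ = p := by
        rw [Subgroup.inf_relIndex_right]
        have hle : N.relIndex Y₁ ≤ p := by
          rw [← hidx]
          apply Subgroup.relIndex_le_of_le_right hY₁Y
          rw [hidx]
          exact hp.ne_zero
        have hne1 : N.relIndex Y₁ ≠ 1 := by
          intro h
          exact hY₁N (Subgroup.relIndex_eq_one.mp h)
        obtain ⟨k, hk⟩ := hY₁p.exists_card_eq
        have hdvd : N.relIndex Y₁ ∣ p ^ k := hk ▸ Subgroup.relIndex_dvd_card N Y₁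
        obtain ⟨j, _, hj⟩ := (Nat.dvd_prime_pow hp).mp hdvd
        rw [hj] at hle hne1 ⊢
        rcases j with _ | _ | j
        · exact absurd (pow_zero p) hne1
        · exact pow_one p
        · exfalso
          have : p ^ 1 < p ^ (j + 1 + 1) := Nat.pow_lt_pow_right hp.one_lt (by omega)
          rw [pow_one] at this
          omega
      obtain ⟨x, hxY₁, hxN, hxA⟩ :=
        ih _ hcardlt Y₁ (N ⊓ Y₁) rfl hY₁p hAY₁ hAN₁ inf_le_right hidx₁
      refine ⟨x, hY₁Y hxY₁, ?_, hxA⟩
      intro hx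
      exact hxN ⟨hx, hxY₁⟩

end

end Cfsg.Agent.Lib.Helper89
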