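import Mathlib
import Cfsg.Agent.Lib.Helper89.CubeGen
import Cfsg.Agent.Lib.Helper89.CubeSetup
import Cfsg.Agent.Lib.Helper89.CycCover

set_option autoImplicit false

namespace Cfsg.Agent.Lib.Helper89

open Subgroup
open scoped commutatorElement

section Bad
variable {G : Type*} [Group G]

theorem le_normalizer_of_conj_mem (H K : Subgroup G)
    (h : ∀ g ∈ K, ∀ x ∈ H, g * x * g⁻¹ ∈ H) : K ≤ normalizer (H : Set G) := by
  intro g hg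
  rw [Subgroup.mem_normalizer_iff]
  intro x
  constructor
  · exact h g hg x
  · intro hx
    have := h g⁻¹ (K.inv_mem hg) _ hx
    have h2 : g⁻¹ * (g * x * g⁻¹) * g⁻¹⁻¹ = x := by group
    rw [h2] at this
    exact this

theorem conj_mem_of_le_normalizer {H K : Subgroup G} (h : K ≤ normalizer (H : Set G))
    {g x : G} (hg : g ∈ K) (hx : x ∈ H) : g * x * g⁻¹ ∈ H := by
  have := h hg
  rw [Subgroup.mem_normalizer_iff] at this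
  exact (this x).1 hx

/-- The subgroup of `R` acting trivially on `W / Z`. -/
def trivOn (Z W R : Subgroup G) (hZc : ∀ ζ ∈ Z, ∀ r ∈ R, ζ * r = r * ζ) : Subgroup G where
  carrier := {r | r ∈ R ∧ ∀ w ∈ W, ⁅r, w⁆ ∈ Z}
  one_mem' := ⟨R.one_mem, fun w _ => by
    rw [commutatorElement_def]; simp only [one_mul, inv_one, mul_one, mul_inv_cancel]
    exact Z.one_mem⟩
  mul_mem' := by
    rintro a b ⟨ha, ha'⟩ ⟨hb, hb'⟩
    refine ⟨R.mul_mem ha hb, fun w hw => ?_⟩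
    rw [comm_mul_left_id]
    have h1 : a * ⁅b, w⁆ * a⁻¹ = ⁅b, w⁆ := by
      rw [← hZc _ (hb' w hw) a ha]; group
    rw [h1]
    exact Z.mul_mem (hb' w hw) (ha' w hw)
  inv_mem' := by
    rintro a ⟨ha, ha'⟩
    refine ⟨R.inv_mem ha, fun w hw => ?_⟩
    have h1 : ⁅a⁻¹, w⁆ = a⁻¹ * ⁅a, w⁆⁻¹ * a := by
      simp only [commutatorElement_def]; group
    rw [h1]
    have hz : ⁅a, w⁆⁻¹ ∈ Z := Z.inv_mem (ha' w hw)
    have h2 : a⁻¹ * ⁅a, w⁆⁻¹ * a = ⁅a, w⁆⁻¹ := by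
      rw [mul_assoc, hZc _ hz a ha]; group
    rw [h2]
    exact hz

theorem mem_trivOn {Z W R : Subgroup G} {hZc : ∀ ζ ∈ Z, ∀ r ∈ R, ζ * r = r * ζ} {r : G} :
    r ∈ trivOn Z W R hZc ↔ r ∈ R ∧ ∀ w ∈ W, ⁅r, w⁆ ∈ Z := Iff.rfl

end Bad

section Main
variable {G : Type*} [Group G] {p : ℕ} {Z L W R : Subgroup G} {m l₀ : G}

theorem exists_x₀ [Finite G] [Fact p.Prime] (h : CubeGen p Z L W R m l₀) (hR : IsPGroup p R)
    (hΩ : ∀ x ∈ R, x ^ p = 1 → x ∈ W) {x : G} (hx : x ∈ R) (hz : ⁅⁅x, m⁆, m⁆ ≠ 1) :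
    ∃ x₀ ∈ L, x₀ ≠ 1 ∧ x₀ ^ p = 1 ∧
      ∀ a : G, ∀ k : ℕ, a * x * a⁻¹ = x ^ k → a * x₀ * a⁻¹ = x₀ ^ k := by
  have hp : p.Prime := Fact.out
  obtain ⟨k, hk⟩ := hR ⟨x, hx⟩
  have hxk : x ^ (p ^ k) = 1 := by
    have := congrArg Subtype.val hk
    simpa using this
  obtain ⟨e, he, hord⟩ := (Nat.dvd_prime_pow hp).mp (orderOf_dvd_of_pow_eq_one hxk)
  have hx1 : x ≠ 1 := by
    rintro rfl
    apply hz
    simp
  have he1 : 1 ≤ e := by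
    rcases e with _ | e
    · rw [pow_zero, orderOf_eq_one_iff] at hord; exact absurd hord hx1
    · omega
  set x₀ := x ^ (p ^ (e - 1)) with hx₀
  have hx₀p : x₀ ^ p = 1 := by
    rw [hx₀, ← pow_mul, ← pow_succ, Nat.sub_add_cancel he1, ← hord, pow_orderOf_eq_one]
  have hx₀1 : x₀ ≠ 1 := by
    apply pow_ne_one_of_lt_orderOf (pow_pos hp.pos _).ne'
    rw [hord]; exact Nat.pow_lt_pow_right hp.one_lt (by omega)
  have hx₀R : x₀ ∈ R := R.pow_mem hx _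
  have hx₀W : x₀ ∈ W := hΩ x₀ hx₀R hx₀p
  have hcomm : ⁅x, x₀⁆ = 1 := (comm_eq_one_iff _ _).2 ((Commute.refl x).pow_right _)
  have hx₀L : x₀ ∈ L := by
    apply h.mem_L_of_E hx hz hx₀W
    rw [hcomm]; simp
  refine ⟨x₀, hx₀L, hx₀1, hx₀p, ?_⟩
  intro a k hak
  rw [hx₀, conj_pow_id, hak, ← pow_mul, ← pow_mul, mul_comm]

theorem sq_modEq_one [Finite G] [Fact p.Prime] (h : CubeGen p Z L W R m l₀)
    (hZcard : Nat.card Z = p) {x x₀ : G} (hx : x ∈ R) (hz : ⁅⁅x, m⁆, m⁆ ≠ 1) (hx₀L : x₀ ∈ L)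
    (hx₀1 : x₀ ≠ 1) (hx₀p : x₀ ^ p = 1) {a : G} {k j : ℕ} {l : G} (hl : l ∈ L)
    (hak : a * x * a⁻¹ = x ^ k) (hax₀ : a * x₀ * a⁻¹ = x₀ ^ k)
    (ham : a * m * a⁻¹ = m ^ j * l) : j * j ≡ 1 [MOD p] := by
  have hp : p.Prime := Fact.out
  have hD := h.toData
  set z := ⁅⁅x, m⁆, m⁆ with hzdef
  have hzZ : z ∈ Z := hD.E_mem hx h.hm h.hm
  have hzp : z ^ p = 1 := h.hexp _ (hD.hZW hzZ)
  have hzord : orderOf z = p := orderOf_eq_prime hzp hz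
  have haz : a * z * a⁻¹ = z ^ (k * j * j) := by
    rw [hzdef, conj_comm_id, conj_comm_id, hak, ham]
    exact hD.E_eval hx h.hm hl hl k j j
  have haZ : ∀ ζ ∈ Z, a * ζ * a⁻¹ = ζ ^ (k * j * j) := by
    intro ζ hζ
    obtain ⟨t, rfl⟩ := exists_pow_eq_of_card_prime hp Z hZcard hzZ hz ζ hζ
    rw [conj_pow_id, haz, ← pow_mul, ← pow_mul, mul_comm]
  have hne : ∀ y : G, y ≠ 1 → a * y * a⁻¹ ≠ 1 := by
    intro y hy h1
    apply hy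
    have : y = a⁻¹ * (a * y * a⁻¹) * a := by group
    rw [this, h1]; group
  have hx₀ord : orderOf x₀ = p := orderOf_eq_prime hx₀p hx₀1
  have hpk : ¬ p ∣ k := by
    intro hd
    apply hne x₀ hx₀1
    rw [hax₀]
    obtain ⟨t, rfl⟩ := hd
    rw [pow_mul, hx₀p, one_pow]
  have hpkjj : ¬ p ∣ k * j * j := by
    intro hd
    apply hne z hz
    rw [haz]
    obtain ⟨t, ht⟩ := hd
    rw [ht, pow_mul, hzp, one_pow]
  have hpj : ¬ p ∣ j := fun hd => hpkjj (Dvd.dvd.mul_left hd _)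
  have hcopk : Nat.Coprime p k := (Nat.Prime.coprime_iff_not_dvd hp).2 hpk
  have hcopj : Nat.Coprime p j := (Nat.Prime.coprime_iff_not_dvd hp).2 hpj
  by_cases hx₀Z : x₀ ∈ Z
  · have h1 := haZ x₀ hx₀Z
    rw [hax₀] at h1
    have h2 : k ≡ k * j * j [MOD p] := by
      rw [← hx₀ord]; exact pow_eq_pow_iff_modEq.mp h1
    have h3 : k * 1 ≡ k * (j * j) [MOD p] := by
      rw [mul_one, ← mul_assoc]; exact h2
    exact (Nat.ModEq.cancel_left_of_coprime hcopk h3).symm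
  · set ζ₀ := ⁅x₀, m⁆ with hζ₀
    have hζ₀Z : ζ₀ ∈ Z := hD.hWW x₀ (hD.hLW hx₀L) m h.hm
    have hζ₀1 : ζ₀ ≠ 1 := by
      intro h1
      exact hx₀Z (h.mem_Z_of_comm hx₀L ((comm_eq_one_iff _ _).1 h1))
    have hζ₀p : ζ₀ ^ p = 1 := h.hexp _ (hD.hZW hζ₀Z)
    have hζ₀ord : orderOf ζ₀ = p := orderOf_eq_prime hζ₀p hζ₀1
    have h1 := haZ ζ₀ hζ₀Z
    have h2 : a * ζ₀ * a⁻¹ = ζ₀ ^ (k * j) := by
      rw [hζ₀, conj_comm_id, hax₀, ham]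
      have hx₀kL : x₀ ^ k ∈ L := L.pow_mem hx₀L k
      have hcl : ⁅x₀ ^ k, l⁆ = 1 := (comm_eq_one_iff _ _).2 (hD.hLL _ hx₀kL l hl)
      rw [hD.comm_mul_right (R.pow_mem h.hmR j) (by rw [hcl]; exact Z.one_mem), hcl, mul_one,
        hD.comm_pow_right h.hmR (hD.hWW _ (hD.hLW hx₀kL) m h.hm),
        hD.comm_pow_left (hD.hLR hx₀L) h.hmR hζ₀Z, ← pow_mul]
    rw [h2] at h1
    have h3 : k * j ≡ k * j * j [MOD p] := by
      rw [← hζ₀ord]; exact pow_eq_pow_iff_modEq.mp h1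
    have h4 : (k * j) * 1 ≡ (k * j) * j [MOD p] := by rw [mul_one]; exact h3
    have hcopkj : Nat.Coprime p (k * j) := Nat.Coprime.mul_right hcopk hcopj
    have h5 : 1 ≡ j [MOD p] := Nat.ModEq.cancel_left_of_coprime hcopkj h4
    have := Nat.ModEq.mul h5 h5
    rw [mul_one] at this
    exact this.symm

theorem conj_mem_L_of_A [Fact p.Prime] (h : CubeGen p Z L W R m l₀) {x : G} (hx : x ∈ R)
    (hz : ⁅⁅x, m⁆, m⁆ ≠ 1) {a : G} (haR : ∀ r ∈ R, a⁻¹ * r * a ∈ R)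
    (haW : ∀ w ∈ W, a * w * a⁻¹ ∈ W) (haZ : ∀ ζ ∈ Z, a * ζ * a⁻¹ ∈ Z) {l : G} (hl : l ∈ L) :
    a * l * a⁻¹ ∈ L := by
  have hD := h.toData
  apply h.mem_L_of_E hx hz (haW l (hD.hLW hl))
  have h1 : ⁅x, a * l * a⁻¹⁆ = a * ⁅a⁻¹ * x * a, l⁆ * a⁻¹ := by
    rw [conj_comm_id]
    have : a * (a⁻¹ * x * a) * a⁻¹ = x := by group
    rw [this]
  have h2 : ⁅x, a * l * a⁻¹⁆ ∈ Z := by
    rw [h1]; exact haZ _ (hD.hRL _ (haR x hx) l hl)
  exact hD.comm_central_left h2 h.hmR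

theorem bad_case_false [Finite G] [Fact p.Prime] (A : Subgroup G)
    (h : CubeGen p Z L W R m l₀) (hR : IsPGroup p R) (hZcard : Nat.card Z = p)
    (hΩ : ∀ x ∈ R, x ^ p = 1 → x ∈ W)
    (hA : A ≤ normalizer (R : Set G)) (hcop : (Nat.card A).Coprime p) (hodd : Odd (Nat.card A))
    (hRA : ⁅R, A⁆ = R) {r₀ : G} (hr₀ : r₀ ∈ R) (hr₀E : ⁅⁅r₀, m⁆, m⁆ ≠ 1) : False := by
  have hp : p.Prime := Fact.out
  have hD := h.toData
  have hAR : ∀ a ∈ A, ∀ r ∈ R, a * r * a⁻¹ ∈ R :=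
    fun a ha r hr => conj_mem_of_le_normalizer hA ha hr
  have hAW : ∀ a ∈ A, ∀ w ∈ W, a * w * a⁻¹ ∈ W := by
    intro a ha w hw
    apply hΩ _ (hAR a ha w (hD.hWR hw))
    rw [← conj_pow_id, h.hexp w hw]; group
  have hAZ : ∀ a ∈ A, ∀ ζ ∈ Z, a * ζ * a⁻¹ ∈ Z := by
    intro a ha ζ hζ
    apply h.hZmem _ (hAW a ha ζ (hD.hZW hζ))
    intro w hw
    have hw' : a⁻¹ * w * a⁻¹⁻¹ ∈ W := hAW a⁻¹ (A.inv_mem ha) w hw
    have hc := hD.hZc ζ hζ _ (hD.hWR hw')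
    calc w * (a * ζ * a⁻¹) = a * ((a⁻¹ * w * a⁻¹⁻¹) * ζ) * a⁻¹ := by group
      _ = a * (ζ * (a⁻¹ * w * a⁻¹⁻¹)) * a⁻¹ := by rw [hc]
      _ = a * ζ * a⁻¹ * w := by group
  set K := trivOn Z W R hD.hZc with hK
  have hKR : K ≤ R := fun r hr => hr.1
  let f : ↥R →* ↥Z :=
    { toFun := fun r => ⟨⁅⁅(r : G), m⁆, m⁆, hD.E_mem r.2 h.hm h.hm⟩
      map_one' := by
        apply Subtype.ext
        simp
      map_mul' := fun r r' => by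
        apply Subtype.ext
        simp only [Subgroup.coe_mul]
        exact hD.E_mul_r r.2 r'.2 h.hm h.hm }
  have hker : K.subgroupOf R = f.ker := by
    ext r
    rw [Subgroup.mem_subgroupOf, MonoidHom.mem_ker]
    constructor
    · intro hr
      apply Subtype.ext
      show ⁅⁅(r : G), m⁆, m⁆ = 1
      exact hD.comm_central_left (hr.2 m h.hm) h.hmR
    · intro hr
      have hr' : ⁅⁅(r : G), m⁆, m⁆ = 1 := congrArg Subtype.val hr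
      exact ⟨r.2, h.comm_mem_Z_all r.2 (h.comm_mem_Z_of_E r.2 hr')⟩
  have hidx : K.relIndex R = p := by
    show (K.subgroupOf R).index = p
    rw [hker, Subgroup.index_ker]
    have hdvd : Nat.card f.range ∣ p := by
      rw [← hZcard]; exact Subgroup.card_subgroup_dvd_card _
    rcases (Nat.dvd_prime hp).mp hdvd with h1 | h1
    · exfalso
      rw [Subgroup.card_eq_one] at h1
      have : f ⟨r₀, hr₀⟩ ∈ f.range := ⟨_, rfl⟩
      rw [h1, Subgroup.mem_bot] at this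
      exact hr₀E (congrArg Subtype.val this)
    · exact h1
  have hAK : A ≤ normalizer (K : Set G) := by
    apply le_normalizer_of_conj_mem
    intro a ha r hr
    refine ⟨hAR a ha r hr.1, fun w hw => ?_⟩
    have hw' : a⁻¹ * w * a⁻¹⁻¹ ∈ W := hAW a⁻¹ (A.inv_mem ha) w hw
    have h1 : ⁅a * r * a⁻¹, w⁆ = a * ⁅r, a⁻¹ * w * a⁻¹⁻¹⁆ * a⁻¹ := by
      rw [conj_comm_id]
      have : a * (a⁻¹ * w * a⁻¹⁻¹) * a⁻¹ = w := by group
      rw [this]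
    rw [h1]
    exact hAZ a ha _ (hr.2 _ hw')
  obtain ⟨x, hxR, hxK, hxA⟩ :=
    exists_invariant_cyclic A hcop (Nat.card R) R K rfl hR hA hAK hKR hidx
  have hz : ⁅⁅x, m⁆, m⁆ ≠ 1 := by
    intro hE
    exact hxK ⟨hxR, h.comm_mem_Z_all hxR (h.comm_mem_Z_of_E hxR hE)⟩
  obtain ⟨x₀, hx₀L, hx₀1, hx₀p, hx₀A⟩ := exists_x₀ h hR hΩ hxR hz
  have hxA' : ∀ a ∈ A, ∃ k : ℕ, a * x * a⁻¹ = x ^ k := by
    intro a ha
    have := hxA a ha
    rw [← mem_powers_iff_mem_zpowers] at this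
    obtain ⟨k, hk⟩ := (Submonoid.mem_powers_iff _ _).mp this
    exact ⟨k, hk.symm⟩
  have hB6 : ∀ a ∈ A, ∃ j : ℕ, ∃ l ∈ L, a * m * a⁻¹ = m ^ j * l ∧ j * j ≡ 1 [MOD p] := by
    intro a ha
    obtain ⟨k, hk⟩ := hxA' a ha
    obtain ⟨j, l, hl, hjl⟩ := h.hWgen _ (hAW a ha m h.hm)
    exact ⟨j, l, hl, hjl,
      sq_modEq_one h hZcard hxR hz hx₀L hx₀1 hx₀p hl hk (hx₀A a k hk) hjl⟩
  have hAL : ∀ a ∈ A, ∀ l ∈ L, a * l * a⁻¹ ∈ L := by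
    intro a ha l hl
    refine conj_mem_L_of_A h hxR hz ?_ (hAW a ha) (hAZ a ha) hl
    intro r hr
    have := hAR a⁻¹ (A.inv_mem ha) r hr
    rwa [inv_inv] at this
  have hm1 : m ≠ 1 := by
    intro hm1
    apply hz
    rw [hm1]; simp
  have hmord : orderOf m = p := orderOf_eq_prime (h.hexp m h.hm) hm1
  have hB8 : ∀ a ∈ A, ∃ l ∈ L, a * m * a⁻¹ = m * l := by
    intro a ha
    have hodd_a : Odd (orderOf a) := Odd.of_dvd_nat hodd (Subgroup.orderOf_dvd_natCard A ha)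
    obtain ⟨t, ht⟩ := hodd_a
    have hb : a ^ (t + 1) ∈ A := A.pow_mem ha _
    have hbb : a ^ (t + 1) * a ^ (t + 1) = a := by
      rw [← pow_add]
      have : t + 1 + (t + 1) = orderOf a + 1 := by omega
      rw [this, pow_succ, pow_orderOf_eq_one, one_mul]
    obtain ⟨j, l, hl, hjl, hjj⟩ := hB6 _ hb
    set b := a ^ (t + 1) with hbdef
    have h1 : a * m * a⁻¹ = b * (b * m * b⁻¹) * b⁻¹ := by
      conv_lhs => rw [← hbb]
      group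
    rw [h1, hjl]
    have h2 : b * (m ^ j * l) * b⁻¹ = (b * m * b⁻¹) ^ j * (b * l * b⁻¹) := by
      rw [← conj_pow_id]; group
    rw [h2, hjl]
    obtain ⟨l', hl', he⟩ := hD.pow_mul_mem h.hm hl j j
    rw [he]
    have h3 : m ^ (j * j) = m ^ 1 := by
      rw [pow_eq_pow_iff_modEq, hmord]; exact hjj
    rw [h3, pow_one, mul_assoc]
    exact ⟨l' * (b * l * b⁻¹), L.mul_mem hl' (hAL b hb l hl), rfl⟩
  set D := R ⊓ centralizer (L : Set G) with hDdef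
  have hmemD : ∀ d, d ∈ D ↔ d ∈ R ∧ ∀ l ∈ L, l * d = d * l := by
    intro d
    rw [hDdef, Subgroup.mem_inf, Subgroup.mem_centralizer_iff]
    rfl
  have hLD : L ≤ D := fun l hl => (hmemD l).2 ⟨hD.hLR hl, fun l' hl' => hD.hLL l' hl' l hl⟩
  have hRD : ∀ g ∈ R, ∀ d ∈ D, g * d * g⁻¹ ∈ D := by
    intro g hg d hd
    rw [hmemD] at hd ⊢
    refine ⟨R.mul_mem (R.mul_mem hg hd.1) (R.inv_mem hg), fun l hl => ?_⟩
    have hl' : g⁻¹ * l * g⁻¹⁻¹ ∈ L := hD.conj_mem_L (R.inv_mem hg) hl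
    have hc := hd.2 _ hl'
    calc l * (g * d * g⁻¹) = g * ((g⁻¹ * l * g⁻¹⁻¹) * d) * g⁻¹ := by group
      _ = g * (d * (g⁻¹ * l * g⁻¹⁻¹)) * g⁻¹ := by rw [hc]
      _ = g * d * g⁻¹ * l := by group
  have hAD : ∀ a ∈ A, ∀ d ∈ D, a * d * a⁻¹ ∈ D := by
    intro g hg d hd
    rw [hmemD] at hd ⊢
    refine ⟨hAR g hg d hd.1, fun l hl => ?_⟩
    have hl' : g⁻¹ * l * g⁻¹⁻¹ ∈ L := hAL g⁻¹ (A.inv_mem hg) l hl
    have hc := hd.2 _ hl'
    calc l * (g * d * g⁻¹) = g * ((g⁻¹ * l * g⁻¹⁻¹) * d) * g⁻¹ := by group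
      _ = g * (d * (g⁻¹ * l * g⁻¹⁻¹)) * g⁻¹ := by rw [hc]
      _ = g * d * g⁻¹ * l := by group
  have hp1 : p - 1 + 1 = p := Nat.sub_add_cancel hp.one_le
  have hgen : ∀ r ∈ R, ∃ i : ℕ, ∃ d ∈ D, r = m ^ i * d := by
    intro r hr
    obtain ⟨t, ht⟩ := h.hZgen _ (hD.hRL r hr l₀ h.hl₀)
    have hmt : m ^ t ∈ R := R.pow_mem h.hmR t
    have hd : m ^ t * r ∈ R := R.mul_mem hmt hr
    have hcl : ⁅m ^ t * r, l₀⁆ = 1 := by
      rw [hD.comm_mul_left hmt h.hl₀R (hD.hRL r hr l₀ h.hl₀),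
        hD.comm_pow_left h.hmR h.hl₀R (hD.hWW m h.hm l₀ h.hl₀W), ht, h.comm_m_l₀, inv_pow,
        inv_mul_cancel]
    refine ⟨(p - 1) * t, m ^ t * r, (hmemD _).2 ⟨hd, fun l hl =>
      (h.comm_L hd ((comm_eq_one_iff _ _).1 hcl) l hl).symm⟩, ?_⟩
    rw [← mul_assoc, ← pow_add]
    have : (p - 1) * t + t = p * t := by
      calc (p - 1) * t + t = (p - 1 + 1) * t := by ring
        _ = p * t := by rw [hp1]
    rw [this, pow_mul, h.hexp m h.hm, one_pow, one_mul]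
  have hcomm : ∀ r ∈ R, ∀ a ∈ A, ⁅r, a⁆ ∈ D := by
    intro r hr a ha
    obtain ⟨i, d, hd, rfl⟩ := hgen r hr
    obtain ⟨l', hl', hml'⟩ := hB8 a ha
    obtain ⟨l'', hl'', he⟩ := hD.pow_mul_mem h.hm hl' 1 i
    rw [pow_one, one_mul] at he
    have h1 : a * (m ^ i * d) * a⁻¹ = m ^ i * l'' * (a * d * a⁻¹) := by
      rw [← he, ← hml', ← conj_pow_id]; group
    have h2 : ⁅m ^ i * d, a⁆ = m ^ i * (d * (a * d * a⁻¹)⁻¹ * l''⁻¹) * (m ^ i)⁻¹ := by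
      have : ⁅m ^ i * d, a⁆ = (m ^ i * d) * (a * (m ^ i * d) * a⁻¹)⁻¹ := by
        simp only [commutatorElement_def]; group
      rw [this, h1]; group
    rw [h2]
    apply hRD _ (R.pow_mem h.hmR i)
    exact D.mul_mem (D.mul_mem hd (D.inv_mem (hAD a ha d hd))) (D.inv_mem (hLD hl''))
  have hle : ⁅R, A⁆ ≤ D := Subgroup.commutator_le.mpr hcomm
  rw [hRA] at hle
  have hmD := hle h.hmR
  rw [hmemD] at hmD
  have := hmD.2 l₀ h.hl₀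
  exact h.hz₀ ((comm_eq_one_iff _ _).2 this)

end Main

end Cfsg.Agent.Lib.Helper89
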