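import Mathlib.GroupTheory.PGroup
import Mathlib.GroupTheory.OrderOfElement
import Mathlib.Algebra.Group.End

set_option autoImplicit false

namespace Cfsg.Agent.Lib.Helper89

/-- A group in which every element of order prime to `p` is trivial and every element has finite
order is a `p`-group. -/
theorem isPGroup_of_coprime_trivial {G : Type*} [Group G] [Finite G] {p : ℕ} [hp : Fact p.Prime]
    (h : ∀ g : G, (orderOf g).Coprime p → g = 1) : IsPGroup p G := by
  intro g
  have hpos : 0 < orderOf g := orderOf_pos g
  obtain ⟨k, m, hm, hkm⟩ := Nat.exists_eq_pow_mul_and_not_dvd hpos.ne' p hp.out.ne_one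
  refine ⟨k, ?_⟩
  apply h
  have hdvd : orderOf (g ^ p ^ k) ∣ m := by
    apply orderOf_dvd_of_pow_eq_one
    rw [← pow_mul, ← hkm, pow_orderOf_eq_one]
  have hmc : m.Coprime p := by
    rw [Nat.coprime_comm]
    exact (Nat.Prime.coprime_iff_not_dvd hp.out).mpr hm
  exact Nat.Coprime.coprime_dvd_left hdvd hmc

/-- The commutator descent: an automorphism `α` of a `p`-group of order prime to `p`, such that
the map `y ↦ y⁻¹ α(y)` is nilpotent, is trivial. -/
theorem eq_one_of_iterate_comm {P : Type*} [Group P] {p : ℕ} [Fact p.Prime] (hP : IsPGroup p P)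
    (α : MulAut P) (m : ℕ) (hm : m.Coprime p) (hα : α ^ m = 1) (n : ℕ)
    (h : ∀ x : P, (fun y : P => y⁻¹ * α y)^[n] x = 1) : α = 1 := by
  -- the descent step
  have step : ∀ y : P, (α (y⁻¹ * α y) = y⁻¹ * α y) → y⁻¹ * α y = 1 := by
    intro y hz
    set z := y⁻¹ * α y with hzdef
    have hy : α y = y * z := by rw [hzdef]; group
    have hk : ∀ k : ℕ, (α ^ k) y = y * z ^ k := by
      intro k
      induction k with
      | zero => simp
      | succ k ih =>
        have hzk : α (z ^ k) = z ^ k := by rw [map_pow, hz]
        rw [pow_succ', MulAut.mul_apply, ih, map_mul, hy, hzk, pow_succ', mul_assoc]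
    have h1 := hk m
    rw [hα, MulAut.one_apply] at h1
    have hzm : z ^ m = 1 := by
      have : y * 1 = y * z ^ m := by rw [mul_one]; exact h1
      exact (mul_left_cancel this).symm
    obtain ⟨j, hj⟩ := hP z
    have hd1 : orderOf z ∣ m := orderOf_dvd_of_pow_eq_one hzm
    have hd2 : orderOf z ∣ p ^ j := orderOf_dvd_of_pow_eq_one hj
    have hc : (orderOf z).Coprime (orderOf z) :=
      Nat.Coprime.coprime_dvd_left hd1 (Nat.Coprime.coprime_dvd_right hd2 (Nat.Coprime.pow_right j hm))
    have : orderOf z = 1 := (Nat.coprime_self _).mp hc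
    exact orderOf_eq_one_iff.mp this
  have hc : ∀ x : P, x⁻¹ * α x = 1 := by
    induction n with
    | zero =>
      intro x
      have hx : ∀ y : P, y = 1 := fun y => by simpa using h y
      rw [hx x]; simp
    | succ n ih =>
      cases n with
      | zero => intro x; simpa using h x
      | succ n =>
        apply ih
        intro x
        have h2 := h x
        rw [Function.iterate_succ_apply', Function.iterate_succ_apply'] at h2
        rw [Function.iterate_succ_apply']
        set w := (fun y : P => y⁻¹ * α y)^[n] x with hw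
        apply step w
        have h3 : (w⁻¹ * α w)⁻¹ * α (w⁻¹ * α w) = 1 := h2
        calc α (w⁻¹ * α w) = (w⁻¹ * α w) * ((w⁻¹ * α w)⁻¹ * α (w⁻¹ * α w)) := by group
          _ = w⁻¹ * α w := by rw [h3, mul_one]
  ext x
  have h5 := hc x
  rw [MulAut.one_apply]
  calc α x = x * (x⁻¹ * α x) := by group
    _ = x := by rw [h5, mul_one]

end Cfsg.Agent.Lib.Helper89
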