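import Mathlib.GroupTheory.PGroup
import Mathlib.GroupTheory.Sylow
import Mathlib.GroupTheory.IndexNormal
import Mathlib.GroupTheory.SpecificGroups.Cyclic
import Mathlib.GroupTheory.Commutator.Basic
import Mathlib.Algebra.Group.End
import Mathlib.Data.Nat.Choose.Dvd
import Cfsg.Agent.Lib.Helper89.Coprime

set_option autoImplicit false

namespace Cfsg.Agent.Lib.Helper89

open scoped commutatorElement

variable {G : Type*} [Group G]

/-! ### The class two power formula -/

/-- If `z = [b, a]` commutes with `a` and `b`, then `b ^ k * a = z ^ k * a * b ^ k`. -/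
theorem pow_mul_of_comm_central (a b : G) (hb : Commute ⁅b, a⁆ b) (k : ℕ) :
    b ^ k * a = ⁅b, a⁆ ^ k * a * b ^ k := by
  induction k with
  | zero => simp
  | succ k ih =>
    have h0 : b * a = ⁅b, a⁆ * a * b := by rw [commutatorElement_def]; group
    have hzk : Commute (⁅b, a⁆ ^ k) b := hb.pow_left k
    calc b ^ (k + 1) * a = b ^ k * (b * a) := by rw [pow_succ]; group
      _ = b ^ k * (⁅b, a⁆ * a * b) := by rw [h0]
      _ = ⁅b, a⁆ * (b ^ k * a) * b := by
        have : b ^ k * ⁅b, a⁆ = ⁅b, a⁆ * b ^ k := (hb.pow_right k).eq.symm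
        calc b ^ k * (⁅b, a⁆ * a * b) = (b ^ k * ⁅b, a⁆) * a * b := by group
          _ = (⁅b, a⁆ * b ^ k) * a * b := by rw [this]
          _ = ⁅b, a⁆ * (b ^ k * a) * b := by group
      _ = ⁅b, a⁆ * (⁅b, a⁆ ^ k * a * b ^ k) * b := by rw [ih]
      _ = ⁅b, a⁆ ^ (k + 1) * a * b ^ (k + 1) := by rw [pow_succ', pow_succ]; group

/-- `[b ^ k, a] = [b, a] ^ k` when `[b, a]` commutes with `a` and `b`. -/
theorem commutator_pow_left_of_central (a b : G) (hb : Commute ⁅b, a⁆ b) (k : ℕ) :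
    ⁅b ^ k, a⁆ = ⁅b, a⁆ ^ k := by
  have h := pow_mul_of_comm_central a b hb k
  rw [commutatorElement_def]
  calc b ^ k * a * (b ^ k)⁻¹ * a⁻¹ = (b ^ k * a) * (b ^ k)⁻¹ * a⁻¹ := by group
    _ = (⁅b, a⁆ ^ k * a * b ^ k) * (b ^ k)⁻¹ * a⁻¹ := by rw [h]
    _ = ⁅b, a⁆ ^ k := by group

/-- The class two power formula: `(a b)^n = a^n b^n [b,a]^(n choose 2)`. -/
theorem mul_pow_of_comm_central (a b : G) (ha : Commute ⁅b, a⁆ a) (hb : Commute ⁅b, a⁆ b) (n : ℕ) :
    (a * b) ^ n = a ^ n * b ^ n * ⁅b, a⁆ ^ (n.choose 2) := by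
  induction n with
  | zero => simp
  | succ n ih =>
    have h1 := pow_mul_of_comm_central a b hb n
    have hza : ∀ j : ℕ, Commute (⁅b, a⁆ ^ j) a := fun j => ha.pow_left j
    have hzb : ∀ j : ℕ, Commute (⁅b, a⁆ ^ j) b := fun j => hb.pow_left j
    have hch : (n + 1).choose 2 = n + n.choose 2 := by
      rw [Nat.choose_succ_succ' n 1, Nat.choose_one_right]
    have e1 : ⁅b, a⁆ ^ n.choose 2 * a = a * ⁅b, a⁆ ^ n.choose 2 := (hza _).eq
    have e2 : ⁅b, a⁆ ^ n.choose 2 * b = b * ⁅b, a⁆ ^ n.choose 2 := (hzb _).eq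
    have e3 : ⁅b, a⁆ ^ n * a = a * ⁅b, a⁆ ^ n := (hza _).eq
    have e4 : ∀ j : ℕ, ⁅b, a⁆ ^ n * b ^ j = b ^ j * ⁅b, a⁆ ^ n := fun j => ((hzb n).pow_right j).eq
    have hbn : b ^ n * b = b ^ (n + 1) := (pow_succ b n).symm
    have han : a ^ n * a = a ^ (n + 1) := (pow_succ a n).symm
    calc (a * b) ^ (n + 1) = (a * b) ^ n * (a * b) := pow_succ _ _
      _ = a ^ n * b ^ n * ⁅b, a⁆ ^ n.choose 2 * (a * b) := by rw [ih]
      _ = a ^ n * b ^ n * (⁅b, a⁆ ^ n.choose 2 * a) * b := by simp only [mul_assoc]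
      _ = a ^ n * b ^ n * (a * ⁅b, a⁆ ^ n.choose 2) * b := by rw [e1]
      _ = a ^ n * (b ^ n * a) * (⁅b, a⁆ ^ n.choose 2 * b) := by simp only [mul_assoc]
      _ = a ^ n * (⁅b, a⁆ ^ n * a * b ^ n) * (b * ⁅b, a⁆ ^ n.choose 2) := by rw [h1, e2]
      _ = a ^ n * (⁅b, a⁆ ^ n * a) * (b ^ n * b) * ⁅b, a⁆ ^ n.choose 2 := by simp only [mul_assoc]
      _ = a ^ n * (a * ⁅b, a⁆ ^ n) * b ^ (n + 1) * ⁅b, a⁆ ^ n.choose 2 := by rw [e3, hbn]
      _ = a ^ n * a * (⁅b, a⁆ ^ n * b ^ (n + 1)) * ⁅b, a⁆ ^ n.choose 2 := by simp only [mul_assoc]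
      _ = a ^ (n + 1) * (b ^ (n + 1) * ⁅b, a⁆ ^ n) * ⁅b, a⁆ ^ n.choose 2 := by rw [e4, han]
      _ = a ^ (n + 1) * b ^ (n + 1) * ⁅b, a⁆ ^ (n + 1).choose 2 := by
        rw [hch, pow_add ⁅b, a⁆ n]; simp only [mul_assoc]

/-! ### Pointwise descent -/

/-- Pointwise version of the commutator descent: if `α` has order prime to `p` on a `p`-group and the
`(n+1)`-st iterate of `y ↦ y⁻¹ α(y)` kills `x`, then `α x = x`. Here only the elements involved need to be
`p`-elements, which is ensured by asking that the whole group is a `p`-group on a subgroup `H` stable under `α`. -/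
theorem fixed_of_iterate_comm {p : ℕ} [Fact p.Prime] (α : MulAut G) (m : ℕ) (hm : m.Coprime p)
    (hα : α ^ m = 1) (H : Subgroup G) (hH : IsPGroup p H) (hαH : ∀ x ∈ H, α x ∈ H) (n : ℕ) :
    ∀ x ∈ H, (fun y : G => y⁻¹ * α y)^[n + 1] x = 1 → α x = x := by
  have hcH : ∀ x ∈ H, x⁻¹ * α x ∈ H := fun x hx => H.mul_mem (H.inv_mem hx) (hαH x hx)
  have hitH : ∀ (j : ℕ), ∀ x ∈ H, (fun y : G => y⁻¹ * α y)^[j] x ∈ H := by
    intro j
    induction j with
    | zero => intro x hx; exact hx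
    | succ j ih =>
      intro x hx
      rw [Function.iterate_succ_apply']
      exact hcH _ (ih x hx)
  -- the descent step
  have step : ∀ y ∈ H, (α (y⁻¹ * α y) = y⁻¹ * α y) → y⁻¹ * α y = 1 := by
    intro y hy hz
    set z := y⁻¹ * α y with hzdef
    have hyz : α y = y * z := by rw [hzdef]; group
    have hk : ∀ k : ℕ, (α ^ k) y = y * z ^ k := by
      intro k
      induction k with
      | zero => simp
      | succ k ih =>
        have hzk : α (z ^ k) = z ^ k := by rw [map_pow, hz]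
        rw [pow_succ', MulAut.mul_apply, ih, map_mul, hyz, hzk, pow_succ', mul_assoc]
    have h1 := hk m
    rw [hα, MulAut.one_apply] at h1
    have hzm : z ^ m = 1 := by
      have : y * 1 = y * z ^ m := by rw [mul_one]; exact h1
      exact (mul_left_cancel this).symm
    have hzH : z ∈ H := hcH y hy
    obtain ⟨j, hj⟩ := hH ⟨z, hzH⟩
    have hj' : z ^ p ^ j = 1 := congrArg Subtype.val hj
    have hd1 : orderOf z ∣ m := orderOf_dvd_of_pow_eq_one hzm
    have hd2 : orderOf z ∣ p ^ j := orderOf_dvd_of_pow_eq_one hj'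
    have hc : (orderOf z).Coprime (orderOf z) :=
      Nat.Coprime.coprime_dvd_left hd1 (Nat.Coprime.coprime_dvd_right hd2 (Nat.Coprime.pow_right j hm))
    have : orderOf z = 1 := (Nat.coprime_self _).mp hc
    exact orderOf_eq_one_iff.mp this
  induction n with
  | zero =>
    intro x _ h
    have h1 : x⁻¹ * α x = 1 := by simpa using h
    calc α x = x * (x⁻¹ * α x) := by group
      _ = x := by rw [h1, mul_one]
  | succ n ih =>
    intro x hx h
    apply ih x hx
    rw [Function.iterate_succ_apply', Function.iterate_succ_apply'] at h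
    rw [Function.iterate_succ_apply']
    set w := (fun y : G => y⁻¹ * α y)^[n] x with hw
    have hwH : w ∈ H := hitH n x hx
    apply step w hwH
    have h3 : (w⁻¹ * α w)⁻¹ * α (w⁻¹ * α w) = 1 := h
    calc α (w⁻¹ * α w) = (w⁻¹ * α w) * ((w⁻¹ * α w)⁻¹ * α (w⁻¹ * α w)) := by group
      _ = w⁻¹ * α w := by rw [h3, mul_one]

/-! ### A proper subgroup containing commutators and `p`-th powers -/

/-- A nontrivial finite `p`-subgroup `H` has a proper subgroup containing all commutators and all `p`-th powers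
of elements of `H`. -/
theorem exists_lt_comm_pow_mem {p : ℕ} [hp : Fact p.Prime] (H : Subgroup G) [Finite H] (hH : IsPGroup p H)
    (hne : H ≠ ⊥) :
    ∃ M : Subgroup G, M ≤ H ∧ M ≠ H ∧ (∀ x ∈ H, ∀ y ∈ H, ⁅x, y⁆ ∈ M) ∧ ∀ x ∈ H, x ^ p ∈ M := by
  obtain ⟨k, hk⟩ := hH.exists_card_eq
  have hk0 : k ≠ 0 := by
    intro h0
    rw [h0, pow_zero] at hk
    exact hne (Subgroup.eq_bot_of_card_eq H hk)
  obtain ⟨K, hK⟩ := Sylow.exists_subgroup_card_pow_prime (G := H) p (n := k - 1)
    (by rw [hk]; exact pow_dvd_pow p (Nat.sub_le k 1))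
  have hidx : K.index = p := by
    have h1 := K.card_mul_index
    rw [hK, hk] at h1
    have h2 : p ^ (k - 1) * p = p ^ k := by
      rw [← pow_succ]; congr 1; omega
    rw [← h2] at h1
    exact Nat.eq_of_mul_eq_mul_left (pow_pos hp.out.pos _) h1
  have hKn : K.Normal := Subgroup.normal_of_index_eq_minFac_card
    (by rw [hidx, hk, Nat.Prime.pow_minFac hp.out hk0])
  have hcardQ : Nat.card (H ⧸ K) = p := by rw [← Subgroup.index_eq_card]; exact hidx
  have hcyc : IsCyclic (H ⧸ K) := isCyclic_of_prime_card hcardQ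
  refine ⟨K.map H.subtype, ?_, ?_, ?_, ?_⟩
  · rintro _ ⟨x, -, rfl⟩
    exact x.2
  · intro h
    have h1 : Nat.card (K.map H.subtype) = Nat.card K :=
      Subgroup.card_map_of_injective (Subgroup.subtype_injective H)
    rw [h, hk, hK] at h1
    have h2 : k = k - 1 := Nat.pow_right_injective hp.out.two_le h1
    omega
  · intro x hx y hy
    refine ⟨⁅(⟨x, hx⟩ : H), ⟨y, hy⟩⁆, ?_, rfl⟩
    apply (QuotientGroup.eq_one_iff _).mp
    obtain ⟨g, hg⟩ := hcyc.exists_generator
    obtain ⟨i, hi⟩ := Subgroup.mem_zpowers_iff.mp (hg (QuotientGroup.mk (⟨x, hx⟩ : H)))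
    obtain ⟨j, hj⟩ := Subgroup.mem_zpowers_iff.mp (hg (QuotientGroup.mk (⟨y, hy⟩ : H)))
    have : (QuotientGroup.mk (⁅(⟨x, hx⟩ : H), ⟨y, hy⟩⁆) : H ⧸ K) =
        ⁅(QuotientGroup.mk (⟨x, hx⟩ : H) : H ⧸ K), QuotientGroup.mk (⟨y, hy⟩ : H)⁆ := by
      simp only [commutatorElement_def, QuotientGroup.mk_mul, QuotientGroup.mk_inv]
    rw [this, ← hi, ← hj, commutatorElement_def]
    rw [← zpow_add, ← zpow_neg, ← zpow_add, ← zpow_neg, ← zpow_add]
    have : i + j + -i + -j = 0 := by ring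
    rw [this, zpow_zero]
  · intro x hx
    refine ⟨(⟨x, hx⟩ : H) ^ p, ?_, rfl⟩
    have := K.pow_index_mem (⟨x, hx⟩ : H)
    rwa [hidx] at this

/-! ### Automorphisms of order prime to `p` fixing the elements of order `p` -/

/-- Let `p` be odd and `α` an automorphism of order prime to `p`. If `α` normalizes the finite `p`-subgroup `H`
and fixes every element `x ∈ H` with `x ^ p = 1`, then `α` fixes `H` elementwise. -/
theorem omega_fix {p : ℕ} [hp : Fact p.Prime] (hodd : p ≠ 2) (α : MulAut G) (m : ℕ) (hm : m.Coprime p)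
    (hα : α ^ m = 1) (H : Subgroup G) [hfin : Finite H] (hH : IsPGroup p H) (hinv : ∀ x ∈ H, α x ∈ H)
    (hom : ∀ x ∈ H, x ^ p = 1 → α x = x) : ∀ x ∈ H, α x = x := by
  suffices key : ∀ n : ℕ, ∀ H : Subgroup G, Finite H → Nat.card H = n → IsPGroup p H →
      (∀ x ∈ H, α x ∈ H) → (∀ x ∈ H, x ^ p = 1 → α x = x) → ∀ x ∈ H, α x = x from
    key _ H hfin rfl hH hinv hom
  intro n
  induction n using Nat.strong_induction_on with
  | _ n ih =>
    intro H hfin hn hH hinv hom
    by_cases hbot : H = ⊥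
    · intro x hx
      rw [hbot, Subgroup.mem_bot] at hx
      rw [hx, map_one]
    obtain ⟨M, hMH, hMne, hMc, hMp⟩ := exists_lt_comm_pow_mem H hH hbot
    -- `N`: generated by commutators and `p`-th powers
    let N : Subgroup G :=
      Subgroup.closure ({z | ∃ x ∈ H, ∃ y ∈ H, z = ⁅x, y⁆} ∪ {z | ∃ x ∈ H, z = x ^ p})
    have hNM : N ≤ M := by
      rw [Subgroup.closure_le]
      rintro z (⟨x, hx, y, hy, rfl⟩ | ⟨x, hx, rfl⟩)
      · exact hMc x hx y hy
      · exact hMp x hx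
    have hNH : N ≤ H := hNM.trans hMH
    have hcN : ∀ x ∈ H, ∀ y ∈ H, ⁅x, y⁆ ∈ N := fun x hx y hy =>
      Subgroup.subset_closure (Or.inl ⟨x, hx, y, hy, rfl⟩)
    have hpN : ∀ x ∈ H, x ^ p ∈ N := fun x hx => Subgroup.subset_closure (Or.inr ⟨x, hx, rfl⟩)
    have hNinv : ∀ z ∈ N, α z ∈ N := by
      intro z hz
      induction hz using Subgroup.closure_induction with
      | mem z hz =>
        rcases hz with ⟨x, hx, y, hy, rfl⟩ | ⟨x, hx, rfl⟩
        · have : α ⁅x, y⁆ = ⁅α x, α y⁆ := by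
            simp only [commutatorElement_def, map_mul, map_inv]
          rw [this]
          exact hcN _ (hinv x hx) _ (hinv y hy)
        · rw [map_pow]
          exact hpN _ (hinv x hx)
      | one => rw [map_one]; exact N.one_mem
      | mul a b _ _ ha hb => rw [map_mul]; exact N.mul_mem ha hb
      | inv a _ ha => rw [map_inv]; exact N.inv_mem ha
    have hNfin : Finite N := Finite.of_injective _ (Subgroup.inclusion_injective hNH)
    have hNlt : Nat.card N < n := by
      rw [← hn]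
      by_contra hlt
      have h1 := Subgroup.eq_of_le_of_card_ge hNH (not_lt.mp hlt)
      exact hMne (le_antisymm hMH (h1 ▸ hNM))
    have hNfix : ∀ z ∈ N, α z = z :=
      ih (Nat.card N) hNlt N hNfin rfl (hH.to_le hNH) hNinv
        (fun x hx hxp => hom x (hNH hx) hxp)
    -- the descent, to be used twice
    have hdesc : ∀ x ∈ H, α (x⁻¹ * α x) = x⁻¹ * α x → α x = x := by
      intro x hx h
      apply fixed_of_iterate_comm α m hm hα H hH hinv 1 x hx
      show (x⁻¹ * α x)⁻¹ * α (x⁻¹ * α x) = 1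
      rw [h]; group
    have hcH : ∀ x ∈ H, x⁻¹ * α x ∈ H := fun x hx => H.mul_mem (H.inv_mem hx) (hinv x hx)
    -- `N` is normal in `H`
    have hNnorm : ∀ x ∈ H, ∀ z ∈ N, x * z * x⁻¹ ∈ N := by
      intro x hx z hz
      have : x * z * x⁻¹ = ⁅x, z⁆ * z := by rw [commutatorElement_def]; group
      rw [this]
      exact N.mul_mem (hcN x hx z (hNH hz)) hz
    -- `x⁻¹ α(x)` centralizes `N`
    have hcent : ∀ x ∈ H, ∀ z ∈ N, (x⁻¹ * α x) * z = z * (x⁻¹ * α x) := by
      intro x hx z hz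
      have h1 := hNfix _ (hNnorm x hx z hz)
      rw [map_mul, map_mul, map_inv, hNfix z hz] at h1
      calc (x⁻¹ * α x) * z = x⁻¹ * (α x * z * (α x)⁻¹) * α x := by group
        _ = x⁻¹ * (x * z * x⁻¹) * α x := by rw [h1]
        _ = z * (x⁻¹ * α x) := by group
    -- `D = C_H(N)`
    let D : Subgroup G := H ⊓ Subgroup.centralizer (N : Set G)
    have hDH : D ≤ H := inf_le_left
    have hDinv : ∀ x ∈ D, α x ∈ D := by
      intro x hx
      refine ⟨hinv x hx.1, ?_⟩
      show α x ∈ Subgroup.centralizer (N : Set G)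
      rw [Subgroup.mem_centralizer_iff]
      intro z hz
      have h1 : z * x = x * z := (Subgroup.mem_centralizer_iff.mp hx.2) z hz
      have h2 := congrArg α h1
      rw [map_mul, map_mul, hNfix z hz] at h2
      exact h2
    by_cases hDeq : D = H
    · -- commutators and `p`-th powers are central in `H`
      have hcentral : ∀ z ∈ N, ∀ y ∈ H, Commute z y := by
        intro z hz y hy
        have hy' : y ∈ D := hDeq ▸ hy
        exact ((Subgroup.mem_centralizer_iff.mp hy'.2) z hz)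
      intro x hx
      apply hdesc x hx
      apply hom _ (hcH x hx)
      -- `(x⁻¹ α(x))^p = 1`
      have hxi : x⁻¹ ∈ H := H.inv_mem hx
      have hax : α x ∈ H := hinv x hx
      have hz : ⁅α x, x⁻¹⁆ ∈ N := hcN _ hax _ hxi
      have hza : Commute ⁅α x, x⁻¹⁆ x⁻¹ := hcentral _ hz _ hxi
      have hzb : Commute ⁅α x, x⁻¹⁆ (α x) := hcentral _ hz _ hax
      rw [mul_pow_of_comm_central x⁻¹ (α x) hza hzb p]
      have hzp : ⁅α x, x⁻¹⁆ ^ p = 1 := by
        rw [← commutator_pow_left_of_central x⁻¹ (α x) hzb p, commutatorElement_def]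
        have hc : Commute ((α x) ^ p) x⁻¹ := hcentral _ (hpN _ hax) _ hxi
        have : (α x) ^ p * x⁻¹ = x⁻¹ * (α x) ^ p := hc.eq
        calc (α x) ^ p * x⁻¹ * ((α x) ^ p)⁻¹ * x⁻¹⁻¹ = ((α x) ^ p * x⁻¹) * ((α x) ^ p)⁻¹ * x⁻¹⁻¹ := by group
          _ = (x⁻¹ * (α x) ^ p) * ((α x) ^ p)⁻¹ * x⁻¹⁻¹ := by rw [this]
          _ = 1 := by group
      have hdvd : p ∣ p.choose 2 := by
        have hp2 : 2 < p := lt_of_le_of_ne hp.out.two_le (Ne.symm hodd)
        exact Nat.Prime.dvd_choose_self hp.out (by norm_num) hp2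
      obtain ⟨t, ht⟩ := hdvd
      rw [ht, pow_mul, hzp, one_pow, mul_one]
      have hxp : (α x) ^ p = x ^ p := by rw [← map_pow]; exact hNfix _ (hpN x hx)
      rw [hxp, inv_pow]; group
    · -- `α` is trivial on `D`
      have hDfin : Finite D := Finite.of_injective _ (Subgroup.inclusion_injective hDH)
      have hDlt : Nat.card D < n := by
        rw [← hn]
        by_contra hlt
        exact hDeq (Subgroup.eq_of_le_of_card_ge hDH (not_lt.mp hlt))
      have hDfix : ∀ z ∈ D, α z = z :=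
        ih (Nat.card D) hDlt D hDfin rfl (hH.to_le hDH) hDinv
          (fun x hx hxp => hom x (hDH hx) hxp)
      intro x hx
      apply hdesc x hx
      apply hDfix
      refine ⟨hcH x hx, ?_⟩
      show x⁻¹ * α x ∈ Subgroup.centralizer (N : Set G)
      rw [Subgroup.mem_centralizer_iff]
      intro z hz
      exact (hcent x hx z hz).symm

end Cfsg.Agent.Lib.Helper89
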