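import Mathlib
import Cfsg.Prelude.Def_Transfer
import Cfsg.Agent.Lib.Helper89.OmegaFix
import Cfsg.Agent.Lib.Helper54.FrattiniLib
import Cfsg.Agent.Lib.Helper03.PGroupFrattini

set_option autoImplicit false

namespace Cfsg.Agent.Lib.Helper89

open Cfsg
open scoped commutatorElement

/-- A chain of characteristic subgroups from `⊥` to `⊤` with factors of order at most `p`. -/
def HasCharChain (p : ℕ) (G : Type*) [Group G] : Prop :=
  ∃ (c : ℕ → Subgroup G) (n : ℕ), Monotone c ∧ c 0 = ⊥ ∧ c n = ⊤ ∧
    (∀ α : MulAut G, ∀ i, ∀ x ∈ c i, α x ∈ c i) ∧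
    (∀ i, c i = c (i + 1) ∨ (c i).relIndex (c (i + 1)) = p)

/-- The chain `⊥ ≤ A ≤ B ≤ ⊤ ≤ ⊤ ≤ ...`. -/
def chainThree {G : Type*} [Group G] (A B : Subgroup G) : ℕ → Subgroup G
  | 0 => ⊥
  | 1 => A
  | 2 => B
  | _ => ⊤

theorem hasCharChain_of_two {G : Type*} [Group G] [Finite G] {p : ℕ} [Fact p.Prime]
    (hG : Nat.card G = p ^ 3) (A B : Subgroup G) (hAB : A ≤ B)
    (hA : Nat.card A = p) (hB : Nat.card B = p ^ 2)
    (hAc : ∀ α : MulAut G, ∀ x ∈ A, α x ∈ A) (hBc : ∀ α : MulAut G, ∀ x ∈ B, α x ∈ B) :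
    HasCharChain p G := by
  have hp : p.Prime := Fact.out
  refine ⟨chainThree A B, 3, ?_, rfl, rfl, ?_, ?_⟩
  · apply monotone_nat_of_le_succ
    intro n
    match n with
    | 0 => exact bot_le
    | 1 => exact hAB
    | 2 => exact le_top
    | (k + 3) => exact le_rfl
  · intro α i
    match i with
    | 0 =>
      intro x hx
      have hx1 : x = 1 := by simpa [chainThree] using hx
      subst hx1
      simp [chainThree]
    | 1 => exact hAc α
    | 2 => exact hBc α
    | (k + 3) => intro x _; exact Subgroup.mem_top _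
  · intro i
    match i with
    | 0 =>
      right
      change (⊥ : Subgroup G).relIndex A = p
      rw [Subgroup.relIndex_bot_left, hA]
    | 1 =>
      right
      change A.relIndex B = p
      have h1 : (⊥ : Subgroup G).relIndex A * A.relIndex B = (⊥ : Subgroup G).relIndex B :=
        Subgroup.relIndex_mul_relIndex _ _ _ bot_le hAB
      rw [Subgroup.relIndex_bot_left, Subgroup.relIndex_bot_left, hA, hB] at h1
      have hp0 : 0 < p := hp.pos
      have : p * A.relIndex B = p * p := by rw [h1]; ring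
      exact Nat.eq_of_mul_eq_mul_left hp0 this
    | 2 =>
      right
      change B.relIndex ⊤ = p
      rw [Subgroup.relIndex_top_right]
      have h1 : Nat.card B * B.index = Nat.card G := Subgroup.card_mul_index B
      rw [hB, hG] at h1
      have hp0 : 0 < p ^ 2 := pow_pos hp.pos 2
      have : p ^ 2 * B.index = p ^ 2 * p := by rw [h1]; ring
      exact Nat.eq_of_mul_eq_mul_left hp0 this
    | (k + 3) => left; rfl

theorem le_of_card_prime_of_inf_ne_bot {G : Type*} [Group G] {p : ℕ} [Fact p.Prime]
    (A B : Subgroup G) (hA : Nat.card A = p) (h : A ⊓ B ≠ ⊥) : A ≤ B := by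
  have hp : p.Prime := Fact.out
  have : Finite A := Nat.finite_of_card_ne_zero (by rw [hA]; exact hp.ne_zero)
  have h1 : Nat.card (A ⊓ B : Subgroup G) ∣ Nat.card A := Subgroup.card_dvd_of_le inf_le_left
  rw [hA] at h1
  rcases (Nat.dvd_prime hp).mp h1 with h2 | h2
  · exact absurd (Subgroup.card_eq_one.mp h2) h
  · have h3 : (A ⊓ B : Subgroup G) = A := by
      apply Subgroup.eq_of_le_of_card_ge inf_le_left
      rw [h2, hA]
    rw [← h3]; exact inf_le_right

theorem nonabelian_cube_basic {G : Type*} [Group G] [Finite G] {p : ℕ} [Fact p.Prime]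
    (hG : Nat.card G = p ^ 3) (hnc : ¬ ∀ a b : G, a * b = b * a) :
    Nat.card (Subgroup.center G) = p ∧ commutator G = Subgroup.center G ∧
      (∀ x : G, x ^ p ∈ Subgroup.center G) ∧ frattini G = Subgroup.center G := by
  have hp : p.Prime := Fact.out
  have hGp : IsPGroup p G := IsPGroup.of_card hG
  obtain ⟨k, hk0, hk⟩ := IsPGroup.card_center_eq_prime_pow hG (by norm_num)
  have hZd : Nat.card (Subgroup.center G) ∣ p ^ 3 := by
    rw [← hG]; exact Subgroup.card_subgroup_dvd_card _
  obtain ⟨j, hj3, hj⟩ := (Nat.dvd_prime_pow hp).mp hZd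
  have hjk : j = k := Nat.pow_right_injective hp.two_le (by show p ^ j = p ^ k; rw [← hj, ← hk])
  subst hjk
  have hidx : Nat.card (G ⧸ Subgroup.center G) = p ^ (3 - j) := by
    have h1 := Subgroup.card_mul_index (Subgroup.center G)
    rw [hj, hG, Subgroup.index_eq_card] at h1
    have : p ^ j * Nat.card (G ⧸ Subgroup.center G) = p ^ j * p ^ (3 - j) := by
      rw [h1, ← pow_add]; congr 1; omega
    exact Nat.eq_of_mul_eq_mul_left (pow_pos hp.pos j) this
  have hcases : j = 1 ∨ j = 2 ∨ j = 3 := by omega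
  rcases hcases with rfl | rfl | rfl
  · rw [pow_one] at hj
    have hidx2 : Nat.card (G ⧸ Subgroup.center G) = p ^ 2 := hidx
    have hqc : ∀ a b : G ⧸ Subgroup.center G, a * b = b * a :=
      (IsPGroup.isMulCommutative_of_card_eq_prime_sq hidx2).is_comm.comm
    have hcomm_le : commutator G ≤ Subgroup.center G := by
      rw [commutator_def, Subgroup.commutator_le]
      intro a _ b _
      rw [← QuotientGroup.eq_one_iff]
      have h1 : ((⁅a, b⁆ : G) : G ⧸ Subgroup.center G) = ⁅(a : G ⧸ Subgroup.center G), (b : G ⧸ Subgroup.center G)⁆ :=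
        map_commutatorElement (QuotientGroup.mk' (Subgroup.center G)) a b
      rw [h1, commutatorElement_eq_one_iff_commute]
      exact hqc _ _
    have hpow : ∀ x : G, x ^ p ∈ Subgroup.center G := by
      intro x
      rw [← QuotientGroup.eq_one_iff, QuotientGroup.mk_pow]
      have h1 : orderOf (x : G ⧸ Subgroup.center G) ∣ p ^ 2 := by
        rw [← hidx2]; exact orderOf_dvd_natCard _
      obtain ⟨i, hi2, hi⟩ := (Nat.dvd_prime_pow hp).mp h1
      have hi2' : i ≠ 2 := by
        rintro rfl
        rw [← hidx2] at hi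
        have : IsCyclic (G ⧸ Subgroup.center G) := isCyclic_of_orderOf_eq_card _ hi
        exact hnc (isMulCommutative_of_isCyclic_quotient_center_self G).is_comm.comm
      apply orderOf_dvd_iff_pow_eq_one.mp
      rw [hi]
      have : i ≤ 1 := by omega
      calc p ^ i ∣ p ^ 1 := pow_dvd_pow p this
        _ = p := pow_one p
    have hcne : commutator G ≠ ⊥ := by
      intro hbot
      apply hnc
      intro a b
      have h1 : ⁅a, b⁆ ∈ commutator G := by
        rw [commutator_def]
        exact Subgroup.commutator_mem_commutator (Subgroup.mem_top a) (Subgroup.mem_top b)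
      rw [hbot, Subgroup.mem_bot, commutatorElement_eq_one_iff_commute] at h1
      exact h1
    have hceq : commutator G = Subgroup.center G := by
      apply le_antisymm hcomm_le
      apply le_of_card_prime_of_inf_ne_bot _ _ hj
      rw [inf_eq_right.mpr hcomm_le]
      exact hcne
    refine ⟨hj, hceq, hpow, le_antisymm ?_ ?_⟩
    · exact Cfsg.Agent.Lib.Helper54.frattini_le_of_commutator_le_of_pow_mem (p := p) _ hcomm_le hpow
    · rw [← hceq]
      exact Cfsg.Agent.Lib.Helper03.commutator_le_frattini_of_isPGroup hGp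
  · exfalso
    have hidx1 : Nat.card (G ⧸ Subgroup.center G) = p := by rw [hidx]; norm_num
    have : IsCyclic (G ⧸ Subgroup.center G) := isCyclic_of_prime_card hidx1
    exact hnc (isMulCommutative_of_isCyclic_quotient_center_self G).is_comm.comm
  · exfalso
    apply hnc
    have htop : Subgroup.center G = ⊤ := Subgroup.eq_top_of_card_eq _ (by rw [hj, hG])
    intro a b
    have ha : a ∈ Subgroup.center G := by rw [htop]; exact Subgroup.mem_top a
    exact (Subgroup.mem_center_iff.mp ha b).symm


theorem abelian_cube {G : Type*} [Group G] [Finite G] {p : ℕ} [Fact p.Prime]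
    (hG : Nat.card G = p ^ 3) (hcomm : ∀ a b : G, a * b = b * a) :
    (∀ x : G, x ^ p = 1) ∨ HasCharChain p G := by
  have hp : p.Prime := Fact.out
  let f : G →* G :=
    { toFun := fun x => x ^ p
      map_one' := one_pow p
      map_mul' := fun a b => Commute.mul_pow (hcomm a b) p }
  have hf : ∀ x, f x = x ^ p := fun _ => rfl
  have hker : ∀ x, x ∈ f.ker ↔ x ^ p = 1 := fun x => by rw [MonoidHom.mem_ker, hf]
  have hcardmul : Nat.card f.ker * Nat.card f.range = p ^ 3 := by
    rw [← Subgroup.index_ker, Subgroup.card_mul_index, hG]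
  have hkc : ∀ α : MulAut G, ∀ x ∈ f.ker, α x ∈ f.ker := by
    intro α x hx
    rw [hker] at hx ⊢
    rw [← map_pow, hx, map_one]
  have hrc : ∀ α : MulAut G, ∀ x ∈ f.range, α x ∈ f.range := by
    rintro α _ ⟨y, rfl⟩
    exact ⟨α y, by rw [hf, hf, map_pow]⟩
  have hkd : Nat.card f.ker ∣ p ^ 3 := Dvd.intro _ hcardmul
  obtain ⟨j, hj3, hj⟩ := (Nat.dvd_prime_pow hp).mp hkd
  have hrange : Nat.card f.range = p ^ (3 - j) := by
    rw [hj] at hcardmul
    have : p ^ j * Nat.card f.range = p ^ j * p ^ (3 - j) := by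
      rw [hcardmul, ← pow_add]; congr 1; omega
    exact Nat.eq_of_mul_eq_mul_left (pow_pos hp.pos j) this
  have hj0 : j ≠ 0 := by
    rintro rfl
    rw [pow_zero, Subgroup.card_eq_one] at hj
    obtain ⟨g, hg⟩ := exists_prime_orderOf_dvd_card' (G := G) p (by rw [hG]; exact dvd_pow_self p (by norm_num))
    have hgk : g ∈ f.ker := by rw [hker, ← hg]; exact pow_orderOf_eq_one g
    rw [hj, Subgroup.mem_bot] at hgk
    rw [hgk, orderOf_one] at hg
    exact hp.one_lt.ne hg
  have hcases : j = 1 ∨ j = 2 ∨ j = 3 := by omega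
  rcases hcases with rfl | rfl | rfl
  · -- `|Ω| = p`, `|℧| = p²`
    right
    rw [pow_one] at hj
    have hr2 : Nat.card f.range = p ^ 2 := hrange
    refine hasCharChain_of_two hG f.ker f.range ?_ hj hr2 hkc hrc
    apply le_of_card_prime_of_inf_ne_bot _ _ hj
    obtain ⟨g, hg⟩ := exists_prime_orderOf_dvd_card' (G := f.range) p
      (by rw [hr2]; exact dvd_pow_self p (by norm_num))
    intro hbot
    have hgm : (g : G) ∈ f.ker ⊓ f.range := by
      refine ⟨(hker _).mpr ?_, g.2⟩
      rw [← Subgroup.coe_pow, ← hg, pow_orderOf_eq_one]; rfl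
    rw [hbot, Subgroup.mem_bot] at hgm
    have : g = 1 := Subtype.ext hgm
    rw [this, orderOf_one] at hg
    exact hp.one_lt.ne hg
  · -- `|Ω| = p²`, `|℧| = p`
    right
    have hr1 : Nat.card f.range = p := by rw [hrange]; norm_num
    refine hasCharChain_of_two hG f.range f.ker ?_ hr1 hj hrc hkc
    intro y hy
    rw [hker]
    have h1 : (⟨y, hy⟩ : f.range) ^ p = 1 := by
      rw [← hr1]; exact pow_card_eq_one'
    exact congrArg Subtype.val h1
  · left
    intro x
    rw [← hker]
    have : f.ker = ⊤ := Subgroup.eq_top_of_card_eq _ (by rw [hj, hG])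
    rw [this]; exact Subgroup.mem_top x


theorem center_invariant {G : Type*} [Group G] (α : MulAut G) (x : G)
    (hx : x ∈ Subgroup.center G) : α x ∈ Subgroup.center G :=
  (Subgroup.characteristic_iff_map_le.mp (inferInstance : (Subgroup.center G).Characteristic) α)
    (Subgroup.mem_map_of_mem _ hx)

theorem nonabelian_cube_odd {G : Type*} [Group G] [Finite G] {p : ℕ} [Fact p.Prime]
    (hG : Nat.card G = p ^ 3) (hnc : ¬ ∀ a b : G, a * b = b * a) (hp2 : p ≠ 2) :
    (IsExtraspecial p G ∧ ∀ x : G, x ^ p = 1) ∨ HasCharChain p G := by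
  have hp : p.Prime := Fact.out
  have hGp : IsPGroup p G := IsPGroup.of_card hG
  obtain ⟨hZ, hcomm, hpow, hfrat⟩ := nonabelian_cube_basic hG hnc
  have hZpow : ∀ z ∈ Subgroup.center G, z ^ p = 1 := by
    intro z hz
    have h1 : (⟨z, hz⟩ : Subgroup.center G) ^ p = 1 := by
      rw [← hZ]; exact pow_card_eq_one'
    exact congrArg Subtype.val h1
  have hcz : ∀ a b : G, ⁅a, b⁆ ∈ Subgroup.center G := by
    intro a b
    rw [← hcomm, commutator_def]
    exact Subgroup.commutator_mem_commutator (Subgroup.mem_top a) (Subgroup.mem_top b)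
  have hmul : ∀ a b : G, (a * b) ^ p = a ^ p * b ^ p := by
    intro a b
    have h1 := mul_pow_of_comm_central a b
      ((Subgroup.mem_center_iff.mp (hcz b a) a).symm) ((Subgroup.mem_center_iff.mp (hcz b a) b).symm) p
    have h2 : p ∣ p.choose 2 := hp.dvd_choose_self (by norm_num) (by have := hp.two_le; omega)
    obtain ⟨m, hm⟩ := h2
    rw [h1, hm, pow_mul, hZpow _ (hcz b a), one_pow, mul_one]
  let f : G →* G :=
    { toFun := fun x => x ^ p
      map_one' := one_pow p
      map_mul' := hmul }
  have hf : ∀ x, f x = x ^ p := fun _ => rfl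
  have hker : ∀ x, x ∈ f.ker ↔ x ^ p = 1 := fun x => by rw [MonoidHom.mem_ker, hf]
  have hcardmul : Nat.card f.ker * Nat.card f.range = p ^ 3 := by
    rw [← Subgroup.index_ker, Subgroup.card_mul_index, hG]
  have hkc : ∀ α : MulAut G, ∀ x ∈ f.ker, α x ∈ f.ker := by
    intro α x hx
    rw [hker] at hx ⊢
    rw [← map_pow, hx, map_one]
  have hrZ : f.range ≤ Subgroup.center G := by
    rintro _ ⟨y, rfl⟩
    exact hpow y
  have hrd : Nat.card f.range ∣ p := by
    rw [← hZ]; exact Subgroup.card_dvd_of_le hrZ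
  rcases (Nat.dvd_prime hp).mp hrd with h1 | h1
  · left
    rw [h1, mul_one] at hcardmul
    have htop : f.ker = ⊤ := Subgroup.eq_top_of_card_eq _ (by rw [hcardmul, hG])
    refine ⟨⟨⟨hGp, hfrat, hcomm⟩, hZ⟩, ?_⟩
    intro x
    rw [← hker, htop]; exact Subgroup.mem_top x
  · right
    rw [h1] at hcardmul
    have hk2 : Nat.card f.ker = p ^ 2 := by
      have : Nat.card f.ker * p = p ^ 2 * p := by rw [hcardmul]; ring
      exact Nat.eq_of_mul_eq_mul_right hp.pos this
    refine hasCharChain_of_two hG (Subgroup.center G) f.ker ?_ hZ hk2 (fun α x hx => center_invariant α x hx) hkc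
    intro z hz
    exact (hker z).mpr (hZpow z hz)


/-- A subgroup properly containing a subgroup of prime index is everything. -/
theorem eq_top_of_lt_of_index_prime {G : Type*} [Group G] {p : ℕ} (hp : p.Prime)
    {K L : Subgroup G} (hKL : K < L) (hidx : K.index = p) : L = ⊤ := by
  have h1 : K.relIndex L * L.index = K.index := Subgroup.relIndex_mul_index hKL.le
  rw [hidx] at h1
  have h2 : L.index ∣ p := Dvd.intro_left _ h1
  rcases (Nat.dvd_prime hp).mp h2 with h3 | h3
  · exact Subgroup.index_eq_one.mp h3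
  · exfalso
    rw [h3] at h1
    have h4 : K.relIndex L = 1 := by
      have : K.relIndex L * p = 1 * p := by rw [h1, one_mul]
      exact Nat.eq_of_mul_eq_mul_right hp.pos this
    rw [Subgroup.relIndex_eq_one] at h4
    exact absurd h4 (not_le_of_gt hKL)

/-- The map from the quaternion group determined by `x` and `y`. -/
def quatMap {G : Type*} [Group G] (x y : G) : QuaternionGroup 2 → G
  | QuaternionGroup.a i => x ^ i.val
  | QuaternionGroup.xa i => y * x ^ i.val

theorem quatMap_mul {G : Type*} [Group G] (x y : G) (hord : orderOf x = 4) (hxy : y * y = x ^ 2)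
    (hconj : x * y = y * x⁻¹) (u v : QuaternionGroup 2) :
    quatMap x y (u * v) = quatMap x y u * quatMap x y v := by
  have hφadd : ∀ i j : ZMod 4, x ^ (i + j).val = x ^ i.val * x ^ j.val := by
    intro i j
    rw [ZMod.val_add, ← pow_add]
    have h1 := pow_mod_orderOf x (i.val + j.val)
    rw [hord] at h1
    exact h1
  have hφsub : ∀ i j : ZMod 4, x ^ (j - i).val = (x ^ i.val)⁻¹ * x ^ j.val := by
    intro i j
    have h1 := hφadd i (j - i)
    rw [add_sub_cancel] at h1
    rw [h1, inv_mul_cancel_left]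
  have hsemi : ∀ k : ℕ, x ^ k * y = y * (x ^ k)⁻¹ := by
    intro k
    have h1 : SemiconjBy y x⁻¹ x := hconj.symm
    have h2 := (h1.pow_right k).eq
    rw [← h2, inv_pow]
  have h2val : ((2 : ℕ) : ZMod 4).val = 2 := by decide
  match u, v with
  | QuaternionGroup.a i, QuaternionGroup.a j =>
    change quatMap x y (QuaternionGroup.a (i + j)) = _
    exact hφadd i j
  | QuaternionGroup.a i, QuaternionGroup.xa j =>
    change quatMap x y (QuaternionGroup.xa (j - i)) = _
    change y * x ^ (j - i).val = x ^ i.val * (y * x ^ j.val)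
    rw [hφsub, ← mul_assoc (x ^ i.val), hsemi, mul_assoc]
  | QuaternionGroup.xa i, QuaternionGroup.a j =>
    change quatMap x y (QuaternionGroup.xa (i + j)) = _
    change y * x ^ (i + j).val = y * x ^ i.val * x ^ j.val
    rw [hφadd, mul_assoc]
  | QuaternionGroup.xa i, QuaternionGroup.xa j =>
    change quatMap x y (QuaternionGroup.a (((2 : ℕ) : ZMod 4) + j - i)) = _
    change x ^ (((2 : ℕ) : ZMod 4) + j - i).val = y * x ^ i.val * (y * x ^ j.val)
    rw [add_sub_assoc, hφadd, h2val, hφsub, mul_assoc y, ← mul_assoc (x ^ i.val), hsemi,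
      ← hxy]
    simp only [mul_assoc]


theorem nonabelian_cube_two {G : Type*} [Group G] [Finite G]
    (hG : Nat.card G = 2 ^ 3) (hnc : ¬ ∀ a b : G, a * b = b * a) :
    Nonempty (G ≃* QuaternionGroup 2) ∨ HasCharChain 2 G := by
  have hp : Nat.Prime 2 := Nat.prime_two
  obtain ⟨hZ, hcomm, hpow, hfrat⟩ := nonabelian_cube_basic (p := 2) hG hnc
  have hZpow : ∀ z ∈ Subgroup.center G, z ^ 2 = 1 := by
    intro z hz
    have h1 : (⟨z, hz⟩ : Subgroup.center G) ^ 2 = 1 := by
      rw [← hZ]; exact pow_card_eq_one'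
    exact congrArg Subtype.val h1
  have hcz : ∀ a b : G, ⁅a, b⁆ ∈ Subgroup.center G := by
    intro a b
    rw [← hcomm, commutator_def]
    exact Subgroup.commutator_mem_commutator (Subgroup.mem_top a) (Subgroup.mem_top b)
  -- the centre has exactly two elements
  have hZtwo : ∀ z w : G, z ∈ Subgroup.center G → w ∈ Subgroup.center G → z ≠ 1 → w ≠ 1 → z = w := by
    intro z w hz hw hz1 hw1
    obtain ⟨t, -, ht⟩ := (Nat.card_eq_two_iff' (1 : Subgroup.center G)).mp hZ
    have h1 := ht ⟨z, hz⟩ (fun h => hz1 (congrArg Subtype.val h))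
    have h2 := ht ⟨w, hw⟩ (fun h => hw1 (congrArg Subtype.val h))
    exact congrArg Subtype.val (h1.trans h2.symm)
  -- an element of order four
  have hex : ∃ x : G, x ^ 2 ≠ 1 := by
    by_contra hall
    apply hnc
    have h2 : ∀ x : G, x ^ 2 = 1 := fun x => by
      by_contra hx; exact hall ⟨x, hx⟩
    have hinv : ∀ x : G, x⁻¹ = x := fun x => by
      rw [inv_eq_iff_mul_eq_one, ← sq]; exact h2 x
    intro a b
    calc a * b = (a * b)⁻¹ := (hinv _).symm
      _ = b⁻¹ * a⁻¹ := mul_inv_rev a b
      _ = b * a := by rw [hinv, hinv]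
  have hord4 : ∀ x : G, x ^ 2 ≠ 1 → orderOf x = 4 := by
    intro x hx
    have h1 : x ^ 2 ^ (1 + 1) = 1 := by
      have := hZpow _ (hpow x)
      rw [← pow_mul] at this
      exact this
    have h2 : ¬ x ^ 2 ^ 1 = 1 := by rwa [pow_one]
    have := orderOf_eq_prime_pow h2 h1
    rw [this]; norm_num
  have hidx2 : ∀ x : G, x ^ 2 ≠ 1 → (Subgroup.zpowers x).index = 2 := by
    intro x hx
    have h1 := Subgroup.card_mul_index (Subgroup.zpowers x)
    rw [Nat.card_zpowers, hord4 x hx, hG] at h1
    omega
  set U : Subgroup G := Subgroup.closure {x : G | x ^ 2 ≠ 1} with hU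
  have hUc : ∀ α : MulAut G, ∀ x ∈ U, α x ∈ U := by
    intro α
    have h1 : U ≤ U.comap α.toMonoidHom := by
      rw [hU, Subgroup.closure_le]
      intro x hx
      apply Subgroup.subset_closure
      intro h
      apply hx
      have h2 : α (x ^ 2) = 1 := by rw [map_pow]; exact h
      exact (map_eq_one_iff α α.injective).mp h2
    exact fun x hx => h1 hx
  obtain ⟨x, hx⟩ := hex
  have hxU : Subgroup.zpowers x ≤ U := by
    rw [Subgroup.zpowers_le]
    exact Subgroup.subset_closure hx
  by_cases hUtop : U = ⊤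
  · left
    -- a second element of order four outside `⟨x⟩`
    have hey : ∃ y : G, y ^ 2 ≠ 1 ∧ y ∉ Subgroup.zpowers x := by
      by_contra hall
      have h1 : U ≤ Subgroup.zpowers x := by
        rw [hU, Subgroup.closure_le]
        intro y hy
        by_contra hyx
        exact hall ⟨y, hy, hyx⟩
      have h2 : Subgroup.zpowers x = ⊤ := by rw [← hUtop]; exact le_antisymm hxU h1
      have h3 := hidx2 x hx
      rw [h2, Subgroup.index_top] at h3
      omega
    obtain ⟨y, hy, hyx⟩ := hey
    have hsq : y * y = x ^ 2 := by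
      rw [← sq]
      exact hZtwo _ _ (hpow y) (hpow x) hy hx
    have hx4 : x ^ 4 = 1 := by rw [← hord4 x hx]; exact pow_orderOf_eq_one x
    have hcomm_ne : ⁅y, x⁆ ≠ 1 := by
      intro h
      rw [commutatorElement_eq_one_iff_commute] at h
      have h1 : Subgroup.zpowers x < Subgroup.centralizer {x} := by
        refine lt_of_le_of_ne ?_ ?_
        · rw [Subgroup.zpowers_le]
          exact Subgroup.mem_centralizer_singleton_iff.mpr rfl
        · intro heq
          apply hyx
          rw [heq]
          exact Subgroup.mem_centralizer_singleton_iff.mpr h.eq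
      have h2 := eq_top_of_lt_of_index_prime hp h1 (hidx2 x hx)
      have h3 : x ∈ Subgroup.center G := by
        rw [Subgroup.mem_center_iff]
        intro g
        have : g ∈ Subgroup.centralizer {x} := by rw [h2]; exact Subgroup.mem_top g
        exact (Subgroup.mem_centralizer_singleton_iff.mp this)
      exact hx (hZpow x h3)
    have hcx : ⁅y, x⁆ = x ^ 2 := hZtwo _ _ (hcz y x) (hpow x) hcomm_ne hx
    have hconj : x * y = y * x⁻¹ := by
      rw [commutatorElement_def] at hcx
      have h1 : y * x = x ^ 2 * x * y := by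
        rw [← hcx]; group
      have h2 : x ^ 2 * x = x⁻¹ := by
        rw [eq_inv_iff_mul_eq_one, ← pow_succ, ← pow_succ]; exact hx4
      rw [h2] at h1
      calc x * y = x * (y * x) * x⁻¹ := by group
        _ = x * (x⁻¹ * y) * x⁻¹ := by rw [h1]
        _ = y * x⁻¹ := by group
    let f : QuaternionGroup 2 →* G :=
      MonoidHom.mk' (quatMap x y) (quatMap_mul x y (hord4 x hx) hsq hconj)
    have hfx : f (QuaternionGroup.a 1) = x := by
      change x ^ (1 : ZMod 4).val = x
      have : (1 : ZMod 4).val = 1 := by decide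
      rw [this, pow_one]
    have hfy : f (QuaternionGroup.xa 0) = y := by
      change y * x ^ (0 : ZMod 4).val = y
      have : (0 : ZMod 4).val = 0 := by decide
      rw [this, pow_zero, mul_one]
    have hrange : f.range = ⊤ := by
      apply eq_top_of_lt_of_index_prime hp (K := Subgroup.zpowers x) _ (hidx2 x hx)
      refine lt_of_le_of_ne ?_ ?_
      · rw [Subgroup.zpowers_le]
        exact ⟨_, hfx⟩
      · intro heq
        apply hyx
        rw [heq]
        exact ⟨_, hfy⟩
    have hsurj : Function.Surjective f := MonoidHom.range_eq_top.mp hrange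
    have hcardQ : Nat.card (QuaternionGroup 2) = Nat.card G := by
      rw [Nat.card_eq_fintype_card, QuaternionGroup.card, hG]; norm_num
    have hbij : Function.Bijective f :=
      (Nat.bijective_iff_surjective_and_card f).mpr ⟨hsurj, hcardQ⟩
    exact ⟨(MulEquiv.ofBijective f hbij).symm⟩
  · right
    have hUeq : U = Subgroup.zpowers x := by
      by_contra hne
      exact hUtop (eq_top_of_lt_of_index_prime hp (lt_of_le_of_ne hxU (Ne.symm hne)) (hidx2 x hx))
    have hUcard : Nat.card U = 2 ^ 2 := by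
      rw [hUeq, Nat.card_zpowers, hord4 x hx]; norm_num
    refine hasCharChain_of_two hG (Subgroup.center G) U ?_ hZ hUcard
      (fun α z hz => center_invariant α z hz) hUc
    apply le_of_card_prime_of_inf_ne_bot _ _ hZ
    intro hbot
    have h1 : x ^ 2 ∈ Subgroup.center G ⊓ U :=
      ⟨hpow x, hxU (Subgroup.pow_mem _ (Subgroup.mem_zpowers x) 2)⟩
    rw [hbot, Subgroup.mem_bot] at h1
    exact hx h1

/-- The structure of groups of order `p ^ 3`, up to a characteristic chain. -/
theorem order_p_cube {G : Type*} [Group G] [Finite G] {p : ℕ} [Fact p.Prime]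
    (hG : Nat.card G = p ^ 3) :
    ((∀ a b : G, a * b = b * a) ∧ ∀ x : G, x ^ p = 1) ∨
      (p ≠ 2 ∧ IsExtraspecial p G ∧ ∀ x : G, x ^ p = 1) ∨
      (p = 2 ∧ Nonempty (G ≃* QuaternionGroup 2)) ∨ HasCharChain p G := by
  by_cases hc : ∀ a b : G, a * b = b * a
  · rcases abelian_cube hG hc with h | h
    · exact Or.inl ⟨hc, h⟩
    · exact Or.inr (Or.inr (Or.inr h))
  · by_cases hp2 : p = 2
    · subst hp2
      rcases nonabelian_cube_two hG hc with h | h
      · exact Or.inr (Or.inr (Or.inl ⟨rfl, h⟩))
      · exact Or.inr (Or.inr (Or.inr h))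
    · rcases nonabelian_cube_odd hG hc hp2 with h | h
      · exact Or.inr (Or.inl ⟨hp2, h⟩)
      · exact Or.inr (Or.inr (Or.inr h))


end Cfsg.Agent.Lib.Helper89
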