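import Mathlib
import Cfsg.Agent.Lib.Helper89.CubeBad
import Cfsg.Agent.Lib.Helper89.OrderPCube

set_option autoImplicit false

namespace Cfsg.Agent.Lib.Helper89

open Subgroup
open scoped commutatorElement

section Act
variable {G : Type*} [Group G]

theorem mem_inf_centralizer_iff (W : Subgroup G) (x : G) :
    x ∈ W ⊓ centralizer (W : Set G) ↔ x ∈ W ∧ ∀ w ∈ W, w * x = x * w := by
  rw [Subgroup.mem_inf, Subgroup.mem_centralizer_iff]
  rfl

theorem conj_mem_inf_centralizer {W : Subgroup G} {g ζ : G} (hg : ∀ w ∈ W, g * w * g⁻¹ ∈ W)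
    (hg' : ∀ w ∈ W, g⁻¹ * w * g ∈ W) (hζ : ζ ∈ W ⊓ centralizer (W : Set G)) :
    g * ζ * g⁻¹ ∈ W ⊓ centralizer (W : Set G) := by
  rw [mem_inf_centralizer_iff] at hζ ⊢
  refine ⟨hg ζ hζ.1, fun w hw => ?_⟩
  have hc := hζ.2 _ (hg' w hw)
  calc w * (g * ζ * g⁻¹) = g * ((g⁻¹ * w * g) * ζ) * g⁻¹ := by group
    _ = g * (ζ * (g⁻¹ * w * g)) * g⁻¹ := by rw [hc]
    _ = g * ζ * g⁻¹ * w := by group

/-- **Central product decomposition.**  If `W = Ω₁(R)` is nonabelian of order `p ^ 3` and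
exponent `p`, and an odd-order `p'`-group `A` acts on `R` with `[R, A] = R`, then
`R = W * C_R(W)`. -/
theorem eq_mul_centralizer [Finite G] {p : ℕ} [Fact p.Prime]
    (R W A : Subgroup G) (hR : IsPGroup p R) (hWR : W ≤ R)
    (hWcard : Nat.card W = p ^ 3) (hWexp : ∀ w ∈ W, w ^ p = 1)
    (hWnc : ∃ u ∈ W, ∃ v ∈ W, u * v ≠ v * u)
    (hΩ : ∀ x ∈ R, x ^ p = 1 → x ∈ W)
    (hA : A ≤ normalizer (R : Set G)) (hcop : (Nat.card A).Coprime p) (hodd : Odd (Nat.card A))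
    (hRA : ⁅R, A⁆ = R) :
    Nat.card (W ⊓ centralizer (W : Set G) : Subgroup G) = p ∧
      (∀ u ∈ W, ∀ v ∈ W, ⁅u, v⁆ ∈ W ⊓ centralizer (W : Set G)) ∧
      ∀ r ∈ R, ∃ w ∈ W, ∃ c ∈ R, (∀ v ∈ W, c * v = v * c) ∧ r = w * c := by
  classical
  have hp : p.Prime := Fact.out
  have hRWc : ∀ r ∈ R, ∀ w ∈ W, r * w * r⁻¹ ∈ W := by
    intro r hr w hw
    apply hΩ _ (R.mul_mem (R.mul_mem hr (hWR hw)) (R.inv_mem hr))
    rw [← conj_pow_id, hWexp w hw]; group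
  have hRWc' : ∀ r ∈ R, ∀ w ∈ W, r⁻¹ * w * r ∈ W := by
    intro r hr w hw
    have := hRWc r⁻¹ (R.inv_mem hr) w hw
    rwa [inv_inv] at this
  set Z := W ⊓ centralizer (W : Set G) with hZdef
  have hmemZ : ∀ x, x ∈ Z ↔ x ∈ W ∧ ∀ w ∈ W, w * x = x * w := mem_inf_centralizer_iff W
  have hZW : Z ≤ W := inf_le_left
  have hnc' : ¬ ∀ a b : ↥W, a * b = b * a := by
    obtain ⟨u, hu, v, hv, huv⟩ := hWnc
    intro h
    exact huv (congrArg Subtype.val (h ⟨u, hu⟩ ⟨v, hv⟩))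
  obtain ⟨hcardC, hcommC, _, _⟩ := nonabelian_cube_basic hWcard hnc'
  have hZsub : Z.subgroupOf W = center ↥W := by
    ext x
    rw [Subgroup.mem_subgroupOf, hmemZ, Subgroup.mem_center_iff]
    constructor
    · intro hx g
      exact Subtype.ext (hx.2 g g.2)
    · intro hx
      exact ⟨x.2, fun w hw => congrArg Subtype.val (hx ⟨w, hw⟩)⟩
  have hZcard : Nat.card Z = p := by
    rw [← card_subgroupOf_of_le hZW, hZsub]; exact hcardC
  have hWW : ∀ u ∈ W, ∀ v ∈ W, ⁅u, v⁆ ∈ Z := by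
    intro u hu v hv
    have h1 : ⁅(⟨u, hu⟩ : ↥W), ⟨v, hv⟩⁆ ∈ commutator ↥W := by
      rw [commutator_def]
      exact Subgroup.commutator_mem_commutator (Subgroup.mem_top _) (Subgroup.mem_top _)
    rw [hcommC, ← hZsub, Subgroup.mem_subgroupOf] at h1
    exact h1
  have hRZc : ∀ r ∈ R, ∀ ζ ∈ Z, r * ζ * r⁻¹ ∈ Z := fun r hr ζ hζ =>
    conj_mem_inf_centralizer (hRWc r hr) (hRWc' r hr) hζ
  have hRnW : R ≤ normalizer (W : Set G) := le_normalizer_of_conj_mem W R hRWc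
  have hRnZ : R ≤ normalizer (Z : Set G) := le_normalizer_of_conj_mem Z R hRZc
  have hRnbot : R ≤ normalizer ((⊥ : Subgroup G) : Set G) := by
    apply le_normalizer_of_conj_mem
    intro g _ x hx
    rw [Subgroup.mem_bot] at hx ⊢
    rw [hx]; group
  have hZne : (⊥ : Subgroup G) ≠ Z := by
    intro h
    rw [← h, Subgroup.card_bot] at hZcard
    exact hp.one_lt.ne hZcard
  -- Z is central in R
  obtain ⟨N₁, _, hN₁Z, hN₁card, hN₁c⟩ :=
    step_central_sub R Z ⊥ hR (hZW.trans hWR) bot_le hZne hRnZ hRnbot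
  have hN₁ : N₁ = Z := by
    apply Subgroup.eq_of_le_of_card_ge hN₁Z
    rw [hN₁card, Subgroup.card_bot, mul_one, hZcard]
  have hZc : ∀ ζ ∈ Z, ∀ r ∈ R, ζ * r = r * ζ := by
    intro ζ hζ r hr
    have := hN₁c ζ (hN₁ ▸ hζ) r hr
    rw [Subgroup.mem_bot] at this
    have h2 : r * ζ = (r * ζ * r⁻¹ * ζ⁻¹) * (ζ * r) := by group
    rw [h2, this, one_mul]
  -- L
  have hZneW : Z ≠ W := by
    intro h
    rw [h, hWcard] at hZcard
    have : p ^ 3 = p ^ 1 := by rw [hZcard, pow_one]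
    have := Nat.pow_right_injective hp.two_le this
    omega
  obtain ⟨L, hZL, hLW, hLcard, hLc⟩ := step_central_sub R W Z hR hWR hZW hZneW hRnW hRnZ
  rw [hZcard] at hLcard
  have hLcard' : Nat.card L = p ^ 2 := by rw [hLcard, sq]
  have hRL : ∀ r ∈ R, ∀ l ∈ L, ⁅r, l⁆ ∈ Z := fun r hr l hl => hLc l hl r hr
  have hRLc : ∀ r ∈ R, ∀ l ∈ L, r * l * r⁻¹ ∈ L := by
    intro r hr l hl
    rw [conj_eq_comm_mul]
    exact L.mul_mem (hZL (hRL r hr l hl)) hl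
  have hRnL : R ≤ normalizer (L : Set G) := le_normalizer_of_conj_mem L R hRLc
  have hLneW : L ≠ W := by
    intro h
    rw [h, hWcard] at hLcard'
    have := Nat.pow_right_injective hp.two_le hLcard'
    omega
  obtain ⟨N₃, _, hN₃W, hN₃card, hN₃c⟩ := step_central_sub R W L hR hWR hLW hLneW hRnW hRnL
  have hN₃ : N₃ = W := by
    apply Subgroup.eq_of_le_of_card_ge hN₃W
    rw [hN₃card, hLcard', hWcard, pow_succ' p 2]
  have hRW : ∀ r ∈ R, ∀ w ∈ W, ⁅r, w⁆ ∈ L := fun r hr w hw => hN₃c w (hN₃ ▸ hw) r hr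
  have hLL : ∀ l ∈ L, ∀ l' ∈ L, l * l' = l' * l := by
    intro l hl l' hl'
    have hcomm := (IsPGroup.isMulCommutative_of_card_eq_prime_sq hLcard').is_comm.comm
    exact congrArg Subtype.val (hcomm ⟨l, hl⟩ ⟨l', hl'⟩)
  have hD : CubeData Z L W R :=
    { hZL := hZL, hLW := hLW, hWR := hWR, hZc := hZc, hWW := hWW, hRL := hRL, hRW := hRW,
      hLL := hLL }
  -- generators
  obtain ⟨m, hmW, hmL⟩ : ∃ m ∈ W, m ∉ L := by
    by_contra hcon
    apply hLneW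
    apply le_antisymm hLW
    intro w hw
    by_contra hwL
    exact hcon ⟨w, hw, hwL⟩
  obtain ⟨l₀, hl₀L, hl₀Z⟩ : ∃ l ∈ L, l ∉ Z := by
    by_contra hcon
    have hLZ : L = Z := by
      apply le_antisymm _ hZL
      intro w hw
      by_contra hwL
      exact hcon ⟨w, hw, hwL⟩
    rw [hLZ, hZcard] at hLcard'
    have : p ^ 1 = p ^ 2 := by rw [← hLcard', pow_one]
    have := Nat.pow_right_injective hp.two_le this
    omega
  have hWgen : ∀ w ∈ W, ∃ i : ℕ, ∃ l ∈ L, w = m ^ i * l :=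
    exists_pow_mul_of_relIndex_prime hp L W (hWR.trans hRnL)
      (relIndex_of_card_pow hp hLW hLcard' hWcard) hmW hmL
  have hLgen : ∀ l ∈ L, ∃ i : ℕ, ∃ ζ ∈ Z, l = l₀ ^ i * ζ :=
    exists_pow_mul_of_relIndex_prime hp Z L ((hLW.trans hWR).trans hRnZ)
      (relIndex_of_card_pow hp hZL (by rw [hZcard, pow_one]) hLcard') hl₀L hl₀Z
  have hz₀ : ⁅l₀, m⁆ ≠ 1 := by
    intro h1
    apply hl₀Z
    rw [hmemZ]
    refine ⟨hLW hl₀L, fun w hw => ?_⟩
    obtain ⟨i, l, hl, rfl⟩ := hWgen w hw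
    have hc1 : Commute l₀ (m ^ i) :=
      (show Commute l₀ m from (comm_eq_one_iff _ _).1 h1).pow_right i
    have hc2 : Commute l₀ l := hLL l₀ hl₀L l hl
    exact (hc1.mul_right hc2).symm
  have hz₀Z : ⁅l₀, m⁆ ∈ Z := hWW l₀ (hLW hl₀L) m hmW
  have hGen : CubeGen p Z L W R m l₀ :=
    { toData := hD, hm := hmW, hl₀ := hl₀L, hexp := hWexp, hWgen := hWgen, hLgen := hLgen,
      hZgen := exists_pow_eq_of_card_prime hp Z hZcard hz₀Z hz₀,
      hZmem := fun x hx hxc => (hmemZ x).2 ⟨hx, hxc⟩, hz₀ := hz₀ }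
  refine ⟨hZcard, hWW, ?_⟩
  by_cases hbad : ∃ r₀ ∈ R, ⁅⁅r₀, m⁆, m⁆ ≠ 1
  · obtain ⟨r₀, hr₀, hr₀E⟩ := hbad
    exact (bad_case_false A hGen hR hZcard hΩ hA hcop hodd hRA hr₀ hr₀E).elim
  · intro r hr
    have hE : ⁅⁅r, m⁆, m⁆ = 1 := by
      by_contra hne
      exact hbad ⟨r, hr, hne⟩
    exact hGen.stepIII hr (hGen.comm_mem_Z_of_E hr hE)

end Act

end Cfsg.Agent.Lib.Helper89
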