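import Mathlib
import Cfsg.Agent.Lib.Helper11.BG14DDefs
import Cfsg.Agent.Lib.Helper31.BG15KA
import Cfsg.Agent.Lib.Helper64.BG14K

/-!
# K-1370-S1 (keystone 137002, architect helper11): `kFacts`
-/

set_option autoImplicit false

namespace Cfsg.Agent.Lib.Helper89.BG14D

open Cfsg Subgroup Cfsg.Agent.Lib.Helper11.BG14D

variable {G : Type*} [Group G] [Finite G]

/-- a non-trivial finite subgroup has an element of prime order -/
theorem exists_prime_orderOf_of_ne_bot {K : Subgroup G} (hK1 : K ≠ ⊥) :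
    ∃ p : ℕ, p.Prime ∧ p ∣ Nat.card K ∧ ∃ k ∈ K, orderOf k = p := by
  have hcard : Nat.card K ≠ 1 := by
    intro h
    exact hK1 (Subgroup.card_eq_one.mp h)
  obtain ⟨p, hp, hpK⟩ := Nat.exists_prime_and_dvd hcard
  have : Fact p.Prime := ⟨hp⟩
  obtain ⟨k, hk⟩ := exists_prime_orderOf_dvd_card' (G := K) p hpK
  refine ⟨p, hp, hpK, (k : G), k.2, ?_⟩
  rw [Subgroup.orderOf_coe]
  exact hk

/-- in `⟨k⟩`, `k ≠ 1`, there is a subgroup of prime order -/
theorem exists_prime_card_le_zpowers {k : G} (hk1 : k ≠ 1) :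
    ∃ X : Subgroup G, X ≤ zpowers k ∧ (Nat.card X).Prime := by
  have ho : orderOf k ≠ 1 := by
    intro h
    exact hk1 (orderOf_eq_one_iff.mp h)
  obtain ⟨p, hp, hpk⟩ := Nat.exists_prime_and_dvd ho
  refine ⟨zpowers (k ^ (orderOf k / p)), ?_, ?_⟩
  · exact zpowers_le.mpr (Subgroup.pow_mem _ (mem_zpowers k) _)
  · rw [Nat.card_zpowers]
    have hpos : 0 < orderOf k := orderOf_pos k
    have hdiv : orderOf k / p ∣ orderOf k := Nat.div_dvd_of_dvd hpk
    rw [orderOf_pow_of_dvd (by
      intro h0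
      rw [h0] at hdiv
      exact hpos.ne' (Nat.eq_zero_of_zero_dvd hdiv)) hdiv, Nat.div_div_self hpk hpos.ne']
    exact hp

theorem kFacts (hG : IsMinSimpleOddOrder G) (h30 : H1430 G) (M : Subgroup G) (hM : IsCoatom M) (K U : Subgroup G)
    (hKU : IsSigmaDecomposition M K U) (hK1 : K ≠ ⊥) : KFacts M K := by
  obtain ⟨h1, -, h3⟩ := h30 M hM K hKU.hall hK1
  have hKM : K ≤ M := hKU.hall.1
  have hcomm : ∀ k ∈ K, ∀ k' ∈ K, k * k' = k' * k := by
    intro k hk k' hk'
    have := hKU.cyclic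
    obtain ⟨g, hg⟩ := IsCyclic.exists_generator (α := K)
    obtain ⟨a, ha⟩ := hg ⟨k, hk⟩
    obtain ⟨b, hb⟩ := hg ⟨k', hk'⟩
    have h : (⟨k, hk⟩ : K) * ⟨k', hk'⟩ = ⟨k', hk'⟩ * ⟨k, hk⟩ := by
      rw [← ha, ← hb]
      simp only [← zpow_add, add_comm]
    exact congrArg Subtype.val h
  have hKcent : ∀ k ∈ K, K ≤ centralizer ({k} : Set G) := by
    intro k hk x hx
    rw [mem_centralizer_singleton_iff]
    exact hcomm x hx k hk
  have hKscent : ∀ k ∈ K, Ks M K ≤ centralizer ({k} : Set G) := by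
    intro k hk
    exact inf_le_right.trans (centralizer_le (Set.singleton_subset_iff.mpr hk))
  have hKsM : Ks M K ≤ M := inf_le_left.trans (Cfsg.Agent.Lib.Helper71.BG11.sigmaCore_le M)
  have hcop : (Nat.card K).Coprime (Nat.card (Ks M K)) := by
    apply Nat.coprime_of_dvd
    intro p hp hpK hpS
    have h1' : p ∈ kappa M := hKU.hall.2.1 p hp hpK
    have hle : Ks M K ≤ sigmaCore M := inf_le_left
    have h2 : p ∈ sigma M :=
      Cfsg.Agent.Lib.Helper71.BG11.sigmaCore_pi hG hM hp (hpS.trans (Subgroup.card_dvd_of_le hle))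
    exact h1'.2.2.1 h2
  refine ⟨?_, hcop, ?_, hcomm, ?_⟩
  · -- Ks_ne
    obtain ⟨p, hp, hpK, k, hkK, hko⟩ := exists_prime_orderOf_of_ne_bot hK1
    have hpκ : p ∈ kappa M := hKU.hall.2.1 p hp hpK
    have hk1 : k ≠ 1 := by
      intro h
      rw [h, orderOf_one] at hko
      exact hp.one_lt.ne hko
    have hPK : zpowers k ≤ K := zpowers_le.mpr hkK
    have hPc : Nat.card (zpowers k) = p := by rw [Nat.card_zpowers, hko]
    have hne := Cfsg.Agent.Lib.Helper64.BG14.cent_ne_bot_of_mem_kappa hG hM hpκ (hPK.trans hKM) hPc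
    have hle : sigmaCore M ⊓ centralizer ((zpowers k : Subgroup G) : Set G) ≤
        sigmaCore M ⊓ centralizer ({k} : Set G) :=
      inf_le_inf_left _ (centralizer_le (Set.singleton_subset_iff.mpr (mem_zpowers k)))
    rw [h1 k hkK hk1] at hle
    intro hbot
    apply hne
    rw [eq_bot_iff]
    exact hle.trans hbot.le
  · -- inf_bot
    have h := Cfsg.Agent.Lib.Helper31.BG15.kappa_inf_sigmaCore hG hM hKU
    rw [eq_bot_iff, ← h]
    exact inf_le_inf_left _ inf_le_left
  · -- cent
    intro k hk hk1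
    apply le_antisymm
    · obtain ⟨X, hXk, hXp⟩ := exists_prime_card_le_zpowers hk1
      have hXK : X ≤ K := hXk.trans (zpowers_le.mpr hk)
      rw [← (h3 X hXK hXp).1]
      refine inf_le_inf_left _ ?_
      intro g hg
      rw [mem_centralizer_singleton_iff] at hg
      -- g commutes with k hence with all of ⟨k⟩ ⊇ X, so normalises X
      have hgX : ∀ x ∈ X, g * x * g⁻¹ = x := by
        intro x hx
        obtain ⟨n, rfl⟩ := mem_zpowers_iff.mp (hXk hx)
        have : g * k ^ n = k ^ n * g := by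
          have hc : Commute g k := hg
          exact (hc.zpow_right n).eq
        rw [this, mul_inv_cancel_right]
      rw [mem_normalizer_iff]
      intro x
      constructor
      · intro hx
        rw [hgX x hx]; exact hx
      · intro hx
        have hginv : ∀ y ∈ X, g⁻¹ * y * g = y := by
          intro y hy
          have := hgX y hy
          calc g⁻¹ * y * g = g⁻¹ * (g * y * g⁻¹) * g := by rw [this]
            _ = y := by group
        have h2 : g⁻¹ * (g * x * g⁻¹) * g = x := by group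
        rw [← h2, hginv _ hx]
        exact hx
    · exact sup_le (le_inf hKM (hKcent k hk)) (le_inf hKsM (hKscent k hk))

end Cfsg.Agent.Lib.Helper89.BG14D
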