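import Cfsg.Prelude.Def_FusionSystem
import Cfsg.Agent.Lib.Helper87.FusionBasic
import Mathlib.GroupTheory.Nilpotent

set_option autoImplicit false

namespace Cfsg.Agent.Lib.Helper89

open Cfsg Cfsg.FusionSystem Cfsg.Agent.Lib.Helper87

variable {Ω : Type*} [Group Ω] {S : Subgroup Ω}

/-! ### `Aut_F(P)` and `Aut_K(P)` are the sets that generate them -/

theorem mem_autGroup_iff (F : FusionSystem S) {P : Subgroup Ω} (hP : P ≤ S) (α : MulAut P) :
    α ∈ F.autGroup P ↔ P.subtype.comp α.toMonoidHom ∈ F.Hom P := by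
  constructor
  · intro h
    unfold FusionSystem.autGroup at h
    induction h using Subgroup.closure_induction with
    | mem a ha => exact ha
    | one => exact hom_congr F (subtype_mem F hP) (fun x => rfl)
    | mul a b _ _ ha hb =>
      refine comp_mem' F hb ha (fun x => (b x).2) (fun x => ?_)
      rfl
    | inv a _ ha =>
      have hr : (P.subtype.comp a.toMonoidHom).range = P := by
        ext y
        constructor
        · rintro ⟨x, rfl⟩
          exact (a x).2
        · intro hy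
          exact ⟨a.symm ⟨y, hy⟩, by simp⟩
      obtain ⟨ψ, hψ, hψx, -⟩ := inv_mem' F ha hr
      refine hom_congr F hψ (fun y => ?_)
      have := hψx (a⁻¹ y) y (by simp)
      rw [this]; rfl
  · intro h
    exact Subgroup.subset_closure h

theorem mem_autInducedBy_iff (K P : Subgroup Ω) (α : MulAut P) :
    α ∈ autInducedBy K P ↔ ∃ g ∈ K, ∀ x : P, ((α x : P) : Ω) = g * (x : Ω) * g⁻¹ := by
  constructor
  · intro h
    unfold autInducedBy at h
    induction h using Subgroup.closure_induction with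
    | mem a ha => exact ha
    | one => exact ⟨1, K.one_mem, fun x => by simp⟩
    | mul a b _ _ ha hb =>
      obtain ⟨g, hg, hga⟩ := ha
      obtain ⟨k, hk, hkb⟩ := hb
      refine ⟨g * k, K.mul_mem hg hk, fun x => ?_⟩
      show ((a (b x) : P) : Ω) = _
      rw [hga, hkb]; group
    | inv a _ ha =>
      obtain ⟨g, hg, hga⟩ := ha
      refine ⟨g⁻¹, K.inv_mem hg, fun x => ?_⟩
      have h1 := hga (a⁻¹ x)
      have h2 : a (a⁻¹ x) = x := by simp
      rw [h2] at h1
      rw [h1]; group
  · intro h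
    exact Subgroup.subset_closure h

/-- Conjugation by an element of `N_S(P)` is an `F`-automorphism of `P`. -/
theorem autInducedBy_le_autGroup (F : FusionSystem S) {P : Subgroup Ω} (hP : P ≤ S) :
    autInducedBy S P ≤ F.autGroup P := by
  intro α hα
  obtain ⟨g, hg, hgα⟩ := (mem_autInducedBy_iff S P α).mp hα
  rw [mem_autGroup_iff F hP]
  exact hom_congr F (F.conj_mem hP hg) (fun x => hgα x)

theorem inn_le_autInducedBy {P K : Subgroup Ω} (hP : P ≤ K) : Inn P ≤ autInducedBy K P := by
  rintro _ ⟨y, rfl⟩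
  rw [mem_autInducedBy_iff]
  exact ⟨y, hP y.2, fun x => rfl⟩

theorem inn_le_autGroup (F : FusionSystem S) {P : Subgroup Ω} (hP : P ≤ S) :
    Inn P ≤ F.autGroup P :=
  (inn_le_autInducedBy hP).trans (autInducedBy_le_autGroup F hP)

/-- A map of the system from `P` onto `P` is (the inclusion composed with) an `F`-automorphism. -/
theorem exists_aut_of_range_eq (F : FusionSystem S) {P : Subgroup Ω} {φ : P →* Ω}
    (hφ : φ ∈ F.Hom P) (hr : φ.range = P) :
    ∃ α : MulAut P, α ∈ F.autGroup P ∧ ∀ x : P, ((α x : P) : Ω) = φ x := by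
  have hmem : ∀ x : P, φ x ∈ P := fun x => by
    have h : φ x ∈ φ.range := ⟨x, rfl⟩
    rwa [hr] at h
  have hbij : Function.Bijective (φ.codRestrict P hmem) := by
    constructor
    · intro a b hab
      exact F.injective_of_mem hφ (congrArg Subtype.val hab)
    · rintro ⟨y, hy⟩
      have : y ∈ φ.range := by rw [hr]; exact hy
      obtain ⟨x, rfl⟩ := this
      exact ⟨x, rfl⟩
  refine ⟨MulEquiv.ofBijective (φ.codRestrict P hmem) hbij, ?_, fun x => rfl⟩
  rw [mem_autGroup_iff F (hom_le F hφ)]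
  exact hom_congr F hφ (fun x => rfl)

/-! ### Normalizers grow in finite `p`-groups -/

theorem exists_mem_normalizerIn_not_mem [Finite S] {p : ℕ} [Fact p.Prime] (hS : IsPGroup p S)
    {P : Subgroup Ω} (hP : P ≤ S) (hne : P ≠ S) :
    ∃ g ∈ normalizerIn S P, g ∉ P := by
  have : Group.IsNilpotent S := hS.isNilpotent
  have hlt : P.subgroupOf S < ⊤ := by
    rw [lt_top_iff_ne_top]
    intro h
    apply hne
    apply le_antisymm hP
    intro x hx
    have : (⟨x, hx⟩ : S) ∈ P.subgroupOf S := h ▸ Subgroup.mem_top _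
    exact Subgroup.mem_subgroupOf.mp this
  have h2 := Group.normalizerCondition_of_isNilpotent (G := S) (P.subgroupOf S) hlt
  obtain ⟨g, hgN, hgP⟩ := SetLike.exists_of_lt h2
  refine ⟨g, ?_, fun h => hgP (Subgroup.mem_subgroupOf.mpr h)⟩
  rw [mem_normalizerIn]
  refine ⟨g.2, fun x => ?_⟩
  rw [Subgroup.mem_normalizer_iff] at hgN
  constructor
  · intro hx
    have := (hgN ⟨x, hP hx⟩).mp (Subgroup.mem_subgroupOf.mpr hx)
    exact Subgroup.mem_subgroupOf.mp this
  · intro hx
    have hxS : x ∈ S := by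
      have h1 : (g : Ω)⁻¹ * ((g : Ω) * x * (g : Ω)⁻¹) * (g : Ω) ∈ S :=
        S.mul_mem (S.mul_mem (S.inv_mem g.2) (hP hx)) g.2
      have h2 : (g : Ω)⁻¹ * ((g : Ω) * x * (g : Ω)⁻¹) * (g : Ω) = x := by group
      rwa [h2] at h1
    have := (hgN ⟨x, hxS⟩).mpr (Subgroup.mem_subgroupOf.mpr hx)
    exact Subgroup.mem_subgroupOf.mp this


/-! ### Conjugation by a normalizing element -/

/-- Conjugation by a normalizing element, as an automorphism of `P`. -/
def conjAut (P : Subgroup Ω) (g : Ω) (hg : g ∈ Subgroup.normalizer (P : Set Ω)) : MulAut P where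
  toFun x := ⟨g * x * g⁻¹, (Subgroup.mem_normalizer_iff.mp hg x).mp x.2⟩
  invFun x := ⟨g⁻¹ * x * g, by
    have := (Subgroup.mem_normalizer_iff.mp (Subgroup.inv_mem _ hg) x).mp x.2
    simpa using this⟩
  left_inv x := Subtype.ext (by simp [mul_assoc])
  right_inv x := Subtype.ext (by simp [mul_assoc])
  map_mul' x y := Subtype.ext (by simp [mul_assoc])

@[simp] theorem conjAut_apply (P : Subgroup Ω) (g : Ω) (hg : g ∈ Subgroup.normalizer (P : Set Ω))
    (x : P) : ((conjAut P g hg x : P) : Ω) = g * x * g⁻¹ := rfl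

theorem conjAut_mem_autInducedBy {K P : Subgroup Ω} {g : Ω} (hgK : g ∈ K)
    (hg : g ∈ Subgroup.normalizer (P : Set Ω)) : conjAut P g hg ∈ autInducedBy K P :=
  (mem_autInducedBy_iff K P _).mpr ⟨g, hgK, fun _ => rfl⟩

/-- An element inducing an automorphism of `P` by conjugation normalizes `P`. -/
theorem mem_normalizer_of_conj_eq {P : Subgroup Ω} (c : MulAut P) {g : Ω}
    (hc : ∀ x : P, ((c x : P) : Ω) = g * (x : Ω) * g⁻¹) : g ∈ Subgroup.normalizer (P : Set Ω) := by
  rw [Subgroup.mem_normalizer_iff]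
  intro x
  constructor
  · intro hx
    rw [← hc ⟨x, hx⟩]; exact (c ⟨x, hx⟩).2
  · intro hx
    have h1 := hc (c.symm ⟨g * x * g⁻¹, hx⟩)
    rw [MulEquiv.apply_symm_apply] at h1
    have h2 : x = ((c.symm ⟨g * x * g⁻¹, hx⟩ : P) : Ω) := by
      have h3 : g * x * g⁻¹ = g * ((c.symm ⟨g * x * g⁻¹, hx⟩ : P) : Ω) * g⁻¹ := h1
      exact mul_left_cancel (mul_right_cancel h3)
    rw [h2]; exact (c.symm _).2

end Cfsg.Agent.Lib.Helper89
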