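import Cfsg.Agent.Lib.Helper89.FusionAut
import Cfsg.Agent.Lib.Helper88.FusionBasic

set_option autoImplicit false

namespace Cfsg.Agent.Lib.Helper89

open Cfsg Cfsg.FusionSystem Cfsg.Agent.Lib.Helper87

variable {Ω : Type*} [Group Ω] {S : Subgroup Ω}

theorem card_lt_of_mem_not_mem {P R : Subgroup Ω} [Finite R] (hPR : P ≤ R) {g : Ω} (hgR : g ∈ R)
    (hgP : g ∉ P) : Nat.card P < Nat.card R := by
  by_contra h
  have := Subgroup.eq_of_le_of_card_ge hPR (not_lt.mp h)
  exact hgP (this ▸ hgR)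

/-- The range of a map of the system has the same cardinality as the source. -/
theorem card_range_eq (F : FusionSystem S) {P : Subgroup Ω} {φ : P →* Ω} (hφ : φ ∈ F.Hom P) :
    Nat.card φ.range = Nat.card P :=
  (Nat.card_congr (Equiv.ofInjective φ (F.injective_of_mem hφ))).symm

theorem isConj_card_eq (F : FusionSystem S) {P Q : Subgroup Ω} (h : F.IsConj P Q) :
    Nat.card Q = Nat.card P := by
  obtain ⟨φ, hφ, rfl⟩ := h
  exact card_range_eq F hφ

/-- Every subgroup of `S` has a fully normalized conjugate. -/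
theorem exists_isConj_fullyNormalized [Finite S] (F : FusionSystem S) {P : Subgroup Ω} (hP : P ≤ S) :
    ∃ Q, F.IsConj P Q ∧ F.IsFullyNormalized Q := by
  have hfin : {Q : Subgroup Ω | F.IsConj P Q}.Finite :=
    (Cfsg.Agent.Lib.Helper88.finite_setOf_le (S := S)).subset (fun Q hQ => isConj_le_right F hQ)
  have hne : {Q : Subgroup Ω | F.IsConj P Q}.Nonempty := ⟨P, isConj_refl F hP⟩
  obtain ⟨Q, hQ, hmax⟩ := Set.exists_max_image _ (fun Q => Nat.card (normalizerIn S Q)) hfin hne
  refine ⟨Q, hQ, isConj_le_right F hQ, fun Q' hQ' => ?_⟩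
  exact hmax Q' (isConj_trans F hQ hQ')

/-- Every subgroup of `S` has a fully centralized conjugate. -/
theorem exists_isConj_fullyCentralized [Finite S] (F : FusionSystem S) {P : Subgroup Ω} (hP : P ≤ S) :
    ∃ Q, F.IsConj P Q ∧ F.IsFullyCentralized Q := by
  have hfin : {Q : Subgroup Ω | F.IsConj P Q}.Finite :=
    (Cfsg.Agent.Lib.Helper88.finite_setOf_le (S := S)).subset (fun Q hQ => isConj_le_right F hQ)
  have hne : {Q : Subgroup Ω | F.IsConj P Q}.Nonempty := ⟨P, isConj_refl F hP⟩
  obtain ⟨Q, hQ, hmax⟩ := Set.exists_max_image _ (fun Q => Nat.card (centralizerIn S Q)) hfin hne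
  refine ⟨Q, hQ, isConj_le_right F hQ, fun Q' hQ' => ?_⟩
  exact hmax Q' (isConj_trans F hQ hQ')

/-- `S` itself is fully normalized. -/
theorem isFullyNormalized_self [Finite S] (F : FusionSystem S) : F.IsFullyNormalized S := by
  refine ⟨le_rfl, fun Q hQ => ?_⟩
  have h1 : normalizerIn S Q ≤ S := normalizerIn_le S Q
  have h2 : S ≤ normalizerIn S S := le_normalizerIn le_rfl
  have : Finite (normalizerIn S S) := finite_of_le (normalizerIn_le S S)
  exact Subgroup.card_le_of_le (h1.trans h2)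

/-- A fully centralized subgroup containing its centralizer in `S` is centric. -/
theorem isCentric_of_fullyCentralized [Finite S] (F : FusionSystem S) {P : Subgroup Ω}
    (hfc : F.IsFullyCentralized P) (hC : centralizerIn S P ≤ P) : F.IsCentric P := by
  refine ⟨hfc.1, fun Q hQ => ?_⟩
  obtain ⟨φ, hφ, hr⟩ := hQ
  have hQS : Q ≤ S := isConj_le_right F ⟨φ, hφ, hr⟩
  have hcard := hfc.2 Q ⟨φ, hφ, hr⟩
  -- the image of C_S(P) (= Z(P)) under φ lies in Q ∩ C_S(Q)
  let Z : Subgroup Ω := ((centralizerIn S P).subgroupOf P).map φ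
  have hZQ : Z ≤ Q ⊓ centralizerIn S Q := by
    rintro _ ⟨x, hx, rfl⟩
    have hxC : (x : Ω) ∈ centralizerIn S P := Subgroup.mem_subgroupOf.mp hx
    refine ⟨hr ▸ ⟨x, rfl⟩, hom_mem F hφ x, ?_⟩
    show φ x ∈ Subgroup.centralizer (Q : Set Ω)
    rw [Subgroup.mem_centralizer_iff]
    intro y hy
    have hy' : y ∈ φ.range := by rw [hr]; exact hy
    obtain ⟨y', rfl⟩ := hy'
    have hc : (y' : Ω) * (x : Ω) = (x : Ω) * (y' : Ω) :=
      (Subgroup.mem_centralizer_iff.mp hxC.2) y' y'.2
    have hc' : y' * x = x * y' := Subtype.ext hc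
    rw [← map_mul, ← map_mul, hc']
  have hZcard : Nat.card Z = Nat.card (centralizerIn S P) := by
    have h1 : Nat.card Z = Nat.card ((centralizerIn S P).subgroupOf P) :=
      (Nat.card_congr (((centralizerIn S P).subgroupOf P).equivMapOfInjective φ
        (F.injective_of_mem hφ)).toEquiv).symm
    rw [h1]
    exact Nat.card_congr (Subgroup.subgroupOfEquivOfLe hC).toEquiv
  have : Finite (centralizerIn S Q) := finite_of_le (centralizerIn_le S Q)
  have hle : Z ≤ centralizerIn S Q := hZQ.trans inf_le_right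
  have heq : Z = centralizerIn S Q :=
    Subgroup.eq_of_le_of_card_ge hle (by rw [hZcard]; exact hcard)
  rw [← heq]
  exact hZQ.trans inf_le_left

end Cfsg.Agent.Lib.Helper89
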