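import Cfsg.Agent.Lib.Helper89.Alperin

set_option autoImplicit false

namespace Cfsg.Agent.Lib.Helper89

open Cfsg Cfsg.FusionSystem Cfsg.Agent.Lib.Helper87

variable {Ω : Type*} [Group Ω] {S : Subgroup Ω}

/-- The generation step behind Alperin's theorem, for an arbitrary subgroup `B'` of `Aut(P)` that contains
`Inn(P)` and every `F`-automorphism whose extender is strictly larger than `P`: the image of `B'` in
`Out_F(P)` contains the normalizers of all nontrivial subgroups of `Out_S(P)`. -/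
theorem kGeneratedCore_le_map_of_extender [Finite S] {p : ℕ} [Fact p.Prime]
    {F : FusionSystem S} {P : Subgroup Ω} (hP : P ≤ S)
    (B' : Subgroup (MulAut P))
    (hext : ∀ α ∈ F.autGroup P, ∀ g ∈ extender S P (P.subtype.comp α.toMonoidHom), g ∉ P → α ∈ B')
    (T₀ : Subgroup (F.autGroup P ⧸ (Inn P).subgroupOf (F.autGroup P)))
    (hT₀ : T₀ = ((autInducedBy S P).subgroupOf (F.autGroup P)).map
      (QuotientGroup.mk' ((Inn P).subgroupOf (F.autGroup P)))) :
    kGeneratedCore p 1 T₀ ≤ (B'.subgroupOf (F.autGroup P)).map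
      (QuotientGroup.mk' ((Inn P).subgroupOf (F.autGroup P))) := by
  classical
  let A : Subgroup (MulAut P) := F.autGroup P
  let I : Subgroup A := (Inn P).subgroupOf A
  let π : A →* A ⧸ I := QuotientGroup.mk' I
  have hπ : Function.Surjective π := QuotientGroup.mk'_surjective I
  unfold kGeneratedCore
  refine iSup_le ?_
  rintro ⟨Q', hQ'T, hQ'rk⟩
  intro ā hā
  obtain ⟨a, rfl⟩ := hπ ā
  refine ⟨a, ?_, rfl⟩
  obtain ⟨q, hqQ, hq1⟩ := exists_ne_one_of_not_pRankLE_zero Q' hQ'rk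
  have hqT : q ∈ ((autInducedBy S P).subgroupOf A).map π := hT₀ ▸ hQ'T hqQ
  obtain ⟨c, hcS, rfl⟩ := hqT
  have hcS' : (c : MulAut P) ∈ autInducedBy S P := Subgroup.mem_subgroupOf.mp hcS
  obtain ⟨g, hgS, hgc⟩ := (mem_autInducedBy_iff S P c).mp hcS'
  have hgn : g ∈ Subgroup.normalizer (P : Set Ω) := mem_normalizer_of_conj_eq (c : MulAut P) hgc
  have hgP : g ∉ P := by
    intro hgP
    apply hq1
    have : c ∈ I := by
      refine Subgroup.mem_subgroupOf.mpr ⟨⟨g, hgP⟩, ?_⟩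
      ext x
      rw [hgc]; rfl
    exact (QuotientGroup.eq_one_iff _).mpr this
  have hconj : π a * π c * (π a)⁻¹ ∈ Q' := (Subgroup.mem_normalizer_iff.mp hā (π c)).mp hqQ
  have hconjT : π (a * c * a⁻¹) ∈ ((autInducedBy S P).subgroupOf A).map π := by
    rw [map_mul, map_mul, map_inv]
    exact hT₀ ▸ hQ'T hconj
  obtain ⟨c', hc'S, hc'⟩ := hconjT
  have hi : c'⁻¹ * (a * c * a⁻¹) ∈ I := QuotientGroup.eq.mp hc'
  have hc'S' : (c' : MulAut P) ∈ autInducedBy S P := Subgroup.mem_subgroupOf.mp hc'S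
  have hiS : ((c'⁻¹ * (a * c * a⁻¹) : A) : MulAut P) ∈ autInducedBy S P :=
    inn_le_autInducedBy hP (Subgroup.mem_subgroupOf.mp hi)
  have hacaS : ((a : MulAut P) * c * (a : MulAut P)⁻¹) ∈ autInducedBy S P := by
    have := (autInducedBy S P).mul_mem hc'S' hiS
    simpa [mul_assoc] using this
  obtain ⟨k, hkS, hk⟩ := (mem_autInducedBy_iff S P _).mp hacaS
  have hgext : g ∈ extender S P (P.subtype.comp (a : MulAut P).toMonoidHom) := by
    rw [mem_extender_iff]
    refine ⟨hgS, hgn, k, hkS, fun x hx => ?_⟩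
    have e : (⟨g * (x : Ω) * g⁻¹, hx⟩ : P) = (c : MulAut P) x := Subtype.ext (hgc x).symm
    rw [e]
    have := hk ((a : MulAut P) x)
    simpa using this
  exact Subgroup.mem_subgroupOf.mpr (hext a a.2 g hgext hgP)


/-- For a fully normalized, fully automized, centric, non-essential `P ≠ S`: any subgroup `B'` of `Aut(P)`
containing `Inn(P)` and every `F`-automorphism whose extender is strictly larger than `P` contains
`Aut_F(P)`. -/
theorem autGroup_le_of_extender_of_not_essential [Finite S] {p : ℕ} [Fact p.Prime] (hS : IsPGroup p S)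
    {F : FusionSystem S} {P : Subgroup Ω} (hfn : F.IsFullyNormalized P)
    (hfa : F.IsFullyAutomized p P) (hcen : F.IsCentric P) (hne : P ≠ S)
    (hess : ¬ F.IsEssential p P) (B' : Subgroup (MulAut P)) (hInn : Inn P ≤ B')
    (hext : ∀ α ∈ F.autGroup P, ∀ g ∈ extender S P (P.subtype.comp α.toMonoidHom), g ∉ P → α ∈ B') :
    F.autGroup P ≤ B' := by
  classical
  have hP : P ≤ S := hfn.1
  have : Finite P := finite_of_le hP
  let A : Subgroup (MulAut P) := F.autGroup P
  let I : Subgroup A := (Inn P).subgroupOf A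
  let π : A →* A ⧸ I := QuotientGroup.mk' I
  have hπ : Function.Surjective π := QuotientGroup.mk'_surjective I
  let B : Subgroup A := B'.subgroupOf A
  have hIB : I ≤ B := fun a ha =>
    Subgroup.mem_subgroupOf.mpr (hInn (Subgroup.mem_subgroupOf.mp ha))
  obtain ⟨R, hR⟩ := hfa.2
  let T₀ : Sylow p (A ⧸ I) := R.mapSurjective hπ
  have hT₀ : (T₀ : Subgroup (A ⧸ I)) = ((autInducedBy S P).subgroupOf A).map π := by
    rw [Sylow.coe_mapSurjective, hR]
  have hpdvd : p ∣ Nat.card (A ⧸ I) := by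
    obtain ⟨c, hcS, hcI⟩ := exists_autInducedBy_not_inn hS F hcen hne
    have hcA : c ∈ A := autInducedBy_le_autGroup F hP hcS
    have hmem : π ⟨c, hcA⟩ ∈ (T₀ : Subgroup (A ⧸ I)) := by
      rw [hT₀]; exact ⟨⟨c, hcA⟩, Subgroup.mem_subgroupOf.mpr hcS, rfl⟩
    have hne1 : π ⟨c, hcA⟩ ≠ 1 := by
      intro h1
      apply hcI
      have : (⟨c, hcA⟩ : A) ∈ I := (QuotientGroup.eq_one_iff _).mp h1
      exact Subgroup.mem_subgroupOf.mp this
    have hT₀ne : (T₀ : Subgroup (A ⧸ I)) ≠ ⊥ := fun hb =>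
      hne1 (by rw [hb] at hmem; exact Subgroup.mem_bot.mp hmem)
    obtain ⟨k, hk⟩ := (IsPGroup.iff_card).mp T₀.2
    have hk0 : k ≠ 0 := by
      rintro rfl
      exact hT₀ne (Subgroup.card_eq_one.mp (by simpa using hk))
    have hd : p ∣ Nat.card (T₀ : Subgroup (A ⧸ I)) := by rw [hk]; exact dvd_pow_self p hk0
    exact hd.trans (Subgroup.card_subgroup_dvd_card _)
  have hK : kGeneratedCore p 1 (T₀ : Subgroup (A ⧸ I)) = ⊤ := by
    by_contra hK
    exact hess ⟨hcen, hfn, inferInstance, kGeneratedCore p 1 (T₀ : Subgroup (A ⧸ I)), hpdvd, hK,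
      T₀, le_rfl⟩
  have hBtop : B.map π = ⊤ := by
    rw [eq_top_iff, ← hK]
    exact kGeneratedCore_le_map_of_extender hP B' hext _ hT₀
  intro α hα
  have : (⟨α, hα⟩ : A) ∈ B := by
    have hmem : π ⟨α, hα⟩ ∈ B.map π := hBtop ▸ Subgroup.mem_top _
    obtain ⟨b, hb, hbe⟩ := hmem
    have hi : b⁻¹ * ⟨α, hα⟩ ∈ I := QuotientGroup.eq.mp hbe
    have : (⟨α, hα⟩ : A) = b * (b⁻¹ * ⟨α, hα⟩) := by group
    rw [this]
    exact B.mul_mem hb (hIB hi)
  exact Subgroup.mem_subgroupOf.mp this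

end Cfsg.Agent.Lib.Helper89
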