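import Cfsg.Agent.Lib.Helper89.FusionConj
import Cfsg.Agent.Lib.Helper87.FusionNormalizer
import Cfsg.Agent.Lib.Helper52.PCore

set_option autoImplicit false

namespace Cfsg.Agent.Lib.Helper89

open Cfsg Cfsg.FusionSystem Cfsg.Agent.Lib.Helper87

variable {Ω : Type*} [Group Ω] {S : Subgroup Ω}

/-- If conjugation by `g ∈ N_S(P)` is an inner automorphism of the centric subgroup `P`, then `g ∈ P`. -/
theorem mem_of_conjAut_mem_inn (F : FusionSystem S) {P : Subgroup Ω} (hcen : F.IsCentric P)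
    {g : Ω} (hgS : g ∈ S) (hgn : g ∈ Subgroup.normalizer (P : Set Ω))
    (h : conjAut P g hgn ∈ Inn P) : g ∈ P := by
  have hP : P ≤ S := hcen.1
  obtain ⟨y, hy⟩ := h
  have hcent : (y : Ω)⁻¹ * g ∈ centralizerIn S P := by
    refine mem_centralizerIn.mpr ⟨S.mul_mem (S.inv_mem (hP y.2)) hgS, ?_⟩
    intro x hx
    have h1 : ((MulAut.conj y) ⟨x, hx⟩ : P) = conjAut P g hgn ⟨x, hx⟩ := by rw [hy]
    have h2 : (y : Ω) * x * (y : Ω)⁻¹ = g * x * g⁻¹ := congrArg Subtype.val h1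
    calc x * ((y : Ω)⁻¹ * g) = (y : Ω)⁻¹ * ((y : Ω) * x * (y : Ω)⁻¹) * g := by group
      _ = (y : Ω)⁻¹ * (g * x * g⁻¹) * g := by rw [h2]
      _ = (y : Ω)⁻¹ * g * x := by group
  have h3 : (y : Ω)⁻¹ * g ∈ P := hcen.2 P (isConj_refl F hP) hcent
  have h4 : g = (y : Ω) * ((y : Ω)⁻¹ * g) := by group
  rw [h4]
  exact P.mul_mem y.2 h3

/-- The image of a subgroup under an automorphism that maps it into itself, together with the same for
the inverse, is the subgroup itself. -/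
theorem map_eq_of_forall_le {G : Type*} [Group G] (A : Subgroup (MulAut G)) (H : Subgroup G)
    (h : ∀ α ∈ A, H.map (α : MulAut G).toMonoidHom ≤ H) (α : MulAut G) (hα : α ∈ A) :
    H.map α.toMonoidHom = H := by
  apply le_antisymm (h α hα)
  intro x hx
  have h1 := h α⁻¹ (A.inv_mem hα) ⟨x, hx, rfl⟩
  exact ⟨(α⁻¹ : MulAut G) x, h1, by simp⟩

/-- A subgroup normal in `F` is strongly closed in `F`. -/
theorem IsNormal.stronglyClosed {F : FusionSystem S} {Q : Subgroup Ω} (hQ : F.IsNormal Q) :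
    F.StronglyClosed Q := by
  refine ⟨hQ.1, fun R hRQ φ hφ x => ?_⟩
  obtain ⟨ψ, -, hext, hmap⟩ := hQ.2 R φ hφ
  rw [← hext x]
  have : ψ (Subgroup.inclusion le_sup_left x) ∈ (Q.subgroupOf (R ⊔ Q)).map ψ :=
    ⟨_, Subgroup.mem_subgroupOf.mpr (hRQ x.2), rfl⟩
  rwa [hmap] at this

/-- `F`-automorphisms of a subgroup `P ≤ S` stabilize the intersection with a strongly closed subgroup. -/
theorem stronglyClosed_map_aut_eq {F : FusionSystem S} {Q : Subgroup Ω} (hQ : F.StronglyClosed Q)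
    {P : Subgroup Ω} (hP : P ≤ S) (α : MulAut P) (hα : α ∈ F.autGroup P) :
    (Q.subgroupOf P).map α.toMonoidHom = Q.subgroupOf P := by
  refine map_eq_of_forall_le (F.autGroup P) _ (fun β hβ => ?_) α hα
  rintro _ ⟨x, hx, rfl⟩
  have hxQ : (x : Ω) ∈ Q := Subgroup.mem_subgroupOf.mp hx
  have hφ := (mem_autGroup_iff F hP β).mp hβ
  have hsc := hQ.2 (Q ⊓ P) inf_le_left _
    (restrict_mem F (inf_le_right : Q ⊓ P ≤ P) hφ) ⟨x, hxQ, x.2⟩
  exact Subgroup.mem_subgroupOf.mpr hsc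

/-- `F`-automorphisms of an overgroup of a normal subgroup `Q` stabilize `Q`. -/
theorem IsNormal.map_aut_eq {F : FusionSystem S} {Q : Subgroup Ω} (hQ : F.IsNormal Q)
    {P : Subgroup Ω} (hP : P ≤ S) (α : MulAut P) (hα : α ∈ F.autGroup P) :
    (Q.subgroupOf P).map α.toMonoidHom = Q.subgroupOf P :=
  stronglyClosed_map_aut_eq (IsNormal.stronglyClosed hQ) hP α hα

/-- A subgroup normal in `F` is contained in every centric radical subgroup. -/
theorem IsNormal.le_of_centric_radical [Finite S] {p : ℕ} [Fact p.Prime] (hS : IsPGroup p S)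
    {F : FusionSystem S} {Q : Subgroup Ω} (hQ : F.IsNormal Q) {P : Subgroup Ω}
    (hcen : F.IsCentric P) (hrad : F.IsRadical p P) : Q ≤ P := by
  have hP : P ≤ S := hcen.1
  have hPQS : P ⊔ Q ≤ S := sup_le hP hQ.1
  by_contra hQP
  have hne : P ≠ P ⊔ Q := fun h => hQP (h ▸ le_sup_right)
  have : Finite (P ⊔ Q : Subgroup Ω) := finite_of_le hPQS
  have hpg : IsPGroup p (P ⊔ Q : Subgroup Ω) := hS.to_le hPQS
  obtain ⟨g, hgN, hgP⟩ := exists_mem_normalizerIn_not_mem hpg (le_sup_left : P ≤ P ⊔ Q) hne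
  have hgPQ : g ∈ P ⊔ Q := hgN.1
  have hgn : g ∈ Subgroup.normalizer (P : Set Ω) := hgN.2
  -- D = Aut_{PQ}(P) is a normal p-subgroup of Aut_F(P)
  let A := F.autGroup P
  let D : Subgroup (MulAut P) := autInducedBy (P ⊔ Q) P
  have hDA : D ≤ A := by
    intro d hd
    obtain ⟨k, hk, hkd⟩ := (mem_autInducedBy_iff _ P d).mp hd
    exact autInducedBy_le_autGroup F hP ((mem_autInducedBy_iff S P d).mpr ⟨k, hPQS hk, hkd⟩)
  have hDp : IsPGroup p D := by
    rintro ⟨d, hd⟩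
    obtain ⟨k, hk, hkd⟩ := (mem_autInducedBy_iff _ P d).mp hd
    obtain ⟨n, hn⟩ := hpg ⟨k, hk⟩
    refine ⟨n, Subtype.ext ?_⟩
    have hpow : ∀ m : ℕ, ∀ x : P, (((d ^ m) x : P) : Ω) = k ^ m * (x : Ω) * (k ^ m)⁻¹ := by
      intro m
      induction m with
      | zero => intro x; simp
      | succ m ih =>
        intro x
        rw [pow_succ, MulAut.mul_apply, ih, hkd, pow_succ]
        group
    have hk1 : k ^ p ^ n = 1 := congrArg Subtype.val hn
    ext x
    show (((d ^ p ^ n) x : P) : Ω) = x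
    rw [hpow, hk1]; simp
  have hDnorm : (D.subgroupOf A).Normal := by
    constructor
    intro d hd a
    have hdD : (d : MulAut P) ∈ D := Subgroup.mem_subgroupOf.mp hd
    obtain ⟨k, hk, hkd⟩ := (mem_autInducedBy_iff _ P _).mp hdD
    have hφ := (mem_autGroup_iff F hP _).mp a.2
    obtain ⟨ψ, hψ, hext, hmap⟩ := hQ.2 P _ hφ
    -- ψ maps P ⊔ Q into itself
    have hψPQ : ∀ y : (P ⊔ Q : Subgroup Ω), ψ y ∈ P ⊔ Q := by
      refine sup_hom_mem ψ (fun x => ?_) (fun x => ?_)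
      · rw [hext x]; exact (le_sup_left : P ≤ P ⊔ Q) ((a : MulAut P) x).2
      · have : ψ (Subgroup.inclusion le_sup_right x) ∈ (Q.subgroupOf (P ⊔ Q)).map ψ :=
          ⟨_, Subgroup.mem_subgroupOf.mpr x.2, rfl⟩
        rw [hmap] at this
        exact (le_sup_right : Q ≤ P ⊔ Q) this
    refine Subgroup.mem_subgroupOf.mpr ((mem_autInducedBy_iff _ P _).mpr
      ⟨ψ ⟨k, hk⟩, hψPQ _, fun y => ?_⟩)
    -- compute (a d a⁻¹) y
    set x : P := (a : MulAut P)⁻¹ y with hx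
    have hax : (a : MulAut P) x = y := by simp [hx]
    have h1 : (((a * d * a⁻¹ : A) : MulAut P) y) = (a : MulAut P) ((d : MulAut P) x) := rfl
    rw [h1]
    have hdx : (((d : MulAut P) x : P) : Ω) = k * (x : Ω) * k⁻¹ := hkd x
    have h2 : (((a : MulAut P) ((d : MulAut P) x) : P) : Ω) =
        ψ (Subgroup.inclusion le_sup_left ((d : MulAut P) x)) := (hext _).symm
    rw [h2]
    have h3 : Subgroup.inclusion (le_sup_left : P ≤ P ⊔ Q) ((d : MulAut P) x) =
        ⟨k, hk⟩ * Subgroup.inclusion le_sup_left x * ⟨k, hk⟩⁻¹ := Subtype.ext hdx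
    rw [h3, map_mul, map_mul, map_inv, hext x]
    show ψ ⟨k, hk⟩ * (((a : MulAut P) x : P) : Ω) * (ψ ⟨k, hk⟩)⁻¹ = _
    rw [hax]
  have hDcore : D.subgroupOf A ≤ pCore p A :=
    Cfsg.Agent.Lib.Helper52.le_pCore hDnorm (hDp.comap_subtype)
  have hDInn : D ≤ Inn P := by
    intro d hd
    have : (⟨d, hDA hd⟩ : A) ∈ pCore p A := hDcore (Subgroup.mem_subgroupOf.mpr hd)
    rw [← hrad.2]
    exact ⟨⟨d, hDA hd⟩, this, rfl⟩
  exact hgP (mem_of_conjAut_mem_inn F hcen (hPQS hgPQ) hgn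
    (hDInn (conjAut_mem_autInducedBy hgPQ hgn)))

end Cfsg.Agent.Lib.Helper89
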