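import Cfsg.Agent.Lib.Helper89.FusionConj
import Mathlib.GroupTheory.Sylow

set_option autoImplicit false

namespace Cfsg.Agent.Lib.Helper89

open Cfsg Cfsg.FusionSystem Cfsg.Agent.Lib.Helper87

variable {Ω : Type*} [Group Ω] {S : Subgroup Ω}

/-- The inductive hypothesis of Alperin's theorem at `P`: all maps of `F` with a strictly larger source
are maps of `E`. -/
def AlpIH (F E : FusionSystem S) (P : Subgroup Ω) : Prop :=
  ∀ R : Subgroup Ω, R ≤ S → Nat.card P < Nat.card R → F.Hom R ⊆ E.Hom R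

theorem AlpIH.of_card_eq {F E : FusionSystem S} {P P' : Subgroup Ω} (h : AlpIH F E P)
    (hc : Nat.card P' = Nat.card P) : AlpIH F E P' := by
  intro R hR hlt
  exact h R hR (hc ▸ hlt)

/-- A map of `F` that extends to a strictly larger subgroup is a map of `E` (under the inductive hypothesis). -/
theorem AlpIH.mem_of_extends [Finite S] {F E : FusionSystem S} {P : Subgroup Ω} (h : AlpIH F E P)
    {φ : P →* Ω} {R : Subgroup Ω} (hPR : P ≤ R) {g : Ω} (hgR : g ∈ R) (hgP : g ∉ P)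
    {ψ : R →* Ω} (hψ : ψ ∈ F.Hom R) (hext : ∀ x : P, ψ (Subgroup.inclusion hPR x) = φ x) :
    φ ∈ E.Hom P := by
  have hRS : R ≤ S := hom_le F hψ
  have : Finite R := finite_of_le hRS
  have hlt : Nat.card P < Nat.card R := card_lt_of_mem_not_mem hPR hgR hgP
  have hψE : ψ ∈ E.Hom R := h R hRS hlt hψ
  exact hom_congr E (restrict_mem E hPR hψE) (fun x => (hext x).symm)

/-- An `F`-automorphism of a receptive subgroup whose extender is strictly larger is an `E`-automorphism. -/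
theorem AlpIH.aut_mem_of_extender [Finite S] {F E : FusionSystem S} {P : Subgroup Ω}
    (h : AlpIH F E P) (hrec : F.IsReceptive P) {α : MulAut P} (hα : α ∈ F.autGroup P)
    {g : Ω} (hg : g ∈ extender S P (P.subtype.comp α.toMonoidHom)) (hgP : g ∉ P) :
    α ∈ E.autGroup P := by
  have hP : P ≤ S := hrec.1
  have hφ : P.subtype.comp α.toMonoidHom ∈ F.Hom P := (mem_autGroup_iff F hP α).mp hα
  have hr : (P.subtype.comp α.toMonoidHom).range = P := by
    ext y
    constructor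
    · rintro ⟨x, rfl⟩
      exact (α x).2
    · intro hy
      exact ⟨α.symm ⟨y, hy⟩, by simp⟩
  obtain ⟨ψ, hψ, hψext⟩ := hrec.2 P _ hφ hr
  have hPN : P ≤ extender S P (P.subtype.comp α.toMonoidHom) :=
    le_extender hP (fun x => hP (α x).2)
  rw [mem_autGroup_iff E hP]
  refine h.mem_of_extends hPN hg hgP hψ (fun x => ?_)
  exact hψext x x.2 (hPN x.2)



/-- Non-centric case. -/
theorem AlpIH.aut_le_of_not_centric [Finite S] {p : ℕ}
    {F E : FusionSystem S}
    (h1 : ∀ P : Subgroup Ω, F.IsFullyNormalized P → F.IsFullyCentralized P ∧ F.IsFullyAutomized p P)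
    (h2 : ∀ P : Subgroup Ω, F.IsFullyCentralized P → F.IsReceptive P)
    {P : Subgroup Ω} (hfn : F.IsFullyNormalized P) (h : AlpIH F E P) (hcen : ¬ F.IsCentric P) :
    F.autGroup P ≤ E.autGroup P := by
  intro α hα
  obtain ⟨hfc, -⟩ := h1 P hfn
  have hrec := h2 P hfc
  have hC : ¬ centralizerIn S P ≤ P := fun hC => hcen (isCentric_of_fullyCentralized F hfc hC)
  obtain ⟨g, hgC, hgP⟩ := SetLike.not_le_iff_exists.mp hC
  exact h.aut_mem_of_extender hrec hα (centralizerIn_le_extender S P _ hgC) hgP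

/-- For a centric subgroup `P ≠ S` of a finite `p`-group, `p` divides `|Out_F(P)|`;
more precisely `Aut_S(P)` is not contained in `Inn(P)`. -/
theorem exists_autInducedBy_not_inn [Finite S] {p : ℕ} [Fact p.Prime] (hS : IsPGroup p S)
    (F : FusionSystem S) {P : Subgroup Ω} (hcen : F.IsCentric P) (hne : P ≠ S) :
    ∃ c ∈ autInducedBy S P, c ∉ Inn P := by
  have hP : P ≤ S := hcen.1
  obtain ⟨g, hgN, hgP⟩ := exists_mem_normalizerIn_not_mem hS hP hne
  have hgS : g ∈ S := hgN.1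
  have hgn : g ∈ Subgroup.normalizer (P : Set Ω) := hgN.2
  refine ⟨conjAut P g hgn, conjAut_mem_autInducedBy hgS hgn, ?_⟩
  rintro ⟨y, hy⟩
  apply hgP
  have hcent : (y : Ω)⁻¹ * g ∈ centralizerIn S P := by
    refine mem_centralizerIn.mpr ⟨S.mul_mem (S.inv_mem (hP y.2)) hgS, ?_⟩
    intro x hx
    have h1 : ((MulAut.conj y) ⟨x, hx⟩ : P) = conjAut P g hgn ⟨x, hx⟩ := by rw [hy]
    have h2 : (y : Ω) * x * (y : Ω)⁻¹ = g * x * g⁻¹ := congrArg Subtype.val h1
    calc x * ((y : Ω)⁻¹ * g) = (y : Ω)⁻¹ * ((y : Ω) * x * (y : Ω)⁻¹) * g := by group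
      _ = (y : Ω)⁻¹ * (g * x * g⁻¹) * g := by rw [h2]
      _ = (y : Ω)⁻¹ * g * x := by group
  have h3 : (y : Ω)⁻¹ * g ∈ P := hcen.2 P (isConj_refl F hP) hcent
  have h4 : g = (y : Ω) * ((y : Ω)⁻¹ * g) := by group
  rw [h4]
  exact P.mul_mem y.2 h3



theorem exists_ne_one_of_not_pRankLE_zero {X : Type*} [Group X] {p : ℕ} (Q : Subgroup X)
    (h : ¬ PRankLE p 0 Q) : ∃ q ∈ Q, q ≠ 1 := by
  by_contra hcon0
  have hcon : ∀ q ∈ Q, q = 1 := fun q hq => by
    by_contra hq1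
    exact hcon0 ⟨q, hq, hq1⟩
  apply h
  intro A' _ _
  have : Subsingleton Q := ⟨fun x y => Subtype.ext ((hcon x x.2).trans (hcon y y.2).symm)⟩
  have : Subsingleton A' := inferInstance
  simp

/-- Centric, not essential case. -/
theorem AlpIH.aut_le_of_centric_not_essential [Finite S] {p : ℕ} [Fact p.Prime] (hS : IsPGroup p S)
    {F E : FusionSystem S}
    (h1 : ∀ P : Subgroup Ω, F.IsFullyNormalized P → F.IsFullyCentralized P ∧ F.IsFullyAutomized p P)
    (h2 : ∀ P : Subgroup Ω, F.IsFullyCentralized P → F.IsReceptive P)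
    {P : Subgroup Ω} (hfn : F.IsFullyNormalized P) (h : AlpIH F E P) (hcen : F.IsCentric P)
    (hne : P ≠ S) (hess : ¬ F.IsEssential p P) :
    F.autGroup P ≤ E.autGroup P := by
  classical
  have hP : P ≤ S := hfn.1
  obtain ⟨hfc, hfa⟩ := h1 P hfn
  have hrec := h2 P hfc
  have : Finite P := finite_of_le hP
  let A : Subgroup (MulAut P) := F.autGroup P
  let I : Subgroup A := (Inn P).subgroupOf A
  let π : A →* A ⧸ I := QuotientGroup.mk' I
  have hπ : Function.Surjective π := QuotientGroup.mk'_surjective I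
  let B : Subgroup A := (E.autGroup P).subgroupOf A
  have hIB : I ≤ B := fun a ha =>
    Subgroup.mem_subgroupOf.mpr (inn_le_autGroup E hP (Subgroup.mem_subgroupOf.mp ha))
  obtain ⟨R, hR⟩ := hfa.2
  let T₀ : Sylow p (A ⧸ I) := R.mapSurjective hπ
  have hT₀ : (T₀ : Subgroup (A ⧸ I)) = ((autInducedBy S P).subgroupOf A).map π := by
    rw [Sylow.coe_mapSurjective, hR]
  -- p divides |Out|
  have hpdvd : p ∣ Nat.card (A ⧸ I) := by
    obtain ⟨c, hcS, hcI⟩ := exists_autInducedBy_not_inn hS F hcen hne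
    have hcA : c ∈ A := autInducedBy_le_autGroup F hP hcS
    have hmem : π ⟨c, hcA⟩ ∈ (T₀ : Subgroup (A ⧸ I)) := by
      rw [hT₀]; exact ⟨⟨c, hcA⟩, Subgroup.mem_subgroupOf.mpr hcS, rfl⟩
    have hne1 : π ⟨c, hcA⟩ ≠ 1 := by
      intro h1
      apply hcI
      have : (⟨c, hcA⟩ : A) ∈ I := (QuotientGroup.eq_one_iff _).mp h1
      exact Subgroup.mem_subgroupOf.mp this
    have hT₀ne : (T₀ : Subgroup (A ⧸ I)) ≠ ⊥ := fun hb =>
      hne1 (by rw [hb] at hmem; exact Subgroup.mem_bot.mp hmem)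
    obtain ⟨k, hk⟩ := (IsPGroup.iff_card).mp T₀.2
    have hk0 : k ≠ 0 := by
      rintro rfl
      exact hT₀ne (Subgroup.card_eq_one.mp (by simpa using hk))
    have hd : p ∣ Nat.card (T₀ : Subgroup (A ⧸ I)) := by rw [hk]; exact dvd_pow_self p hk0
    exact hd.trans (Subgroup.card_subgroup_dvd_card _)
  -- the generated core is everything
  have hK : kGeneratedCore p 1 (T₀ : Subgroup (A ⧸ I)) = ⊤ := by
    by_contra hK
    exact hess ⟨hcen, hfn, inferInstance, kGeneratedCore p 1 (T₀ : Subgroup (A ⧸ I)), hpdvd, hK,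
      T₀, le_rfl⟩
  -- generation
  have hBtop : B.map π = ⊤ := by
    rw [eq_top_iff, ← hK]
    unfold kGeneratedCore
    refine iSup_le ?_
    rintro ⟨Q', hQ'T, hQ'rk⟩
    intro ā hā
    obtain ⟨a, rfl⟩ := hπ ā
    refine ⟨a, ?_, rfl⟩
    obtain ⟨q, hqQ, hq1⟩ := exists_ne_one_of_not_pRankLE_zero Q' hQ'rk
    -- q comes from an element c of Aut_S(P)
    have hqT : q ∈ ((autInducedBy S P).subgroupOf A).map π := hT₀ ▸ hQ'T hqQ
    obtain ⟨c, hcS, rfl⟩ := hqT
    have hcS' : (c : MulAut P) ∈ autInducedBy S P := Subgroup.mem_subgroupOf.mp hcS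
    obtain ⟨g, hgS, hgc⟩ := (mem_autInducedBy_iff S P c).mp hcS'
    have hgn : g ∈ Subgroup.normalizer (P : Set Ω) := mem_normalizer_of_conj_eq (c : MulAut P) hgc
    have hgP : g ∉ P := by
      intro hgP
      apply hq1
      have : c ∈ I := by
        refine Subgroup.mem_subgroupOf.mpr ⟨⟨g, hgP⟩, ?_⟩
        ext x
        rw [hgc]; rfl
      exact (QuotientGroup.eq_one_iff _).mpr this
    -- conjugate by a
    have hconj : π a * π c * (π a)⁻¹ ∈ Q' := (Subgroup.mem_normalizer_iff.mp hā (π c)).mp hqQ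
    have hconjT : π (a * c * a⁻¹) ∈ ((autInducedBy S P).subgroupOf A).map π := by
      rw [map_mul, map_mul, map_inv]
      exact hT₀ ▸ hQ'T hconj
    obtain ⟨c', hc'S, hc'⟩ := hconjT
    have hi : c'⁻¹ * (a * c * a⁻¹) ∈ I := QuotientGroup.eq.mp hc'
    have hc'S' : (c' : MulAut P) ∈ autInducedBy S P := Subgroup.mem_subgroupOf.mp hc'S
    have hiS : ((c'⁻¹ * (a * c * a⁻¹) : A) : MulAut P) ∈ autInducedBy S P :=
      inn_le_autInducedBy hP (Subgroup.mem_subgroupOf.mp hi)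
    have hacaS : ((a : MulAut P) * c * (a : MulAut P)⁻¹) ∈ autInducedBy S P := by
      have := (autInducedBy S P).mul_mem hc'S' hiS
      simpa [mul_assoc] using this
    obtain ⟨k, hkS, hk⟩ := (mem_autInducedBy_iff S P _).mp hacaS
    -- g lies in the extender of a
    have hgext : g ∈ extender S P (P.subtype.comp (a : MulAut P).toMonoidHom) := by
      rw [mem_extender_iff]
      refine ⟨hgS, hgn, k, hkS, fun x hx => ?_⟩
      have e : (⟨g * (x : Ω) * g⁻¹, hx⟩ : P) = (c : MulAut P) x := Subtype.ext (hgc x).symm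
      rw [e]
      have := hk ((a : MulAut P) x)
      simpa using this
    exact Subgroup.mem_subgroupOf.mpr (h.aut_mem_of_extender hrec a.2 hgext hgP)
  -- conclude
  intro α hα
  have hker : π.ker = I := QuotientGroup.ker_mk' I
  have : (⟨α, hα⟩ : A) ∈ B := by
    have hmem : π ⟨α, hα⟩ ∈ B.map π := hBtop ▸ Subgroup.mem_top _
    obtain ⟨b, hb, hbe⟩ := hmem
    have hi : b⁻¹ * ⟨α, hα⟩ ∈ I := QuotientGroup.eq.mp hbe
    have : (⟨α, hα⟩ : A) = b * (b⁻¹ * ⟨α, hα⟩) := by group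
    rw [this]
    exact B.mul_mem hb (hIB hi)
  exact Subgroup.mem_subgroupOf.mp this



/-- Automorphisms of fully normalized subgroups, all cases. -/
theorem AlpIH.aut_le_of_fullyNormalized [Finite S] {p : ℕ} [Fact p.Prime] (hS : IsPGroup p S)
    {F E : FusionSystem S}
    (h1 : ∀ P : Subgroup Ω, F.IsFullyNormalized P → F.IsFullyCentralized P ∧ F.IsFullyAutomized p P)
    (h2 : ∀ P : Subgroup Ω, F.IsFullyCentralized P → F.IsReceptive P)
    (hE : ∀ P : Subgroup Ω, (P = S ∨ F.IsEssential p P) → F.autGroup P ≤ E.autGroup P)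
    {P : Subgroup Ω} (hfn : F.IsFullyNormalized P) (h : AlpIH F E P) :
    F.autGroup P ≤ E.autGroup P := by
  by_cases hPS : P = S
  · exact hE P (Or.inl hPS)
  by_cases hess : F.IsEssential p P
  · exact hE P (Or.inr hess)
  by_cases hcen : F.IsCentric P
  · exact h.aut_le_of_centric_not_essential hS h1 h2 hfn hcen hPS hess
  · exact h.aut_le_of_not_centric h1 h2 hfn hcen

theorem range_comp_inclusion {P R : Subgroup Ω} (hPR : P ≤ R) (ψ : R →* Ω) :
    (ψ.comp (Subgroup.inclusion hPR)).range = (P.subgroupOf R).map ψ := by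
  ext y
  constructor
  · rintro ⟨x, rfl⟩
    exact ⟨Subgroup.inclusion hPR x, Subgroup.mem_subgroupOf.mpr x.2, rfl⟩
  · rintro ⟨x, hx, rfl⟩
    exact ⟨⟨x, Subgroup.mem_subgroupOf.mp hx⟩, rfl⟩

/-- The inductive step of Alperin's theorem. -/
theorem AlpIH.hom_subset [Finite S] {p : ℕ} [Fact p.Prime] (hS : IsPGroup p S)
    {F E : FusionSystem S}
    (h1 : ∀ P : Subgroup Ω, F.IsFullyNormalized P → F.IsFullyCentralized P ∧ F.IsFullyAutomized p P)
    (h2 : ∀ P : Subgroup Ω, F.IsFullyCentralized P → F.IsReceptive P)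
    (h3 : ∀ P Q : Subgroup Ω, F.IsFullyAutomized p P → F.IsReceptive P → F.IsConj Q P →
      ∃ φ ∈ F.Hom (normalizerIn S Q), (∀ x, φ x ∈ normalizerIn S P) ∧
        (Q.subgroupOf (normalizerIn S Q)).map φ = P)
    (hE : ∀ P : Subgroup Ω, (P = S ∨ F.IsEssential p P) → F.autGroup P ≤ E.autGroup P)
    {P : Subgroup Ω} (hP : P ≤ S) (h : AlpIH F E P) : F.Hom P ⊆ E.Hom P := by
  intro φ hφ
  by_cases hPS : P = S
  · -- φ is an automorphism of S
    have hr : φ.range = P := by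
      have hle : φ.range ≤ P := by
        rintro _ ⟨x, rfl⟩
        have hSP : S ≤ P := hPS ▸ le_rfl
        exact hSP (hom_mem F hφ x)
      have : Finite P := finite_of_le hP
      exact Subgroup.eq_of_le_of_card_ge hle (card_range_eq F hφ).ge
    obtain ⟨α, hα, hαx⟩ := exists_aut_of_range_eq F hφ hr
    have hαE : α ∈ E.autGroup P := hE P (Or.inl hPS) hα
    exact hom_congr E ((mem_autGroup_iff E hP α).mp hαE) (fun x => (hαx x).symm)
  · obtain ⟨P', hconj, hfn⟩ := exists_isConj_fullyNormalized F hP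
    obtain ⟨hfc, hfa⟩ := h1 P' hfn
    have hrec := h2 P' hfc
    have hP'S : P' ≤ S := hfn.1
    have hQconj : F.IsConj P φ.range := ⟨φ, hφ, rfl⟩
    have hQS : φ.range ≤ S := isConj_le_right F hQconj
    have hcardQ : Nat.card φ.range = Nat.card P := card_range_eq F hφ
    have hcardP' : Nat.card P' = Nat.card P := isConj_card_eq F hconj
    have hQne : φ.range ≠ S := by
      intro hQ
      apply hPS
      have : Finite S := inferInstance
      refine Subgroup.eq_of_le_of_card_ge hP ?_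
      rw [← hcardQ, hQ]
    obtain ⟨ψ₁, hψ₁, -, hψ₁P⟩ := h3 P' P hfa hrec hconj
    obtain ⟨ψ₂, hψ₂, -, hψ₂P⟩ :=
      h3 P' φ.range hfa hrec (isConj_trans F (isConj_symm F hQconj) hconj)
    -- the normalizer maps are in E
    obtain ⟨g₁, hg₁N, hg₁P⟩ := exists_mem_normalizerIn_not_mem hS hP hPS
    obtain ⟨g₂, hg₂N, hg₂P⟩ := exists_mem_normalizerIn_not_mem hS hQS hQne
    have hψ₁E : ψ₁.comp (Subgroup.inclusion (le_normalizerIn hP)) ∈ E.Hom P :=
      h.mem_of_extends (le_normalizerIn hP) hg₁N hg₁P hψ₁ (fun x => rfl)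
    have hψ₂E : ψ₂.comp (Subgroup.inclusion (le_normalizerIn hQS)) ∈ E.Hom φ.range :=
      (h.of_card_eq hcardQ).mem_of_extends (le_normalizerIn hQS) hg₂N hg₂P hψ₂ (fun x => rfl)
    have hψ₁F : ψ₁.comp (Subgroup.inclusion (le_normalizerIn hP)) ∈ F.Hom P :=
      restrict_mem F _ hψ₁
    have hψ₂F : ψ₂.comp (Subgroup.inclusion (le_normalizerIn hQS)) ∈ F.Hom φ.range :=
      restrict_mem F _ hψ₂
    set ψ₁' := ψ₁.comp (Subgroup.inclusion (le_normalizerIn hP)) with hψ₁'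
    set ψ₂' := ψ₂.comp (Subgroup.inclusion (le_normalizerIn hQS)) with hψ₂'
    have hr₁ : ψ₁'.range = P' := by rw [hψ₁', range_comp_inclusion, hψ₁P]
    have hr₂ : ψ₂'.range = P' := by rw [hψ₂', range_comp_inclusion, hψ₂P]
    -- inverses
    obtain ⟨χ₁, hχ₁, hχ₁x, hχ₁r⟩ := inv_mem' F hψ₁F hr₁
    obtain ⟨χ₂, hχ₂, hχ₂x, -⟩ := inv_mem' E hψ₂E hr₂
    have hχ₁P : ∀ y : P', χ₁ y ∈ P := fun y => by
      have : χ₁ y ∈ χ₁.range := ⟨y, rfl⟩
      rwa [hχ₁r] at this
    have hφQ : ∀ x : P, φ x ∈ φ.range := fun x => ⟨x, rfl⟩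
    have hψ₁P' : ∀ x : P, ψ₁' x ∈ P' := fun x => by
      have : ψ₁' x ∈ ψ₁'.range := ⟨x, rfl⟩
      rwa [hr₁] at this
    have hψ₂P' : ∀ x : φ.range, ψ₂' x ∈ P' := fun x => by
      have : ψ₂' x ∈ ψ₂'.range := ⟨x, rfl⟩
      rwa [hr₂] at this
    -- the automorphism of P'
    let α₀ : P' →* Ω := ψ₂'.comp ((φ.comp (χ₁.codRestrict P hχ₁P)).codRestrict φ.range
      (fun y => hφQ _))
    have hα₀F : α₀ ∈ F.Hom P' :=
      F.comp_mem (F.comp_mem hχ₁ hφ hχ₁P) hψ₂F _
    have hα₀r : α₀.range = P' := by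
      apply le_antisymm
      · rintro _ ⟨y, rfl⟩
        exact hψ₂P' _
      · intro y hy
        have hy2 : y ∈ ψ₂'.range := by rw [hr₂]; exact hy
        obtain ⟨q, rfl⟩ := hy2
        obtain ⟨x, hx⟩ := q.2
        have hx1 : (x : Ω) ∈ χ₁.range := by rw [hχ₁r]; exact x.2
        obtain ⟨z, hz⟩ := hx1
        refine ⟨z, ?_⟩
        show ψ₂' _ = ψ₂' q
        congr 1
        apply Subtype.ext
        show φ (χ₁.codRestrict P hχ₁P z) = q
        rw [← hx]
        congr 1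
        exact Subtype.ext hz
    obtain ⟨α, hαF, hαx⟩ := exists_aut_of_range_eq F hα₀F hα₀r
    have hαE : α ∈ E.autGroup P' :=
      (h.of_card_eq hcardP').aut_le_of_fullyNormalized hS h1 h2 hE hfn hαF
    have hα₀E : α₀ ∈ E.Hom P' :=
      hom_congr E ((mem_autGroup_iff E hP'S α).mp hαE) (fun x => (hαx x).symm)
    -- φ = χ₂ ∘ α₀ ∘ ψ₁'
    have hα₀P' : ∀ y : P', α₀ y ∈ P' := fun y => by
      have : α₀ y ∈ α₀.range := ⟨y, rfl⟩
      rwa [hα₀r] at this
    have hstep : (α₀.comp (ψ₁'.codRestrict P' hψ₁P')) ∈ E.Hom P := E.comp_mem hψ₁E hα₀E hψ₁P'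
    refine comp_mem' E hstep hχ₂ (fun x => hα₀P' _) (fun x => ?_)
    -- pointwise
    have e1 : χ₁ (ψ₁'.codRestrict P' hψ₁P' x) = (x : Ω) := hχ₁x x _ rfl
    have e2 : (α₀.comp (ψ₁'.codRestrict P' hψ₁P')) x = ψ₂' ⟨φ x, hφQ x⟩ := by
      show ψ₂' _ = ψ₂' _
      congr 1
      apply Subtype.ext
      show φ (χ₁.codRestrict P hχ₁P (ψ₁'.codRestrict P' hψ₁P' x)) = φ x
      congr 1
      exact Subtype.ext e1
    symm
    exact hχ₂x ⟨φ x, hφQ x⟩ _ e2.symm

/-- Alperin–Goldschmidt, from the saturation axioms in Roberts–Shpectorov form. -/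
theorem alperin_of_axioms [Finite S] {p : ℕ} [Fact p.Prime] (hS : IsPGroup p S)
    {F E : FusionSystem S}
    (h1 : ∀ P : Subgroup Ω, F.IsFullyNormalized P → F.IsFullyCentralized P ∧ F.IsFullyAutomized p P)
    (h2 : ∀ P : Subgroup Ω, F.IsFullyCentralized P → F.IsReceptive P)
    (h3 : ∀ P Q : Subgroup Ω, F.IsFullyAutomized p P → F.IsReceptive P → F.IsConj Q P →
      ∃ φ ∈ F.Hom (normalizerIn S Q), (∀ x, φ x ∈ normalizerIn S P) ∧
        (Q.subgroupOf (normalizerIn S Q)).map φ = P)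
    (hE : ∀ P : Subgroup Ω, (P = S ∨ F.IsEssential p P) → F.autGroup P ≤ E.autGroup P)
    (P : Subgroup Ω) : F.Hom P ⊆ E.Hom P := by
  by_cases hP : P ≤ S
  · -- strong induction on the index
    suffices key : ∀ n : ℕ, ∀ P : Subgroup Ω, P ≤ S → Nat.card S - Nat.card P = n →
        F.Hom P ⊆ E.Hom P from key _ P hP rfl
    intro n
    induction n using Nat.strong_induction_on with
    | _ n ih =>
      intro P hP hn
      apply AlpIH.hom_subset hS h1 h2 h3 hE hP
      intro R hR hlt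
      have hRle : Nat.card R ≤ Nat.card S := card_le_of_le hR
      exact ih (Nat.card S - Nat.card R) (by omega) R hR rfl
  · intro φ hφ
    exact absurd (hom_le F hφ) hP

end Cfsg.Agent.Lib.Helper89
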