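import Cfsg.Agent.Lib.Helper49.OElDefs
import Cfsg.Agent.Lib.Helper38.OhP.Defs
import Cfsg.Agent.Lib.Helper98.Os3
import Cfsg.Agent.Lib.Helper98.Sy4
import Cfsg.Agent.Lib.Helper28.OhPA
import Cfsg.Agent.Lib.Helper04.OhPC1
import Cfsg.Agent.Lib.Helper21.OhPC2
import Cfsg.Agent.Lib.Helper29.OhPS1
import Cfsg.Agent.Lib.Helper08.OhPS2
import Cfsg.Agent.Lib.Helper86.OhPW1a

/-!
# K-OEl-FC2t (keystone 598803, architect helper49): `fixed_of_goodT`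

Sufficiency with types: `GoodT ε τ i c T k m j` gives a fixed nondegenerate `m`-space of type `τ`.
Port of helper82's `fixed_of_good_of` (K-OhP FC2).  `fixed_of_goodT_of` takes the facts of LEAVES A, S1, S2, W1 of
K-OhP as hypotheses, `fixed_of_goodT` feeds them.
-/

set_option autoImplicit false
set_option linter.unusedSectionVars false
set_option linter.unusedVariables false

namespace Cfsg.Agent.Lib.Helper89.OEl

open Module Cfsg.Agent.Lib.Helper98.Elus Cfsg.Agent.Lib.Helper98.Sy Cfsg.Agent.Lib.Helper38.OhP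
  Cfsg.Agent.Lib.Helper49.OEl

universe u
variable {F : Type u} [Field F] {V : Type u} [AddCommGroup V] [Module F V]

theorem iff_aux0 {A0 A1 Tp : Prop} (h1 : Tp ↔ (A0 ↔ A1)) : A0 ↔ (Tp ↔ A1) := by tauto

theorem iff_aux1 {A B τ : Prop} (hb : A) (h : τ ↔ B) : ((A ↔ B) ↔ τ) := by tauto

theorem iff_aux2 {A B τ : Prop} (h : A ↔ (τ ↔ B)) : ((A ↔ B) ↔ τ) := by tauto

theorem iff_aux3 {A B C τ : Prop} (ht : τ ↔ (B ↔ C)) (hA : A ↔ C) : ((A ↔ B) ↔ τ) := by tauto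

/-- **K-OEl-FC2t** with the facts of K-OhP LEAVES A, S1, S2, W1 as hypotheses. -/
theorem fixed_of_goodT_of [FiniteDimensional F V] (Q : QuadraticForm F V)
    (hV : NonDeg (pB Q) ⊤) (hVe : Even (finrank F V))
    (r : ℕ) (hrF : (r : F) ≠ 0) (y : V →ₗ[F] V)
    (hy : y ^ r = 1) (hiso : QIso Q y)
    (i c : ℕ) (hc : c = cOf i) (hcpos : 0 < c)
    (hLA : ∀ W1 W2 : Submodule F V, NonDeg (pB Q) W1 → NonDeg (pB Q) W2 → Ort (pB Q) W1 W2 →
      Even (finrank F W1) → Even (finrank F W2) →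
      (PlusQ Q (W1 ⊔ W2) ↔ (PlusQ Q W1 ↔ PlusQ Q W2)))
    (hS1 : ∀ U : Submodule F V, U ≤ V1 r y → Inv y U → NonDeg (pB Q) U →
      c ∣ finrank F U ∧ (PlusQ Q U ↔ tPlus i (finrank F U / c)))
    (hS2 : ∀ U : Submodule F V, U ≤ V1 r y → Inv y U → NonDeg (pB Q) U → ∀ b : ℕ,
      c * b ≤ finrank F U →
      ∃ W : Submodule F V, W ≤ U ∧ Inv y W ∧ NonDeg (pB Q) W ∧ finrank F W = c * b)
    (hW1 : ∀ C : Submodule F V, NonDeg (pB Q) C → Even (finrank F C) → ∀ e : ℕ, Even e → 2 ≤ e →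
      e + 2 ≤ finrank F C → ∀ t : Prop,
      ∃ W : Submodule F V, W ≤ C ∧ NonDeg (pB Q) W ∧ finrank F W = e ∧ (PlusQ Q W ↔ t))
    (T k : ℕ) (hT : finrank F (V1 r y) = T * c) (hk : finrank F (V0 y) = k)
    (m : ℕ) (hme : Even m) (τ : Prop) (j : ℕ) (hjT : j ≤ T) (hjm : j * c ≤ m)
    (hg : GoodT (PlusQ Q ⊤) τ i c T k m j) :
    ∃ W : Submodule F V, Inv y W ∧ NonDeg (pB Q) W ∧ finrank F W = m ∧ (PlusQ Q W ↔ τ) := by
  have hR : (pB Q).IsRefl := Cfsg.Agent.Lib.Helper98.Os.isRefl_of_symm (pB_symm Q)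
  have hort : Ort (pB Q) (V0 y) (V1 r y) := ort_V0_V1 r hrF y hy hiso.iso
  have hparts := Cfsg.Agent.Lib.Helper98.Oh.nonDeg_inf_parts_refl hR r hrF y hy hiso.iso ⊤ hV
    (fun _ _ => Submodule.mem_top)
  rw [top_inf_eq, top_inf_eq] at hparts
  obtain ⟨hnd0, hnd1⟩ := hparts
  have hsum := finrank_V0_add_V1 r hrF y hy
  have hsup := V0_sup_V1 r hrF y hy
  have hce : Even c := by rw [hc]; exact cOf_even i
  -- parities
  have hke : Even k := by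
    have h1 : Even (T * c) := hce.mul_left T
    rw [hT, hk] at hsum
    have h2 : k = finrank F V - T * c := by omega
    rw [h2]
    exact hVe.tsub h1
  have hjce : Even (j * c) := hce.mul_left j
  have he0e : Even (m - j * c) := hme.tsub hjce
  -- the part in `V1`
  obtain ⟨W1, hW1V, hW1inv, hW1nd, hW1d⟩ := hS2 (V1 r y) le_rfl (inv_V1 r y) hnd1 j (by
    rw [hT, mul_comm]
    exact Nat.mul_le_mul_right c hjT)
  have hW1t : PlusQ Q W1 ↔ tPlus i j := by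
    have h1 := (hS1 W1 hW1V hW1inv hW1nd).2
    rw [hW1d, Nat.mul_div_cancel_left j hcpos] at h1
    exact h1
  have hW1e : Even (finrank F W1) := by
    rw [hW1d, mul_comm]
    exact hjce
  -- the type of `V0`
  have hV0t : PlusQ Q (V0 y) ↔ (PlusQ Q ⊤ ↔ tPlus i T) := by
    have h1 := hLA (V0 y) (V1 r y) hnd0 hnd1 hort (by rw [hk]; exact hke)
      (by rw [hT]; exact hce.mul_left T)
    rw [hsup] at h1
    have h2 := (hS1 (V1 r y) le_rfl (inv_V1 r y) hnd1).2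
    rw [hT, Nat.mul_div_cancel T hcpos] at h2
    rw [← h2]
    exact iff_aux0 h1
  -- assembling
  have key : ∀ W0 : Submodule F V, W0 ≤ V0 y → NonDeg (pB Q) W0 → finrank F W0 = m - j * c →
      ((PlusQ Q W0 ↔ PlusQ Q W1) ↔ τ) →
      ∃ W : Submodule F V, Inv y W ∧ NonDeg (pB Q) W ∧ finrank F W = m ∧ (PlusQ Q W ↔ τ) := by
    intro W0 hW0V hW0nd hW0d hW0t
    have hort01 : Ort (pB Q) W0 W1 := fun u hu v hv => hort u (hW0V hu) v (hW1V hv)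
    have hW0inv : Inv y W0 := by
      intro v hv
      rw [(mem_V0 y v).mp (hW0V hv)]
      exact hv
    refine ⟨W0 ⊔ W1, hW0inv.sup hW1inv,
      (Cfsg.Agent.Lib.Helper98.Os.nonDeg_sup hR W0 W1 hW0nd hW1nd hort01).1, ?_, ?_⟩
    · rw [Cfsg.Agent.Lib.Helper98.Os.finrank_sup_of_ort hR W0 W1 hW0nd hW1nd hort01, hW0d, hW1d,
        mul_comm c j]
      omega
    · exact (hLA W0 W1 hW0nd hW1nd hort01 (by rw [hW0d]; exact he0e) hW1e).trans hW0t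
  rcases hg with ⟨h0, ht⟩ | ⟨h0, hlt⟩ | ⟨h0, hk0, ht⟩
  · -- `W0 = ⊥`
    refine key ⊥ bot_le Cfsg.Agent.Lib.Helper98.Os.nonDeg_bot (by rw [finrank_bot, h0]) ?_
    have hb : PlusQ Q (⊥ : Submodule F V) := plusQ_bot Q
    exact iff_aux1 hb (ht.trans hW1t.symm)
  · -- `0 < e0 < k`: LEAF W1 inside `V0`
    obtain ⟨W0, hW0V, hW0nd, hW0d, hW0t⟩ := hW1 (V0 y) hnd0 (by rw [hk]; exact hke) (m - j * c) he0e
      (by
        obtain ⟨a, ha⟩ := he0e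
        omega)
      (by
        rw [hk]
        obtain ⟨a, ha⟩ := he0e
        obtain ⟨b, hb⟩ := hke
        omega) (τ ↔ PlusQ Q W1)
    exact key W0 hW0V hW0nd hW0d (iff_aux2 hW0t)
  · -- `e0 = k`: `W0 = V0`
    refine key (V0 y) le_rfl hnd0 (by rw [hk, h0]) ?_
    have ht' : τ ↔ (PlusQ Q W1 ↔ (PlusQ Q ⊤ ↔ tPlus i T)) := by
      rw [hW1t]
      exact ht
    exact iff_aux3 ht' hV0t

/-- **K-OEl-FC2t** (keystone 598803), exact spec signature. -/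
theorem fixed_of_goodT [Fintype F] [FiniteDimensional F V] (Q : QuadraticForm F V)
    (hV : NonDeg (pB Q) ⊤) (p f : ℕ) [Fact p.Prime] (hF : Fintype.card F = p ^ f)
    (r : ℕ) [Fact r.Prime] (hpr : p ≠ r) (hr2 : r ≠ 2) (hrF : (r : F) ≠ 0) (y : V →ₗ[F] V)
    (hy : y ^ r = 1) (hiso : QIso Q y)
    (i c : ℕ) (hi : i = orderOf ((Fintype.card F : ℕ) : ZMod r)) (hc : c = cOf i)
    (T k : ℕ) (hT : finrank F (V1 r y) = T * c) (hk : finrank F (V0 y) = k)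
    (d : ℕ) (hdim : finrank F V = 2 * d)
    (m : ℕ) (hme : Even m) (τ : Prop) (j : ℕ) (hjT : j ≤ T) (hjm : j * c ≤ m)
    (hg : GoodT (PlusQ Q ⊤) τ i c T k m j) :
    ∃ W : Submodule F V, Inv y W ∧ NonDeg (pB Q) W ∧ finrank F W = m ∧ (PlusQ Q W ↔ τ) := by
  subst hi
  subst hc
  have hLA : ∀ W1 W2 : Submodule F V, NonDeg (pB Q) W1 → NonDeg (pB Q) W2 → Ort (pB Q) W1 W2 →
      Even (finrank F W1) → Even (finrank F W2) →
      (PlusQ Q (W1 ⊔ W2) ↔ (PlusQ Q W1 ↔ PlusQ Q W2)) :=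
    fun W1 W2 h1 h2 ho e1 e2 => Cfsg.Agent.Lib.Helper28.OhP.plusQ_sup_iff Q W1 W2 h1 h2 ho e1 e2
  exact fixed_of_goodT_of Q hV (by rw [hdim]; exact even_two_mul d) r hrF y hy hiso _ _ rfl
    (cOf_pos _ (orderOf_card_pos p f hF r hpr)) hLA
    (fun U h1 h2 h3 => Cfsg.Agent.Lib.Helper29.OhP.type_of_le_V1_q_of Q p f hF r hpr y hy hiso hLA
      (fun U h1 h2 h3 h4 =>
        Cfsg.Agent.Lib.Helper04.OhP.exists_min_nonDeg_q Q hV p f hF r hpr hr2 hrF y hy hiso U h1 h2 h3 h4)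
      (fun W h1 h2 h3 h4 =>
        Cfsg.Agent.Lib.Helper21.OhP.plusQ_iff_of_min Q hV p f hF r hpr hr2 hrF y hy hiso W h1 h2 h3 h4)
      U h1 h2 h3)
    (fun U h1 h2 h3 b hb =>
      Cfsg.Agent.Lib.Helper08.OhP.exists_nonDeg_inv_q Q hV p f hF r hpr hr2 hrF y hy hiso U h1 h2 h3 b hb)
    (fun C h1 h2 e h3 h4 h5 t =>
      Cfsg.Agent.Lib.Helper86.OhP.exists_sub_of_type_of Q hLA C h1 h2 e h3 h4 h5 t)
    T k hT hk m hme τ j hjT hjm hg

end Cfsg.Agent.Lib.Helper89.OEl
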