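import Mathlib

/-!
# K-3806-C (keystone 380603, architect helper15): `mem_of_commutator_mem`
-/

set_option autoImplicit false

namespace Cfsg.Agent.Lib.Helper89.MC3806

open Subgroup

/-- LEAF C (one step down): `B ≤ A` of index `p`, `s` centralises `B` mod `N` but not `A` mod `N`;
then every `c ∈ A` commuting with `s` mod `N` lies in `B`. -/
theorem mem_of_commutator_mem {G : Type*} [Group G] [Finite G] (p : ℕ) (hp : p.Prime)
    (A B N : Subgroup G) [N.Normal] (hBA : B ≤ A) (hcard : Nat.card A = p * Nat.card B) (s : G)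
    (hB : ∀ b ∈ B, b * s * b⁻¹ * s⁻¹ ∈ N) (hs : ¬ ∀ a ∈ A, a * s * a⁻¹ * s⁻¹ ∈ N) (c : G) (hc : c ∈ A)
    (hcs : c * s * c⁻¹ * s⁻¹ ∈ N) :
    c ∈ B := by
  -- the subgroup of the elements of `A` commuting with `s` modulo `N`
  let D : Subgroup G :=
    A ⊓ (centralizer ({(QuotientGroup.mk' N s)} : Set (G ⧸ N))).comap (QuotientGroup.mk' N)
  have hmem : ∀ g : G, g ∈ D ↔ g ∈ A ∧ g * s * g⁻¹ * s⁻¹ ∈ N := by
    intro g
    have h1 : g * s * g⁻¹ * s⁻¹ ∈ N ↔
        QuotientGroup.mk' N g * QuotientGroup.mk' N s = QuotientGroup.mk' N s * QuotientGroup.mk' N g := by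
      rw [← QuotientGroup.eq_one_iff, ← QuotientGroup.mk'_apply, map_mul, map_mul, map_mul, map_inv,
        map_inv]
      constructor
      · intro h
        have := congrArg (fun z => z * QuotientGroup.mk' N s * QuotientGroup.mk' N g) h
        simpa [mul_assoc] using this
      · intro h
        rw [h]
        group
    constructor
    · rintro ⟨hgA, hg⟩
      refine ⟨hgA, h1.mpr ?_⟩
      exact Subgroup.mem_centralizer_singleton_iff.mp (Subgroup.mem_comap.mp hg)
    · rintro ⟨hgA, hg⟩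
      refine ⟨hgA, Subgroup.mem_comap.mpr ?_⟩
      exact Subgroup.mem_centralizer_singleton_iff.mpr (h1.mp hg)
  have hDA : D ≤ A := inf_le_left
  have hBD : B ≤ D := fun b hb => (hmem b).mpr ⟨hBA hb, hB b hb⟩
  have hcD : c ∈ D := (hmem c).mpr ⟨hc, hcs⟩
  obtain ⟨m, hm⟩ := Subgroup.card_dvd_of_le hBD
  have hdvd : Nat.card D ∣ Nat.card A := Subgroup.card_dvd_of_le hDA
  have hbpos : 0 < Nat.card B := Nat.card_pos
  have hmp : m ∣ p := by
    rw [hm, hcard, mul_comm p] at hdvd
    exact (Nat.mul_dvd_mul_iff_left hbpos).mp hdvd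
  rcases (Nat.dvd_prime hp).mp hmp with h1 | h1
  · -- `D = B`
    rw [h1, mul_one] at hm
    have hEq : B = D := Subgroup.eq_of_le_of_card_ge hBD hm.le
    rw [hEq]
    exact hcD
  · -- `D = A`: impossible
    exfalso
    apply hs
    have hEq : D = A := by
      apply Subgroup.eq_of_le_of_card_ge hDA
      rw [hm, h1, hcard, mul_comm]
    intro a ha
    rw [← hEq] at ha
    exact ((hmem a).mp ha).2

end Cfsg.Agent.Lib.Helper89.MC3806
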