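import Cfsg.Agent.Lib.Helper89.Alperin

set_option autoImplicit false

namespace Cfsg.Agent.Lib.Helper89

open Cfsg Cfsg.FusionSystem Cfsg.Agent.Lib.Helper87

variable {Ω : Type*} [Group Ω] {S : Subgroup Ω}

/-- Two fusion systems with the same maps are equal. -/
theorem fusionSystem_ext {F E : FusionSystem S} (h : ∀ P : Subgroup Ω, F.Hom P = E.Hom P) : F = E := by
  cases F
  cases E
  simp only [FusionSystem.mk.injEq]
  funext P
  exact h P

theorem fusionSystem_le_antisymm {F E : FusionSystem S} (h1 : F ≤ E) (h2 : E ≤ F) : F = E :=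
  fusionSystem_ext (fun P => Set.Subset.antisymm (h1 P) (h2 P))

theorem inner_le (F : FusionSystem S) : innerFusionSystem S ≤ F := by
  rintro P φ ⟨hP, g, hg, hφ⟩
  exact hom_congr F (F.conj_mem hP hg) hφ

/-- A subgroup containing an element of order `p` has positive `p`-rank. -/
theorem not_pRankLE_zero_of_orderOf {X : Type*} [Group X] {p : ℕ} (hp : p.Prime) (Q : Subgroup X)
    {x : X} (hxQ : x ∈ Q) (hx : orderOf x = p) : ¬ PRankLE p 0 Q := by
  intro h
  have h1 := h (Subgroup.zpowers (⟨x, hxQ⟩ : Q)) inferInstance (by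
    intro a ha
    obtain ⟨k, rfl⟩ := Subgroup.mem_zpowers_iff.mp ha
    have hxp : (⟨x, hxQ⟩ : Q) ^ p = 1 := by
      apply Subtype.ext
      show x ^ p = 1
      rw [← hx]; exact pow_orderOf_eq_one x
    rw [← zpow_natCast, ← zpow_mul, mul_comm, zpow_mul, zpow_natCast, hxp, one_zpow])
  rw [Nat.card_zpowers, pow_zero] at h1
  have h2 : orderOf (⟨x, hxQ⟩ : Q) = p := by
    rw [← hx]
    exact Subgroup.orderOf_mk x hxQ
  rw [h2] at h1
  exact absurd h1 (not_le.mpr hp.one_lt)

/-- A finite `p`-group has no strongly `p`-embedded subgroup. -/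
theorem not_isStronglyPEmbedded_of_isPGroup {X : Type*} [Group X] [Finite X] {p : ℕ} [hp : Fact p.Prime]
    (hX : IsPGroup p X) (Y : Subgroup X) : ¬ IsStronglyPEmbedded p Y := by
  rintro ⟨hdvd, hY, T, hT⟩
  apply hY
  have hTtop : (T : Subgroup X) = ⊤ :=
    (T.is_maximal' (Q := ⊤) (IsPGroup.of_surjective hX (Subgroup.topEquiv (G := X)).symm.toMonoidHom
      (Subgroup.topEquiv (G := X)).symm.surjective) le_top).symm
  obtain ⟨x, hx⟩ := exists_prime_orderOf_dvd_card' p hdvd
  have hrk : ¬ PRankLE p 0 (T : Subgroup X) :=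
    not_pRankLE_zero_of_orderOf hp.out _ (hTtop ▸ Subgroup.mem_top x) hx
  rw [eq_top_iff]
  refine le_trans ?_ hT
  unfold kGeneratedCore
  refine le_trans ?_ (le_iSup _ ⟨(T : Subgroup X), le_rfl, hrk⟩)
  show ⊤ ≤ Subgroup.normalizer ((T : Subgroup X) : Set X)
  rw [hTtop]
  intro y _
  rw [Subgroup.mem_normalizer_iff]
  intro z
  simp

/-- Frobenius' theorem for fusion systems, from the saturation axioms. -/
theorem frobenius_of_axioms [Finite S] {p : ℕ} [Fact p.Prime] (hS : IsPGroup p S)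
    {F : FusionSystem S}
    (h1 : ∀ P : Subgroup Ω, F.IsFullyNormalized P → F.IsFullyCentralized P ∧ F.IsFullyAutomized p P)
    (h2 : ∀ P : Subgroup Ω, F.IsFullyCentralized P → F.IsReceptive P)
    (h3 : ∀ P Q : Subgroup Ω, F.IsFullyAutomized p P → F.IsReceptive P → F.IsConj Q P →
      ∃ φ ∈ F.Hom (normalizerIn S Q), (∀ x, φ x ∈ normalizerIn S P) ∧
        (Q.subgroupOf (normalizerIn S Q)).map φ = P)
    (h : ∀ P : Subgroup Ω, P ≤ S → IsPGroup p (F.autGroup P)) :
    F = innerFusionSystem S := by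
  apply fusionSystem_le_antisymm _ (inner_le F)
  intro P
  apply alperin_of_axioms hS h1 h2 h3
  rintro Q (rfl | hess)
  · -- Aut_F(S) = Aut_S(S)
    intro α hα
    obtain ⟨-, R, hR⟩ := (h1 Q (isFullyNormalized_self F)).2
    have hpg : IsPGroup p (F.autGroup Q) := h Q le_rfl
    have hRtop : (R : Subgroup (F.autGroup Q)) = ⊤ :=
      (R.is_maximal' (Q := ⊤) (IsPGroup.of_surjective hpg
        (Subgroup.topEquiv (G := F.autGroup Q)).symm.toMonoidHom
        (Subgroup.topEquiv (G := F.autGroup Q)).symm.surjective) le_top).symm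
    have hmem : (⟨α, hα⟩ : F.autGroup Q) ∈ (autInducedBy Q Q).subgroupOf (F.autGroup Q) := by
      rw [← hR, hRtop]; exact Subgroup.mem_top _
    obtain ⟨g, hg, hgα⟩ := (mem_autInducedBy_iff Q Q α).mp (Subgroup.mem_subgroupOf.mp hmem)
    rw [mem_autGroup_iff _ le_rfl]
    exact ⟨le_rfl, g, hg, hgα⟩
  · exfalso
    obtain ⟨hcen, -, hnorm, Y, hY⟩ := hess
    have hQS : Q ≤ S := hcen.1
    have : Finite Q := finite_of_le hQS
    have hpg : IsPGroup p (F.autGroup Q) := h Q hQS
    have hpq : IsPGroup p (F.autGroup Q ⧸ (Inn Q).subgroupOf (F.autGroup Q)) :=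
      hpg.to_quotient _
    exact not_isStronglyPEmbedded_of_isPGroup hpq Y hY

end Cfsg.Agent.Lib.Helper89
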