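import Cfsg.Agent.Lib.Helper89.FusionAut
import Cfsg.Agent.Lib.Helper03.PResidual

set_option autoImplicit false

namespace Cfsg.Agent.Lib.Helper89

open Cfsg Cfsg.FusionSystem Cfsg.Agent.Lib.Helper87

variable {Ω : Type*} [Group Ω]

/-- The full subsystem of a fusion system `F` over `U` on a subgroup `T ≤ U`: all maps of `F` between
subgroups of `T`. -/
def fullSubsystem {U : Subgroup Ω} (F : FusionSystem U) (T : Subgroup Ω) (hTU : T ≤ U) :
    FusionSystem T where
  Hom P := {φ | φ ∈ F.Hom P ∧ P ≤ T ∧ ∀ x : P, φ x ∈ T}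
  le_of_mem h := ⟨h.2.1, h.2.2⟩
  injective_of_mem h := F.injective_of_mem h.1
  conj_mem {P g} hP hg := ⟨F.conj_mem (hP.trans hTU) (hTU hg), hP,
    fun x => T.mul_mem (T.mul_mem hg (hP x.2)) (T.inv_mem hg)⟩
  comp_mem := by
    rintro P Q φ ψ ⟨hφ, hP, hφT⟩ ⟨hψ, hQ, hψT⟩ h
    exact ⟨F.comp_mem hφ hψ h, hP, fun x => hψT _⟩
  inv_mem := by
    rintro P φ ⟨hφ, hP, hφT⟩
    obtain ⟨ψ, hψ, hψx⟩ := F.inv_mem hφ
    refine ⟨ψ, ⟨hψ, ?_, ?_⟩, hψx⟩
    · rintro _ ⟨x, rfl⟩
      exact hφT x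
    · rintro ⟨_, x, rfl⟩
      rw [hψx]; exact hP x.2

theorem mem_fullSubsystem_iff {U : Subgroup Ω} (F : FusionSystem U) (T : Subgroup Ω) (hTU : T ≤ U)
    {P : Subgroup Ω} (φ : P →* Ω) :
    φ ∈ (fullSubsystem F T hTU).Hom P ↔ φ ∈ F.Hom P ∧ P ≤ T ∧ ∀ x : P, φ x ∈ T := Iff.rfl

/-- `Aut` of the full subsystem on `T` coincides with `Aut_F` for subgroups of `T`. -/
theorem autGroup_fullSubsystem {U : Subgroup Ω} (F : FusionSystem U) (T : Subgroup Ω) (hTU : T ≤ U)
    {P : Subgroup Ω} (hP : P ≤ T) : (fullSubsystem F T hTU).autGroup P = F.autGroup P := by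
  ext α
  rw [mem_autGroup_iff _ hP, mem_autGroup_iff F (hP.trans hTU), mem_fullSubsystem_iff]
  constructor
  · intro h; exact h.1
  · intro h; exact ⟨h, hP, fun x => hP (α x).2⟩

/-- In a finite group, a subgroup containing a Sylow `p`-subgroup and all `p'`-elements is everything.
Stated for subgroups of `MulAut P`: if `A ≤ MulAut P`, `R` is a Sylow `p`-subgroup of `A`, and `B` contains
`R` and all elements of `A` of order prime to `p`, then `A ≤ B`. -/
theorem le_of_sylow_le_of_coprime_le {X : Type*} [Group X] {p : ℕ} [Fact p.Prime] (A B : Subgroup X)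
    [Finite A] (R : Sylow p A) (hR : ∀ r : A, r ∈ (R : Subgroup A) → (r : X) ∈ B)
    (hB : ∀ a ∈ A, (orderOf a).Coprime p → a ∈ B) : A ≤ B := by
  have h1 : (R : Subgroup A) ⊔ pResidual p A = ⊤ := Helper03.sylow_sup_pResidual_eq_top R
  have h2 : (R : Subgroup A) ⊔ pResidual p A ≤ B.subgroupOf A := by
    apply sup_le
    · intro r hr
      exact hR r hr
    · unfold pResidual
      rw [Subgroup.closure_le]
      intro a ha
      have ha' : (orderOf a).Coprime p := ha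
      exact hB a a.2 (by rw [Subgroup.orderOf_coe]; exact ha')
  intro a ha
  have : (⟨a, ha⟩ : A) ∈ B.subgroupOf A := h2 (h1 ▸ Subgroup.mem_top _)
  exact this

end Cfsg.Agent.Lib.Helper89
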