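import Mathlib
import Cfsg.Prelude.Def_EvenType
import Cfsg.Prelude.Def_FusionSystem
import Cfsg.Agent.Lib.Helper90.StabChain
import Cfsg.Agent.Lib.Helper53.StronglyEmbedded

set_option autoImplicit false

namespace Cfsg.Agent.Lib.Helper89

open Cfsg Cfsg.Agent.Lib.Helper90

/-- A finite group with a normal Sylow `p`-subgroup has no strongly `p`-embedded subgroup. -/
theorem not_isStronglyPEmbedded_of_normal {X : Type*} [Group X] [Finite X] {p : ℕ} [Fact p.Prime]
    (C : Subgroup X) (hCn : C.Normal) (hCp : IsPGroup p C) (hCi : ¬ p ∣ C.index)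
    (E : Subgroup X) : ¬ IsStronglyPEmbedded p E := by
  rintro ⟨hdvd, hEtop, P, hP⟩
  have hPbot : (P : Subgroup X) ≠ ⊥ := P.ne_bot_of_dvd_card hdvd
  have hN : Subgroup.normalizer ((P : Subgroup X) : Set X) ≤ E :=
    (Cfsg.Agent.Lib.Helper53.kGeneratedCore_one_le_iff P E).mp hP P le_rfl hPbot
  apply hEtop
  rw [eq_top_iff]
  refine le_trans ?_ hN
  -- `P` is the normal Sylow subgroup `C`
  set Cs : Sylow p X := hCp.toSylow hCi with hCs
  obtain ⟨g, hg⟩ := MulAction.exists_smul_eq X Cs P
  have hCsn : ((Cs : Sylow p X) : Subgroup X).Normal := hCn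
  have h1 : g • Cs = Cs := Sylow.smul_eq_of_normal
  have h2 : (P : Subgroup X) = C := by
    rw [← hg, h1]; rfl
  rw [h2]
  intro x _
  exact (Subgroup.normalizer_eq_top_iff.mpr hCn) ▸ Subgroup.mem_top x

/-- An automorphism preserving `K ≤ L` with `|L : K| = p` in a finite `p`-group acts on `L / K` with
order dividing `p - 1`. -/
theorem pow_sub_one_mem_of_relIndex_eq {H : Type*} [Group H] [Finite H] {p : ℕ} [Fact p.Prime]
    (hH : IsPGroup p H) (K L : Subgroup H) (hidx : K.relIndex L = p)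
    (α : MulAut H) (hαK : ∀ x ∈ K, α x ∈ K) (hαL : ∀ x ∈ L, α x ∈ L) :
    ∀ x ∈ L, x⁻¹ * (α ^ (p - 1)) x ∈ K := by
  have hp : p.Prime := Fact.out
  set K' : Subgroup L := K.subgroupOf L with hK'
  have hK'idx : K'.index = p := hidx
  -- `K'` is normal in `L`
  have hLp : IsPGroup p L := hH.to_subgroup L
  have hK'n : K'.Normal := by
    apply Subgroup.normal_of_index_eq_minFac_card
    rw [hK'idx]
    obtain ⟨k, hk⟩ := hLp.exists_card_eq
    have hk0 : k ≠ 0 := by
      rintro rfl
      rw [pow_zero] at hk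
      have h1 : K'.index ∣ Nat.card L := Subgroup.index_dvd_card K'
      rw [hK'idx, hk] at h1
      exact hp.one_lt.ne' (Nat.dvd_one.mp h1)
    rw [hk, Nat.Prime.pow_minFac hp hk0]
  -- the induced automorphism of the quotient
  let αL : L →* L := (α.toMonoidHom.comp L.subtype).codRestrict L (fun x => hαL x x.2)
  have hαLK : K' ≤ K'.comap αL := by
    intro x hx
    rw [Subgroup.mem_comap, hK', Subgroup.mem_subgroupOf]
    exact hαK x (Subgroup.mem_subgroupOf.mp hx)
  let αbar : L ⧸ K' →* L ⧸ K' := QuotientGroup.map K' K' αL hαLK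
  have hαLinj : Function.Injective αL := by
    intro a b hab
    apply Subtype.ext
    exact α.injective (congrArg Subtype.val hab)
  have hαLsurj : Function.Surjective αL := Finite.surjective_of_injective hαLinj
  have hbarsurj : Function.Surjective αbar := by
    intro y
    obtain ⟨x, rfl⟩ := QuotientGroup.mk_surjective y
    obtain ⟨x', rfl⟩ := hαLsurj x
    exact ⟨QuotientGroup.mk x', rfl⟩
  have hbarbij : Function.Bijective αbar :=
    ⟨Finite.injective_iff_surjective.mpr hbarsurj, hbarsurj⟩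
  let e : MulAut (L ⧸ K') := MulEquiv.ofBijective αbar hbarbij
  have hcardY : Nat.card (L ⧸ K') = p := by rw [← Subgroup.index_eq_card]; exact hK'idx
  haveI : IsCyclic (L ⧸ K') := isCyclic_of_prime_card hcardY
  have hcardA : Nat.card (MulAut (L ⧸ K')) = p - 1 := by
    rw [IsCyclic.card_mulAut, hcardY, Nat.totient_prime hp]
  have he1 : e ^ (p - 1) = 1 := by rw [← hcardA]; exact pow_card_eq_one'
  -- iterates
  have hiter : ∀ n : ℕ, ∀ x : L, ∃ h : (α ^ n) (x : H) ∈ L,
      (e ^ n) (QuotientGroup.mk x) = QuotientGroup.mk (⟨(α ^ n) (x : H), h⟩ : L) := by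
    intro n
    induction n with
    | zero => intro x; exact ⟨x.2, rfl⟩
    | succ n ih =>
      intro x
      obtain ⟨h, hh⟩ := ih (αL x)
      refine ⟨?_, ?_⟩
      · rw [pow_succ, MulAut.mul_apply]; exact h
      · rw [pow_succ, MulAut.mul_apply]
        have e1 : e (QuotientGroup.mk x) = QuotientGroup.mk (αL x) := rfl
        rw [e1, hh]
        rfl
  intro x hx
  obtain ⟨h, hh⟩ := hiter (p - 1) ⟨x, hx⟩
  rw [he1, MulAut.one_apply] at hh
  have h2 := QuotientGroup.eq.mp hh
  rw [hK', Subgroup.mem_subgroupOf] at h2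
  exact h2


/-- Powers of an automorphism preserving a subgroup preserve it. -/
theorem pow_apply_mem {H : Type*} [Group H] (K : Subgroup H) (α : MulAut H)
    (hα : ∀ x ∈ K, α x ∈ K) (n : ℕ) : ∀ x ∈ K, (α ^ n) x ∈ K := by
  induction n with
  | zero => intro x hx; simpa using hx
  | succ n ih =>
    intro x hx
    rw [pow_succ, MulAut.mul_apply]
    exact ih _ (hα x hx)

/-- A group `A` of automorphisms of a finite `p`-group preserving a chain from `⊥` to `⊤` with
factors of order at most `p` has a normal Sylow `p`-subgroup (the stabilizer of the chain). -/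
theorem exists_normal_sylow_of_chain {H : Type*} [Group H] [Finite H] {p : ℕ} [Fact p.Prime]
    (hH : IsPGroup p H) (A : Subgroup (MulAut H)) (c : ℕ → Subgroup H) (hmono : Monotone c)
    (hc0 : c 0 = ⊥) (n : ℕ) (hcn : c n = ⊤)
    (hinv : ∀ α ∈ A, ∀ i, ∀ x ∈ c i, α x ∈ c i)
    (hidx : ∀ i, c i = c (i + 1) ∨ (c i).relIndex (c (i + 1)) = p) :
    ∃ C : Subgroup A, C.Normal ∧ IsPGroup p C ∧ ¬ p ∣ C.index := by
  have hp : p.Prime := Fact.out
  have hkey : ∀ a ∈ A, a ^ (p - 1) ∈ stabChain c hmono := by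
    have haux : ∀ a ∈ A, ∀ i, ∀ x ∈ c (i + 1), x⁻¹ * (a ^ (p - 1)) x ∈ c i := by
      intro a ha i x hx
      rcases hidx i with h | h
      · have hx' : x ∈ c i := h ▸ hx
        exact (c i).mul_mem ((c i).inv_mem hx') (pow_apply_mem (c i) a (hinv a ha i) _ x hx')
      · exact pow_sub_one_mem_of_relIndex_eq hH (c i) (c (i + 1)) h a (hinv a ha i)
          (hinv a ha (i + 1)) x hx
    intro a ha
    rw [mem_stabChain]
    intro i x hx
    refine ⟨haux a ha i x hx, ?_⟩
    rw [← inv_pow]
    exact haux a⁻¹ (A.inv_mem ha) i x hx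
  refine ⟨(stabChain c hmono).subgroupOf A, ?_, ?_, ?_⟩
  · constructor
    intro β hβ a
    rw [Subgroup.mem_subgroupOf] at hβ ⊢
    have h1 := stabChain_conj_mem c hmono (a : MulAut H) (fun j x hx => hinv a a.2 j x hx)
      (fun j x hx => hinv _ (A.inv_mem a.2) j x hx) hβ
    simpa using h1
  · exact (stabChain_isPGroup hH c hc0 hmono n hcn).comap_subtype
  · intro hdvd
    haveI hn : ((stabChain c hmono).subgroupOf A).Normal := by
      constructor
      intro β hβ a
      rw [Subgroup.mem_subgroupOf] at hβ ⊢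
      have h1 := stabChain_conj_mem c hmono (a : MulAut H) (fun j x hx => hinv a a.2 j x hx)
        (fun j x hx => hinv _ (A.inv_mem a.2) j x hx) hβ
      simpa using h1
    rw [Subgroup.index_eq_card] at hdvd
    obtain ⟨q, hq⟩ := exists_prime_orderOf_dvd_card' p hdvd
    obtain ⟨a, rfl⟩ := QuotientGroup.mk_surjective q
    have h1 : (QuotientGroup.mk a : A ⧸ (stabChain c hmono).subgroupOf A) ^ (p - 1) = 1 := by
      rw [← QuotientGroup.mk_pow, QuotientGroup.eq_one_iff, Subgroup.mem_subgroupOf]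
      exact hkey a a.2
    have h2 := orderOf_dvd_of_pow_eq_one h1
    rw [hq] at h2
    exact Nat.not_dvd_of_pos_of_lt (by have := hp.two_le; omega) (by have := hp.two_le; omega) h2


/-- A subgroup with a characteristic chain from `⊥` to `⊤` with factors of order at most `p` is not
essential. -/
theorem not_isEssential_of_chain {Ω : Type*} [Group Ω] {S : Subgroup Ω} (F : FusionSystem S)
    {p : ℕ} [Fact p.Prime] (H : Subgroup Ω) [Finite H] (hHp : IsPGroup p H)
    (c : ℕ → Subgroup H) (hmono : Monotone c) (hc0 : c 0 = ⊥) (n : ℕ) (hcn : c n = ⊤)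
    (hinv : ∀ α : MulAut H, ∀ i, ∀ x ∈ c i, α x ∈ c i)
    (hidx : ∀ i, c i = c (i + 1) ∨ (c i).relIndex (c (i + 1)) = p) : ¬ F.IsEssential p H := by
  rintro ⟨-, -, hnorm, E, hE⟩
  obtain ⟨C, hCn, hCp, hCi⟩ := exists_normal_sylow_of_chain hHp (F.autGroup H) c hmono hc0 n hcn
    (fun α _ => hinv α) hidx
  have hsurj := QuotientGroup.mk'_surjective ((Inn H).subgroupOf (F.autGroup H))
  refine not_isStronglyPEmbedded_of_normal
    (C.map (QuotientGroup.mk' ((Inn H).subgroupOf (F.autGroup H)))) (hCn.map _ hsurj) (hCp.map _)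
    (fun h => hCi (h.trans (Subgroup.index_map_dvd C hsurj))) E hE

end Cfsg.Agent.Lib.Helper89
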