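import Mathlib
import Cfsg.Agent.Lib.Helper89.ChainSylow
import Cfsg.Agent.Lib.Helper89.OrderPCube
import Cfsg.Agent.Lib.Helper54.FrattiniLib

set_option autoImplicit false

namespace Cfsg.Agent.Lib.Helper89

open Cfsg Cfsg.Agent.Lib.Helper90
open scoped commutatorElement

section General

variable {H : Type*} [Group H]

/-- An automorphism of order prime to `p` of an abelian `p`-group that fixes all elements of order
dividing `p` is trivial on every element. -/
theorem abelian_omega_fix {p : ℕ} [Fact p.Prime] (hcomm : ∀ a b : H, a * b = b * a)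
    (hH : IsPGroup p H) (α : MulAut H) (m : ℕ) (hm : m.Coprime p) (hα : α ^ m = 1)
    (hom : ∀ x : H, x ^ p = 1 → α x = x) : ∀ x : H, α x = x := by
  have key : ∀ j : ℕ, ∀ x : H, x ^ (p ^ j) = 1 → α x = x := by
    intro j
    induction j with
    | zero =>
      intro x hx
      rw [pow_zero, pow_one] at hx
      rw [hx, map_one]
    | succ j ih =>
      intro x hx
      have h1 : α (x ^ p) = x ^ p := by
        apply ih
        rw [← pow_mul, ← pow_succ']
        exact hx
      have h2 : (x⁻¹ * α x) ^ p = 1 := by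
        rw [Commute.mul_pow (hcomm _ _), inv_pow, ← map_pow, h1, inv_mul_cancel]
      have h3 : α (x⁻¹ * α x) = x⁻¹ * α x := hom _ h2
      apply fixed_of_iterate_comm α m hm hα ⊤ (hH.to_subgroup ⊤) (fun _ _ => Subgroup.mem_top _) 1 x
        (Subgroup.mem_top _)
      change (x⁻¹ * α x)⁻¹ * α (x⁻¹ * α x) = 1
      rw [h3, inv_mul_cancel]
  intro x
  obtain ⟨j, hj⟩ := hH x
  exact key j x hj

/-- Automorphisms in `A` raised to the power `p - 1` stabilize an `A`-invariant chain with factors of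
order at most `p`. -/
theorem pow_sub_one_mem_stabChain [Finite H] {p : ℕ} [Fact p.Prime]
    (hH : IsPGroup p H) (A : Subgroup (MulAut H)) (c : ℕ → Subgroup H) (hmono : Monotone c)
    (hinv : ∀ α ∈ A, ∀ i, ∀ x ∈ c i, α x ∈ c i)
    (hidx : ∀ i, c i = c (i + 1) ∨ (c i).relIndex (c (i + 1)) = p) :
    ∀ a ∈ A, a ^ (p - 1) ∈ stabChain c hmono := by
  have haux : ∀ a ∈ A, ∀ i, ∀ x ∈ c (i + 1), x⁻¹ * (a ^ (p - 1)) x ∈ c i := by
    intro a ha i x hx
    rcases hidx i with h | h
    · have hx' : x ∈ c i := h ▸ hx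
      exact (c i).mul_mem ((c i).inv_mem hx') (pow_apply_mem (c i) a (hinv a ha i) _ x hx')
    · exact pow_sub_one_mem_of_relIndex_eq hH (c i) (c (i + 1)) h a (hinv a ha i)
        (hinv a ha (i + 1)) x hx
  intro a ha
  rw [mem_stabChain]
  intro i x hx
  refine ⟨haux a ha i x hx, ?_⟩
  rw [← inv_pow]
  exact haux a⁻¹ (A.inv_mem ha) i x hx

/-- The stability group of an `A`-invariant chain is normal in `A`. -/
theorem stabChain_subgroupOf_normal (A : Subgroup (MulAut H)) (c : ℕ → Subgroup H)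
    (hmono : Monotone c) (hinv : ∀ α ∈ A, ∀ i, ∀ x ∈ c i, α x ∈ c i) :
    ((stabChain c hmono).subgroupOf A).Normal := by
  constructor
  intro β hβ a
  rw [Subgroup.mem_subgroupOf] at hβ ⊢
  have h1 := stabChain_conj_mem c hmono (a : MulAut H) (fun j x hx => hinv a a.2 j x hx)
    (fun j x hx => hinv _ (A.inv_mem a.2) j x hx) hβ
  simpa using h1

/-- Let `A` be a group of automorphisms of the finite `p`-group `H` of order divisible by `p` without
nontrivial normal `p`-subgroups, such that only the identity of `A` fixes every element of a subgroup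
`V`. Then there is no `A`-invariant chain from `⊥` to `V` with factors of order at most `p`. -/
theorem no_chain_of_faithful [Finite H] {p : ℕ} [Fact p.Prime]
    (hH : IsPGroup p H) (A : Subgroup (MulAut H)) (hA1 : p ∣ Nat.card A)
    (hA2 : ∀ N : Subgroup A, N.Normal → IsPGroup p N → N = ⊥)
    (V : Subgroup H) (hfaith : ∀ α ∈ A, (∀ x ∈ V, α x = x) → α = 1)
    (c : ℕ → Subgroup H) (hmono : Monotone c) (hc0 : c 0 = ⊥) (n : ℕ) (hcn : V ≤ c n)
    (hinv : ∀ α ∈ A, ∀ i, ∀ x ∈ c i, α x ∈ c i)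
    (hidx : ∀ i, c i = c (i + 1) ∨ (c i).relIndex (c (i + 1)) = p) : False := by
  have hp : p.Prime := Fact.out
  obtain ⟨e, he⟩ := hH.exists_card_eq
  have hm : ∀ x : H, x ^ (p ^ e) = 1 := fun x => by rw [← he]; exact pow_card_eq_one'
  have hCp : IsPGroup p ((stabChain c hmono).subgroupOf A) := by
    intro β
    refine ⟨e * n, ?_⟩
    have hβ : (β : A) ∈ (stabChain c hmono).subgroupOf A := β.2
    rw [Subgroup.mem_subgroupOf] at hβ
    have h1 := stab_chain_pow hm c hc0 hmono ((β : A) : MulAut H) (fun i x hx => (hβ i x hx).1) n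
    have h2 : ((β : A) : MulAut H) ^ ((p ^ e) ^ n) = 1 := by
      apply hfaith _ (A.pow_mem (β : A).2 _)
      intro x hx
      exact h1 x (hcn hx)
    apply Subtype.ext
    apply Subtype.ext
    rw [Subgroup.coe_pow, Subgroup.coe_pow, pow_mul]
    exact h2
  have hCbot := hA2 _ (stabChain_subgroupOf_normal A c hmono hinv) hCp
  obtain ⟨a, ha⟩ := exists_prime_orderOf_dvd_card' (G := A) p hA1
  have h1 := pow_sub_one_mem_stabChain hH A c hmono hinv hidx (a : MulAut H) a.2
  have h2 : a ^ (p - 1) ∈ (stabChain c hmono).subgroupOf A := by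
    rw [Subgroup.mem_subgroupOf, Subgroup.coe_pow]; exact h1
  rw [hCbot, Subgroup.mem_bot] at h2
  have h3 := orderOf_dvd_of_pow_eq_one h2
  rw [ha] at h3
  exact Nat.not_dvd_of_pos_of_lt (by have := hp.two_le; omega) (by have := hp.two_le; omega) h3

/-- The chain `⊥ ≤ W ≤ V ≤ V ≤ ...`. -/
def chainTwo (W V : Subgroup H) : ℕ → Subgroup H
  | 0 => ⊥
  | 1 => W
  | _ => V

/-- No invariant subgroup `W` in a faithful `V` with small factors. -/
theorem no_small_invariant [Finite H] {p : ℕ} [Fact p.Prime]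
    (hH : IsPGroup p H) (A : Subgroup (MulAut H)) (hA1 : p ∣ Nat.card A)
    (hA2 : ∀ N : Subgroup A, N.Normal → IsPGroup p N → N = ⊥)
    (V : Subgroup H) (hfaith : ∀ α ∈ A, (∀ x ∈ V, α x = x) → α = 1)
    (hVinv : ∀ α ∈ A, ∀ x ∈ V, α x ∈ V)
    (W : Subgroup H) (hWV : W ≤ V) (hWinv : ∀ α ∈ A, ∀ x ∈ W, α x ∈ W)
    (hW : W = ⊥ ∨ Nat.card W = p) (hVW : W = V ∨ W.relIndex V = p) : False := by
  refine no_chain_of_faithful hH A hA1 hA2 V hfaith (chainTwo W V) ?_ rfl 2 le_rfl ?_ ?_
  · apply monotone_nat_of_le_succ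
    intro n
    match n with
    | 0 => exact bot_le
    | 1 => exact hWV
    | (k + 2) => exact le_rfl
  · intro α hα i
    match i with
    | 0 =>
      intro x hx
      have hx1 : x = 1 := by simpa [chainTwo] using hx
      subst hx1
      simp [chainTwo]
    | 1 => exact hWinv α hα
    | (k + 2) => exact hVinv α hα
  · intro i
    match i with
    | 0 =>
      rcases hW with h | h
      · left; exact h.symm
      · right
        change (⊥ : Subgroup H).relIndex W = p
        rw [Subgroup.relIndex_bot_left, h]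
    | 1 => exact hVW
    | (k + 2) => left; rfl

end General

/-- The binomial computation: if `T ^ p = 1`, `p ≥ 5` and `(T - 1) ^ 2` maps into `p M`, then
`p (T - 1)` maps into `p² M`. -/
theorem nsmul_sub_one_mem {M : Type*} [AddCommGroup M] {p : ℕ} (hp : p.Prime) (hp5 : 5 ≤ p)
    (T : AddMonoid.End M) (hT : T ^ p = 1)
    (hN : ∀ m : M, ∃ m' : M, ((T - 1) * (T - 1)) m = p • m') :
    ∀ m : M, ∃ r : M, p • ((T - 1) m) = (p ^ 2) • r := by
  set N : AddMonoid.End M := T - 1 with hNdef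
  let P1 : AddSubgroup M := (nsmulAddMonoidHom p : M →+ M).range
  let P2 : AddSubgroup M := (nsmulAddMonoidHom (p ^ 2) : M →+ M).range
  have hP1 : ∀ x : M, x ∈ P1 ↔ ∃ r : M, p • r = x := fun x => Iff.rfl
  have hP2 : ∀ x : M, x ∈ P2 ↔ ∃ r : M, (p ^ 2) • r = x := fun x => Iff.rfl
  have ha1 : ∀ f : AddMonoid.End M, ∀ x ∈ P1, f x ∈ P1 := by
    rintro f _ ⟨r, rfl⟩
    exact ⟨f r, by simp⟩
  have ha2 : ∀ f : AddMonoid.End M, ∀ x ∈ P2, f x ∈ P2 := by
    rintro f _ ⟨r, rfl⟩
    exact ⟨f r, by simp⟩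
  have hb : ∀ m : M, (N * N) m ∈ P1 := by
    intro m
    obtain ⟨m', hm'⟩ := hN m
    exact ⟨m', hm'.symm⟩
  have hd : ∀ x ∈ P1, (N * N) x ∈ P2 := by
    rintro _ ⟨r, rfl⟩
    obtain ⟨r', hr'⟩ := hN r
    refine ⟨r', ?_⟩
    change (p ^ 2) • r' = (N * N) (p • r)
    rw [map_nsmul, hr', sq, mul_nsmul]
  have hc : ∀ j : ℕ, 2 ≤ j → ∀ m : M, (N ^ j) m ∈ P1 := by
    intro j hj m
    obtain ⟨i, rfl⟩ : ∃ i, j = i + 2 := ⟨j - 2, by omega⟩
    rw [pow_add, sq]
    exact ha1 (N ^ i) _ (hb m)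
  have he : ∀ j : ℕ, 4 ≤ j → ∀ m : M, (N ^ j) m ∈ P2 := by
    intro j hj m
    obtain ⟨i, rfl⟩ : ∃ i, j = i + 2 + 2 := ⟨j - 4, by omega⟩
    rw [pow_add, pow_add, sq]
    exact ha2 (N ^ i) _ (hd _ (hb m))
  have hTN : T = N + 1 := by rw [hNdef]; abel
  have hexpand : (N + 1) ^ p = ∑ j ∈ Finset.range (p + 1), N ^ j * 1 ^ (p - j) * (p.choose j : AddMonoid.End M) :=
    (Commute.one_right N).add_pow p
  intro m
  have h1 : m = ∑ j ∈ Finset.range (p + 1), (p.choose j) • (N ^ j) m := by
    have h2 : (T ^ p) m = m := by rw [hT]; rfl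
    rw [hTN, hexpand] at h2
    refine h2.symm.trans ?_
    let ev : AddMonoid.End M →+ M :=
      { toFun := fun f => f m
        map_zero' := rfl
        map_add' := fun f g => rfl }
    have hev : ∀ f : AddMonoid.End M, ev f = f m := fun f => rfl
    rw [← hev, map_sum]
    apply Finset.sum_congr rfl
    intro j _
    rw [one_pow, mul_one]
    change (N ^ j) (((p.choose j : ℕ) : AddMonoid.End M) m) = _
    rw [AddMonoid.End.natCast_apply, map_nsmul]
  have hsplit : ∀ (n : ℕ) (f : ℕ → M),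
      ∑ j ∈ Finset.range (n + 3), f j = ∑ j ∈ Finset.range (n + 1), f (j + 2) + f 1 + f 0 := by
    intro n f
    rw [Finset.sum_range_succ', Finset.sum_range_succ']
  have hp3 : p + 1 = (p - 2) + 3 := by omega
  rw [hp3, hsplit] at h1
  have hrest : ∑ j ∈ Finset.range (p - 2 + 1), (p.choose (j + 2)) • (N ^ (j + 2)) m ∈ P2 := by
    apply AddSubgroup.sum_mem
    intro j hj
    rw [Finset.mem_range] at hj
    by_cases hjp : j + 2 = p
    · rw [hjp, Nat.choose_self, one_nsmul]
      exact he p (by omega) m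
    · have hlt : j + 2 < p := by omega
      obtain ⟨c, hc'⟩ := hp.dvd_choose_self (by omega : j + 2 ≠ 0) hlt
      obtain ⟨r, hr⟩ := hc (j + 2) (by omega) m
      have hr' : p • r = (N ^ (j + 2)) m := hr
      refine ⟨c • r, ?_⟩
      change (p ^ 2) • (c • r) = (p.choose (j + 2)) • (N ^ (j + 2)) m
      rw [hc', ← hr', smul_smul, smul_smul]
      congr 1
      ring
  rw [Nat.choose_one_right, Nat.choose_zero_right, one_nsmul, pow_one, pow_zero] at h1
  have h3 : p • N m = - ∑ j ∈ Finset.range (p - 2 + 1), (p.choose (j + 2)) • (N ^ (j + 2)) m := by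
    have h4 : (1 : AddMonoid.End M) m = m := rfl
    rw [h4] at h1
    have h5 : ∑ j ∈ Finset.range (p - 2 + 1), (p.choose (j + 2)) • (N ^ (j + 2)) m + p • N m = 0 := by
      have := h1
      have h6 : m + 0 = ∑ j ∈ Finset.range (p - 2 + 1), (p.choose (j + 2)) • (N ^ (j + 2)) m + p • N m + m := by
        rw [add_zero]; exact this
      rw [add_comm _ m] at h6
      exact (add_left_cancel h6).symm
    exact eq_neg_of_add_eq_zero_right h5
  have h7 : p • N m ∈ P2 := by
    rw [h3]; exact P2.neg_mem hrest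
  obtain ⟨r, hr⟩ := h7
  exact ⟨r, hr.symm⟩


section Comm

variable {H : Type*} [CommGroup H] [Finite H] {p : ℕ} [Fact p.Prime]

theorem mem_ker_pow {n : ℕ} {x : H} : x ∈ (powMonoidHom n : H →* H).ker ↔ x ^ n = 1 := by
  rw [MonoidHom.mem_ker, powMonoidHom_apply]

theorem mem_range_pow {n : ℕ} {x : H} : x ∈ (powMonoidHom n : H →* H).range ↔ ∃ y : H, y ^ n = x := by
  rw [MonoidHom.mem_range]
  simp only [powMonoidHom_apply]

theorem card_ker_mul_card_range {G K : Type*} [Group G] [Group K] [Finite G] (f : G →* K) :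
    Nat.card f.ker * Nat.card f.range = Nat.card G := by
  rw [← Subgroup.index_ker, Subgroup.card_mul_index]

/-- Only the identity of `A` fixes `Ω₁(H)` pointwise. -/
theorem faithful_on_omega (hH : IsPGroup p H) (A : Subgroup (MulAut H))
    (hA2 : ∀ N : Subgroup A, N.Normal → IsPGroup p N → N = ⊥) :
    ∀ α ∈ A, (∀ x : H, x ^ p = 1 → α x = x) → α = 1 := by
  let N' : Subgroup (MulAut H) :=
    { carrier := {α | ∀ x : H, x ^ p = 1 → α x = x}
      mul_mem' := by
        intro α β hα hβ x hx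
        rw [MulAut.mul_apply, hβ x hx, hα x hx]
      one_mem' := fun x _ => rfl
      inv_mem' := by
        intro α hα x hx
        have := hα x hx
        conv_lhs => rw [← this]
        exact MulAut.inv_apply_self _ _ _ }
  have hN'mem : ∀ α : MulAut H, α ∈ N' ↔ ∀ x : H, x ^ p = 1 → α x = x := fun α => Iff.rfl
  have hNn : (N'.subgroupOf A).Normal := by
    constructor
    intro β hβ a
    rw [Subgroup.mem_subgroupOf, hN'mem] at hβ ⊢
    intro x hx
    have h1 : ((a : MulAut H)⁻¹ x) ^ p = 1 := by rw [← map_pow, hx, map_one]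
    have h2 := hβ _ h1
    simp only [Subgroup.coe_mul, Subgroup.coe_inv, MulAut.mul_apply]
    rw [h2, MulAut.apply_inv_self]
  have hNp : IsPGroup p (N'.subgroupOf A) := by
    apply isPGroup_of_coprime_trivial
    intro β hβ
    have hβN : ((β : A) : MulAut H) ∈ N' := β.2
    rw [hN'mem] at hβN
    have h1 : (((β : A) : MulAut H)) ^ (orderOf β) = 1 := by
      have h0 := pow_orderOf_eq_one β
      have h2 : (((β ^ orderOf β : N'.subgroupOf A) : A) : MulAut H) = 1 := by rw [h0]; rfl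
      rw [Subgroup.coe_pow, Subgroup.coe_pow] at h2
      exact h2
    have h3 := abelian_omega_fix (fun a b => mul_comm a b) hH ((β : A) : MulAut H) (orderOf β) hβ h1 hβN
    apply Subtype.ext
    apply Subtype.ext
    ext x
    exact h3 x
  have hNbot := hA2 _ hNn hNp
  intro α hα hfix
  have h1 : (⟨α, hα⟩ : A) ∈ N'.subgroupOf A := by
    rw [Subgroup.mem_subgroupOf, hN'mem]; exact hfix
  rw [hNbot, Subgroup.mem_bot] at h1
  exact congrArg Subtype.val h1


/-- The structure of an abelian `p`-group of rank at most two with an automorphism group of order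
divisible by `p` and without normal `p`-subgroups. -/
theorem homocyclic_data (hH : IsPGroup p H) (A : Subgroup (MulAut H)) (hA1 : p ∣ Nat.card A)
    (hA2 : ∀ N : Subgroup A, N.Normal → IsPGroup p N → N = ⊥)
    (hfr : (frattini H).index ≤ p ^ 2) :
    ∃ a : ℕ, 1 ≤ a ∧ (∀ x : H, x ^ (p ^ a) = 1) ∧
      Nat.card (powMonoidHom p : H →* H).ker = p ^ 2 ∧
      (powMonoidHom (p ^ (a - 1)) : H →* H).range = (powMonoidHom p : H →* H).ker ∧
      (∀ x : H, x ^ (p ^ (a - 1)) = 1 → ∃ y : H, y ^ p = x) := by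
  have hp : p.Prime := Fact.out
  have hfaith := faithful_on_omega hH A hA2
  set V : Subgroup H := (powMonoidHom p : H →* H).ker with hV
  have hfaithV : ∀ α ∈ A, (∀ x ∈ V, α x = x) → α = 1 := by
    intro α hα h
    exact hfaith α hα (fun x hx => h x (mem_ker_pow.mpr hx))
  have hVinv : ∀ α : MulAut H, ∀ x ∈ V, α x ∈ V := by
    intro α x hx
    rw [hV, mem_ker_pow] at hx ⊢
    rw [← map_pow, hx, map_one]
  obtain ⟨e, he⟩ := hH.exists_card_eq
  -- `|Ω₁| ≤ p²`
  have hfr_le : frattini H ≤ (powMonoidHom p : H →* H).range := by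
    apply Cfsg.Agent.Lib.Helper54.frattini_le_of_commutator_le_of_pow_mem (p := p)
    · rw [commutator_def, Subgroup.commutator_le]
      intro a _ b _
      have : ⁅a, b⁆ = 1 := by rw [commutatorElement_eq_one_iff_commute]; exact mul_comm a b
      rw [this]; exact Subgroup.one_mem _
    · intro x
      exact mem_range_pow.mpr ⟨x, rfl⟩
  have hVcard_idx : Nat.card V = (powMonoidHom p : H →* H).range.index := by
    have h1 := card_ker_mul_card_range (powMonoidHom p : H →* H)
    have h2 := Subgroup.card_mul_index (powMonoidHom p : H →* H).range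
    have h3 : Nat.card (powMonoidHom p : H →* H).range ≠ 0 := Nat.card_pos.ne'
    have h4 : Nat.card (powMonoidHom p : H →* H).range * Nat.card V =
        Nat.card (powMonoidHom p : H →* H).range * (powMonoidHom p : H →* H).range.index := by
      rw [h2, mul_comm, h1]
    exact Nat.eq_of_mul_eq_mul_left (Nat.pos_of_ne_zero h3) h4
  have hVle : Nat.card V ≤ p ^ 2 := by
    rw [hVcard_idx]
    refine le_trans (Nat.le_of_dvd ?_ (Subgroup.index_dvd_of_le hfr_le)) hfr
    exact Nat.pos_of_ne_zero (Subgroup.index_ne_zero_of_finite)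
  have hVdvd : Nat.card V ∣ p ^ e := by rw [← he]; exact Subgroup.card_subgroup_dvd_card V
  obtain ⟨j, -, hj⟩ := (Nat.dvd_prime_pow hp).mp hVdvd
  have hj2 : j ≤ 2 := by
    rw [hj] at hVle
    exact (Nat.pow_le_pow_iff_right hp.one_lt).mp hVle
  have hVcard : Nat.card V = p ^ 2 := by
    have hcases : j = 0 ∨ j = 1 ∨ j = 2 := by omega
    rcases hcases with rfl | rfl | rfl
    · exfalso
      rw [pow_zero, Subgroup.card_eq_one] at hj
      refine no_small_invariant hH A hA1 hA2 V hfaithV (fun α _ => hVinv α) ⊥ bot_le ?_ (Or.inl rfl)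
        (Or.inl hj.symm)
      intro α _ x hx
      rw [Subgroup.mem_bot] at hx ⊢
      rw [hx, map_one]
    · exfalso
      rw [pow_one] at hj
      refine no_small_invariant hH A hA1 hA2 V hfaithV (fun α _ => hVinv α) ⊥ bot_le ?_ (Or.inl rfl)
        (Or.inr ?_)
      · intro α _ x hx
        rw [Subgroup.mem_bot] at hx ⊢
        rw [hx, map_one]
      · rw [Subgroup.relIndex_bot_left, hj]
    · exact hj
  -- irreducibility
  have hirr : ∀ W : Subgroup H, W ≤ V → Nat.card W = p → (∀ α ∈ A, ∀ x ∈ W, α x ∈ W) → False := by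
    intro W hWV hW hWinv
    refine no_small_invariant hH A hA1 hA2 V hfaithV (fun α _ => hVinv α) W hWV hWinv (Or.inr hW)
      (Or.inr ?_)
    have h1 : (⊥ : Subgroup H).relIndex W * W.relIndex V = (⊥ : Subgroup H).relIndex V :=
      Subgroup.relIndex_mul_relIndex _ _ _ bot_le hWV
    rw [Subgroup.relIndex_bot_left, Subgroup.relIndex_bot_left, hW, hVcard] at h1
    have : p * W.relIndex V = p * p := by rw [h1]; ring
    exact Nat.eq_of_mul_eq_mul_left hp.pos this
  -- the exponent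
  have hex : ∃ a : ℕ, ∀ x : H, x ^ (p ^ a) = 1 :=
    ⟨e, fun x => by rw [← he]; exact pow_card_eq_one'⟩
  classical
  set a := Nat.find hex with ha_def
  have hexp : ∀ x : H, x ^ (p ^ a) = 1 := Nat.find_spec hex
  have ha1 : 1 ≤ a := by
    by_contra h
    have h0 : a = 0 := by omega
    rw [h0, pow_zero] at hexp
    have : V = ⊥ := by
      rw [eq_bot_iff]
      intro x _
      rw [Subgroup.mem_bot, ← pow_one x]; exact hexp x
    rw [this, Subgroup.card_bot] at hVcard
    have := hp.one_lt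
    nlinarith
  have hmin : ¬ ∀ x : H, x ^ (p ^ (a - 1)) = 1 := Nat.find_min hex (by omega)
  set φ : H →* H := powMonoidHom (p ^ (a - 1)) with hφ
  have hWV : φ.range ≤ V := by
    rintro _ ⟨x, rfl⟩
    rw [hV, mem_ker_pow, hφ, powMonoidHom_apply, ← pow_mul, ← pow_succ]
    have : a - 1 + 1 = a := by omega
    rw [this]; exact hexp x
  have hWne : φ.range ≠ ⊥ := by
    intro hbot
    apply hmin
    intro x
    have : φ x ∈ φ.range := ⟨x, rfl⟩
    rw [hbot, Subgroup.mem_bot] at this
    exact this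
  have hWinv : ∀ α : MulAut H, ∀ x ∈ φ.range, α x ∈ φ.range := by
    rintro α _ ⟨y, rfl⟩
    exact ⟨α y, by rw [hφ, powMonoidHom_apply, powMonoidHom_apply, map_pow]⟩
  have hWcard : Nat.card φ.range = p ^ 2 := by
    have h1 : Nat.card φ.range ∣ p ^ 2 := by rw [← hVcard]; exact Subgroup.card_dvd_of_le hWV
    obtain ⟨i, hi2, hi⟩ := (Nat.dvd_prime_pow hp).mp h1
    have hcases : i = 0 ∨ i = 1 ∨ i = 2 := by omega
    rcases hcases with rfl | rfl | rfl
    · exfalso
      rw [pow_zero, Subgroup.card_eq_one] at hi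
      exact hWne hi
    · exfalso
      rw [pow_one] at hi
      exact hirr _ hWV hi (fun α _ => hWinv α)
    · exact hi
  have hWeq : φ.range = V := Subgroup.eq_of_le_of_card_ge hWV (by rw [hWcard, hVcard])
  refine ⟨a, ha1, hexp, hVcard, hWeq, ?_⟩
  -- the kernel of `φ`
  intro x hx
  by_cases ha2 : a = 1
  · rw [ha2] at hx
    simp only [Nat.sub_self, pow_zero, pow_one] at hx
    exact ⟨1, by rw [hx, one_pow]⟩
  · have hle : (powMonoidHom p : H →* H).range ≤ φ.ker := by
      rintro _ ⟨y, rfl⟩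
      rw [hφ, mem_ker_pow, powMonoidHom_apply, ← pow_mul, ← pow_succ']
      have : a - 1 + 1 = a := by omega
      rw [this]; exact hexp y
    have h1 := card_ker_mul_card_range φ
    rw [hWcard] at h1
    have h2 := Subgroup.card_mul_index (powMonoidHom p : H →* H).range
    rw [← hVcard_idx, hVcard] at h2
    have h3 : Nat.card φ.ker = Nat.card (powMonoidHom p : H →* H).range := by
      have : Nat.card φ.ker * p ^ 2 = Nat.card (powMonoidHom p : H →* H).range * p ^ 2 := by
        rw [h1, h2]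
      exact Nat.eq_of_mul_eq_mul_right (pow_pos hp.pos 2) this
    have h4 : (powMonoidHom p : H →* H).range = φ.ker :=
      Subgroup.eq_of_le_of_card_ge hle (by rw [h3])
    have h5 : x ∈ φ.ker := by rw [hφ, mem_ker_pow]; exact hx
    rw [← h4] at h5
    exact mem_range_pow.mp h5


/-- elements of order dividing `p` in a cyclic group of order `p ^ a` -/
theorem mem_zpowers_pow_of_pow_eq_one {x z : H} {a : ℕ} (ha : 1 ≤ a) (hx : orderOf x = p ^ a)
    (hz : z ∈ Subgroup.zpowers x) (hzp : z ^ p = 1) : z ∈ Subgroup.zpowers (x ^ (p ^ (a - 1))) := by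
  have hp : p.Prime := Fact.out
  obtain ⟨k, rfl⟩ := Subgroup.mem_zpowers_iff.mp hz
  have h1 : x ^ (k * (p : ℤ)) = 1 := by
    rw [zpow_mul, zpow_natCast]; exact hzp
  have h2 : ((orderOf x : ℕ) : ℤ) ∣ k * (p : ℤ) := orderOf_dvd_iff_zpow_eq_one.mpr h1
  rw [hx] at h2
  have h3 : ((p ^ (a - 1) : ℕ) : ℤ) * (p : ℤ) ∣ k * (p : ℤ) := by
    have : (p ^ a : ℕ) = p ^ (a - 1) * p := by
      rw [← pow_succ]; congr 1; omega
    rw [this] at h2
    exact_mod_cast h2
  have h4 : ((p ^ (a - 1) : ℕ) : ℤ) ∣ k :=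
    Int.dvd_of_mul_dvd_mul_right (by exact_mod_cast hp.ne_zero) h3
  obtain ⟨k', rfl⟩ := h4
  rw [Subgroup.mem_zpowers_iff]
  refine ⟨k', ?_⟩
  rw [zpow_mul, zpow_natCast]

theorem homocyclic_iso (hH : IsPGroup p H) (a : ℕ) (ha : 1 ≤ a) (hexp : ∀ x : H, x ^ (p ^ a) = 1)
    (hcard : Nat.card (powMonoidHom p : H →* H).ker = p ^ 2)
    (hrange : (powMonoidHom (p ^ (a - 1)) : H →* H).range = (powMonoidHom p : H →* H).ker)
    (hstar : ∀ x : H, x ^ (p ^ (a - 1)) = 1 → ∃ y : H, y ^ p = x) :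
    Nonempty (H ≃* Multiplicative (ZMod (p ^ a) × ZMod (p ^ a))) := by
  have hp : p.Prime := Fact.out
  set V : Subgroup H := (powMonoidHom p : H →* H).ker with hV
  have hVne : V ≠ ⊥ := by
    intro h
    rw [h, Subgroup.card_bot] at hcard
    have := hp.one_lt
    nlinarith
  obtain ⟨w1, hw1V, hw1⟩ := (Subgroup.bot_or_exists_ne_one V).resolve_left hVne
  have hVmem : ∀ x : H, x ∈ V ↔ x ^ p = 1 := fun x => mem_ker_pow
  have hw1p : w1 ^ p = 1 := (hVmem w1).mp hw1V
  have hw1ord : orderOf w1 = p := orderOf_eq_prime hw1p hw1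
  have hz1V : Subgroup.zpowers w1 ≤ V := by rw [Subgroup.zpowers_le]; exact hw1V
  have hz1card : Nat.card (Subgroup.zpowers w1) = p := by rw [Nat.card_zpowers, hw1ord]
  have hw2ex : ∃ w2 ∈ V, w2 ∉ Subgroup.zpowers w1 := by
    by_contra hall
    have hle : V ≤ Subgroup.zpowers w1 := by
      intro v hv
      by_contra hvn
      exact hall ⟨v, hv, hvn⟩
    have := Nat.le_of_dvd (by rw [hz1card]; exact hp.pos) (Subgroup.card_dvd_of_le hle)
    rw [hcard, hz1card] at this
    have := hp.one_lt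
    nlinarith
  obtain ⟨w2, hw2V, hw2n⟩ := hw2ex
  have hw2p : w2 ^ p = 1 := (hVmem w2).mp hw2V
  have hw2 : w2 ≠ 1 := by
    rintro rfl
    exact hw2n (Subgroup.one_mem _)
  have hw2ord : orderOf w2 = p := orderOf_eq_prime hw2p hw2
  have hz2V : Subgroup.zpowers w2 ≤ V := by rw [Subgroup.zpowers_le]; exact hw2V
  have hz2card : Nat.card (Subgroup.zpowers w2) = p := by rw [Nat.card_zpowers, hw2ord]
  have hdisjw : Subgroup.zpowers w1 ⊓ Subgroup.zpowers w2 = ⊥ := by
    by_contra hne
    have h1 := le_of_card_prime_of_inf_ne_bot (Subgroup.zpowers w2) (Subgroup.zpowers w1) hz2card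
      (by rwa [inf_comm])
    exact hw2n (h1 (Subgroup.mem_zpowers w2))
  have hsupw : Subgroup.zpowers w1 ⊔ Subgroup.zpowers w2 = V := by
    have hle : Subgroup.zpowers w1 ⊔ Subgroup.zpowers w2 ≤ V := sup_le hz1V hz2V
    apply Subgroup.eq_of_le_of_card_ge hle
    have h1 : Nat.card (Subgroup.zpowers w1 ⊔ Subgroup.zpowers w2 : Subgroup H) ∣ p ^ 2 := by
      rw [← hcard]; exact Subgroup.card_dvd_of_le hle
    obtain ⟨i, hi2, hi⟩ := (Nat.dvd_prime_pow hp).mp h1
    have hi1 : ¬ i ≤ 1 := by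
      intro hi1
      have h2 : Subgroup.zpowers w1 = Subgroup.zpowers w1 ⊔ Subgroup.zpowers w2 := by
        apply Subgroup.eq_of_le_of_card_ge le_sup_left
        rw [hi, hz1card]
        calc p ^ i ≤ p ^ 1 := Nat.pow_le_pow_right hp.pos hi1
          _ = p := pow_one p
      apply hw2n
      rw [h2]
      exact le_sup_right (a := Subgroup.zpowers w1) (Subgroup.mem_zpowers w2)
    have : i = 2 := by omega
    rw [hcard, hi, this]
  set φ : H →* H := powMonoidHom (p ^ (a - 1)) with hφ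
  have hφapp : ∀ h : H, φ h = h ^ (p ^ (a - 1)) := fun h => rfl
  obtain ⟨x, hx⟩ : ∃ x, φ x = w1 := by
    have : w1 ∈ φ.range := by rw [hrange]; exact hw1V
    exact this
  obtain ⟨y, hy⟩ : ∃ y, φ y = w2 := by
    have : w2 ∈ φ.range := by rw [hrange]; exact hw2V
    exact this
  have haa : a - 1 + 1 = a := by omega
  have hxord : orderOf x = p ^ a := by
    have h1 : ¬ x ^ p ^ (a - 1) = 1 := by rw [← hφapp, hx]; exact hw1
    have h2 : x ^ p ^ (a - 1 + 1) = 1 := by rw [haa]; exact hexp x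
    have := orderOf_eq_prime_pow h1 h2
    rwa [haa] at this
  have hyord : orderOf y = p ^ a := by
    have h1 : ¬ y ^ p ^ (a - 1) = 1 := by rw [← hφapp, hy]; exact hw2
    have h2 : y ^ p ^ (a - 1 + 1) = 1 := by rw [haa]; exact hexp y
    have := orderOf_eq_prime_pow h1 h2
    rwa [haa] at this
  have hdisj : Disjoint (Subgroup.zpowers x) (Subgroup.zpowers y) := by
    rw [disjoint_iff]
    by_contra hne
    set D : Subgroup H := Subgroup.zpowers x ⊓ Subgroup.zpowers y with hD
    have hDp : IsPGroup p D := hH.to_subgroup D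
    obtain ⟨i, hi⟩ := hDp.exists_card_eq
    have hi0 : i ≠ 0 := by
      rintro rfl
      rw [pow_zero, Subgroup.card_eq_one] at hi
      exact hne hi
    have hdvd : p ∣ Nat.card D := by rw [hi]; exact dvd_pow_self p hi0
    obtain ⟨z, hz⟩ := exists_prime_orderOf_dvd_card' (G := D) p hdvd
    have hzp : (z : H) ^ p = 1 := by
      rw [← Subgroup.coe_pow, ← hz, pow_orderOf_eq_one]; rfl
    have hzx : (z : H) ∈ Subgroup.zpowers x := z.2.1
    have hzy : (z : H) ∈ Subgroup.zpowers y := z.2.2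
    have h1 := mem_zpowers_pow_of_pow_eq_one ha hxord hzx hzp
    have h2 := mem_zpowers_pow_of_pow_eq_one ha hyord hzy hzp
    rw [← hφapp, hx] at h1
    rw [← hφapp, hy] at h2
    have h3 : (z : H) ∈ Subgroup.zpowers w1 ⊓ Subgroup.zpowers w2 := ⟨h1, h2⟩
    rw [hdisjw, Subgroup.mem_bot] at h3
    have : z = 1 := Subtype.ext h3
    rw [this, orderOf_one] at hz
    exact hp.one_lt.ne hz
  let ψ : Subgroup.zpowers x × Subgroup.zpowers y →* H :=
    (Subgroup.zpowers x).subtype.coprod (Subgroup.zpowers y).subtype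
  have hψapp : ∀ u : Subgroup.zpowers x × Subgroup.zpowers y, ψ u = (u.1 : H) * (u.2 : H) := by
    intro u
    exact MonoidHom.coprod_apply _ _ u
  have hψinj : Function.Injective ψ := by
    have := Subgroup.mul_injective_of_disjoint hdisj
    intro u v huv
    apply this
    simpa [hψapp] using huv
  have hxK : x ∈ ψ.range := ⟨(⟨x, Subgroup.mem_zpowers x⟩, 1), by rw [hψapp]; simp⟩
  have hyK : y ∈ ψ.range := ⟨(1, ⟨y, Subgroup.mem_zpowers y⟩), by rw [hψapp]; simp⟩
  have hdecomp : ∀ j : ℕ, ∀ h : H, ∃ k ∈ ψ.range, ∃ m : H, h = k * m ^ (p ^ j) := by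
    intro j
    induction j with
    | zero => intro h; exact ⟨1, Subgroup.one_mem _, h, by simp⟩
    | succ j ih =>
      intro h
      obtain ⟨k, hk, m, rfl⟩ := ih h
      have hφm : φ m ∈ Subgroup.zpowers w1 ⊔ Subgroup.zpowers w2 := by
        rw [hsupw, ← hrange]; exact ⟨m, rfl⟩
      obtain ⟨u, hu, v, hv, huv⟩ := Subgroup.mem_sup.mp hφm
      obtain ⟨i1, rfl⟩ := Subgroup.mem_zpowers_iff.mp hu
      obtain ⟨i2, rfl⟩ := Subgroup.mem_zpowers_iff.mp hv
      set k' : H := x ^ i1 * y ^ i2 with hk'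
      have hk'K : k' ∈ ψ.range :=
        Subgroup.mul_mem _ (Subgroup.zpow_mem _ hxK i1) (Subgroup.zpow_mem _ hyK i2)
      have hφk' : φ k' = φ m := by
        rw [hk', map_mul, map_zpow, map_zpow, hx, hy, huv]
      have h1 : (k'⁻¹ * m) ^ (p ^ (a - 1)) = 1 := by
        rw [← hφapp, map_mul, map_inv, hφk', inv_mul_cancel]
      obtain ⟨n, hn⟩ := hstar _ h1
      refine ⟨k * k' ^ (p ^ j), Subgroup.mul_mem _ hk (Subgroup.pow_mem _ hk'K _), n, ?_⟩
      have h2 : m = k' * n ^ p := by rw [hn]; group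
      rw [h2, mul_pow, ← pow_mul, ← pow_succ', mul_assoc]
  have hψsurj : Function.Surjective ψ := by
    intro h
    obtain ⟨k, hk, m, rfl⟩ := hdecomp a h
    rw [hexp m, mul_one]
    exact hk
  have e0 : Subgroup.zpowers x × Subgroup.zpowers y ≃* H := MulEquiv.ofBijective ψ ⟨hψinj, hψsurj⟩
  have e1 : Multiplicative (ZMod (p ^ a)) ≃* Subgroup.zpowers x := by
    have hc : Nat.card (Subgroup.zpowers x) = p ^ a := by rw [Nat.card_zpowers, hxord]
    rw [← hc]
    exact zmodCyclicMulEquiv inferInstance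
  have e2 : Multiplicative (ZMod (p ^ a)) ≃* Subgroup.zpowers y := by
    have hc : Nat.card (Subgroup.zpowers y) = p ^ a := by rw [Nat.card_zpowers, hyord]
    rw [← hc]
    exact zmodCyclicMulEquiv inferInstance
  exact ⟨e0.symm.trans ((MulEquiv.prodCongr e1.symm e2.symm).trans (MulEquiv.prodMultiplicative (ZMod (p ^ a)) (ZMod (p ^ a))).symm)⟩


/-- An automorphism of order `p` acting on a characteristic subgroup of order `p²` has a nontrivial fixed
point. -/
theorem exists_fixed_ne_one (α : MulAut H) (hαp : α ^ p = 1) (V : Subgroup H)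
    (hVinv : ∀ β : MulAut H, ∀ x ∈ V, β x ∈ V) (hV : p ∣ Nat.card V) :
    ∃ v ∈ V, v ≠ 1 ∧ α v = v := by
  have hp : p.Prime := Fact.out
  letI : MulAction (MulAut H) V :=
    { smul := fun β v => ⟨β v, hVinv β v v.2⟩
      one_smul := fun v => rfl
      mul_smul := fun β γ v => rfl }
  have hsmul : ∀ (β : MulAut H) (v : V), ((β • v : V) : H) = β (v : H) := fun β v => rfl
  have hG : IsPGroup p (Subgroup.zpowers α) := by
    intro g
    refine ⟨1, ?_⟩
    obtain ⟨k, hk⟩ := Subgroup.mem_zpowers_iff.mp g.2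
    apply Subtype.ext
    rw [pow_one, Subgroup.coe_pow, ← hk, ← zpow_natCast, ← zpow_mul, mul_comm, zpow_mul, zpow_natCast,
      hαp, one_zpow]
    rfl
  have h1 : (1 : V) ∈ MulAction.fixedPoints (Subgroup.zpowers α) V := by
    intro g
    apply Subtype.ext
    change ((g : MulAut H) • (1 : V) : V).1 = 1
    rw [hsmul]; simp
  obtain ⟨b, hb, hb1⟩ := hG.exists_fixed_point_of_prime_dvd_card_of_fixed_point V hV h1
  refine ⟨b, b.2, ?_, ?_⟩
  · intro h
    apply hb1
    exact (Subtype.ext h).symm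
  · have := hb ⟨α, Subgroup.mem_zpowers α⟩
    have h2 := congrArg Subtype.val this
    exact h2

theorem exponent_eq_one_of_five_le (hH : IsPGroup p H) (A : Subgroup (MulAut H))
    (hA1 : p ∣ Nat.card A)
    (hfaith : ∀ α ∈ A, (∀ x : H, x ^ p = 1 → α x = x) → α = 1)
    (hp5 : 5 ≤ p) (a : ℕ) (ha : 1 ≤ a) (hexp : ∀ x : H, x ^ (p ^ a) = 1)
    (hcard : Nat.card (powMonoidHom p : H →* H).ker = p ^ 2)
    (hrange : (powMonoidHom (p ^ (a - 1)) : H →* H).range = (powMonoidHom p : H →* H).ker)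
    (hstar : ∀ x : H, x ^ (p ^ (a - 1)) = 1 → ∃ y : H, y ^ p = x) : a = 1 := by
  have hp : p.Prime := Fact.out
  by_contra ha1
  have ha2 : 2 ≤ a := by omega
  obtain ⟨α', hα'⟩ := exists_prime_orderOf_dvd_card' (G := A) p hA1
  set α : MulAut H := (α' : MulAut H) with hα
  have hαA : α ∈ A := α'.2
  have hαp : α ^ p = 1 := by
    have h0 := pow_orderOf_eq_one α'
    rw [hα'] at h0
    have h2 : ((α' ^ p : A) : MulAut H) = 1 := by rw [h0]; rfl
    rwa [Subgroup.coe_pow] at h2
  have hαne : α ≠ 1 := by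
    intro h
    have : α' = 1 := Subtype.ext h
    rw [this, orderOf_one] at hα'
    exact hp.one_lt.ne hα'
  set V : Subgroup H := (powMonoidHom p : H →* H).ker with hV
  have hVmem : ∀ x : H, x ∈ V ↔ x ^ p = 1 := fun x => mem_ker_pow
  have hVinv : ∀ β : MulAut H, ∀ x ∈ V, β x ∈ V := by
    intro β x hx
    rw [hVmem] at hx ⊢
    rw [← map_pow, hx, map_one]
  -- a fixed point
  obtain ⟨v0, hv0V, hv0, hαv0⟩ := exists_fixed_ne_one α hαp V hVinv
    (by rw [hcard]; exact dvd_pow_self p (by norm_num))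
  have hv0p : v0 ^ p = 1 := (hVmem v0).mp hv0V
  have hv0ord : orderOf v0 = p := orderOf_eq_prime hv0p hv0
  have hV0card : Nat.card (Subgroup.zpowers v0) = p := by rw [Nat.card_zpowers, hv0ord]
  have hV0V : Subgroup.zpowers v0 ≤ V := by rw [Subgroup.zpowers_le]; exact hv0V
  have hαV0 : ∀ x ∈ Subgroup.zpowers v0, α x = x := by
    intro x hx
    obtain ⟨k, rfl⟩ := Subgroup.mem_zpowers_iff.mp hx
    rw [map_zpow, hαv0]
  have hidx : (Subgroup.zpowers v0).relIndex V = p := by
    have h1 : (⊥ : Subgroup H).relIndex (Subgroup.zpowers v0) * (Subgroup.zpowers v0).relIndex V =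
        (⊥ : Subgroup H).relIndex V := Subgroup.relIndex_mul_relIndex _ _ _ bot_le hV0V
    rw [Subgroup.relIndex_bot_left, Subgroup.relIndex_bot_left, hV0card, hcard] at h1
    have : p * (Subgroup.zpowers v0).relIndex V = p * p := by rw [h1]; ring
    exact Nat.eq_of_mul_eq_mul_left hp.pos this
  have hδV : ∀ v ∈ V, α (v⁻¹ * α v) = v⁻¹ * α v := by
    intro v hv
    apply hαV0
    have h1 := pow_sub_one_mem_of_relIndex_eq hH (Subgroup.zpowers v0) V hidx α
      (fun x hx => by rw [hαV0 x hx]; exact hx) (hVinv α) (α v) (hVinv α v hv)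
    have h2 : α ^ (p - 1) = α⁻¹ := by
      rw [eq_inv_iff_mul_eq_one, ← pow_succ]
      have : p - 1 + 1 = p := by have := hp.two_le; omega
      rw [this]; exact hαp
    rw [h2, MulAut.inv_apply_self] at h1
    have h3 := (Subgroup.zpowers v0).inv_mem h1
    rwa [mul_inv_rev, inv_inv] at h3
  -- the endomorphism `δ`
  let δ : H →* H :=
    { toFun := fun h => h⁻¹ * α h
      map_one' := by simp
      map_mul' := fun x y => by
        rw [map_mul, mul_inv_rev, mul_comm y⁻¹ x⁻¹]
        exact mul_mul_mul_comm _ _ _ _ }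
  have hδapp : ∀ h : H, δ h = h⁻¹ * α h := fun h => rfl
  have hδδ : ∀ h : H, ∃ h' : H, δ (δ h) = h' ^ p := by
    intro h
    have hv : h ^ (p ^ (a - 1)) ∈ V := by
      rw [← hrange]; exact ⟨h, rfl⟩
    have h1 := hδV _ hv
    have h2 : δ (δ (h ^ (p ^ (a - 1)))) = 1 := by
      rw [hδapp (δ _), hδapp (h ^ _), h1, inv_mul_cancel]
    rw [map_pow, map_pow] at h2
    obtain ⟨y, hy⟩ := hstar _ h2
    exact ⟨y, hy.symm⟩
  -- transfer to the endomorphism ring
  let T : AddMonoid.End (Additive H) := MonoidHom.toAdditive α.toMonoidHom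
  have hTapp : ∀ m : Additive H, T m = Additive.ofMul (α (Additive.toMul m)) := fun m => rfl
  have hTpow : ∀ n : ℕ, ∀ m : Additive H, (T ^ n) m = Additive.ofMul ((α ^ n) (Additive.toMul m)) := by
    intro n
    induction n with
    | zero => intro m; rfl
    | succ n ih =>
      intro m
      rw [pow_succ, pow_succ, MulAut.mul_apply]
      change (T ^ n) (T m) = _
      rw [ih]
      rfl
  have hT : T ^ p = 1 := by
    ext m
    rw [hTpow, hαp]; rfl
  have hNapp : ∀ m : Additive H, (T - 1) m = Additive.ofMul (δ (Additive.toMul m)) := by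
    intro m
    change T m - m = _
    rw [hTapp, hδapp, mul_comm, ← div_eq_mul_inv, ofMul_div]
    rfl
  have hNN : ∀ m : Additive H, ∃ m' : Additive H, ((T - 1) * (T - 1)) m = p • m' := by
    intro m
    obtain ⟨h', hh'⟩ := hδδ (Additive.toMul m)
    refine ⟨Additive.ofMul h', ?_⟩
    change (T - 1) ((T - 1) m) = _
    rw [hNapp, hNapp, toMul_ofMul, hh', ofMul_pow]
  have hR := nsmul_sub_one_mem hp hp5 T hT hNN
  have hδp : ∀ h : H, ∃ r : H, (δ h) ^ p = r ^ (p ^ 2) := by
    intro h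
    obtain ⟨r, hr⟩ := hR (Additive.ofMul h)
    refine ⟨Additive.toMul r, ?_⟩
    rw [hNapp, toMul_ofMul] at hr
    have := congrArg Additive.toMul hr
    simpa using this
  have hδt : ∀ h : H, ∃ t : H, δ h = t ^ p := by
    intro h
    obtain ⟨r, hr⟩ := hδp h
    have h1 : (δ h * (r ^ p)⁻¹) ^ p = 1 := by
      rw [mul_pow, inv_pow, ← pow_mul, ← sq, hr, mul_inv_cancel]
    have h2 : δ h * (r ^ p)⁻¹ ∈ (powMonoidHom (p ^ (a - 1)) : H →* H).range := by
      rw [hrange]; exact (hVmem _).mpr h1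
    obtain ⟨s, hs⟩ := h2
    rw [powMonoidHom_apply] at hs
    refine ⟨r * s ^ (p ^ (a - 2)), ?_⟩
    have h3 : a - 1 = a - 2 + 1 := by omega
    rw [mul_pow, ← pow_mul, ← pow_succ, ← h3, hs, mul_comm (δ h) _, mul_inv_cancel_left]
  apply hαne
  apply hfaith α hαA
  intro v hv
  have hvV : v ∈ (powMonoidHom (p ^ (a - 1)) : H →* H).range := by
    rw [hrange]; exact (hVmem v).mpr hv
  obtain ⟨m, hm⟩ := hvV
  rw [powMonoidHom_apply] at hm
  obtain ⟨t, ht⟩ := hδt m
  have h1 : δ v = 1 := by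
    rw [← hm, map_pow, ht, ← pow_mul, ← pow_succ']
    have : a - 1 + 1 = a := by omega
    rw [this]; exact hexp t
  rw [hδapp] at h1
  have h2 : α v = v * (v⁻¹ * α v) := by group
  rw [h2, h1, mul_one]

end Comm

end Cfsg.Agent.Lib.Helper89
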