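import Mathlib
import Cfsg.Agent.Lib.Helper89.OrderPCube
import Cfsg.Agent.Lib.Helper89.AbelianRankTwo
import Cfsg.Agent.Lib.Helper03.PGroupFrattini
import Cfsg.Agent.Lib.Helper54.FrattiniLib

set_option autoImplicit false
universe u

namespace Cfsg.Agent.Lib.Helper89

open Cfsg
open scoped commutatorElement

section Basics

variable {G : Type*} [Group G]

theorem char_invariant (K : Subgroup G) [hK : K.Characteristic] (α : MulAut G) :
    ∀ x ∈ K, α x ∈ K := fun _ hx =>
  (Subgroup.characteristic_iff_map_le.mp hK α) (Subgroup.mem_map_of_mem _ hx)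

/-- The relative index of subgroups of orders `p ^ i` and `p ^ (i + 1)`. -/
theorem relIndex_eq_of_card {p : ℕ} (hp : p.Prime) {K L : Subgroup G} (hKL : K ≤ L) {i : ℕ}
    (hK : Nat.card K = p ^ i) (hL : Nat.card L = p ^ (i + 1)) : K.relIndex L = p := by
  have h1 : (⊥ : Subgroup G).relIndex K * K.relIndex L = (⊥ : Subgroup G).relIndex L :=
    Subgroup.relIndex_mul_relIndex _ _ _ bot_le hKL
  rw [Subgroup.relIndex_bot_left, Subgroup.relIndex_bot_left, hK, hL] at h1
  have : p ^ i * K.relIndex L = p ^ i * p := by rw [h1, pow_succ]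
  exact Nat.eq_of_mul_eq_mul_left (pow_pos hp.pos i) this

/-- The chain `⊥ ≤ A ≤ B ≤ C ≤ ⊤ ≤ ...`. -/
def chainFour (A B C : Subgroup G) : ℕ → Subgroup G
  | 0 => ⊥
  | 1 => A
  | 2 => B
  | 3 => C
  | _ => ⊤

theorem hasCharChain_of_three [Finite G] {p : ℕ} [Fact p.Prime]
    (hG : Nat.card G = p ^ 4) (A B C : Subgroup G) (hAB : A ≤ B) (hBC : B ≤ C)
    (hA : Nat.card A = p) (hB : Nat.card B = p ^ 2) (hC : Nat.card C = p ^ 3)
    (hAc : ∀ α : MulAut G, ∀ x ∈ A, α x ∈ A) (hBc : ∀ α : MulAut G, ∀ x ∈ B, α x ∈ B)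
    (hCc : ∀ α : MulAut G, ∀ x ∈ C, α x ∈ C) :
    HasCharChain p G := by
  have hp : p.Prime := Fact.out
  refine ⟨chainFour A B C, 4, ?_, rfl, rfl, ?_, ?_⟩
  · apply monotone_nat_of_le_succ
    intro n
    match n with
    | 0 => exact bot_le
    | 1 => exact hAB
    | 2 => exact hBC
    | 3 => exact le_top
    | (k + 4) => exact le_rfl
  · intro α i
    match i with
    | 0 =>
      intro x hx
      have hx1 : x = 1 := by simpa [chainFour] using hx
      subst hx1
      simp [chainFour]
    | 1 => exact hAc α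
    | 2 => exact hBc α
    | 3 => exact hCc α
    | (k + 4) => intro x _; exact Subgroup.mem_top _
  · intro i
    match i with
    | 0 =>
      right
      change (⊥ : Subgroup G).relIndex A = p
      rw [Subgroup.relIndex_bot_left, hA]
    | 1 =>
      right
      exact relIndex_eq_of_card hp hAB (i := 1) (by change Nat.card A = p ^ 1; rw [hA, pow_one]) hB
    | 2 =>
      right
      exact relIndex_eq_of_card hp hBC (i := 2) hB hC
    | 3 =>
      right
      exact relIndex_eq_of_card hp (le_top : C ≤ ⊤) (i := 3) hC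
        (by change Nat.card (⊤ : Subgroup G) = p ^ 4; rw [Subgroup.card_top, hG])
    | (k + 4) => left; rfl

/-- In a group where `⁅x, y⁆` is central for all `y`, the map `y ↦ ⁅x, y⁆` is a homomorphism. -/
def commHom (x : G) (hx : ∀ y : G, ⁅x, y⁆ ∈ Subgroup.center G) : G →* G where
  toFun y := ⁅x, y⁆
  map_one' := by simp [commutatorElement_def]
  map_mul' y₁ y₂ := by
    have h2 := Subgroup.mem_center_iff.mp (hx y₂)
    have e : ⁅x, y₁ * y₂⁆ = x * y₁ * x⁻¹ * ⁅x, y₂⁆ * y₁⁻¹ := by
      simp only [commutatorElement_def]; group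
    rw [e, mul_assoc (x * y₁ * x⁻¹), ← h2 y₁⁻¹]
    simp only [commutatorElement_def]; group

theorem commHom_apply (x : G) (hx : ∀ y : G, ⁅x, y⁆ ∈ Subgroup.center G) (y : G) :
    commHom x hx y = ⁅x, y⁆ := rfl

theorem commHom_ker (x : G) (hx : ∀ y : G, ⁅x, y⁆ ∈ Subgroup.center G) :
    (commHom x hx).ker = Subgroup.centralizer {x} := by
  ext y
  rw [MonoidHom.mem_ker, commHom_apply, commutatorElement_eq_one_iff_commute,
    Subgroup.mem_centralizer_singleton_iff]
  constructor
  · intro h; exact h.eq.symm
  · intro h; exact h.symm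

theorem commHom_range_le (x : G) (hx : ∀ y : G, ⁅x, y⁆ ∈ Subgroup.center G) :
    (commHom x hx).range ≤ Subgroup.center G := by
  rintro _ ⟨y, rfl⟩
  exact hx y

end Basics

section CenterP

variable {G : Type*} [Group G] [Finite G] {p : ℕ} [Fact p.Prime]

/-- If `x` is not central but all its commutators are, in a group whose centre has order `p`,
then the centralizer of `x` has index `p`. -/
theorem index_centralizer_of_comm_central (hZ : Nat.card (Subgroup.center G) = p) (x : G)
    (hx : ∀ y : G, ⁅x, y⁆ ∈ Subgroup.center G) (hxZ : x ∉ Subgroup.center G) :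
    (Subgroup.centralizer {x} : Subgroup G).index = p := by
  have hp : p.Prime := Fact.out
  rw [← commHom_ker x hx, Subgroup.index_ker]
  have h1 : Nat.card (commHom x hx).range ∣ p := by
    rw [← hZ]; exact Subgroup.card_dvd_of_le (commHom_range_le x hx)
  rcases (Nat.dvd_prime hp).mp h1 with h | h
  · exfalso
    apply hxZ
    rw [Subgroup.card_eq_one] at h
    rw [Subgroup.mem_center_iff]
    intro g
    have h2 : commHom x hx g ∈ (commHom x hx).range := ⟨g, rfl⟩
    rw [h, Subgroup.mem_bot, commHom_apply, commutatorElement_eq_one_iff_commute] at h2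
    exact h2.eq.symm
  · exact h

/-- A group of order `p ^ 4` with centre of order `p` is not of class two. -/
theorem not_class_two_of_center_card_p (hG : Nat.card G = p ^ 4)
    (hZ : Nat.card (Subgroup.center G) = p)
    (hcl : ∀ x y : G, ⁅x, y⁆ ∈ Subgroup.center G) : False := by
  have hp : p.Prime := Fact.out
  have hZtop : Subgroup.center G ≠ ⊤ := by
    intro h
    rw [h, Subgroup.card_top, hG] at hZ
    have := hp.one_lt
    have h4 : p ^ 4 = p ^ 1 := by rw [pow_one]; exact hZ
    have := Nat.pow_right_injective hp.two_le h4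
    omega
  obtain ⟨x, hx⟩ : ∃ x : G, x ∉ Subgroup.center G := by
    by_contra h
    apply hZtop
    rw [eq_top_iff]
    intro g _
    by_contra hg
    exact h ⟨g, hg⟩
  set C : Subgroup G := Subgroup.centralizer {x} with hC
  have hCidx : C.index = p := index_centralizer_of_comm_central hZ x (hcl x) hx
  have hCcard : Nat.card C = p ^ 3 := by
    have h1 := Subgroup.card_mul_index C
    rw [hCidx, hG] at h1
    have : Nat.card C * p = p ^ 3 * p := by rw [h1]; ring
    exact Nat.eq_of_mul_eq_mul_right hp.pos this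
  have hxC : x ∈ C := Subgroup.mem_centralizer_singleton_iff.mpr rfl
  have hZC : Subgroup.center G ≤ C := Subgroup.center_le_centralizer _
  -- `C` is abelian
  have hCcomm : ∀ a b : C, a * b = b * a := by
    have hxc : (⟨x, hxC⟩ : C) ∈ Subgroup.center C := by
      rw [Subgroup.mem_center_iff]
      intro g
      apply Subtype.ext
      have := Subgroup.mem_centralizer_singleton_iff.mp g.2
      simpa using this
    have hZc : (Subgroup.center G).subgroupOf C ≤ Subgroup.center C := by
      intro z hz
      rw [Subgroup.mem_subgroupOf] at hz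
      rw [Subgroup.mem_center_iff]
      intro g
      apply Subtype.ext
      have := Subgroup.mem_center_iff.mp hz (g : G)
      simpa using this
    have hlt : (Subgroup.center G).subgroupOf C < Subgroup.center C := by
      refine lt_of_le_of_ne hZc ?_
      intro heq
      rw [← heq, Subgroup.mem_subgroupOf] at hxc
      exact hx hxc
    have hcardZ' : Nat.card ((Subgroup.center G).subgroupOf C) = p := by
      rw [Nat.card_congr (Subgroup.subgroupOfEquivOfLe hZC).toEquiv, hZ]
    have hdvd : Nat.card (Subgroup.center C) ∣ p ^ 3 := by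
      rw [← hCcard]; exact Subgroup.card_subgroup_dvd_card _
    obtain ⟨j, hj3, hj⟩ := (Nat.dvd_prime_pow hp).mp hdvd
    have hj2 : 2 ≤ j := by
      by_contra hlt2
      have hj1 : j ≤ 1 := by omega
      have h1 : Nat.card (Subgroup.center C) ≤ p := by
        rw [hj]
        calc p ^ j ≤ p ^ 1 := Nat.pow_le_pow_right hp.pos hj1
          _ = p := pow_one p
      have h2 : (Subgroup.center G).subgroupOf C = Subgroup.center C :=
        Subgroup.eq_of_le_of_card_ge hZc (by rw [hcardZ']; exact h1)
      exact hlt.ne h2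
    have hidx : Nat.card (C ⧸ Subgroup.center C) ∣ p := by
      have h1 := Subgroup.card_mul_index (Subgroup.center C)
      rw [hj, hCcard, Subgroup.index_eq_card] at h1
      have h2 : p ^ j * Nat.card (C ⧸ Subgroup.center C) = p ^ j * p ^ (3 - j) := by
        rw [h1, ← pow_add]; congr 1; omega
      have h3 := Nat.eq_of_mul_eq_mul_left (pow_pos hp.pos j) h2
      rw [h3]
      calc p ^ (3 - j) ∣ p ^ 1 := pow_dvd_pow p (by omega)
        _ = p := pow_one p
    have hcyc : IsCyclic (C ⧸ Subgroup.center C) := isCyclic_of_card_dvd_prime hidx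
    exact (isMulCommutative_of_isCyclic_quotient_center_self C).is_comm.comm
  have hCtop : C ≠ ⊤ := by
    intro h
    rw [h, Subgroup.index_top] at hCidx
    exact hp.one_lt.ne hCidx
  obtain ⟨y, hy⟩ : ∃ y : G, y ∉ C := by
    by_contra h
    apply hCtop
    rw [eq_top_iff]
    intro g _
    by_contra hg
    exact h ⟨g, hg⟩
  have hyZ : y ∉ Subgroup.center G := fun h => hy (hZC h)
  have hCy : (Subgroup.centralizer {y} : Subgroup G).index = p :=
    index_centralizer_of_comm_central hZ y (hcl y) hyZ
  set D : Subgroup G := C ⊓ Subgroup.centralizer {y} with hD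
  have hDidx : D.index ≤ p * p := by
    have := Subgroup.index_inf_le (H := C) (K := Subgroup.centralizer {y})
    rwa [hCidx, hCy] at this
  have hDZ : D ≤ Subgroup.center G := by
    intro d hd
    have hdC : d ∈ C := hd.1
    have hdy : d ∈ Subgroup.centralizer {y} := hd.2
    have h1 : C < Subgroup.centralizer {d} := by
      refine lt_of_le_of_ne ?_ ?_
      · intro c hc
        rw [Subgroup.mem_centralizer_singleton_iff]
        have := hCcomm ⟨c, hc⟩ ⟨d, hdC⟩
        exact congrArg Subtype.val this
      · intro heq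
        apply hy
        rw [heq, Subgroup.mem_centralizer_singleton_iff]
        exact (Subgroup.mem_centralizer_singleton_iff.mp hdy).symm
    have h2 := eq_top_of_lt_of_index_prime hp h1 hCidx
    rw [Subgroup.mem_center_iff]
    intro g
    have : g ∈ Subgroup.centralizer {d} := by rw [h2]; exact Subgroup.mem_top g
    exact Subgroup.mem_centralizer_singleton_iff.mp this
  have hDcard : Nat.card D ≤ p := by
    rw [← hZ]
    exact Nat.le_of_dvd Nat.card_pos (Subgroup.card_dvd_of_le hDZ)
  have h1 := Subgroup.card_mul_index D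
  rw [hG] at h1
  have h2 : p ^ 4 ≤ p * (p * p) := by
    rw [← h1]
    exact Nat.mul_le_mul hDcard hDidx
  have h3 : p * (p * p) = p ^ 3 := by ring
  rw [h3] at h2
  have := (Nat.pow_le_pow_iff_right hp.one_lt).mp h2
  omega

/-- A group of order `p ^ 4` with centre of order `p` has a characteristic chain. -/
theorem hasCharChain_of_center_card_p (hG : Nat.card G = p ^ 4)
    (hZ : Nat.card (Subgroup.center G) = p) : HasCharChain p G := by
  have hp : p.Prime := Fact.out
  set Z : Subgroup G := Subgroup.center G with hZdef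
  set Z2 : Subgroup G := Subgroup.upperCentralSeries G 2 with hZ2def
  haveI hZ2char : Z2.Characteristic :=
    (inferInstance : (Subgroup.upperCentralSeries G 2).Characteristic)
  have hZ2mem : ∀ x : G, x ∈ Z2 ↔ ∀ y : G, ⁅x, y⁆ ∈ Z := by
    intro x
    have h1 : x ∈ Subgroup.upperCentralSeries G 2 ↔
        ∀ y : G, ⁅x, y⁆ ∈ Subgroup.upperCentralSeries G 1 := Iff.rfl
    rw [hZ2def, h1, Subgroup.upperCentralSeries_one]
  have hZZ2 : Z ≤ Z2 := by
    intro z hz
    rw [hZ2mem]
    intro y
    have : ⁅z, y⁆ = 1 := by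
      rw [commutatorElement_eq_one_iff_commute]
      exact (Subgroup.mem_center_iff.mp hz y).symm
    rw [this]; exact Subgroup.one_mem _
  -- the quotient by the centre
  have hQcard : Nat.card (G ⧸ Z) = p ^ 3 := by
    have h1 := Subgroup.card_mul_index Z
    rw [hZ, hG, Subgroup.index_eq_card] at h1
    have : p * Nat.card (G ⧸ Z) = p * p ^ 3 := by rw [h1]; ring
    exact Nat.eq_of_mul_eq_mul_left hp.pos this
  have hπ : ∀ x : G, x ∈ Z2 ↔ (QuotientGroup.mk' Z x) ∈ Subgroup.center (G ⧸ Z) := by
    intro x
    rw [hZ2mem, Subgroup.mem_center_iff]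
    constructor
    · intro h q
      obtain ⟨y, rfl⟩ := QuotientGroup.mk'_surjective Z q
      have h1 := h y
      rw [← QuotientGroup.eq_one_iff] at h1
      have h2 : ((⁅x, y⁆ : G) : G ⧸ Z) = ⁅(QuotientGroup.mk' Z x), (QuotientGroup.mk' Z y)⁆ :=
        map_commutatorElement (QuotientGroup.mk' Z) x y
      rw [h2, commutatorElement_eq_one_iff_commute] at h1
      exact h1.eq.symm
    · intro h y
      rw [← QuotientGroup.eq_one_iff]
      have h2 : ((⁅x, y⁆ : G) : G ⧸ Z) = ⁅(QuotientGroup.mk' Z x), (QuotientGroup.mk' Z y)⁆ :=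
        map_commutatorElement (QuotientGroup.mk' Z) x y
      rw [h2, commutatorElement_eq_one_iff_commute]
      exact (h _).symm
  have hZ2comap : Z2 = (Subgroup.center (G ⧸ Z)).comap (QuotientGroup.mk' Z) := by
    ext x
    rw [Subgroup.mem_comap]
    exact hπ x
  by_cases hQc : ∀ a b : G ⧸ Z, a * b = b * a
  · exfalso
    apply not_class_two_of_center_card_p hG hZ
    intro x y
    rw [← QuotientGroup.eq_one_iff]
    have h2 : ((⁅x, y⁆ : G) : G ⧸ Subgroup.center G) =
        ⁅(QuotientGroup.mk' Z x), (QuotientGroup.mk' Z y)⁆ :=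
      map_commutatorElement (QuotientGroup.mk' Z) x y
    rw [h2, commutatorElement_eq_one_iff_commute]
    exact hQc _ _
  · obtain ⟨hcQ, -, -, -⟩ := nonabelian_cube_basic hQcard hQc
    have hZ2idx : Z2.index = p ^ 2 := by
      rw [hZ2comap, Subgroup.index_comap_of_surjective _ (QuotientGroup.mk'_surjective Z)]
      have h1 := Subgroup.card_mul_index (Subgroup.center (G ⧸ Z))
      rw [hcQ, hQcard] at h1
      have : p * (Subgroup.center (G ⧸ Z)).index = p * p ^ 2 := by rw [h1]; ring
      exact Nat.eq_of_mul_eq_mul_left hp.pos this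
    have hZ2card : Nat.card Z2 = p ^ 2 := by
      have h1 := Subgroup.card_mul_index Z2
      rw [hZ2idx, hG] at h1
      have : Nat.card Z2 * p ^ 2 = p ^ 2 * p ^ 2 := by rw [h1]; ring
      exact Nat.eq_of_mul_eq_mul_right (pow_pos hp.pos 2) this
    -- an element of `Z2` outside `Z`
    obtain ⟨x, hxZ2, hxZ⟩ : ∃ x ∈ Z2, x ∉ Z := by
      by_contra h
      have hle : Z2 ≤ Z := by
        intro g hg
        by_contra hgZ
        exact h ⟨g, hg, hgZ⟩
      have := Nat.le_of_dvd Nat.card_pos (Subgroup.card_dvd_of_le hle)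
      rw [hZ2card, hZ] at this
      have := hp.one_lt
      nlinarith
    have hxc : ∀ y : G, ⁅x, y⁆ ∈ Subgroup.center G := (hZ2mem x).mp hxZ2
    have hCidx := index_centralizer_of_comm_central hZ x hxc hxZ
    -- `Z2 = Z ⊔ ⟨x⟩`
    have hsup : Z ⊔ Subgroup.zpowers x = Z2 := by
      have hle : Z ⊔ Subgroup.zpowers x ≤ Z2 :=
        sup_le hZZ2 (by rw [Subgroup.zpowers_le]; exact hxZ2)
      apply Subgroup.eq_of_le_of_card_ge hle
      have h1 : Nat.card (Z ⊔ Subgroup.zpowers x : Subgroup G) ∣ p ^ 2 := by
        rw [← hZ2card]; exact Subgroup.card_dvd_of_le hle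
      obtain ⟨i, hi2, hi⟩ := (Nat.dvd_prime_pow hp).mp h1
      have hi1 : ¬ i ≤ 1 := by
        intro hi1
        have h2 : Z = Z ⊔ Subgroup.zpowers x := by
          apply Subgroup.eq_of_le_of_card_ge le_sup_left
          rw [hi, hZ]
          calc p ^ i ≤ p ^ 1 := Nat.pow_le_pow_right hp.pos hi1
            _ = p := pow_one p
        apply hxZ
        rw [h2]
        exact le_sup_right (a := Z) (Subgroup.mem_zpowers x)
      have : i = 2 := by omega
      rw [hZ2card, hi, this]
    have hMeq : Subgroup.centralizer (Z2 : Set G) = Subgroup.centralizer {x} := by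
      apply le_antisymm
      · apply Subgroup.centralizer_le
        intro g hg
        rw [Set.mem_singleton_iff] at hg
        rw [hg]; exact hxZ2
      · intro g hg
        rw [Subgroup.mem_centralizer_iff]
        intro h hh
        have hle : Z2 ≤ Subgroup.centralizer {g} := by
          rw [← hsup]
          apply sup_le
          · exact Subgroup.center_le_centralizer _
          · rw [Subgroup.zpowers_le, Subgroup.mem_centralizer_singleton_iff]
            exact (Subgroup.mem_centralizer_singleton_iff.mp hg).symm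
        exact Subgroup.mem_centralizer_singleton_iff.mp (hle hh)
    have hMcard : Nat.card (Subgroup.centralizer (Z2 : Set G)) = p ^ 3 := by
      rw [hMeq]
      have h1 := Subgroup.card_mul_index (Subgroup.centralizer {x} : Subgroup G)
      rw [hCidx, hG] at h1
      have : Nat.card (Subgroup.centralizer {x} : Subgroup G) * p = p ^ 3 * p := by rw [h1]; ring
      exact Nat.eq_of_mul_eq_mul_right hp.pos this
    have hZ2M : Z2 ≤ Subgroup.centralizer (Z2 : Set G) := by
      rw [hMeq]
      rw [← hsup]
      apply sup_le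
      · exact Subgroup.center_le_centralizer _
      · rw [Subgroup.zpowers_le]; exact Subgroup.mem_centralizer_singleton_iff.mpr rfl
    exact hasCharChain_of_three hG Z Z2 (Subgroup.centralizer (Z2 : Set G)) hZZ2 hZ2M hZ hZ2card hMcard
      (fun α => char_invariant Z α) (fun α => char_invariant Z2 α)
      (fun α => char_invariant (Subgroup.centralizer (Z2 : Set G)) α)

end CenterP

section CenterSq

variable {G : Type u} [Group G] [Finite G] {p : ℕ} [Fact p.Prime]

/-- Basic facts about a nonabelian group of order `p ^ 4` with centre of order `p ^ 2`. -/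
theorem center_sq_basic (hG : Nat.card G = p ^ 4) (hnc : ¬ ∀ a b : G, a * b = b * a)
    (hZ : Nat.card (Subgroup.center G) = p ^ 2) :
    (∀ x y : G, ⁅x, y⁆ ∈ Subgroup.center G) ∧ (∀ x : G, x ^ p ∈ Subgroup.center G) ∧
      (∀ x y : G, ⁅x, y⁆ ^ p = 1) ∧ Nat.card (commutator G) = p ∧
      commutator G ≤ Subgroup.center G := by
  have hp : p.Prime := Fact.out
  set Z : Subgroup G := Subgroup.center G with hZdef
  have hQcard : Nat.card (G ⧸ Z) = p ^ 2 := by
    have h1 := Subgroup.card_mul_index Z
    rw [hZ, hG, Subgroup.index_eq_card] at h1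
    have : p ^ 2 * Nat.card (G ⧸ Z) = p ^ 2 * p ^ 2 := by rw [h1]; ring
    exact Nat.eq_of_mul_eq_mul_left (pow_pos hp.pos 2) this
  have hqc : ∀ a b : G ⧸ Z, a * b = b * a :=
    (IsPGroup.isMulCommutative_of_card_eq_prime_sq hQcard).is_comm.comm
  have hcZ : ∀ x y : G, ⁅x, y⁆ ∈ Z := by
    intro x y
    rw [← QuotientGroup.eq_one_iff]
    have h2 : ((⁅x, y⁆ : G) : G ⧸ Z) = ⁅(QuotientGroup.mk' Z x), (QuotientGroup.mk' Z y)⁆ :=
      map_commutatorElement (QuotientGroup.mk' Z) x y
    rw [h2, commutatorElement_eq_one_iff_commute]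
    exact hqc _ _
  have hpow : ∀ x : G, x ^ p ∈ Z := by
    intro x
    rw [← QuotientGroup.eq_one_iff, QuotientGroup.mk_pow]
    have h1 : orderOf (x : G ⧸ Z) ∣ p ^ 2 := by
      rw [← hQcard]; exact orderOf_dvd_natCard _
    obtain ⟨i, hi2, hi⟩ := (Nat.dvd_prime_pow hp).mp h1
    have hi2' : i ≠ 2 := by
      rintro rfl
      rw [← hQcard] at hi
      have : IsCyclic (G ⧸ Subgroup.center G) := isCyclic_of_orderOf_eq_card _ hi
      exact hnc (isMulCommutative_of_isCyclic_quotient_center_self G).is_comm.comm
    apply orderOf_dvd_iff_pow_eq_one.mp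
    rw [hi]
    have : i ≤ 1 := by omega
    calc p ^ i ∣ p ^ 1 := pow_dvd_pow p this
      _ = p := pow_one p
  have hcpow : ∀ x y : G, ⁅x, y⁆ ^ p = 1 := by
    intro x y
    have h1 := commutator_pow_left_of_central y x
      ((Subgroup.mem_center_iff.mp (hcZ x y) x).symm) p
    rw [← h1, commutatorElement_eq_one_iff_commute]
    exact (Subgroup.mem_center_iff.mp (hpow x) y).symm
  have hcomm_le : commutator G ≤ Z := by
    rw [commutator_def, Subgroup.commutator_le]
    intro a _ b _
    exact hcZ a b
  refine ⟨hcZ, hpow, hcpow, ?_, hcomm_le⟩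
  -- the order of the commutator subgroup
  have hZtop : Z ≠ ⊤ := by
    intro h
    apply hnc
    intro a b
    have ha : a ∈ Z := by rw [h]; exact Subgroup.mem_top a
    exact (Subgroup.mem_center_iff.mp ha b).symm
  obtain ⟨x, hx⟩ : ∃ x : G, x ∉ Z := by
    by_contra h
    apply hZtop
    rw [eq_top_iff]
    intro g _
    by_contra hg
    exact h ⟨g, hg⟩
  set C : Subgroup G := Subgroup.centralizer {x} with hC
  have hxC : x ∈ C := Subgroup.mem_centralizer_singleton_iff.mpr rfl
  have hZC : Z ≤ C := Subgroup.center_le_centralizer _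
  have hCtop : C ≠ ⊤ := by
    intro h
    apply hx
    rw [Subgroup.mem_center_iff]
    intro g
    have : g ∈ C := by rw [h]; exact Subgroup.mem_top g
    exact Subgroup.mem_centralizer_singleton_iff.mp this
  have hsupC : Z ⊔ Subgroup.zpowers x ≤ C := sup_le hZC (by rw [Subgroup.zpowers_le]; exact hxC)
  have hsup_card : Nat.card (Z ⊔ Subgroup.zpowers x : Subgroup G) = p ^ 3 ∧ Nat.card C = p ^ 3 := by
    have h1 : Nat.card (Z ⊔ Subgroup.zpowers x : Subgroup G) ∣ Nat.card C :=
      Subgroup.card_dvd_of_le hsupC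
    have h2 : Nat.card C ∣ p ^ 4 := by rw [← hG]; exact Subgroup.card_subgroup_dvd_card C
    obtain ⟨j, hj4, hj⟩ := (Nat.dvd_prime_pow hp).mp h2
    have hj3 : j ≠ 4 := by
      rintro rfl
      apply hCtop
      exact Subgroup.eq_top_of_card_eq _ (by rw [hj, hG])
    rw [hj] at h1
    obtain ⟨i, hij, hi⟩ := (Nat.dvd_prime_pow hp).mp h1
    have hi2 : ¬ i ≤ 2 := by
      intro hi2
      have h3 : Z = Z ⊔ Subgroup.zpowers x := by
        apply Subgroup.eq_of_le_of_card_ge le_sup_left
        rw [hi, hZ]
        exact Nat.pow_le_pow_right hp.pos hi2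
      apply hx
      rw [h3]
      exact le_sup_right (a := Z) (Subgroup.mem_zpowers x)
    have hi3 : i = 3 := by omega
    have hj3' : j = 3 := by omega
    rw [hi, hj, hi3, hj3']
    exact ⟨rfl, rfl⟩
  have hCeq : C = Z ⊔ Subgroup.zpowers x :=
    (Subgroup.eq_of_le_of_card_ge hsupC (by rw [hsup_card.1, hsup_card.2])).symm
  have hCidx : C.index = p := by
    have h1 := Subgroup.card_mul_index C
    rw [hsup_card.2, hG] at h1
    have : p ^ 3 * C.index = p ^ 3 * p := by rw [h1]; ring
    exact Nat.eq_of_mul_eq_mul_left (pow_pos hp.pos 3) this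
  set κ := commHom x (hcZ x) with hκ
  set I : Subgroup G := κ.range with hI
  have hIZ : I ≤ Z := commHom_range_le x (hcZ x)
  have hIcard : Nat.card I = p := by
    rw [hI, ← Subgroup.index_ker, hκ, commHom_ker]
    exact hCidx
  have hIn : I.Normal := by
    constructor
    intro n hn g
    have h1 := Subgroup.mem_center_iff.mp (hIZ hn) g
    rw [h1, mul_inv_cancel_right]
    exact hn
  have hCn : C.Normal := by
    constructor
    intro c hc g
    have e : g * c * g⁻¹ = ⁅g, c⁆ * c := by simp only [commutatorElement_def]; group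
    rw [e]
    exact C.mul_mem (hZC (hcZ g c)) hc
  -- commutators with elements of `C` lie in `I`
  have hCI : ∀ c ∈ C, ∀ h : G, ⁅c, h⁆ ∈ I := by
    intro c hc h
    rw [hCeq] at hc
    haveI : Z.Normal := (inferInstance : (Subgroup.center G).Normal)
    obtain ⟨z, hz, u, hu, rfl⟩ := Subgroup.mem_sup_of_normal_left.mp hc
    obtain ⟨k, rfl⟩ := Subgroup.mem_zpowers_iff.mp hu
    have e1 : ⁅z * x ^ k, h⁆ = ⁅x ^ k, h⁆ := by
      have hz' := Subgroup.mem_center_iff.mp hz
      simp only [commutatorElement_def]
      have e : z * x ^ k * h * (z * x ^ k)⁻¹ * h⁻¹ = x ^ k * (z * h * z⁻¹) * (x ^ k)⁻¹ * h⁻¹ := by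
        rw [← hz' (x ^ k)]; group
      rw [e, ← hz' h, mul_inv_cancel_right]
    rw [e1]
    have e2 : ⁅x ^ k, h⁆ = κ h ^ k := by
      rw [hκ, commHom_apply]
      have hcomm : Commute ⁅x, h⁆ x := (Subgroup.mem_center_iff.mp (hcZ x h) x).symm
      cases k with
      | ofNat n =>
        simp only [Int.ofNat_eq_natCast, zpow_natCast]
        exact commutator_pow_left_of_central h x hcomm n
      | negSucc n =>
        simp only [zpow_negSucc]
        have h3 := commutator_pow_left_of_central h x hcomm (n + 1)
        have hcen := Subgroup.mem_center_iff.mp (hcZ (x ^ (n + 1)) h)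
        have e3 : ⁅(x ^ (n + 1))⁻¹, h⁆ = (x ^ (n + 1))⁻¹ * ⁅x ^ (n + 1), h⁆⁻¹ * x ^ (n + 1) := by
          simp only [commutatorElement_def]; group
        rw [e3, h3, mul_assoc, ← Subgroup.mem_center_iff.mp (Subgroup.inv_mem _ (Subgroup.pow_mem _ (hcZ x h) (n + 1))) (x ^ (n + 1)), inv_mul_cancel_left]
    rw [e2]
    exact Subgroup.zpow_mem I (show κ h ∈ I from ⟨h, rfl⟩) k
  -- the quotient by `I` is commutative
  have hQI : ∀ a b : G ⧸ I, a * b = b * a := by
    let f : G ⧸ I →* G ⧸ C := QuotientGroup.map I C (MonoidHom.id G) (fun g hg => hZC (hIZ hg))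
    have hcardC : Nat.card (G ⧸ C) = p := by rw [← Subgroup.index_eq_card]; exact hCidx
    have hcyc : IsCyclic (G ⧸ C) := isCyclic_of_prime_card hcardC
    apply (MonoidHom.isMulCommutative_of_isCyclic_of_ker_le_center f ?_).is_comm.comm
    intro q hq
    obtain ⟨g, rfl⟩ := QuotientGroup.mk_surjective q
    rw [MonoidHom.mem_ker] at hq
    have hgC : g ∈ C := by
      have : f (QuotientGroup.mk g) = QuotientGroup.mk g := rfl
      rw [this, QuotientGroup.eq_one_iff] at hq
      exact hq
    rw [Subgroup.mem_center_iff]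
    intro q'
    obtain ⟨h, rfl⟩ := QuotientGroup.mk_surjective q'
    have h1 := hCI g hgC h
    rw [← QuotientGroup.eq_one_iff] at h1
    have h2 : ((⁅g, h⁆ : G) : G ⧸ I) = ⁅(QuotientGroup.mk' I g), (QuotientGroup.mk' I h)⁆ :=
      map_commutatorElement (QuotientGroup.mk' I) g h
    rw [h2, commutatorElement_eq_one_iff_commute] at h1
    exact h1.eq.symm
  have hcommI : commutator G ≤ I := by
    rw [commutator_def, Subgroup.commutator_le]
    intro a _ b _
    rw [← QuotientGroup.eq_one_iff]
    have h2 : ((⁅a, b⁆ : G) : G ⧸ I) = ⁅(QuotientGroup.mk' I a), (QuotientGroup.mk' I b)⁆ :=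
      map_commutatorElement (QuotientGroup.mk' I) a b
    rw [h2, commutatorElement_eq_one_iff_commute]
    exact hQI _ _
  have hcne : commutator G ≠ ⊥ := by
    intro hbot
    apply hnc
    intro a b
    have h1 : ⁅a, b⁆ ∈ commutator G := by
      rw [commutator_def]
      exact Subgroup.commutator_mem_commutator (Subgroup.mem_top a) (Subgroup.mem_top b)
    rw [hbot, Subgroup.mem_bot, commutatorElement_eq_one_iff_commute] at h1
    exact h1
  have h1 : I ≤ commutator G := by
    apply le_of_card_prime_of_inf_ne_bot _ _ hIcard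
    rw [inf_eq_right.mpr hcommI]
    exact hcne
  rw [← le_antisymm h1 hcommI]
  exact hIcard


omit [Finite G] in
theorem commutator_invariant (α : MulAut G) : ∀ x ∈ commutator G, α x ∈ commutator G := by
  have : (commutator G).Characteristic := by rw [commutator_def]; infer_instance
  exact char_invariant (commutator G) α

omit [Finite G] [Fact p.Prime] in
/-- elements of order dividing `p` in a cyclic group of order `p ^ a` (any group) -/
theorem mem_zpowers_pow_of_pow_eq_one' (hp : p.Prime) {x z : G} {a : ℕ} (ha : 1 ≤ a)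
    (hx : orderOf x = p ^ a)
    (hz : z ∈ Subgroup.zpowers x) (hzp : z ^ p = 1) : z ∈ Subgroup.zpowers (x ^ (p ^ (a - 1))) := by
  obtain ⟨k, rfl⟩ := Subgroup.mem_zpowers_iff.mp hz
  have h1 : x ^ (k * (p : ℤ)) = 1 := by
    rw [zpow_mul, zpow_natCast]; exact hzp
  have h2 : ((orderOf x : ℕ) : ℤ) ∣ k * (p : ℤ) := orderOf_dvd_iff_zpow_eq_one.mpr h1
  rw [hx] at h2
  have h3 : ((p ^ (a - 1) : ℕ) : ℤ) * (p : ℤ) ∣ k * (p : ℤ) := by
    have : (p ^ a : ℕ) = p ^ (a - 1) * p := by
      rw [← pow_succ]; congr 1; omega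
    rw [this] at h2
    exact_mod_cast h2
  have h4 : ((p ^ (a - 1) : ℕ) : ℤ) ∣ k :=
    Int.dvd_of_mul_dvd_mul_right (by exact_mod_cast hp.ne_zero) h3
  obtain ⟨k', rfl⟩ := h4
  rw [Subgroup.mem_zpowers_iff]
  refine ⟨k', ?_⟩
  rw [zpow_mul, zpow_natCast]

/-- Nonabelian groups of order `p ^ 4`, `p` odd, with centre of order `p ^ 2`. -/
theorem center_sq_odd (hG : Nat.card G = p ^ 4) (hnc : ¬ ∀ a b : G, a * b = b * a)
    (hZ : Nat.card (Subgroup.center G) = p ^ 2) (hp2 : p ≠ 2) :
    HasCharChain p G ∨ (∀ x : G, x ^ p = 1) ∨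
      ((∀ x : G, x ^ (p ^ 2) = 1) ∧ IsCyclic (Subgroup.center G)) := by
  have hp : p.Prime := Fact.out
  obtain ⟨hcZ, hpow, hcpow, hH'card, hH'Z⟩ := center_sq_basic hG hnc hZ
  set Z : Subgroup G := Subgroup.center G with hZdef
  have hmul : ∀ a b : G, (a * b) ^ p = a ^ p * b ^ p := by
    intro a b
    have h1 := mul_pow_of_comm_central a b
      ((Subgroup.mem_center_iff.mp (hcZ b a) a).symm) ((Subgroup.mem_center_iff.mp (hcZ b a) b).symm) p
    have h2 : p ∣ p.choose 2 := hp.dvd_choose_self (by norm_num) (by have := hp.two_le; omega)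
    obtain ⟨m, hm⟩ := h2
    rw [h1, hm, pow_mul, hcpow, one_pow, mul_one]
  let φ : G →* G :=
    { toFun := fun x => x ^ p
      map_one' := one_pow p
      map_mul' := hmul }
  have hφ : ∀ x, φ x = x ^ p := fun _ => rfl
  have hker : ∀ x, x ∈ φ.ker ↔ x ^ p = 1 := fun x => by rw [MonoidHom.mem_ker, hφ]
  have hcardmul : Nat.card φ.ker * Nat.card φ.range = p ^ 4 := by
    rw [← Subgroup.index_ker, Subgroup.card_mul_index, hG]
  have hkc : ∀ α : MulAut G, ∀ x ∈ φ.ker, α x ∈ φ.ker := by
    intro α x hx
    rw [hker] at hx ⊢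
    rw [← map_pow, hx, map_one]
  have hrZ : φ.range ≤ Z := by
    rintro _ ⟨y, rfl⟩
    exact hpow y
  have hrd : Nat.card φ.range ∣ p ^ 2 := by
    rw [← hZ]; exact Subgroup.card_dvd_of_le hrZ
  obtain ⟨j, hj2, hj⟩ := (Nat.dvd_prime_pow hp).mp hrd
  have hkcard : Nat.card φ.ker = p ^ (4 - j) := by
    rw [hj] at hcardmul
    have : Nat.card φ.ker * p ^ j = p ^ (4 - j) * p ^ j := by
      rw [hcardmul, ← pow_add]; congr 1; omega
    exact Nat.eq_of_mul_eq_mul_right (pow_pos hp.pos j) this
  have hZpow2 : ∀ z ∈ Z, z ^ (p ^ 2) = 1 := by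
    intro z hz
    have h1 : (⟨z, hz⟩ : Z) ^ (p ^ 2) = 1 := by rw [← hZ]; exact pow_card_eq_one'
    exact congrArg Subtype.val h1
  have hcases : j = 0 ∨ j = 1 ∨ j = 2 := by omega
  rcases hcases with rfl | rfl | rfl
  · -- exponent `p`
    right; left
    intro x
    rw [pow_zero, Subgroup.card_eq_one] at hj
    have : φ x ∈ φ.range := ⟨x, rfl⟩
    rw [hj, Subgroup.mem_bot] at this
    exact this
  · rw [pow_one] at hj
    have hk3 : Nat.card φ.ker = p ^ 3 := hkcard
    by_cases hZΩ : Z ≤ φ.ker
    · left
      exact hasCharChain_of_three hG (commutator G) Z φ.ker hH'Z hZΩ hH'card hZ hk3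
        commutator_invariant (fun α => char_invariant Z α) hkc
    · right; right
      obtain ⟨z, hzZ, hzΩ⟩ : ∃ z ∈ Z, z ∉ φ.ker := by
        by_contra h
        apply hZΩ
        intro g hg
        by_contra hgn
        exact h ⟨g, hg, hgn⟩
      rw [hker] at hzΩ
      refine ⟨?_, ?_⟩
      · intro x
        have h1 : (⟨φ x, ⟨x, rfl⟩⟩ : φ.range) ^ p = 1 := by rw [← hj]; exact pow_card_eq_one'
        have h2 := congrArg Subtype.val h1
        rw [pow_succ, pow_one, pow_mul]
        exact h2
      · have hord : orderOf (⟨z, hzZ⟩ : Z) = p ^ 2 := by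
          have h1 : ¬ (⟨z, hzZ⟩ : Z) ^ p ^ 1 = 1 := by
            intro h
            apply hzΩ
            have := congrArg Subtype.val h
            simpa using this
          have h2 : (⟨z, hzZ⟩ : Z) ^ p ^ (1 + 1) = 1 := by
            apply Subtype.ext
            exact hZpow2 z hzZ
          exact orderOf_eq_prime_pow h1 h2
        exact isCyclic_of_orderOf_eq_card _ (by rw [hord, hZ])
  · -- `℧ = Z`
    left
    have hrange : φ.range = Z := Subgroup.eq_of_le_of_card_ge hrZ (by rw [hj, hZ])
    set M : Subgroup G := (commutator G).comap φ with hM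
    have hMidx : M.index = p := by
      rw [hM, Subgroup.index_comap, hrange]
      exact relIndex_eq_of_card hp hH'Z (i := 1) (by rw [hH'card, pow_one]) hZ
    have hMcard : Nat.card M = p ^ 3 := by
      have h1 := Subgroup.card_mul_index M
      rw [hMidx, hG] at h1
      have : Nat.card M * p = p ^ 3 * p := by rw [h1]; ring
      exact Nat.eq_of_mul_eq_mul_right hp.pos this
    have hMc : ∀ α : MulAut G, ∀ x ∈ M, α x ∈ M := by
      intro α x hx
      rw [hM, Subgroup.mem_comap, hφ] at hx ⊢
      rw [← map_pow]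
      exact commutator_invariant α _ hx
    have hZM : Z ≤ M := by
      intro z hz
      rw [hM, Subgroup.mem_comap, hφ]
      by_cases hz1 : z ^ p = 1
      · rw [hz1]; exact Subgroup.one_mem _
      · have hord : orderOf z = p ^ 2 := by
          have h1 : ¬ z ^ p ^ 1 = 1 := by rwa [pow_one]
          have h2 : z ^ p ^ (1 + 1) = 1 := hZpow2 z hz
          exact orderOf_eq_prime_pow h1 h2
        have hzZ : Subgroup.zpowers z = Z := by
          apply Subgroup.eq_of_le_of_card_ge (by rw [Subgroup.zpowers_le]; exact hz)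
          rw [Nat.card_zpowers, hord, hZ]
        have hle : commutator G ≤ Subgroup.zpowers (z ^ p) := by
          intro h hh
          have h1 : h ∈ Subgroup.zpowers z := by rw [hzZ]; exact hH'Z hh
          have h2 : h ^ p = 1 := by
            have h3 : (⟨h, hh⟩ : commutator G) ^ p = 1 := by rw [← hH'card]; exact pow_card_eq_one'
            exact congrArg Subtype.val h3
          have := mem_zpowers_pow_of_pow_eq_one' hp (a := 2) (by norm_num) hord h1 h2
          simpa using this
        have hcz : Nat.card (Subgroup.zpowers (z ^ p)) = p := by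
          rw [Nat.card_zpowers]
          apply orderOf_eq_prime
          · rw [← pow_mul, ← sq]; exact hZpow2 z hz
          · exact hz1
        have heq : commutator G = Subgroup.zpowers (z ^ p) :=
          Subgroup.eq_of_le_of_card_ge hle (by rw [hcz, hH'card])
        rw [heq]
        exact Subgroup.mem_zpowers _
    exact hasCharChain_of_three hG (commutator G) Z M hH'Z hZM hH'card hZ hMcard
      commutator_invariant (fun α => char_invariant Z α) hMc


/-- A nonabelian group of order `p ^ 4` and exponent `p` with centre of order `p ^ 2` is the direct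
product of an extraspecial group of order `p ^ 3` and a group of order `p`. -/
theorem exists_extraspecial_decomp (hG : Nat.card G = p ^ 4) (hnc : ¬ ∀ a b : G, a * b = b * a)
    (hZ : Nat.card (Subgroup.center G) = p ^ 2) (hexp : ∀ x : G, x ^ p = 1) :
    ∃ (E : Type) (_ : Group E) (_ : Finite E), IsExtraspecial p E ∧ Nat.card E = p ^ 3 ∧
      (∀ x : E, x ^ p = 1) ∧ Nonempty (G ≃* E × Multiplicative (ZMod p)) := by
  have hp : p.Prime := Fact.out
  have hGp : IsPGroup p G := IsPGroup.of_card hG
  obtain ⟨hcZ, hpow, hcpow, hH'card, hH'Z⟩ := center_sq_basic hG hnc hZ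
  set Z : Subgroup G := Subgroup.center G with hZdef
  have hfr : frattini G ≤ commutator G :=
    Cfsg.Agent.Lib.Helper54.frattini_le_of_commutator_le_of_pow_mem (p := p) _ le_rfl
      (fun x => by rw [hexp x]; exact Subgroup.one_mem _)
  obtain ⟨c, hcZ', hcH'⟩ : ∃ c ∈ Z, c ∉ commutator G := by
    by_contra h
    have hle : Z ≤ commutator G := by
      intro g hg
      by_contra hgn
      exact h ⟨g, hg, hgn⟩
    have := Nat.le_of_dvd Nat.card_pos (Subgroup.card_dvd_of_le hle)
    rw [hZ, hH'card] at this
    have := hp.one_lt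
    nlinarith
  have hcfr : c ∉ frattini G := fun h => hcH' (hfr h)
  rw [Cfsg.Agent.Lib.Helper03.mem_frattini_iff] at hcfr
  obtain ⟨M, hMco, hcM⟩ : ∃ M : Subgroup G, IsCoatom M ∧ c ∉ M := by
    by_contra h
    apply hcfr
    intro M hM
    by_contra hcM
    exact h ⟨M, hM, hcM⟩
  have hMidx : M.index = p := Cfsg.Agent.Lib.Helper03.index_of_isCoatom_of_isPGroup hGp hMco
  have hMcard : Nat.card M = p ^ 3 := by
    have h1 := Subgroup.card_mul_index M
    rw [hMidx, hG] at h1
    have : Nat.card M * p = p ^ 3 * p := by rw [h1]; ring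
    exact Nat.eq_of_mul_eq_mul_right hp.pos this
  have hc1 : c ≠ 1 := by
    rintro rfl
    exact hcM (Subgroup.one_mem _)
  have hcord : orderOf c = p := orderOf_eq_prime (hexp c) hc1
  have hCcard : Nat.card (Subgroup.zpowers c) = p := by rw [Nat.card_zpowers, hcord]
  have hMnc : ¬ ∀ a b : M, a * b = b * a := by
    intro hMc
    have hMZ : M ≤ Z := by
      intro m hm
      have h1 : M < Subgroup.centralizer {m} := by
        refine lt_of_le_of_ne ?_ ?_
        · intro a ha
          rw [Subgroup.mem_centralizer_singleton_iff]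
          exact congrArg Subtype.val (hMc ⟨a, ha⟩ ⟨m, hm⟩)
        · intro heq
          apply hcM
          rw [heq, Subgroup.mem_centralizer_singleton_iff]
          exact (Subgroup.mem_center_iff.mp hcZ' m).symm
      have h2 := eq_top_of_lt_of_index_prime hp h1 hMidx
      rw [Subgroup.mem_center_iff]
      intro g
      have : g ∈ Subgroup.centralizer {m} := by rw [h2]; exact Subgroup.mem_top g
      exact Subgroup.mem_centralizer_singleton_iff.mp this
    have := Nat.le_of_dvd Nat.card_pos (Subgroup.card_dvd_of_le hMZ)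
    rw [hMcard, hZ] at this
    have := (Nat.pow_le_pow_iff_right hp.one_lt).mp this
    omega
  -- the type-zero copy of `M`
  let e : Shrink.{0} M ≃* M := Shrink.mulEquiv
  have hfinE : Finite (Shrink.{0} M) := Finite.of_equiv M e.symm.toEquiv
  have hEcard : Nat.card (Shrink.{0} M) = p ^ 3 := by
    rw [Nat.card_congr e.toEquiv, hMcard]
  have hEnc : ¬ ∀ a b : Shrink.{0} M, a * b = b * a := by
    intro h
    apply hMnc
    intro a b
    have := h (e.symm a) (e.symm b)
    have h2 := congrArg e this
    simpa using h2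
  have hEexp : ∀ x : Shrink.{0} M, x ^ p = 1 := by
    intro x
    apply e.injective
    rw [map_pow, map_one]
    apply Subtype.ext
    rw [Subgroup.coe_pow]
    exact hexp _
  obtain ⟨hEZ, hEcomm, -, hEfr⟩ := nonabelian_cube_basic hEcard hEnc
  refine ⟨Shrink.{0} M, inferInstance, hfinE, ⟨⟨IsPGroup.of_card hEcard, hEfr, hEcomm⟩, hEZ⟩, hEcard,
    hEexp, ?_⟩
  -- the internal direct product
  have hcomm : ∀ (m : M) (u : Subgroup.zpowers c), Commute (M.subtype m) ((Subgroup.zpowers c).subtype u) := by
    intro m u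
    have hu : (u : G) ∈ Z := by
      obtain ⟨k, hk⟩ := Subgroup.mem_zpowers_iff.mp u.2
      rw [← hk]
      exact Subgroup.zpow_mem _ hcZ' k
    exact Subgroup.mem_center_iff.mp hu m
  let ψ : M × Subgroup.zpowers c →* G := MonoidHom.noncommCoprod M.subtype (Subgroup.zpowers c).subtype hcomm
  have hψapp : ∀ w : M × Subgroup.zpowers c, ψ w = (w.1 : G) * (w.2 : G) := fun w => rfl
  have hdisj : Disjoint M (Subgroup.zpowers c) := by
    rw [disjoint_iff]
    by_contra hne
    have h1 := le_of_card_prime_of_inf_ne_bot (Subgroup.zpowers c) M hCcard (by rwa [inf_comm])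
    exact hcM (h1 (Subgroup.mem_zpowers c))
  have hψinj : Function.Injective ψ := by
    have := Subgroup.mul_injective_of_disjoint hdisj
    intro u v huv
    apply this
    simpa [hψapp] using huv
  have hψbij : Function.Bijective ψ := by
    rw [Nat.bijective_iff_injective_and_card]
    refine ⟨hψinj, ?_⟩
    rw [Nat.card_prod, hMcard, hCcard, hG]
    ring
  have e0 : M × Subgroup.zpowers c ≃* G := MulEquiv.ofBijective ψ hψbij
  have e2 : Multiplicative (ZMod p) ≃* Subgroup.zpowers c :=
    (AddEquiv.toMultiplicative (ZMod.ringEquivCongr hCcard.symm).toAddEquiv).trans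
      (zmodCyclicMulEquiv inferInstance)
  exact ⟨e0.symm.trans (MulEquiv.prodCongr e.symm e2.symm)⟩


/-- In a group `Z` of order `p ^ 2`, the `p`-th powers lie in every subgroup of order `p`. -/
theorem pow_mem_of_card_sq (Z K : Subgroup G) (hZ : Nat.card Z = p ^ 2) (hKZ : K ≤ Z)
    (hK : Nat.card K = p) : ∀ z ∈ Z, z ^ p ∈ K := by
  have hp : p.Prime := Fact.out
  intro z hz
  have hZpow2 : z ^ (p ^ 2) = 1 := by
    have h1 : (⟨z, hz⟩ : Z) ^ (p ^ 2) = 1 := by rw [← hZ]; exact pow_card_eq_one'
    exact congrArg Subtype.val h1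
  by_cases hz1 : z ^ p = 1
  · rw [hz1]; exact Subgroup.one_mem _
  · have hord : orderOf z = p ^ 2 := by
      have h1 : ¬ z ^ p ^ 1 = 1 := by rwa [pow_one]
      have h2 : z ^ p ^ (1 + 1) = 1 := hZpow2
      exact orderOf_eq_prime_pow h1 h2
    have hzZ : Subgroup.zpowers z = Z := by
      apply Subgroup.eq_of_le_of_card_ge (by rw [Subgroup.zpowers_le]; exact hz)
      rw [Nat.card_zpowers, hord, hZ]
    have hle : K ≤ Subgroup.zpowers (z ^ p) := by
      intro h hh
      have h1 : h ∈ Subgroup.zpowers z := by rw [hzZ]; exact hKZ hh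
      have h2 : h ^ p = 1 := by
        have h3 : (⟨h, hh⟩ : K) ^ p = 1 := by rw [← hK]; exact pow_card_eq_one'
        exact congrArg Subtype.val h3
      have := mem_zpowers_pow_of_pow_eq_one' hp (a := 2) (by norm_num) hord h1 h2
      simpa using this
    have hcz : Nat.card (Subgroup.zpowers (z ^ p)) = p := by
      rw [Nat.card_zpowers]
      apply orderOf_eq_prime
      · rw [← pow_mul, ← sq]; exact hZpow2
      · exact hz1
    have heq : K = Subgroup.zpowers (z ^ p) :=
      Subgroup.eq_of_le_of_card_ge hle (by rw [hcz, hK])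
    rw [heq]
    exact Subgroup.mem_zpowers _

/-- If all commutators `⁅x, y⁆` of a non-central `x` lie in a central subgroup `K` of order `p`, the
centralizer of `x` has index `p`. -/
theorem index_centralizer_of_comm_mem (K : Subgroup G) (hK : Nat.card K = p)
    (hKZ : K ≤ Subgroup.center G) (x : G)
    (hx : ∀ y : G, ⁅x, y⁆ ∈ K) (hxZ : x ∉ Subgroup.center G) :
    (Subgroup.centralizer {x} : Subgroup G).index = p := by
  have hp : p.Prime := Fact.out
  have hx' : ∀ y : G, ⁅x, y⁆ ∈ Subgroup.center G := fun y => hKZ (hx y)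
  rw [← commHom_ker x hx', Subgroup.index_ker]
  have hle : (commHom x hx').range ≤ K := by
    rintro _ ⟨y, rfl⟩
    exact hx y
  have h1 : Nat.card (commHom x hx').range ∣ p := by
    rw [← hK]; exact Subgroup.card_dvd_of_le hle
  rcases (Nat.dvd_prime hp).mp h1 with h | h
  · exfalso
    apply hxZ
    rw [Subgroup.card_eq_one] at h
    rw [Subgroup.mem_center_iff]
    intro g
    have h2 : commHom x hx' g ∈ (commHom x hx').range := ⟨g, rfl⟩
    rw [h, Subgroup.mem_bot, commHom_apply, commutatorElement_eq_one_iff_commute] at h2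
    exact h2.eq.symm
  · exact h

end CenterSq

/-- A subgroup strictly between a subgroup of order `p ^ 2` and the whole group of order `p ^ 4`
has order `p ^ 3`. -/
theorem card_eq_cube_of_between {G : Type u} [Group G] [Finite G] {p : ℕ} (hp : p.Prime)
    (hG : Nat.card G = p ^ 4) (Z U : Subgroup G)
    (hZ : Nat.card Z = p ^ 2) (hZU : Z ≤ U) (hex : ∃ g ∈ U, g ∉ Z) (hU : U ≠ ⊤) :
    Nat.card U = p ^ 3 := by
  have h1 : Nat.card U ∣ p ^ 4 := by rw [← hG]; exact Subgroup.card_subgroup_dvd_card U
  obtain ⟨j, hj4, hj⟩ := (Nat.dvd_prime_pow hp).mp h1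
  have hj4' : j ≠ 4 := by
    rintro rfl
    exact hU (Subgroup.eq_top_of_card_eq _ (by rw [hj, hG]))
  have hj2 : ¬ j ≤ 2 := by
    intro hj2
    obtain ⟨g, hgU, hgZ⟩ := hex
    have h2 : Z = U := by
      apply Subgroup.eq_of_le_of_card_ge hZU
      rw [hj, hZ]
      exact Nat.pow_le_pow_right hp.pos hj2
    exact hgZ (h2 ▸ hgU)
  have : j = 3 := by omega
  rw [hj, this]

section Two

variable {G : Type u} [Group G] [Finite G]

/-- Nonabelian groups of order `16` with centre of order `4`. -/
theorem center_sq_two (hG : Nat.card G = 2 ^ 4) (hnc : ¬ ∀ a b : G, a * b = b * a)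
    (hZ : Nat.card (Subgroup.center G) = 2 ^ 2) :
    HasCharChain 2 G ∨ ((∀ x : G, x ^ (2 ^ 2) = 1) ∧ IsCyclic (Subgroup.center G)) ∨
      Nonempty (G ≃* QuaternionGroup 2 × Multiplicative (ZMod 2)) := by
  have hp : Nat.Prime 2 := Nat.prime_two
  obtain ⟨hcZ, hpow, hcpow, hH'card, hH'Z⟩ := center_sq_basic (p := 2) hG hnc hZ
  set Z : Subgroup G := Subgroup.center G with hZdef
  have hcH' : ∀ x y : G, ⁅x, y⁆ ∈ commutator G := by
    intro a b
    rw [commutator_def]
    exact Subgroup.commutator_mem_commutator (Subgroup.mem_top a) (Subgroup.mem_top b)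
  -- the commutator subgroup has two elements
  have hH'two : ∀ a b : G, a ∈ commutator G → b ∈ commutator G → a ≠ 1 → b ≠ 1 → a = b := by
    intro a b ha hb ha1 hb1
    obtain ⟨t, -, ht⟩ := (Nat.card_eq_two_iff' (1 : commutator G)).mp hH'card
    have h1 := ht ⟨a, ha⟩ (fun h => ha1 (congrArg Subtype.val h))
    have h2 := ht ⟨b, hb⟩ (fun h => hb1 (congrArg Subtype.val h))
    exact congrArg Subtype.val (h1.trans h2.symm)
  have hH'sq : ∀ a ∈ commutator G, a ^ 2 = 1 := by
    intro a ha
    have h3 : (⟨a, ha⟩ : commutator G) ^ 2 = 1 := by rw [← hH'card]; exact pow_card_eq_one'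
    exact congrArg Subtype.val h3
  obtain ⟨c, hcH, hc1⟩ : ∃ c ∈ commutator G, c ≠ 1 := by
    by_contra h
    apply hnc
    intro a b
    have h1 := hcH' a b
    by_contra hab
    apply h
    refine ⟨⁅a, b⁆, h1, ?_⟩
    rw [Ne, commutatorElement_eq_one_iff_commute]
    exact hab
  have hsqf : ∀ a b : G, (a * b) ^ 2 = a ^ 2 * b ^ 2 * ⁅b, a⁆ := by
    intro a b
    have h1 := mul_pow_of_comm_central a b
      ((Subgroup.mem_center_iff.mp (hcZ b a) a).symm) ((Subgroup.mem_center_iff.mp (hcZ b a) b).symm) 2
    simpa using h1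
  have hZsq : ∀ z ∈ Z, z ^ 2 ∈ commutator G := pow_mem_of_card_sq (p := 2) Z (commutator G) hZ hH'Z hH'card
  -- the subgroup `U`
  let U : Subgroup G :=
    { carrier := {g | g ^ 2 ∈ commutator G}
      mul_mem' := by
        intro a b ha hb
        change (a * b) ^ 2 ∈ commutator G
        rw [hsqf]
        exact Subgroup.mul_mem _ (Subgroup.mul_mem _ ha hb) (hcH' b a)
      one_mem' := by
        change (1 : G) ^ 2 ∈ commutator G
        rw [one_pow]; exact Subgroup.one_mem _
      inv_mem' := by
        intro a ha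
        change (a⁻¹) ^ 2 ∈ commutator G
        rw [inv_pow]; exact Subgroup.inv_mem _ ha }
  have hUmem : ∀ g : G, g ∈ U ↔ g ^ 2 ∈ commutator G := fun g => Iff.rfl
  have hUc : ∀ α : MulAut G, ∀ x ∈ U, α x ∈ U := by
    intro α x hx
    rw [hUmem] at hx ⊢
    rw [← map_pow]
    exact commutator_invariant α _ hx
  have hZU : Z ≤ U := fun z hz => (hUmem z).mpr (hZsq z hz)
  -- a non-commuting pair
  obtain ⟨x, y, hxy⟩ : ∃ x y : G, x * y ≠ y * x := by
    by_contra h
    apply hnc
    intro a b
    by_contra hab
    exact h ⟨a, b, hab⟩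
  have hxZ : x ∉ Z := fun h => hxy (Subgroup.mem_center_iff.mp h y).symm
  have hyZ : y ∉ Z := fun h => hxy (Subgroup.mem_center_iff.mp h x)
  have hxyZ : x * y ∉ Z := by
    intro h
    apply hxy
    have := Subgroup.mem_center_iff.mp h x
    -- x * (x * y) = x * y * x
    have h2 : x * (x * y) = x * (y * x) := by rw [this, mul_assoc]
    exact mul_left_cancel h2
  have hidxH' : ((commutator G).subgroupOf Z).index = 2 := by
    change (commutator G).relIndex Z = 2
    exact relIndex_eq_of_card hp hH'Z (i := 1) (by rw [hH'card, pow_one]) hZ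
  have hexU : ∃ g ∈ U, g ∉ Z := by
    by_cases hx2 : x ^ 2 ∈ commutator G
    · exact ⟨x, (hUmem x).mpr hx2, hxZ⟩
    by_cases hy2 : y ^ 2 ∈ commutator G
    · exact ⟨y, (hUmem y).mpr hy2, hyZ⟩
    refine ⟨x * y, ?_, hxyZ⟩
    rw [hUmem, hsqf]
    refine Subgroup.mul_mem _ ?_ (hcH' y x)
    have h1 := Subgroup.mul_mem_iff_of_index_two hidxH' (a := ⟨x ^ 2, hpow x⟩) (b := ⟨y ^ 2, hpow y⟩)
    rw [Subgroup.mem_subgroupOf, Subgroup.mem_subgroupOf, Subgroup.mem_subgroupOf] at h1
    exact h1.mpr ⟨fun h => absurd h hx2, fun h => absurd h hy2⟩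
  by_cases hUtop : U = ⊤
  · have hall : ∀ g : G, g ^ 2 ∈ commutator G := by
      intro g
      rw [← hUmem, hUtop]; exact Subgroup.mem_top g
    by_cases hZexp : ∀ z ∈ Z, z ^ 2 = 1
    · -- all squares lie in `{1, c}` and the centre has exponent two
      have hsq_c : ∀ g : G, g ^ 2 ≠ 1 → g ^ 2 = c := fun g hg => hH'two _ _ (hall g) hcH hg hc1
      obtain ⟨x0, hx0⟩ : ∃ x0 : G, x0 ^ 2 = c := by
        by_contra h
        apply hnc
        have h2 : ∀ g : G, g ^ 2 = 1 := by
          intro g
          by_contra hg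
          exact h ⟨g, hsq_c g hg⟩
        have hinv : ∀ g : G, g⁻¹ = g := fun g => by
          rw [inv_eq_iff_mul_eq_one, ← sq]; exact h2 g
        intro a b
        calc a * b = (a * b)⁻¹ := (hinv _).symm
          _ = b⁻¹ * a⁻¹ := mul_inv_rev a b
          _ = b * a := by rw [hinv, hinv]
      have hx0Z : x0 ∉ Z := by
        intro h
        have := hZexp x0 h
        rw [hx0] at this
        exact hc1 this
      set W : Subgroup G := Subgroup.closure {g : G | g ^ 2 = c} with hW
      have hWc : ∀ α : MulAut G, ∀ g ∈ W, α g ∈ W := by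
        intro α
        have h1 : W ≤ W.comap α.toMonoidHom := by
          rw [hW, Subgroup.closure_le]
          intro g hg
          apply Subgroup.subset_closure
          change (α g) ^ 2 = c
          rw [← map_pow]
          have hg' : g ^ 2 = c := hg
          rw [hg']
          apply hH'two _ _ (commutator_invariant α c hcH) hcH _ hc1
          intro h
          exact hc1 ((map_eq_one_iff α α.injective).mp h)
        exact fun g hg => h1 hg
      have hx0W : x0 ∈ W := Subgroup.subset_closure hx0
      have hZW : Z ≤ W := by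
        intro z hz
        have h1 : x0 * z ∈ W := by
          apply Subgroup.subset_closure
          change (x0 * z) ^ 2 = c
          have hcm : Commute x0 z := (Subgroup.mem_center_iff.mp hz x0)
          rw [hcm.mul_pow, hx0, hZexp z hz, mul_one]
        have h2 : z = x0⁻¹ * (x0 * z) := by group
        rw [h2]
        exact W.mul_mem (W.inv_mem hx0W) h1
      by_cases hWtop : W = ⊤
      · right; right
        set C : Subgroup G := Subgroup.centralizer {x0} with hC
        have hCidx : C.index = 2 :=
          index_centralizer_of_comm_mem (p := 2) (commutator G) hH'card hH'Z x0 (hcH' x0) hx0Z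
        have hCtop : C ≠ ⊤ := by
          intro h
          rw [h, Subgroup.index_top] at hCidx
          omega
        obtain ⟨y0, hy0C, hy0⟩ : ∃ y0 : G, y0 ∉ C ∧ y0 ^ 2 = c := by
          by_contra h
          apply hCtop
          rw [eq_top_iff, ← hWtop, hW, Subgroup.closure_le]
          intro g hg
          by_contra hgC
          exact h ⟨g, hgC, hg⟩
        have hcomm_ne : ⁅y0, x0⁆ ≠ 1 := by
          intro h
          rw [commutatorElement_eq_one_iff_commute] at h
          apply hy0C
          rw [hC, Subgroup.mem_centralizer_singleton_iff]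
          exact h.eq
        have hcx : ⁅y0, x0⁆ = x0 ^ 2 := by
          rw [hx0]
          exact hH'two _ _ (hcH' y0 x0) hcH hcomm_ne hc1
        have hx4 : x0 ^ 4 = 1 := by
          have : x0 ^ 4 = (x0 ^ 2) ^ 2 := by rw [← pow_mul]
          rw [this, hx0]; exact hH'sq c hcH
        have hord : orderOf x0 = 4 := by
          have h1 : ¬ x0 ^ 2 ^ 1 = 1 := by rw [pow_one, hx0]; exact hc1
          have h2 : x0 ^ 2 ^ (1 + 1) = 1 := hx4
          have := orderOf_eq_prime_pow h1 h2
          rw [this]; norm_num
        have hsq : y0 * y0 = x0 ^ 2 := by rw [← sq, hy0, hx0]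
        have hconj : x0 * y0 = y0 * x0⁻¹ := by
          rw [commutatorElement_def] at hcx
          have h1 : y0 * x0 = x0 ^ 2 * x0 * y0 := by
            rw [← hcx]; group
          have h2 : x0 ^ 2 * x0 = x0⁻¹ := by
            rw [eq_inv_iff_mul_eq_one, ← pow_succ, ← pow_succ]; exact hx4
          rw [h2] at h1
          calc x0 * y0 = x0 * (y0 * x0) * x0⁻¹ := by group
            _ = x0 * (x0⁻¹ * y0) * x0⁻¹ := by rw [h1]
            _ = y0 * x0⁻¹ := by group
        let f : QuaternionGroup 2 →* G :=
          MonoidHom.mk' (quatMap x0 y0) (quatMap_mul x0 y0 hord hsq hconj)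
        have hfa : ∀ i : ZMod 4, f (QuaternionGroup.a i) = x0 ^ i.val := fun i => rfl
        have hfxa : ∀ i : ZMod 4, f (QuaternionGroup.xa i) = y0 * x0 ^ i.val := fun i => rfl
        have hyx : ∀ k : ℕ, y0 * x0 ^ k ∉ C := by
          intro k h
          apply hy0C
          have h1 : x0 ^ k ∈ C := Subgroup.pow_mem _ (Subgroup.mem_centralizer_singleton_iff.mpr rfl) k
          have h2 := C.mul_mem h (C.inv_mem h1)
          rwa [mul_inv_cancel_right] at h2
        have hfinj : Function.Injective f := by
          rw [injective_iff_map_eq_one]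
          intro u hu
          match u with
          | QuaternionGroup.a i =>
            rw [hfa] at hu
            have h1 : orderOf x0 ∣ i.val := orderOf_dvd_of_pow_eq_one hu
            rw [hord] at h1
            have h2 : i.val < 4 := ZMod.val_lt i
            have h3 : i.val = 0 := by omega
            have h4 : i = 0 := (ZMod.val_eq_zero i).mp h3
            rw [h4]; rfl
          | QuaternionGroup.xa i =>
            exfalso
            rw [hfxa] at hu
            apply hyx i.val
            rw [hu]; exact Subgroup.one_mem _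
        -- the complement of order two
        obtain ⟨d, hdZ, hdH⟩ : ∃ d ∈ Z, d ∉ commutator G := by
          by_contra h
          have hle : Z ≤ commutator G := by
            intro g hg
            by_contra hgn
            exact h ⟨g, hg, hgn⟩
          have := Nat.le_of_dvd Nat.card_pos (Subgroup.card_dvd_of_le hle)
          rw [hZ, hH'card] at this
          omega
        have hd1 : d ≠ 1 := by
          rintro rfl
          exact hdH (Subgroup.one_mem _)
        have hdord : orderOf d = 2 := orderOf_eq_prime (hZexp d hdZ) hd1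
        have hDcard : Nat.card (Subgroup.zpowers d) = 2 := by rw [Nat.card_zpowers, hdord]
        have hdf : d ∉ f.range := by
          rintro ⟨u, hu⟩
          match u with
          | QuaternionGroup.a i =>
            rw [hfa] at hu
            have h1 : x0 ^ (i.val * 2) = 1 := by rw [pow_mul, hu]; exact hZexp d hdZ
            have h2 : orderOf x0 ∣ i.val * 2 := orderOf_dvd_of_pow_eq_one h1
            rw [hord] at h2
            have h3 : 2 ∣ i.val := by omega
            obtain ⟨m, hm⟩ := h3
            apply hdH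
            rw [← hu, hm, pow_mul, hx0]
            exact Subgroup.pow_mem _ hcH m
          | QuaternionGroup.xa i =>
            rw [hfxa] at hu
            apply hyx i.val
            rw [hu]
            exact Subgroup.center_le_centralizer _ hdZ
        have hcomm : ∀ (m : f.range) (w : Subgroup.zpowers d),
            Commute (f.range.subtype m) ((Subgroup.zpowers d).subtype w) := by
          intro m w
          have hw : (w : G) ∈ Z := by
            obtain ⟨k, hk⟩ := Subgroup.mem_zpowers_iff.mp w.2
            rw [← hk]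
            exact Subgroup.zpow_mem _ hdZ k
          exact Subgroup.mem_center_iff.mp hw m
        let ψ : f.range × Subgroup.zpowers d →* G :=
          MonoidHom.noncommCoprod f.range.subtype (Subgroup.zpowers d).subtype hcomm
        have hψapp : ∀ w : f.range × Subgroup.zpowers d, ψ w = (w.1 : G) * (w.2 : G) := fun w => rfl
        have hdisj : Disjoint f.range (Subgroup.zpowers d) := by
          rw [disjoint_iff]
          by_contra hne
          have h1 := le_of_card_prime_of_inf_ne_bot (p := 2) (Subgroup.zpowers d) f.range hDcard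
            (by rwa [inf_comm])
          exact hdf (h1 (Subgroup.mem_zpowers d))
        have hψinj : Function.Injective ψ := by
          have := Subgroup.mul_injective_of_disjoint hdisj
          intro u v huv
          apply this
          simpa [hψapp] using huv
        have hRcard : Nat.card f.range = 8 := by
          rw [← Nat.card_congr (MonoidHom.ofInjective hfinj).toEquiv, Nat.card_eq_fintype_card,
            QuaternionGroup.card]
        have hψbij : Function.Bijective ψ := by
          rw [Nat.bijective_iff_injective_and_card]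
          refine ⟨hψinj, ?_⟩
          rw [Nat.card_prod, hRcard, hDcard, hG]
          norm_num
        have e0 : f.range × Subgroup.zpowers d ≃* G := MulEquiv.ofBijective ψ hψbij
        have e1 : QuaternionGroup 2 ≃* f.range := MonoidHom.ofInjective hfinj
        have e2 : Multiplicative (ZMod 2) ≃* Subgroup.zpowers d :=
          (AddEquiv.toMultiplicative (ZMod.ringEquivCongr hDcard.symm).toAddEquiv).trans
            (zmodCyclicMulEquiv inferInstance)
        exact ⟨e0.symm.trans (MulEquiv.prodCongr e1.symm e2.symm)⟩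
      · left
        have hWcard : Nat.card W = 2 ^ 3 :=
          card_eq_cube_of_between hp hG Z W hZ hZW ⟨x0, hx0W, hx0Z⟩ hWtop
        exact hasCharChain_of_three hG (commutator G) Z W hH'Z hZW hH'card hZ hWcard
          commutator_invariant (fun α => char_invariant Z α) hWc
    · right; left
      obtain ⟨z, hzZ, hz2⟩ : ∃ z ∈ Z, z ^ 2 ≠ 1 := by
        by_contra h
        apply hZexp
        intro z hz
        by_contra hz2
        exact h ⟨z, hz, hz2⟩
      refine ⟨fun g => ?_, ?_⟩
      · rw [sq 2, pow_mul]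
        exact hH'sq _ (hall g)
      · have hord : orderOf (⟨z, hzZ⟩ : Z) = 2 ^ 2 := by
          have h1 : ¬ (⟨z, hzZ⟩ : Z) ^ 2 ^ 1 = 1 := by
            intro h
            apply hz2
            have := congrArg Subtype.val h
            simpa using this
          have h2 : (⟨z, hzZ⟩ : Z) ^ 2 ^ (1 + 1) = 1 := by
            have h3 : (⟨z, hzZ⟩ : Z) ^ (2 ^ 2) = 1 := by rw [← hZ]; exact pow_card_eq_one'
            exact h3
          exact orderOf_eq_prime_pow h1 h2
        exact isCyclic_of_orderOf_eq_card _ (by rw [hord, hZ])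
  · left
    have hUcard : Nat.card U = 2 ^ 3 := card_eq_cube_of_between hp hG Z U hZ hZU hexU hUtop
    exact hasCharChain_of_three hG (commutator G) Z U hH'Z hZU hH'card hZ hUcard
      commutator_invariant (fun α => char_invariant Z α) hUc

end Two

section AbelianFour

variable {G : Type u} [CommGroup G] [Finite G] {p : ℕ} [Fact p.Prime]

/-- Abelian groups of order `p ^ 4`. -/
theorem abelian_p_four (hG : Nat.card G = p ^ 4) :
    (∀ x : G, x ^ p = 1) ∨ Nonempty (G ≃* Multiplicative (ZMod (p ^ 2) × ZMod p × ZMod p)) ∨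
      (frattini G).index ≤ p ^ 2 := by
  have hp : p.Prime := Fact.out
  have hGp : IsPGroup p G := IsPGroup.of_card hG
  set P1 : Subgroup G := (powMonoidHom p : G →* G).range with hP1
  set V : Subgroup G := (powMonoidHom p : G →* G).ker with hV
  have hVmem : ∀ x : G, x ∈ V ↔ x ^ p = 1 := fun x => mem_ker_pow
  have hcardmul : Nat.card V * Nat.card P1 = p ^ 4 := by
    rw [← hG]; exact card_ker_mul_card_range _
  have hP1fr : P1 ≤ frattini G := by
    rintro _ ⟨y, rfl⟩
    exact Cfsg.Agent.Lib.Helper03.pow_mem_frattini_of_isPGroup hGp y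
  have hd : Nat.card P1 ∣ p ^ 4 := Dvd.intro_left _ hcardmul
  obtain ⟨j, hj4, hj⟩ := (Nat.dvd_prime_pow hp).mp hd
  have hVcard : Nat.card V = p ^ (4 - j) := by
    rw [hj] at hcardmul
    have : Nat.card V * p ^ j = p ^ (4 - j) * p ^ j := by
      rw [hcardmul, ← pow_add]; congr 1; omega
    exact Nat.eq_of_mul_eq_mul_right (pow_pos hp.pos j) this
  have hcases : j = 0 ∨ j = 1 ∨ 2 ≤ j := by omega
  rcases hcases with rfl | rfl | hj2
  · left
    intro x
    rw [pow_zero, Subgroup.card_eq_one] at hj
    have : x ^ p ∈ P1 := ⟨x, rfl⟩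
    rw [hj, Subgroup.mem_bot] at this
    exact this
  · right; left
    rw [pow_one] at hj
    have hV3 : Nat.card V = p ^ 3 := hVcard
    have hP1pow : ∀ z ∈ P1, z ^ p = 1 := by
      intro z hz
      have h1 : (⟨z, hz⟩ : P1) ^ p = 1 := by rw [← hj]; exact pow_card_eq_one'
      exact congrArg Subtype.val h1
    obtain ⟨x, hx⟩ : ∃ x : G, x ^ p ≠ 1 := by
      by_contra h
      have hbot : P1 = ⊥ := by
        rw [eq_bot_iff]
        rintro _ ⟨y, rfl⟩
        rw [Subgroup.mem_bot]
        by_contra hy
        exact h ⟨y, hy⟩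
      rw [hbot, Subgroup.card_bot] at hj
      exact hp.one_lt.ne hj
    have hxord : orderOf x = p ^ 2 := by
      have h1 : ¬ x ^ p ^ 1 = 1 := by rwa [pow_one]
      have h2 : x ^ p ^ (1 + 1) = 1 := by
        have : x ^ p ^ (1 + 1) = (x ^ p) ^ p := by rw [← pow_mul]; congr 1; ring
        rw [this]
        exact hP1pow _ ⟨x, rfl⟩
      exact orderOf_eq_prime_pow h1 h2
    set w : G := x ^ p with hw
    have hwV : w ∈ V := (hVmem w).mpr (hP1pow _ ⟨x, rfl⟩)
    have hwcard : Nat.card (Subgroup.zpowers w) = p := by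
      rw [Nat.card_zpowers]
      exact orderOf_eq_prime (hP1pow _ ⟨x, rfl⟩) hx
    -- a complement to `w` in `V`
    have hVp : IsPGroup p V := hGp.to_subgroup V
    have hfrV : frattini V = ⊥ := by
      rw [eq_bot_iff]
      apply Cfsg.Agent.Lib.Helper54.frattini_le_of_commutator_le_of_pow_mem (p := p)
      · rw [commutator_def, Subgroup.commutator_le]
        intro a _ b _
        have : ⁅a, b⁆ = 1 := by rw [commutatorElement_eq_one_iff_commute]; exact mul_comm a b
        rw [this]; exact Subgroup.one_mem _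
      · intro v
        rw [Subgroup.mem_bot]
        apply Subtype.ext
        rw [Subgroup.coe_pow]
        exact (hVmem v).mp v.2
    have hwfr : (⟨w, hwV⟩ : V) ∉ frattini V := by
      rw [hfrV, Subgroup.mem_bot]
      intro h
      exact hx (congrArg Subtype.val h)
    rw [Cfsg.Agent.Lib.Helper03.mem_frattini_iff] at hwfr
    obtain ⟨K', hK'co, hwK'⟩ : ∃ K' : Subgroup V, IsCoatom K' ∧ (⟨w, hwV⟩ : V) ∉ K' := by
      by_contra h
      apply hwfr
      intro M hM
      by_contra hcM
      exact h ⟨M, hM, hcM⟩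
    have hK'idx : K'.index = p := Cfsg.Agent.Lib.Helper03.index_of_isCoatom_of_isPGroup hVp hK'co
    have hK'card : Nat.card K' = p ^ 2 := by
      have h1 := Subgroup.card_mul_index K'
      rw [hK'idx, hV3] at h1
      have : Nat.card K' * p = p ^ 2 * p := by rw [h1]; ring
      exact Nat.eq_of_mul_eq_mul_right hp.pos this
    set K : Subgroup G := K'.map V.subtype with hK
    have hKcard : Nat.card K = p ^ 2 := by
      rw [← hK'card]
      exact Nat.card_congr (Subgroup.equivMapOfInjective K' V.subtype V.subtype_injective).toEquiv.symm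
    have hKV : K ≤ V := by
      rintro _ ⟨v, -, rfl⟩
      exact v.2
    have hwK : w ∉ K := by
      rintro ⟨v, hv, hvw⟩
      apply hwK'
      have : v = ⟨w, hwV⟩ := Subtype.ext hvw
      rw [← this]; exact hv
    have hdisj : Disjoint (Subgroup.zpowers x) K := by
      rw [disjoint_iff, eq_bot_iff]
      intro z hz
      have hz1 : z ∈ Subgroup.zpowers x := hz.1
      have hz2 : z ∈ K := hz.2
      have hzp : z ^ p = 1 := (hVmem z).mp (hKV hz2)
      have h1 := mem_zpowers_pow_of_pow_eq_one (a := 2) (by norm_num) hxord hz1 hzp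
      have h2 : z ∈ Subgroup.zpowers w := by simpa using h1
      have h3 : Subgroup.zpowers w ⊓ K = ⊥ := by
        by_contra hne
        have h4 := le_of_card_prime_of_inf_ne_bot (Subgroup.zpowers w) K hwcard hne
        exact hwK (h4 (Subgroup.mem_zpowers w))
      rw [← h3]
      exact ⟨h2, hz2⟩
    let ψ : Subgroup.zpowers x × K →* G := (Subgroup.zpowers x).subtype.coprod K.subtype
    have hψapp : ∀ u : Subgroup.zpowers x × K, ψ u = (u.1 : G) * (u.2 : G) := by
      intro u
      exact MonoidHom.coprod_apply _ _ u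
    have hψinj : Function.Injective ψ := by
      have := Subgroup.mul_injective_of_disjoint hdisj
      intro u v huv
      apply this
      simpa [hψapp] using huv
    have hxcard : Nat.card (Subgroup.zpowers x) = p ^ 2 := by rw [Nat.card_zpowers, hxord]
    have hψbij : Function.Bijective ψ := by
      rw [Nat.bijective_iff_injective_and_card]
      refine ⟨hψinj, ?_⟩
      rw [Nat.card_prod, hxcard, hKcard, hG]
      ring
    have e0 : Subgroup.zpowers x × K ≃* G := MulEquiv.ofBijective ψ hψbij
    have e1 : Multiplicative (ZMod (p ^ 2)) ≃* Subgroup.zpowers x := by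
      rw [← hxcard]
      exact zmodCyclicMulEquiv inferInstance
    -- `K` is elementary abelian of order `p ^ 2`
    have hKexp : ∀ k : K, k ^ p = 1 := by
      intro k
      apply Subtype.ext
      rw [Subgroup.coe_pow]
      exact (hVmem k).mp (hKV k.2)
    have hKker : (powMonoidHom p : K →* K).ker = ⊤ := by
      rw [eq_top_iff]
      intro k _
      exact mem_ker_pow.mpr (hKexp k)
    have e2' := homocyclic_iso (H := K) (p := p) (hGp.to_subgroup K) 1 le_rfl
      (fun k => by rw [pow_one]; exact hKexp k)
      (by rw [hKker, Subgroup.card_top, hKcard])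
      (by
        rw [hKker, eq_top_iff]
        intro k _
        exact ⟨k, by simp⟩)
      (by
        intro k hk
        simp only [Nat.sub_self, pow_zero, pow_one] at hk
        exact ⟨1, by rw [hk, one_pow]⟩)
    obtain ⟨e2⟩ := e2'
    rw [pow_one] at e2
    exact ⟨e0.symm.trans ((MulEquiv.prodCongr e1.symm e2).trans
      (MulEquiv.prodMultiplicative (ZMod (p ^ 2)) (ZMod p × ZMod p)).symm)⟩
  · right; right
    have hidx : P1.index = p ^ (4 - j) := by
      have h1 := Subgroup.card_mul_index P1
      rw [hj, hG] at h1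
      have : p ^ j * P1.index = p ^ j * p ^ (4 - j) := by
        rw [h1, ← pow_add]; congr 1; omega
      exact Nat.eq_of_mul_eq_mul_left (pow_pos hp.pos j) this
    have h1 : (frattini G).index ∣ P1.index := Subgroup.index_dvd_of_le hP1fr
    have h2 : (frattini G).index ≤ P1.index :=
      Nat.le_of_dvd (Nat.pos_of_ne_zero Subgroup.index_ne_zero_of_finite) h1
    rw [hidx] at h2
    exact le_trans h2 (Nat.pow_le_pow_right hp.pos (by omega))

end AbelianFour

section Combined

variable {G : Type u} [Group G] [Finite G] {p : ℕ} [Fact p.Prime]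

/-- Nonabelian groups of order `p ^ 4`, up to a characteristic chain. -/
theorem nonabelian_p_four (hG : Nat.card G = p ^ 4) (hnc : ¬ ∀ a b : G, a * b = b * a) :
    HasCharChain p G ∨
      (p ≠ 2 ∧ ∃ (E : Type) (_ : Group E) (_ : Finite E), IsExtraspecial p E ∧ Nat.card E = p ^ 3 ∧
        (∀ x : E, x ^ p = 1) ∧ Nonempty (G ≃* E × Multiplicative (ZMod p))) ∨
      (p = 2 ∧ Nonempty (G ≃* QuaternionGroup 2 × Multiplicative (ZMod 2))) ∨
      ((∀ x : G, x ^ (p ^ 2) = 1) ∧ IsCyclic (Subgroup.center G) ∧
        Nat.card (Subgroup.center G) = p ^ 2) := by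
  have hp : p.Prime := Fact.out
  obtain ⟨k, hk0, hk⟩ := IsPGroup.card_center_eq_prime_pow hG (by norm_num)
  have hZd : Nat.card (Subgroup.center G) ∣ p ^ 4 := by
    rw [← hG]; exact Subgroup.card_subgroup_dvd_card _
  obtain ⟨j, hj4, hj⟩ := (Nat.dvd_prime_pow hp).mp hZd
  have hjk : j = k := Nat.pow_right_injective hp.two_le (by show p ^ j = p ^ k; rw [← hj, ← hk])
  subst hjk
  have hidx : Nat.card (G ⧸ Subgroup.center G) = p ^ (4 - j) := by
    have h1 := Subgroup.card_mul_index (Subgroup.center G)
    rw [hj, hG, Subgroup.index_eq_card] at h1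
    have : p ^ j * Nat.card (G ⧸ Subgroup.center G) = p ^ j * p ^ (4 - j) := by
      rw [h1, ← pow_add]; congr 1; omega
    exact Nat.eq_of_mul_eq_mul_left (pow_pos hp.pos j) this
  have hcases : j = 1 ∨ j = 2 ∨ j = 3 ∨ j = 4 := by omega
  rcases hcases with rfl | rfl | rfl | rfl
  · left
    rw [pow_one] at hj
    exact hasCharChain_of_center_card_p hG hj
  · by_cases hp2 : p = 2
    · subst hp2
      rcases center_sq_two hG hnc hj with h | ⟨h1, h2⟩ | h
      · exact Or.inl h
      · exact Or.inr (Or.inr (Or.inr ⟨h1, h2, hj⟩))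
      · exact Or.inr (Or.inr (Or.inl ⟨rfl, h⟩))
    · rcases center_sq_odd hG hnc hj hp2 with h | h | ⟨h1, h2⟩
      · exact Or.inl h
      · exact Or.inr (Or.inl ⟨hp2, exists_extraspecial_decomp hG hnc hj h⟩)
      · exact Or.inr (Or.inr (Or.inr ⟨h1, h2, hj⟩))
  · exfalso
    have hidx1 : Nat.card (G ⧸ Subgroup.center G) = p := by rw [hidx]; norm_num
    have : IsCyclic (G ⧸ Subgroup.center G) := isCyclic_of_prime_card hidx1
    exact hnc (isMulCommutative_of_isCyclic_quotient_center_self G).is_comm.comm
  · exfalso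
    apply hnc
    have htop : Subgroup.center G = ⊤ := Subgroup.eq_top_of_card_eq _ (by rw [hj, hG])
    intro a b
    have ha : a ∈ Subgroup.center G := by rw [htop]; exact Subgroup.mem_top a
    exact (Subgroup.mem_center_iff.mp ha b).symm

end Combined

end Cfsg.Agent.Lib.Helper89
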