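import Mathlib
import Cfsg.Prelude.Def_CaseTheorems
import Cfsg.Agent.Lib.Helper19.Recog
import Cfsg.Agent.Lib.Helper07.QuatEmbed
import Cfsg.Agent.Lib.Helper89.OrderPFour

/-!
# Metacyclic 2-groups containing a quaternion group or a self-centralizing four-group

`G` is a finite 2-group with a cyclic normal subgroup `N` such that `G ⧸ N` is cyclic.
-/

set_option autoImplicit false

namespace Cfsg.Agent.Lib.Helper89

/-- In a finite cyclic group, an element whose order divides that of `y` is a power of `y`. -/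
theorem mem_zpowers_of_orderOf_dvd {Q : Type*} [Group Q] [Finite Q] [IsCyclic Q] {x y : Q}
    (h : orderOf x ∣ orderOf y) : x ∈ Subgroup.zpowers y := by
  classical
  have := Fintype.ofFinite Q
  have hd : 0 < orderOf y := orderOf_pos y
  have h1 : (Finset.univ.filter (fun a : Q => a ^ orderOf y = 1)).card ≤ orderOf y :=
    IsCyclic.card_pow_eq_one_le hd
  have h2 : (Finset.univ.filter (fun a : Q => a ∈ Subgroup.zpowers y)) ⊆
      Finset.univ.filter (fun a : Q => a ^ orderOf y = 1) := by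
    intro a ha
    rw [Finset.mem_filter] at ha ⊢
    refine ⟨ha.1, ?_⟩
    obtain ⟨k, rfl⟩ := Subgroup.mem_zpowers_iff.mp ha.2
    rw [← zpow_natCast, ← zpow_mul, mul_comm, zpow_mul, zpow_natCast, pow_orderOf_eq_one, one_zpow]
  have h3 : (Finset.univ.filter (fun a : Q => a ∈ Subgroup.zpowers y)).card = orderOf y := by
    rw [← Nat.card_zpowers, Nat.card_eq_fintype_card, Fintype.card_subtype]
  have h4 := Finset.eq_of_subset_of_card_le h2 (by rw [h3]; exact h1)
  have h5 : x ∈ Finset.univ.filter (fun a : Q => a ^ orderOf y = 1) := by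
    rw [Finset.mem_filter]
    exact ⟨Finset.mem_univ _, orderOf_dvd_iff_pow_eq_one.mp h⟩
  rw [← h4, Finset.mem_filter] at h5
  exact h5.2

/-- The same inside a cyclic subgroup. -/
theorem mem_zpowers_of_orderOf_dvd' {G : Type*} [Group G] [Finite G] (N : Subgroup G) [IsCyclic N]
    {x y : G} (hx : x ∈ N) (hy : y ∈ N) (h : orderOf x ∣ orderOf y) : x ∈ Subgroup.zpowers y := by
  have h' : orderOf (⟨x, hx⟩ : N) ∣ orderOf (⟨y, hy⟩ : N) := by
    rw [Subgroup.orderOf_mk, Subgroup.orderOf_mk]; exact h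
  obtain ⟨k, hk⟩ := Subgroup.mem_zpowers_iff.mp (mem_zpowers_of_orderOf_dvd h')
  refine Subgroup.mem_zpowers_iff.mpr ⟨k, ?_⟩
  have := congrArg Subtype.val hk
  simpa using this

/-- Elements of a cyclic subgroup commute. -/
theorem comm_of_isCyclic {G : Type*} [Group G] (N : Subgroup G) [hN : IsCyclic N] {a b : G}
    (ha : a ∈ N) (hb : b ∈ N) : a * b = b * a := by
  obtain ⟨g, hg⟩ := hN.exists_generator
  obtain ⟨i, hi⟩ := Subgroup.mem_zpowers_iff.mp (hg ⟨a, ha⟩)
  obtain ⟨j, hj⟩ := Subgroup.mem_zpowers_iff.mp (hg ⟨b, hb⟩)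
  have h : (⟨a, ha⟩ : N) * ⟨b, hb⟩ = ⟨b, hb⟩ * ⟨a, ha⟩ := by
    rw [← hi, ← hj, ← zpow_add, ← zpow_add, add_comm]
  exact congrArg Subtype.val h

/-- A conjugate of an element of order four of a cyclic normal subgroup is the element or its
inverse. -/
theorem conj_order_four {G : Type*} [Group G] [Finite G] (N : Subgroup G) [N.Normal] [IsCyclic N]
    {c : G} (hc : c ∈ N) (hc4 : orderOf c = 4) (g : G) :
    g * c * g⁻¹ = c ∨ g * c * g⁻¹ = c⁻¹ := by
  have hd : g * c * g⁻¹ ∈ N := ‹N.Normal›.conj_mem c hc g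
  have hord : orderOf (g * c * g⁻¹) = 4 := by
    have := (MulAut.conj g).orderOf_eq c
    rw [MulAut.conj_apply] at this
    rw [this, hc4]
  have hmem : g * c * g⁻¹ ∈ Subgroup.zpowers c :=
    mem_zpowers_of_orderOf_dvd' N hd hc (by rw [hord, hc4])
  obtain ⟨k, hk⟩ := Subgroup.mem_zpowers_iff.mp hmem
  have hk' : g * c * g⁻¹ = c ^ (k % 4) := by
    rw [← hk]
    have := zpow_mod_orderOf c k
    rw [hc4] at this
    exact_mod_cast this.symm
  have h0 : 0 ≤ k % 4 := Int.emod_nonneg _ (by norm_num)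
  have h4 : k % 4 < 4 := Int.emod_lt_of_pos _ (by norm_num)
  obtain ⟨j, hj⟩ : ∃ j : ℤ, j = k % 4 := ⟨_, rfl⟩
  rw [← hj] at hk' h0 h4
  have hc44 : c ^ 4 = 1 := by rw [← hc4]; exact pow_orderOf_eq_one c
  interval_cases j
  · exfalso
    rw [zpow_zero] at hk'
    rw [hk', orderOf_one] at hord
    omega
  · left; rw [hk', zpow_one]
  · exfalso
    have h2 : (g * c * g⁻¹) ^ 2 = 1 := by
      rw [hk']
      have : (c ^ (2 : ℤ)) ^ 2 = c ^ 4 := by
        rw [← zpow_natCast, ← zpow_mul]; norm_num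
      rw [this, hc44]
    have := orderOf_dvd_of_pow_eq_one h2
    rw [hord] at this
    omega
  · right
    rw [hk']
    have : c ^ (3 : ℤ) * c = 1 := by
      have h : c ^ (3 : ℤ) * c = c ^ (4 : ℤ) := by
        rw [show (4 : ℤ) = 3 + 1 by norm_num, zpow_add, zpow_one]
      rw [h]
      exact_mod_cast hc44
    exact eq_inv_of_mul_eq_one_left this

/-- The square of any element centralizes the elements of order four of a cyclic normal
subgroup. -/
theorem sq_conj_order_four {G : Type*} [Group G] [Finite G] (N : Subgroup G) [N.Normal] [IsCyclic N]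
    {c : G} (hc : c ∈ N) (hc4 : orderOf c = 4) (g : G) :
    (g * g) * c * (g * g)⁻¹ = c := by
  have h : (g * g) * c * (g * g)⁻¹ = g * (g * c * g⁻¹) * g⁻¹ := by
    rw [mul_inv_rev]; simp only [mul_assoc]
  rw [h]
  rcases conj_order_four N hc hc4 g with h1 | h1
  · rw [h1, h1]
  · rw [h1]
    have : g * c⁻¹ * g⁻¹ = (g * c * g⁻¹)⁻¹ := by
      rw [mul_inv_rev, mul_inv_rev, inv_inv]; simp only [mul_assoc]
    rw [this, h1, inv_inv]

section struct

variable {G : Type*} [Group G] [Finite G]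

/-- If `y ∉ N`, `y² ∈ N` and `y` moves an element of order four of `N`, then `N` has index two. -/
theorem index_two_of_moves_order_four (hG : IsPGroup 2 G) (N : Subgroup G) [N.Normal] [IsCyclic N]
    (hQ : IsCyclic (G ⧸ N)) {y c : G} (hyN : y ∉ N) (hy2 : y * y ∈ N) (hc : c ∈ N)
    (hc4 : orderOf c = 4) (hyc : y * c * y⁻¹ ≠ c) : N.index = 2 := by
  obtain ⟨q, hq⟩ := hG.index N
  by_contra hne
  -- `q ≥ 2`
  have hq1 : q ≠ 0 := by
    rintro rfl
    rw [pow_zero, Subgroup.index_eq_one] at hq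
    exact hyN (hq ▸ Subgroup.mem_top y)
  have hq2 : 2 ≤ q := by
    rcases Nat.lt_or_ge q 2 with h | h
    · exfalso
      have : q = 1 := by omega
      rw [this, pow_one] at hq
      exact hne hq
    · exact h
  obtain ⟨γ, hγ⟩ := hQ.exists_generator
  have hcard : Nat.card (G ⧸ N) = 2 ^ q := by rw [← hq]; rfl
  have hγord : orderOf γ = 2 ^ q := by
    rw [← hcard]
    exact orderOf_eq_card_of_forall_mem_zpowers hγ
  obtain ⟨a, ha⟩ := Subgroup.mem_zpowers_iff.mp (hγ (QuotientGroup.mk y : G ⧸ N))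
  have hu2 : (QuotientGroup.mk y : G ⧸ N) ^ 2 = 1 := by
    rw [← QuotientGroup.mk_pow, pow_two]
    exact (QuotientGroup.eq_one_iff _).mpr hy2
  have h1 : γ ^ (a * 2) = 1 := by
    rw [zpow_mul, ha]
    exact_mod_cast hu2
  have h2 : ((orderOf γ : ℕ) : ℤ) ∣ a * 2 := orderOf_dvd_iff_zpow_eq_one.mpr h1
  rw [hγord] at h2
  have h3 : ((2 ^ (q - 1) : ℕ) : ℤ) ∣ a := by
    have : (2 ^ q : ℕ) = 2 ^ (q - 1) * 2 := by
      rw [← pow_succ]; congr 1; omega
    rw [this] at h2
    push_cast at h2 ⊢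
    exact Int.dvd_of_mul_dvd_mul_right (by norm_num) h2
  obtain ⟨b, hb⟩ := h3
  have h4 : (2 ^ (q - 1) : ℕ) = 2 * 2 ^ (q - 2) := by
    rw [← pow_succ']; congr 1; omega
  -- `mk y = (γ ^ (2 ^ (q - 2) * b)) ^ 2`
  obtain ⟨s, hs⟩ := QuotientGroup.mk_surjective (γ ^ (((2 ^ (q - 2) : ℕ) : ℤ) * b))
  have h5 : (QuotientGroup.mk y : G ⧸ N) = QuotientGroup.mk (s * s) := by
    rw [QuotientGroup.mk_mul, hs, ← ha, hb, h4, ← zpow_add]
    congr 1
    push_cast
    ring
  have h6 : (s * s)⁻¹ * y ∈ N := by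
    rw [← QuotientGroup.eq]
    exact h5.symm
  apply hyc
  have h7 : y = (s * s) * ((s * s)⁻¹ * y) := by group
  have h8 : ((s * s)⁻¹ * y) * c * ((s * s)⁻¹ * y)⁻¹ = c := by
    have := comm_of_isCyclic N h6 hc
    rw [this, mul_assoc, mul_inv_cancel, mul_one]
  calc y * c * y⁻¹ = (s * s) * (((s * s)⁻¹ * y) * c * ((s * s)⁻¹ * y)⁻¹) * (s * s)⁻¹ := by
        nth_rewrite 1 [h7]
        nth_rewrite 2 [h7]
        group
    _ = c := by rw [h8, sq_conj_order_four N hc hc4 s]

end struct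

section struct2

variable {G : Type*} [Group G] [Finite G]

omit [Finite G] in
theorem zpow_of_sq_eq_one {z : G} (hz : z * z = 1) (i : ℤ) : z ^ i = 1 ∨ z ^ i = z := by
  have hz2 : z ^ (2 : ℤ) = 1 := by
    rw [show (2 : ℤ) = 1 + 1 by norm_num, zpow_add, zpow_one]; exact hz
  rcases Int.even_or_odd' i with ⟨m, rfl | rfl⟩
  · left; rw [zpow_mul, hz2, one_zpow]
  · right; rw [zpow_add, zpow_mul, hz2, one_zpow, one_mul, zpow_one]

/-- The structure theorem: a finite 2-group with a cyclic normal subgroup `N` and cyclic quotient,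
in which some `y ∉ N` with `y² ∈ N` moves an element of order four of `N`, is dihedral,
generalized quaternion or quasi-dihedral. -/
theorem meta_struct (hG : IsPGroup 2 G) (N : Subgroup G) [N.Normal] [hNc : IsCyclic N]
    (hQ : IsCyclic (G ⧸ N)) {y c : G} (hyN : y ∉ N) (hy2 : y * y ∈ N) (hc : c ∈ N)
    (hc4 : orderOf c = 4) (hyc : y * c * y⁻¹ ≠ c) :
    (∃ m : ℕ, Nonempty (G ≃* DihedralGroup m)) ∨ (∃ m : ℕ, Nonempty (G ≃* QuaternionGroup m)) ∨
      Cfsg.IsQuasiDihedral G := by
  have hidx := index_two_of_moves_order_four hG N hQ hyN hy2 hc hc4 hyc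
  obtain ⟨g, hg⟩ := hNc.exists_generator
  obtain ⟨x, hxdef⟩ : ∃ x : G, x = (g : G) := ⟨_, rfl⟩
  have hxN : x ∈ N := hxdef ▸ g.2
  have hNx : ∀ n ∈ N, n ∈ Subgroup.zpowers x := by
    intro n hn
    obtain ⟨k, hk⟩ := Subgroup.mem_zpowers_iff.mp (hg ⟨n, hn⟩)
    refine Subgroup.mem_zpowers_iff.mpr ⟨k, ?_⟩
    have := congrArg Subtype.val hk
    rw [hxdef]
    simpa using this
  have hNeq : Subgroup.zpowers x = N := le_antisymm (Subgroup.zpowers_le.mpr hxN) hNx
  obtain ⟨k, hk⟩ := (hG.to_subgroup N).exists_card_eq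
  have hxord : orderOf x = 2 ^ k := by rw [← hk, ← hNeq, Nat.card_zpowers]
  have hk2 : 2 ≤ k := by
    have h1 : orderOf c ∣ orderOf x := orderOf_dvd_of_mem_zpowers (hNx c hc)
    rw [hc4, hxord] at h1
    by_contra hlt
    have : k = 0 ∨ k = 1 := by omega
    rcases this with rfl | rfl <;> omega
  have hcomm : ∀ {a b : G}, a ∈ N → b ∈ N → a * b = b * a := fun ha hb => comm_of_isCyclic N ha hb
  -- elements of `N` centralized by `y` square to one
  have hcent : ∀ n ∈ N, y * n * y⁻¹ = n → n * n = 1 := by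
    intro n hn hyn
    by_contra hn2
    obtain ⟨j, hj⟩ := hG n
    obtain ⟨j', -, hj'⟩ := (Nat.dvd_prime_pow Nat.prime_two).mp (orderOf_dvd_of_pow_eq_one hj)
    have hj2 : 2 ≤ j' := by
      by_contra hlt
      apply hn2
      have h1 : orderOf n ∣ 2 := by
        rw [hj']
        have : j' = 0 ∨ j' = 1 := by omega
        rcases this with rfl | rfl <;> norm_num
      have := orderOf_dvd_iff_pow_eq_one.mp h1
      rwa [pow_two] at this
    have h4 : orderOf c ∣ orderOf n := by
      rw [hc4, hj']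
      exact (show (4 : ℕ) = 2 ^ 2 by norm_num) ▸ pow_dvd_pow 2 hj2
    obtain ⟨i, hi⟩ := Subgroup.mem_zpowers_iff.mp (mem_zpowers_of_orderOf_dvd' N hc hn h4)
    apply hyc
    rw [← hi, ← conj_zpow, hyn]
  -- the element `a = y x y⁻¹ x`
  have hyxN : y * x * y⁻¹ ∈ N := ‹N.Normal›.conj_mem x hxN y
  have haN : y * x * y⁻¹ * x ∈ N := N.mul_mem hyxN hxN
  have hyyx : (y * y) * x * (y * y)⁻¹ = x := by
    rw [hcomm hy2 hxN, mul_assoc, mul_inv_cancel, mul_one]
  have hafix : y * (y * x * y⁻¹ * x) * y⁻¹ = y * x * y⁻¹ * x := by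
    have h1 : y * (y * x * y⁻¹ * x) * y⁻¹ = ((y * y) * x * (y * y)⁻¹) * (y * x * y⁻¹) := by
      rw [mul_inv_rev]; simp only [mul_assoc, inv_mul_cancel_left]
    rw [h1, hyyx, hcomm hxN hyxN]
  have ha2 := hcent _ haN hafix
  have hyyfix : y * (y * y) * y⁻¹ = y * y := by
    simp only [mul_assoc, mul_inv_cancel, mul_one]
  have hyy2 := hcent _ hy2 hyyfix
  -- the involution of `N`
  have hk1 : 1 ≤ k := by omega
  obtain ⟨z, hzdef⟩ : ∃ z : G, z = x ^ (2 ^ (k - 1)) := ⟨_, rfl⟩
  have hzN : z ∈ N := hzdef ▸ N.pow_mem hxN _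
  have hzz : z * z = 1 := by
    rw [hzdef, ← pow_add, ← two_mul, ← pow_succ', show k - 1 + 1 = k by omega, ← hxord]
    exact pow_orderOf_eq_one x
  have hz1 : z ≠ 1 := by
    rw [hzdef]
    apply pow_ne_one_of_lt_orderOf (by positivity)
    rw [hxord]
    exact Nat.pow_lt_pow_right (by norm_num) (by omega)
  have hmemz : ∀ n ∈ N, n * n = 1 → n = 1 ∨ n = z := by
    intro n hn hn2
    have h1 : n ∈ Subgroup.zpowers (x ^ (2 ^ (k - 1))) :=
      mem_zpowers_pow_of_pow_eq_one' Nat.prime_two hk1 hxord (hNx n hn) (by rw [pow_two]; exact hn2)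
    rw [← hzdef] at h1
    obtain ⟨i, rfl⟩ := Subgroup.mem_zpowers_iff.mp h1
    exact zpow_of_sq_eq_one hzz i
  have hcardG : Nat.card G = 2 ^ (k + 1) := by
    rw [← Subgroup.card_mul_index N, hk, hidx, pow_succ]
  -- elements outside `N`
  have hout : ∀ g : G, g ∉ N → ∃ n ∈ N, g = y * n := by
    intro g hgN
    refine ⟨y⁻¹ * g, ?_, by group⟩
    rw [Subgroup.mul_mem_iff_of_index_two hidx]
    constructor
    · intro h; exact absurd (N.inv_mem_iff.mp h) hyN
    · intro h; exact absurd h hgN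
  rcases hmemz _ haN ha2 with ha | ha
  · -- `y` inverts `x`
    have hinvx : y * x * y⁻¹ = x⁻¹ := eq_inv_of_mul_eq_one_left ha
    have hinvN : ∀ n ∈ N, y * n * y⁻¹ = n⁻¹ := by
      intro n hn
      obtain ⟨i, rfl⟩ := Subgroup.mem_zpowers_iff.mp (hNx n hn)
      rw [← conj_zpow, hinvx, inv_zpow]
    rcases hmemz _ hy2 hyy2 with hyy | hyy
    · -- dihedral
      left
      refine ⟨Nat.card N, Cfsg.Agent.Lib.Helper19.Recog.dihedral_of_index_two N hidx ?_⟩
      intro g hgN
      obtain ⟨n, hn, rfl⟩ := hout g hgN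
      have h1 : (y * n) ^ 2 = (y * n * y⁻¹) * (y * y) * n := by
        rw [pow_two]; group
      rw [h1, hinvN n hn, hyy, mul_one, inv_mul_cancel]
    · -- quaternion
      right; left
      have hn2 : 2 ≤ 2 ^ (k - 1) := by
        calc 2 = 2 ^ 1 := by norm_num
          _ ≤ 2 ^ (k - 1) := Nat.pow_le_pow_right (by norm_num) (by omega)
      have : NeZero (2 ^ (k - 1)) := ⟨by positivity⟩
      have hord2 : orderOf x = 2 * 2 ^ (k - 1) := by
        rw [hxord, ← pow_succ', show k - 1 + 1 = k by omega]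
      have hw : y * y = x ^ (2 ^ (k - 1)) := by rw [hyy, hzdef]
      have hwc : y * x = x⁻¹ * y := by
        rw [← hinvx]; group
      have hinj := Cfsg.Agent.Lib.Helper07.quatHom_injective x y hn2 hord2 hw hwc
      have hcardQ : Nat.card (QuaternionGroup (2 ^ (k - 1))) = Nat.card G := by
        rw [Nat.card_eq_fintype_card, QuaternionGroup.card, hcardG, pow_succ,
          show (4 : ℕ) = 2 * 2 by norm_num, mul_assoc, ← pow_succ', show k - 1 + 1 = k by omega,
          mul_comm]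
      have hbij := (Nat.bijective_iff_injective_and_card _).mpr ⟨hinj, hcardQ⟩
      exact ⟨2 ^ (k - 1), ⟨(MulEquiv.ofBijective _ hbij).symm⟩⟩
  · -- quasi-dihedral
    right; right
    have hconj : y * x * y⁻¹ = z * x⁻¹ := eq_mul_inv_of_mul_eq ha
    have hk3 : 3 ≤ k := by
      by_contra hlt
      have hk' : k = 2 := by omega
      subst hk'
      have hz' : z = x * x := by rw [hzdef]; norm_num [pow_two]
      have h1 : y * x * y⁻¹ = x := by rw [hconj, hz', mul_assoc, mul_inv_cancel, mul_one]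
      have h2 := hcent x hxN h1
      have h3 : orderOf x ∣ 2 := orderOf_dvd_of_pow_eq_one (by rw [pow_two]; exact h2)
      rw [hxord] at h3
      norm_num at h3
    have hpow : z * x⁻¹ = x ^ (2 ^ (k - 1) - 1) := by
      rw [hzdef]
      have h1 : x ^ (2 ^ (k - 1) - 1) * x = x ^ (2 ^ (k - 1)) := pow_sub_one_mul (by positivity) x
      exact (eq_mul_inv_of_mul_eq h1).symm
    have : Fact (Nat.Prime 2) := ⟨Nat.prime_two⟩
    rcases hmemz _ hy2 hyy2 with hyy | hyy
    · refine ⟨k, hk3, hcardG, x, y, hxord, ?_, ?_⟩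
      · apply orderOf_eq_prime (by rw [pow_two]; exact hyy)
        rintro rfl
        exact hyN N.one_mem
      · rw [hconj, hpow]
    · refine ⟨k, hk3, hcardG, x, x * y, hxord, ?_, ?_⟩
      · apply orderOf_eq_prime
        · have h1 : (x * y) ^ 2 = x * (y * x * y⁻¹) * (y * y) := by rw [pow_two]; group
          rw [h1, hconj, hyy, hcomm hzN (N.inv_mem hxN), mul_inv_cancel_left, hzz]
        · intro h
          apply hyN
          have : y = x⁻¹ := eq_inv_of_mul_eq_one_right h
          rw [this]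
          exact N.inv_mem hxN
      · have h1 : x * y * x * (x * y)⁻¹ = x * (y * x * y⁻¹) * x⁻¹ := by group
        rw [h1, hcomm hxN hyxN, mul_assoc, mul_inv_cancel, mul_one, hconj, hpow]

end struct2

section cases

variable {G : Type*} [Group G] [Finite G]

set_option maxRecDepth 100000 in
theorem q8_facts : ∀ u v : QuaternionGroup 2, u * v ≠ v * u →
    u * u = v * v ∧ u * u ≠ 1 ∧ u * u * (u * u) = 1 := by
  decide

theorem q8_noncomm' : ∃ u v : QuaternionGroup 2, u * v ≠ v * u := by decide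

omit [Finite G] in
theorem exists_generator_of_isCyclic (H : Subgroup G) [hH : IsCyclic H] :
    ∃ x ∈ H, ∀ n ∈ H, n ∈ Subgroup.zpowers x := by
  obtain ⟨g, hg⟩ := hH.exists_generator
  refine ⟨(g : G), g.2, ?_⟩
  intro n hn
  obtain ⟨k, hk⟩ := Subgroup.mem_zpowers_iff.mp (hg ⟨n, hn⟩)
  refine Subgroup.mem_zpowers_iff.mpr ⟨k, ?_⟩
  have := congrArg Subtype.val hk
  simpa using this

/-- A metacyclic 2-group containing a quaternion group of order 8. -/
theorem quat_case (hG : IsPGroup 2 G) (N : Subgroup G) [N.Normal] [hNc : IsCyclic N]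
    (hQ : IsCyclic (G ⧸ N)) (R : Subgroup G) (e : R ≃* QuaternionGroup 2) :
    (∃ m : ℕ, Nonempty (G ≃* DihedralGroup m)) ∨ (∃ m : ℕ, Nonempty (G ≃* QuaternionGroup m)) ∨
      Cfsg.IsQuasiDihedral G := by
  -- a non-commuting pair `t ∈ R`, `g ∈ R ⊓ N`
  have hex : ∃ t : R, ∃ g : R, (g : G) ∈ N ∧ g * t ≠ t * g := by
    by_contra hno
    have hno' : ∀ t g : R, (g : G) ∈ N → g * t = t * g := by
      intro t g hg
      by_contra h
      exact hno ⟨t, g, hg, h⟩
    let f : R →* G ⧸ N := (QuotientGroup.mk' N).comp R.subtype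
    have hf : f.ker ≤ Subgroup.center R := by
      intro g hg
      rw [MonoidHom.mem_ker] at hg
      have hgN : (g : G) ∈ N := (QuotientGroup.eq_one_iff _).mp hg
      rw [Subgroup.mem_center_iff]
      intro t
      exact (hno' t g hgN).symm
    obtain ⟨u, v, huv⟩ := q8_noncomm'
    apply huv
    have h1 := commutative_of_cyclic_center_quotient f hf (e.symm u) (e.symm v)
    have h2 := congrArg e h1
    simpa using h2
  obtain ⟨t, g, hgN, hgt⟩ := hex
  have h0 : e g * e t ≠ e t * e g := by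
    intro hc
    apply hgt
    apply e.injective
    rw [map_mul, map_mul, hc]
  obtain ⟨h1, h2, h3⟩ := q8_facts (e g) (e t) h0
  have h1' : g * g = t * t := by apply e.injective; rw [map_mul, map_mul, h1]
  have h2' : g * g ≠ 1 := by intro hc; apply h2; rw [← map_mul, hc, map_one]
  have h3' : g * g * (g * g) = 1 := by apply e.injective; simp only [map_mul, map_one]; exact h3
  have hg2 : (g : G) * (g : G) ≠ 1 := by
    intro hc
    apply h2'
    apply Subtype.ext
    exact hc
  have hg4 : (g : G) * (g : G) * ((g : G) * (g : G)) = 1 := congrArg Subtype.val h3'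
  have hord : orderOf (g : G) = 4 := by
    have := orderOf_eq_prime_pow (x := (g : G)) (p := 2) (n := 1) ?_ ?_
    · simpa using this
    · intro hc
      apply hg2
      rw [← hc, pow_one, pow_two]
    · rw [← hg4]
      simp [pow_succ, mul_assoc]
  have htN : (t : G) ∉ N := by
    intro ht
    apply hgt
    apply Subtype.ext
    exact comm_of_isCyclic N hgN ht
  have ht2 : (t : G) * (t : G) ∈ N := by
    have : (t : G) * (t : G) = ((g * g : R) : G) := by rw [h1']; rfl
    rw [this]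
    exact N.mul_mem hgN hgN
  have hmove : (t : G) * (g : G) * (t : G)⁻¹ ≠ (g : G) := by
    intro hc
    apply hgt
    apply Subtype.ext
    have : (t : G) * (g : G) = (g : G) * (t : G) := by
      calc (t : G) * (g : G) = ((t : G) * (g : G) * (t : G)⁻¹) * (t : G) := by group
        _ = (g : G) * (t : G) := by rw [hc]
    exact this.symm
  exact meta_struct hG N hQ htN ht2 hgN hord hmove

/-- A group of exponent two embedding in a cyclic group has order at most two. -/
theorem card_le_two_of_embeds_cyclic {A C : Type*} [Group A] [Group C] [Finite C] [IsCyclic C]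
    (f : A →* C) (hf : Function.Injective f) (hexp : ∀ a : A, a * a = 1) : Nat.card A ≤ 2 := by
  classical
  have := Fintype.ofFinite C
  have h1 : (Finset.univ.filter (fun a : C => a ^ 2 = 1)).card ≤ 2 :=
    IsCyclic.card_pow_eq_one_le (by norm_num)
  have : Finite A := Finite.of_injective f hf
  have := Fintype.ofFinite A
  have h2 : Nat.card A ≤ (Finset.univ.filter (fun a : C => a ^ 2 = 1)).card := by
    rw [Nat.card_eq_fintype_card, ← Finset.card_univ]
    apply Finset.card_le_card_of_injOn f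
    · intro a _
      simp only [Finset.coe_filter, Finset.mem_univ, true_and, Set.mem_setOf_eq]
      rw [← map_pow, pow_two, hexp a, map_one]
    · exact hf.injOn
  exact h2.trans h1

/-- A metacyclic 2-group with a proper self-centralizing four-group. -/
theorem four_case (hG : IsPGroup 2 G) (N : Subgroup G) [N.Normal] [hNc : IsCyclic N]
    (hQ : IsCyclic (G ⧸ N)) (R : Subgroup G) (hR4 : Nat.card R = 4)
    (hexp : ∀ r ∈ R, r * r = 1) (hcent : Subgroup.centralizer (R : Set G) ≤ R) (hne : R ≠ ⊤) :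
    (∃ m : ℕ, Nonempty (G ≃* DihedralGroup m)) ∨ (∃ m : ℕ, Nonempty (G ≃* QuaternionGroup m)) ∨
      Cfsg.IsQuasiDihedral G := by
  have hexp' : ∀ a : R, a * a = 1 := fun a => Subtype.ext (hexp a a.2)
  -- `R` is not inside `N`
  have hRN : ¬ R ≤ N := by
    intro hle
    have := card_le_two_of_embeds_cyclic (Subgroup.inclusion hle) (Subgroup.inclusion_injective hle)
      hexp'
    omega
  obtain ⟨y, hyR, hyN⟩ := SetLike.not_le_iff_exists.mp hRN
  have hyy : y * y = 1 := hexp y hyR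
  -- uniqueness of the involution of `G ⧸ N`
  have huniq : ∀ r ∈ R, r ∉ N → y⁻¹ * r ∈ N := by
    intro r hr hrN
    have h1 : orderOf (QuotientGroup.mk r : G ⧸ N) = 2 := by
      have : Fact (Nat.Prime 2) := ⟨Nat.prime_two⟩
      apply orderOf_eq_prime
      · rw [← QuotientGroup.mk_pow, pow_two, hexp r hr]; rfl
      · intro hc; exact hrN ((QuotientGroup.eq_one_iff _).mp hc)
    have h2 : orderOf (QuotientGroup.mk y : G ⧸ N) = 2 := by
      have : Fact (Nat.Prime 2) := ⟨Nat.prime_two⟩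
      apply orderOf_eq_prime
      · rw [← QuotientGroup.mk_pow, pow_two, hyy]; rfl
      · intro hc; exact hyN ((QuotientGroup.eq_one_iff _).mp hc)
    have h3 : (QuotientGroup.mk r : G ⧸ N) ∈ Subgroup.zpowers (QuotientGroup.mk y : G ⧸ N) :=
      mem_zpowers_of_orderOf_dvd (by rw [h1, h2])
    obtain ⟨i, hi⟩ := Subgroup.mem_zpowers_iff.mp h3
    have hyy' : (QuotientGroup.mk y : G ⧸ N) * QuotientGroup.mk y = 1 := by
      rw [← QuotientGroup.mk_mul, hyy]; rfl
    rcases zpow_of_sq_eq_one hyy' i with h | h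
    · exfalso
      rw [h] at hi
      exact hrN ((QuotientGroup.eq_one_iff _).mp hi.symm)
    · rw [h] at hi
      exact QuotientGroup.eq.mp hi
  -- elements of `N` centralized by `y` lie in `R`
  have hCN : ∀ n ∈ N, y * n * y⁻¹ = n → n ∈ R := by
    intro n hn hyn
    apply hcent
    rw [Subgroup.mem_centralizer_iff]
    intro r hr
    have hny : n * y = y * n := by
      calc n * y = (y * n * y⁻¹) * y := by rw [hyn]
        _ = y * n := by group
    by_cases hrN : r ∈ N
    · exact comm_of_isCyclic N hrN hn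
    · have h1 := huniq r hr hrN
      have h2 : r = y * (y⁻¹ * r) := by group
      have h3 : (y⁻¹ * r) * n = n * (y⁻¹ * r) := comm_of_isCyclic N h1 hn
      rw [h2, mul_assoc, h3, ← mul_assoc, ← hny, mul_assoc]
  -- an element of order four in `N`
  obtain ⟨x, hxN, hNx⟩ := exists_generator_of_isCyclic N
  obtain ⟨k, hk⟩ := (hG.to_subgroup N).exists_card_eq
  have hNeq : Subgroup.zpowers x = N := le_antisymm (Subgroup.zpowers_le.mpr hxN) hNx
  have hxord : orderOf x = 2 ^ k := by rw [← hk, ← hNeq, Nat.card_zpowers]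
  rcases Nat.lt_or_ge k 2 with hk2 | hk2
  · -- `N` is central and `G` is abelian
    exfalso
    have hNcen : N ≤ Subgroup.center G := by
      intro n hn
      rw [Subgroup.mem_center_iff]
      intro g
      have hx2 : x * x = 1 := by
        have : orderOf x ∣ 2 := by
          rw [hxord]
          have : k = 0 ∨ k = 1 := by omega
          rcases this with rfl | rfl <;> norm_num
        have := orderOf_dvd_iff_pow_eq_one.mp this
        rwa [pow_two] at this
      have hconjx : g * x * g⁻¹ = x := by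
        obtain ⟨j, hj⟩ := Subgroup.mem_zpowers_iff.mp (hNx _ (‹N.Normal›.conj_mem x hxN g))
        rcases zpow_of_sq_eq_one hx2 j with h | h
        · rw [h] at hj
          have hx1 : x = 1 := by
            have : x = g⁻¹ * (g * x * g⁻¹) * g := by group
            rw [this, ← hj]; group
          rw [hx1]; group
        · rw [h] at hj; exact hj.symm
      obtain ⟨i, hi⟩ := Subgroup.mem_zpowers_iff.mp (hNx n hn)
      have h1 : g * n * g⁻¹ = n := by
        rw [← hi, ← conj_zpow, hconjx]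
      calc g * n = (g * n * g⁻¹) * g := by group
        _ = n * g := by rw [h1]
    have hab : ∀ a b : G, a * b = b * a := by
      have := hQ
      apply commutative_of_cyclic_center_quotient (QuotientGroup.mk' N)
      rw [QuotientGroup.ker_mk']
      exact hNcen
    apply hne
    rw [eq_top_iff]
    intro g _
    apply hcent
    rw [Subgroup.mem_centralizer_iff]
    intro r _
    exact hab r g
  · obtain ⟨c, hcdef⟩ : ∃ c : G, c = x ^ (2 ^ (k - 2)) := ⟨_, rfl⟩
    have hcN : c ∈ N := hcdef ▸ N.pow_mem hxN _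
    have hc4 : orderOf c = 4 := by
      rw [hcdef, orderOf_pow' _ (by positivity), hxord]
      have h1 : Nat.gcd (2 ^ k) (2 ^ (k - 2)) = 2 ^ (k - 2) :=
        Nat.gcd_eq_right (pow_dvd_pow 2 (by omega))
      rw [h1, Nat.pow_div (by omega) (by norm_num), show k - (k - 2) = 2 by omega]
    have hmove : y * c * y⁻¹ ≠ c := by
      intro hc
      have h1 := hexp c (hCN c hcN hc)
      have h2 : orderOf c ∣ 2 := orderOf_dvd_of_pow_eq_one (by rw [pow_two]; exact h1)
      rw [hc4] at h2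
      norm_num at h2
    exact meta_struct hG N hQ hyN (by rw [hyy]; exact N.one_mem) hcN hc4 hmove

end cases

section homocyclic

variable {G : Type*} [Group G] [Finite G]

/-- Commutators of `t` with elements of the cyclic group `R ⊓ N` are squares in `R`. -/
theorem comm_mem_of_inf (hG : IsPGroup 2 G) (N : Subgroup G) [N.Normal] [hNc : IsCyclic N]
    (R : Subgroup G) (Φ : Subgroup G) (hΦ : ∀ s ∈ R, s * s ∈ Φ)
    (t : G) (htN : ∀ r ∈ R, t * r * t⁻¹ ∈ R) :
    ∀ n ∈ R ⊓ N, t * n * t⁻¹ * n⁻¹ ∈ Φ := by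
  have : IsCyclic (R ⊓ N : Subgroup G) := Subgroup.isCyclic_of_le (inf_le_right : R ⊓ N ≤ N)
  obtain ⟨c0, hc0, hgen⟩ := exists_generator_of_isCyclic (R ⊓ N)
  have hc0R : c0 ∈ R := hc0.1
  have hc0N : c0 ∈ N := hc0.2
  have hconj : t * c0 * t⁻¹ ∈ R ⊓ N := ⟨htN c0 hc0R, ‹N.Normal›.conj_mem c0 hc0N t⟩
  obtain ⟨m, hm⟩ := Subgroup.mem_zpowers_iff.mp (hgen _ hconj)
  intro n hn
  obtain ⟨j, hj⟩ := Subgroup.mem_zpowers_iff.mp (hgen n hn)
  rcases Int.even_or_odd' m with ⟨m', rfl | rfl⟩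
  · -- `c0 = 1`
    obtain ⟨a, ha⟩ := (IsPGroup.iff_orderOf.mp hG) c0
    have hc01 : c0 = 1 := by
      rcases Nat.eq_zero_or_pos a with rfl | hapos
      · rw [pow_zero] at ha
        exact orderOf_eq_one_iff.mp ha
      · exfalso
        have hord : orderOf (t * c0 * t⁻¹) = 2 ^ a := by
          have := (MulAut.conj t).orderOf_eq c0
          rw [MulAut.conj_apply] at this
          rw [this, ha]
        have hpow : (t * c0 * t⁻¹) ^ (2 ^ (a - 1)) = 1 := by
          rw [← hm, ← zpow_natCast, ← zpow_mul]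
          have h1 : (2 * m' * ((2 ^ (a - 1) : ℕ) : ℤ)) = m' * ((2 ^ a : ℕ) : ℤ) := by
            have : (2 ^ a : ℕ) = 2 * 2 ^ (a - 1) := by
              rw [← pow_succ']; congr 1; omega
            rw [this]; push_cast; ring
          rw [h1, mul_comm, zpow_mul, zpow_natCast, ← ha, pow_orderOf_eq_one, one_zpow]
        have hdvd := orderOf_dvd_of_pow_eq_one hpow
        rw [hord] at hdvd
        have := (Nat.pow_dvd_pow_iff_le_right (by norm_num : 1 < 2)).mp hdvd
        omega
    have hn1 : n = 1 := by rw [← hj, hc01, one_zpow]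
    rw [hn1]
    simp only [mul_one, mul_inv_cancel, inv_one]
    exact Φ.one_mem
  · have h1 : t * n * t⁻¹ = (c0 ^ (2 * m' + 1)) ^ j := by
      rw [← hj, ← conj_zpow, hm]
    have h2 : t * n * t⁻¹ * n⁻¹ = c0 ^ (m' * j) * c0 ^ (m' * j) := by
      rw [h1, ← hj, ← zpow_mul, ← zpow_neg, ← zpow_add, ← zpow_add]
      congr 1
      ring
    rw [h2]
    exact hΦ _ (R.zpow_mem hc0R _)

/-- A metacyclic 2-group contains no abelian subgroup `R` in which every involution is a square,
normalized by an element `t` with `t² ∈ R` acting non-trivially modulo squares. -/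
theorem no_homocyclic (hG : IsPGroup 2 G) (N : Subgroup G) [N.Normal] [hNc : IsCyclic N]
    (hQ : IsCyclic (G ⧸ N)) (R : Subgroup G) (hab : ∀ a ∈ R, ∀ b ∈ R, a * b = b * a)
    (hF1 : ∀ r ∈ R, r * r = 1 → ∃ s ∈ R, s * s = r)
    (Φ : Subgroup G) (hΦ : ∀ s ∈ R, s * s ∈ Φ)
    (t : G) (htN : ∀ r ∈ R, t * r * t⁻¹ ∈ R) (ht2 : t * t ∈ R)
    (hnt : ∃ r ∈ R, t * r * t⁻¹ * r⁻¹ ∉ Φ) : False := by
  obtain ⟨b, hbR, hb⟩ := hnt
  have := hQ
  by_cases hA : ∃ r0 ∈ R, (QuotientGroup.mk t : G ⧸ N) = QuotientGroup.mk r0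
  · obtain ⟨r0, hr0, hmk⟩ := hA
    obtain ⟨w, hw⟩ : ∃ w : G, w = t * r0⁻¹ := ⟨_, rfl⟩
    have hwN : w ∈ N := by
      rw [← QuotientGroup.eq_one_iff, hw, QuotientGroup.mk_mul, hmk, QuotientGroup.mk_inv,
        mul_inv_cancel]
    have hwb : w * b * w⁻¹ = t * b * t⁻¹ := by
      have h1 : r0⁻¹ * b * r0 = b := by
        rw [hab _ (R.inv_mem hr0) b hbR, mul_assoc, inv_mul_cancel, mul_one]
      calc w * b * w⁻¹ = t * (r0⁻¹ * b * r0) * t⁻¹ := by rw [hw]; group
        _ = t * b * t⁻¹ := by rw [h1]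
    obtain ⟨d, hd⟩ : ∃ d : G, d = t * b * t⁻¹ * b⁻¹ := ⟨_, rfl⟩
    have hdR : d ∈ R := hd ▸ R.mul_mem (htN b hbR) (R.inv_mem hbR)
    have hdN : d ∈ N := by
      have : d = w * (b * w⁻¹ * b⁻¹) := by rw [hd, ← hwb]; group
      rw [this]
      exact N.mul_mem hwN (‹N.Normal›.conj_mem _ (N.inv_mem hwN) b)
    have hwd : w * d * w⁻¹ = d := by
      rw [comm_of_isCyclic N hwN hdN, mul_assoc, mul_inv_cancel, mul_one]
    have hwwR : w * w ∈ R := by
      have : w * w = (t * r0⁻¹ * t⁻¹) * (t * t) * r0⁻¹ := by rw [hw]; group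
      rw [this]
      exact R.mul_mem (R.mul_mem (htN _ (R.inv_mem hr0)) ht2) (R.inv_mem hr0)
    have h1 : (w * w) * b * (w * w)⁻¹ = b := by
      rw [hab _ hwwR b hbR, mul_assoc, mul_inv_cancel, mul_one]
    have hwb' : w * b * w⁻¹ = d * b := by rw [hwb, hd]; group
    have h2 : (w * w) * b * (w * w)⁻¹ = d * d * b := by
      calc (w * w) * b * (w * w)⁻¹ = w * (w * b * w⁻¹) * w⁻¹ := by group
        _ = w * (d * b) * w⁻¹ := by rw [hwb']
        _ = (w * d * w⁻¹) * (w * b * w⁻¹) := by group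
        _ = d * (d * b) := by rw [hwd, hwb']
        _ = d * d * b := by group
    have hdd : d * d = 1 := by
      have h3 : d * d * b = 1 * b := by rw [← h2, h1, one_mul]
      exact mul_right_cancel h3
    obtain ⟨s, hs, hsd⟩ := hF1 d hdR hdd
    apply hb
    rw [← hd, ← hsd]
    exact hΦ s hs
  · -- every element of `R` is `(t t) ^ i * n` with `n ∈ R ⊓ N`
    have hQp : IsPGroup 2 (G ⧸ N) := hG.to_quotient N
    have hkey := comm_mem_of_inf hG N R Φ hΦ t htN
    have hdecomp : ∃ i : ℤ, ((t * t) ^ i)⁻¹ * b ∈ N := by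
      obtain ⟨α, hα⟩ := (IsPGroup.iff_orderOf.mp hQp) (QuotientGroup.mk t : G ⧸ N)
      obtain ⟨β, hβ⟩ := (IsPGroup.iff_orderOf.mp hQp) (QuotientGroup.mk b : G ⧸ N)
      rcases Nat.lt_or_ge β α with hlt | hge
      · have hord2 : orderOf ((QuotientGroup.mk t : G ⧸ N) ^ 2) = 2 ^ (α - 1) := by
          rw [orderOf_pow' _ (by norm_num), hα]
          have h1 : Nat.gcd (2 ^ α) 2 = 2 :=
            Nat.gcd_eq_right (dvd_pow_self 2 (by omega))
          rw [h1]
          nth_rewrite 2 [show (2 : ℕ) = 2 ^ 1 by norm_num]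
          rw [Nat.pow_div (by omega) (by norm_num)]
        have hmem : (QuotientGroup.mk b : G ⧸ N) ∈
            Subgroup.zpowers ((QuotientGroup.mk t : G ⧸ N) ^ 2) := by
          apply mem_zpowers_of_orderOf_dvd
          rw [hβ, hord2]
          exact pow_dvd_pow 2 (by omega)
        obtain ⟨i, hi⟩ := Subgroup.mem_zpowers_iff.mp hmem
        refine ⟨i, ?_⟩
        rw [← QuotientGroup.eq, QuotientGroup.mk_zpow, QuotientGroup.mk_mul, ← pow_two]
        exact hi
      · exfalso
        have hmem : (QuotientGroup.mk t : G ⧸ N) ∈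
            Subgroup.zpowers (QuotientGroup.mk b : G ⧸ N) := by
          apply mem_zpowers_of_orderOf_dvd
          rw [hα, hβ]
          exact pow_dvd_pow 2 hge
        obtain ⟨i, hi⟩ := Subgroup.mem_zpowers_iff.mp hmem
        apply hA
        refine ⟨b ^ i, R.zpow_mem hbR i, ?_⟩
        rw [QuotientGroup.mk_zpow]
        exact hi.symm
    obtain ⟨i, hi⟩ := hdecomp
    obtain ⟨n, hn⟩ : ∃ n : G, n = ((t * t) ^ i)⁻¹ * b := ⟨_, rfl⟩
    have httR : (t * t) ^ i ∈ R := R.zpow_mem ht2 i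
    have hnR : n ∈ R := hn ▸ R.mul_mem (R.inv_mem httR) hbR
    have hnN : n ∈ N := hn ▸ hi
    have hbn : b = (t * t) ^ i * n := by rw [hn]; group
    have htt : t * (t * t) ^ i * t⁻¹ = (t * t) ^ i := by
      rw [← conj_zpow]
      congr 1
      group
    have hD : t * b * t⁻¹ * b⁻¹ = t * n * t⁻¹ * n⁻¹ := by
      have h1 : t * b * t⁻¹ = (t * t) ^ i * (t * n * t⁻¹) := by
        calc t * b * t⁻¹ = (t * (t * t) ^ i * t⁻¹) * (t * n * t⁻¹) := by rw [hbn]; group
          _ = (t * t) ^ i * (t * n * t⁻¹) := by rw [htt]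
      have h2 : t * n * t⁻¹ * n⁻¹ ∈ R := R.mul_mem (htN n hnR) (R.inv_mem hnR)
      calc t * b * t⁻¹ * b⁻¹ = (t * t) ^ i * (t * n * t⁻¹ * n⁻¹) * ((t * t) ^ i)⁻¹ := by
            rw [h1, hbn]; group
        _ = t * n * t⁻¹ * n⁻¹ := by
            rw [hab _ httR _ h2, mul_assoc, mul_inv_cancel, mul_one]
    apply hb
    rw [hD]
    exact hkey n ⟨hnR, hnN⟩

end homocyclic

end Cfsg.Agent.Lib.Helper89
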