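import Mathlib
import Cfsg.Prelude.Def_GeometricClasses
import Cfsg.Prelude.Def_ClassicalGeometry
import Cfsg.Agent.Lib.Helper38.SpF.Defs

/-!
# K-SpF pack (S5975, architect helper38), leaf T3 (597502): a `K`-invariant subspace on which the
symplectic form is nondegenerate has dimension divisible by `2k`.
-/

set_option autoImplicit false

namespace Cfsg.Agent.Lib.Helper89.SpF

open Cfsg Cfsg.Geo Cfsg.Agent.Lib.Helper38.SpF
open scoped Matrix MatrixGroups

variable {F : Type*} [Field F]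

section line

variable {ι : Type} [Fintype ι] [DecidableEq ι]

/-- the map `a ↦ a u` from `K` to the space -/
def lineMap (K : Subalgebra F (Matrix ι ι F)) (u : ι → F) : ↥K →ₗ[F] (ι → F) where
  toFun a := (a : Matrix ι ι F) *ᵥ u
  map_add' a b := by simp [Matrix.add_mulVec]
  map_smul' c a := by simp [Matrix.smul_mulVec]

theorem mem_range_lineMap {K : Subalgebra F (Matrix ι ι F)} {u x : ι → F} :
    x ∈ LinearMap.range (lineMap K u) ↔ ∃ a ∈ K, a *ᵥ u = x := by
  constructor
  · rintro ⟨a, rfl⟩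
    exact ⟨a.1, a.2, rfl⟩
  · rintro ⟨a, ha, rfl⟩
    exact ⟨⟨a, ha⟩, rfl⟩

theorem lineMap_injective {k : ℕ} {K : Subalgebra F (Matrix ι ι F)} (hK : IsFieldSubalgebra k K)
    {u : ι → F} (hu : u ≠ 0) : Function.Injective (lineMap K u) := by
  rw [← LinearMap.ker_eq_bot, LinearMap.ker_eq_bot']
  intro a ha
  by_contra hne
  have hne' : (a : Matrix ι ι F) ≠ 0 := fun h => hne (Subtype.ext h)
  obtain ⟨c, hcK, hc⟩ := hK.inv a.1 a.2 hne'
  have hc' : c * (a : Matrix ι ι F) = 1 := by rw [← hK.comm _ a.2 _ hcK]; exact hc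
  apply hu
  have h0 : (a : Matrix ι ι F) *ᵥ u = 0 := ha
  calc u = (1 : Matrix ι ι F) *ᵥ u := (Matrix.one_mulVec u).symm
    _ = c *ᵥ ((a : Matrix ι ι F) *ᵥ u) := by rw [← hc', Matrix.mulVec_mulVec]
    _ = 0 := by rw [h0, Matrix.mulVec_zero]

theorem finrank_range_lineMap {k : ℕ} {K : Subalgebra F (Matrix ι ι F)}
    (hK : IsFieldSubalgebra k K) {u : ι → F} (hu : u ≠ 0) :
    Module.finrank F (LinearMap.range (lineMap K u)) = k := by
  rw [LinearMap.finrank_range_of_inj (lineMap_injective hK hu)]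
  exact hK.finrank_eq

/-- `M ⊔ K u` is `K`-invariant when `M` is -/
theorem sup_line_invariant {K : Subalgebra F (Matrix ι ι F)} {M : Submodule F (ι → F)}
    (hM : ∀ a ∈ K, ∀ v ∈ M, a *ᵥ v ∈ M) (u : ι → F) :
    ∀ a ∈ K, ∀ v ∈ M ⊔ LinearMap.range (lineMap K u),
      a *ᵥ v ∈ M ⊔ LinearMap.range (lineMap K u) := by
  intro a ha v hv
  obtain ⟨m, hm, x, hx, rfl⟩ := Submodule.mem_sup.mp hv
  obtain ⟨b, hb, rfl⟩ := mem_range_lineMap.mp hx
  rw [Matrix.mulVec_add]
  refine Submodule.add_mem_sup (hM a ha m hm) ?_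
  rw [Matrix.mulVec_mulVec]
  exact mem_range_lineMap.mpr ⟨a * b, K.mul_mem ha hb, rfl⟩

/-- a `K`-invariant subspace has dimension divisible by `k` -/
theorem dvd_finrank_of_invariant {k : ℕ} (K : Subalgebra F (Matrix ι ι F))
    (hK : IsFieldSubalgebra k K) (L : Submodule F (ι → F))
    (hL : ∀ a ∈ K, ∀ v ∈ L, a *ᵥ v ∈ L) : k ∣ Module.finrank F L := by
  let S : Set (Submodule F (ι → F)) :=
    {M | M ≤ L ∧ (∀ a ∈ K, ∀ v ∈ M, a *ᵥ v ∈ M) ∧ k ∣ Module.finrank F M}
  have hne : S.Nonempty := by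
    refine ⟨⊥, bot_le, ?_, ?_⟩
    · intro a _ v hv
      rw [Submodule.mem_bot] at hv
      rw [hv, Matrix.mulVec_zero]
      exact Submodule.zero_mem _
    · rw [finrank_bot]; exact dvd_zero k
  obtain ⟨M, ⟨hML, hMK, hMk⟩, hmax⟩ := wellFounded_gt.has_min S hne
  by_cases hEq : M = L
  · rw [← hEq]; exact hMk
  · exfalso
    obtain ⟨u, huL, huM⟩ : ∃ u ∈ L, u ∉ M := by
      by_contra h
      refine hEq (le_antisymm hML fun u hu => ?_)
      by_contra huM
      exact h ⟨u, hu, huM⟩
    have hu0 : u ≠ 0 := fun h => huM (h ▸ M.zero_mem)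
    have huR : u ∈ LinearMap.range (lineMap K u) :=
      mem_range_lineMap.mpr ⟨1, K.one_mem, Matrix.one_mulVec u⟩
    have hdisj : M ⊓ LinearMap.range (lineMap K u) = ⊥ := by
      rw [eq_bot_iff]
      rintro x ⟨hxM, hxR⟩
      obtain ⟨a, ha, rfl⟩ := mem_range_lineMap.mp hxR
      rw [Submodule.mem_bot]
      by_contra hne0
      have ha0 : a ≠ 0 := by
        rintro rfl
        exact hne0 (Matrix.zero_mulVec u)
      obtain ⟨c, hcK, hc⟩ := hK.inv a ha ha0
      have hc' : c * a = 1 := by rw [← hK.comm _ ha _ hcK]; exact hc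
      apply huM
      have : c *ᵥ (a *ᵥ u) = u := by
        rw [Matrix.mulVec_mulVec, hc', Matrix.one_mulVec]
      rw [← this]
      exact hMK c hcK _ hxM
    refine hmax (M ⊔ LinearMap.range (lineMap K u)) ⟨?_, ?_, ?_⟩ ?_
    · refine sup_le hML ?_
      rintro x hx
      obtain ⟨a, ha, rfl⟩ := mem_range_lineMap.mp hx
      exact hL a ha u huL
    · exact sup_line_invariant hMK u
    · have h := Submodule.finrank_sup_add_finrank_inf_eq M (LinearMap.range (lineMap K u))
      rw [hdisj, finrank_bot, add_zero, finrank_range_lineMap hK hu0] at h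
      rw [h]
      exact Dvd.dvd.add hMk (dvd_refl k)
    · refine lt_of_le_of_ne le_sup_left ?_
      intro h
      apply huM
      rw [h]
      exact Submodule.mem_sup_right huR

end line

section main

/-- KEYSTONE 597502  K-SpF-T3. -/
theorem two_mul_dvd_finrank (d k : ℕ)
    (K : Subalgebra F (Matrix (Fin d ⊕ Fin d) (Fin d ⊕ Fin d) F)) (hS : IsSType d k K)
    (W : Submodule F (Fin d ⊕ Fin d → F)) (hW : ∀ a ∈ K, ∀ w ∈ W, a *ᵥ w ∈ W)
    (hnd : ∀ u ∈ W, (∀ w ∈ W, sympForm d F u w = 0) → u = 0) :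
    2 * k ∣ Module.finrank F W := by
  -- the bilinear form
  let B : LinearMap.BilinForm F (Fin d ⊕ Fin d → F) := Matrix.toBilin' (Matrix.J (Fin d) F)
  have hB : ∀ u v, B u v = sympForm d F u v := fun u v => Matrix.toBilin'_apply' _ u v
  have halt : ∀ v, B v v = 0 := fun v => by
    rw [hB]
    have := hS.alt 1 K.one_mem v
    rwa [Matrix.one_mulVec] at this
  have hskew : ∀ u v, B u v = - B v u := by
    intro u v
    have h := halt (u + v)
    simp only [map_add, LinearMap.add_apply, halt, zero_add, add_zero] at h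
    exact eq_neg_of_add_eq_zero_left (by rw [add_comm]; exact h)
  have hsa : ∀ a ∈ K, ∀ u v, B (a *ᵥ u) v = B u (a *ᵥ v) := fun a ha u v => by
    rw [hB, hB]; exact hS.sa a ha u v
  -- a maximal K-invariant totally isotropic subspace of W
  let S : Set (Submodule F (Fin d ⊕ Fin d → F)) :=
    {L | L ≤ W ∧ (∀ a ∈ K, ∀ v ∈ L, a *ᵥ v ∈ L) ∧ ∀ u ∈ L, ∀ v ∈ L, B u v = 0}
  have hne : S.Nonempty := by
    refine ⟨⊥, bot_le, ?_, ?_⟩
    · intro a _ v hv
      rw [Submodule.mem_bot] at hv
      rw [hv, Matrix.mulVec_zero]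
      exact Submodule.zero_mem _
    · intro u hu v _
      rw [Submodule.mem_bot] at hu
      rw [hu, map_zero, LinearMap.zero_apply]
  obtain ⟨L, ⟨hLW, hLK, hLiso⟩, hmax⟩ := wellFounded_gt.has_min S hne
  -- `L^⊥ ∩ W ≤ L`
  have hperp : ∀ v ∈ W, (∀ u ∈ L, B u v = 0) → v ∈ L := by
    intro v hvW hv
    by_contra hvL
    have hvR : v ∈ LinearMap.range (lineMap K v) :=
      mem_range_lineMap.mpr ⟨1, K.one_mem, Matrix.one_mulVec v⟩
    refine hmax (L ⊔ LinearMap.range (lineMap K v)) ⟨?_, ?_, ?_⟩ ?_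
    · refine sup_le hLW ?_
      rintro x hx
      obtain ⟨a, ha, rfl⟩ := mem_range_lineMap.mp hx
      exact hW a ha v hvW
    · exact sup_line_invariant hLK v
    · intro x hx y hy
      obtain ⟨l, hl, x', hx', rfl⟩ := Submodule.mem_sup.mp hx
      obtain ⟨a, ha, rfl⟩ := mem_range_lineMap.mp hx'
      obtain ⟨l', hl', y', hy', rfl⟩ := Submodule.mem_sup.mp hy
      obtain ⟨b, hb, rfl⟩ := mem_range_lineMap.mp hy'
      have e1 : B l l' = 0 := hLiso l hl l' hl'
      have e2 : B l (b *ᵥ v) = 0 := by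
        rw [← hsa b hb]; exact hv _ (hLK b hb l hl)
      have e3 : B (a *ᵥ v) l' = 0 := by
        rw [hskew, ← hsa a ha, hv _ (hLK a ha l' hl'), neg_zero]
      have e4 : B (a *ᵥ v) (b *ᵥ v) = 0 := by
        rw [← hsa b hb, Matrix.mulVec_mulVec, hB]
        exact hS.alt (b * a) (K.mul_mem hb ha) v
      simp only [map_add, LinearMap.add_apply, e1, e2, e3, e4, add_zero]
    · refine lt_of_le_of_ne le_sup_left ?_
      intro h
      apply hvL
      rw [h]
      exact Submodule.mem_sup_right hvR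
  -- dimension count inside `W`
  have hBw : (B.restrict W).Nondegenerate := by
    constructor
    · intro x hx
      have := hnd x.1 x.2 (fun w hw => by
        have h : B x.1 w = 0 := hx ⟨w, hw⟩
        rw [← hB]; exact h)
      exact Subtype.ext this
    · intro y hy
      have := hnd y.1 y.2 (fun w hw => by
        have h : B w y.1 = 0 := hy ⟨w, hw⟩
        rw [← hB, hskew, h, neg_zero])
      exact Subtype.ext this
  have horth : (B.restrict W).orthogonal (L.comap W.subtype) = L.comap W.subtype := by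
    ext x
    rw [LinearMap.BilinForm.mem_orthogonal_iff]
    constructor
    · intro h
      show (x : Fin d ⊕ Fin d → F) ∈ L
      apply hperp x.1 x.2
      intro u hu
      have : B u x.1 = 0 := h ⟨u, hLW hu⟩ hu
      exact this
    · intro h n hn
      show B n.1 x.1 = 0
      exact hLiso n.1 hn x.1 h
  have hfr := LinearMap.BilinForm.finrank_orthogonal hBw (L.comap W.subtype)
  rw [horth] at hfr
  have hle : Module.finrank F (L.comap W.subtype) ≤ Module.finrank F W :=
    Submodule.finrank_le _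
  have hLw : Module.finrank F (L.comap W.subtype) = Module.finrank F L :=
    (Submodule.comapSubtypeEquivOfLe hLW).finrank_eq
  obtain ⟨t, ht⟩ := dvd_finrank_of_invariant K hS.field L hLK
  have h2 : Module.finrank F W = 2 * Module.finrank F L := by omega
  rw [h2, ht]
  exact ⟨t, by ring⟩

end main

end Cfsg.Agent.Lib.Helper89.SpF
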