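import Mathlib
import Cfsg.Prelude.Def_FusionSystem

set_option autoImplicit false

/-!
The two exceptional families of `p`-groups of rank two (`p` odd) in Blackburn's list, written inside an
ambient group: shared definitions for the proof that they are resistant when `p ≥ 5`.
-/

namespace Cfsg.Agent.Lib.Helper89

variable {Ω : Type*} [Group Ω]

/-- The family `C(p, n)`, `n ≥ 4`, realised on the subgroup `S` of the ambient group. -/
structure CData (S : Subgroup Ω) (p n : ℕ) (x y z : Ω) : Prop where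
  hxS : x ∈ S
  hyS : y ∈ S
  hzS : z ∈ S
  gen : Subgroup.closure ({x, y, z} : Set Ω) = S
  xp : x ^ p = 1
  yp : y ^ p = 1
  zp : z ^ p ^ (n - 2) = 1
  xz : x * z = z * x
  yz : y * z = z * y
  rel : x⁻¹ * y * x = y * z ^ p ^ (n - 3)
  card : Nat.card S = p ^ n
  hn : 4 ≤ n

/-- The family `G(p, n; s)`, `n ≥ 4`, `p ≥ 5`, realised on the subgroup `S` of the ambient group. -/
structure DData (S : Subgroup Ω) (p n s : ℕ) (x y z : Ω) : Prop where
  hxS : x ∈ S
  hyS : y ∈ S
  hzS : z ∈ S
  gen : Subgroup.closure ({x, y, z} : Set Ω) = S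
  xp : x ^ p = 1
  yp : y ^ p = 1
  zp : z ^ p ^ (n - 2) = 1
  yz : y * z = z * y
  rel1 : x⁻¹ * y * x = y * z ^ (s * p ^ (n - 3))
  rel2 : x⁻¹ * z * x = y * z
  hs : ¬ p ∣ s
  card : Nat.card S = p ^ n
  hn : 4 ≤ n
  hp5 : 5 ≤ p

/-- the subgroup generated by the elements of `S` of order dividing `p` (for `DData` these elements form
a subgroup of order `p ^ 3`) -/
def omSub (S : Subgroup Ω) (p : ℕ) : Subgroup Ω := Subgroup.closure {u : Ω | u ∈ S ∧ u ^ p = 1}

end Cfsg.Agent.Lib.Helper89
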