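import Mathlib
import Cfsg.Agent.Lib.Helper07.SL2Sylow

set_option autoImplicit false

namespace Cfsg.Agent.Lib.Helper89

open Matrix

/-- The linear automorphism group of a `ZMod p`-module of order `p ^ r` is `GL_r(p)`. -/
theorem exists_linearEquiv_equiv_GL (p r : ℕ) [Fact p.Prime] (V : Type*) [AddCommGroup V]
    [Module (ZMod p) V] [Finite V] (hcard : Nat.card V = p ^ r) :
    Nonempty ((V ≃ₗ[ZMod p] V) ≃* GL (Fin r) (ZMod p)) := by
  have hp : p.Prime := Fact.out
  haveI : Fintype V := Fintype.ofFinite V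
  have hfin : Module.finrank (ZMod p) V = r := by
    have h1 := Module.card_eq_pow_finrank (K := ZMod p) (V := V)
    rw [ZMod.card, ← Nat.card_eq_fintype_card, hcard] at h1
    exact (Nat.pow_right_injective hp.two_le h1).symm
  let b := Module.finBasisOfFinrankEq (ZMod p) V hfin
  exact ⟨(LinearMap.GeneralLinearGroup.generalLinearEquiv (ZMod p) V).symm.trans
    (Matrix.GeneralLinearGroup.toLin' b).symm⟩

/-- Automorphisms of a commutative group whose additive version is a `ZMod p`-module are the linear automorphisms. -/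
theorem exists_mulAut_equiv_linear (E : Type*) [CommGroup E] (p : ℕ) [Module (ZMod p) (Additive E)] :
    Nonempty (MulAut E ≃* (Additive E ≃ₗ[ZMod p] Additive E)) := by
  refine ⟨{ toFun := fun f =>
              { MulEquiv.toAdditive f with
                map_smul' := fun c x => ZMod.map_smul (MulEquiv.toAdditive f) c x }
            invFun := fun g => MulEquiv.toAdditive.symm g.toAddEquiv
            left_inv := fun f => by ext; rfl
            right_inv := fun g => by ext; rfl
            map_mul' := fun f g => ?_ }⟩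
  refine LinearEquiv.ext fun x => ?_
  rw [LinearEquiv.mul_apply]
  rfl

/-- The automorphism group of an elementary abelian group of order `p ^ r` is isomorphic to `GL_r(p)`
(commutative-group version). -/
theorem exists_mulAut_equiv_GL_comm {E : Type*} [CommGroup E] [Finite E] {p r : ℕ} [Fact p.Prime]
    (hexp : ∀ a : E, a ^ p = 1) (hcard : Nat.card E = p ^ r) :
    Nonempty (MulAut E ≃* GL (Fin r) (ZMod p)) := by
  have hexp' : ∀ x : Additive E, p • x = 0 := fun x => by
    have := hexp x.toMul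
    exact congrArg Additive.ofMul this
  letI inst : Module (ZMod p) (Additive E) :=
    AddCommGroup.zmodModule (n := p) (G := Additive E) hexp'
  have hVcard : Nat.card (Additive E) = p ^ r := by
    rw [← hcard]; exact Nat.card_congr Additive.toMul
  have h1 : Nonempty (MulAut E ≃* (Additive E ≃ₗ[ZMod p] Additive E)) :=
    exists_mulAut_equiv_linear E p
  have h2 : Nonempty ((Additive E ≃ₗ[ZMod p] Additive E) ≃* GL (Fin r) (ZMod p)) :=
    exists_linearEquiv_equiv_GL p r (Additive E) hVcard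
  obtain ⟨e1⟩ := h1
  obtain ⟨e2⟩ := h2
  exact ⟨MulEquiv.trans e1 e2⟩

/-- The automorphism group of an elementary abelian group of order `p ^ r` is isomorphic to `GL_r(p)`. -/
theorem exists_mulAut_equiv_GL {E : Type*} [Group E] [Finite E] {p r : ℕ} [Fact p.Prime]
    (hcomm : ∀ a b : E, a * b = b * a) (hexp : ∀ a : E, a ^ p = 1) (hcard : Nat.card E = p ^ r) :
    Nonempty (MulAut E ≃* GL (Fin r) (ZMod p)) :=
  @exists_mulAut_equiv_GL_comm E { (inferInstance : Group E) with mul_comm := hcomm } _ p r _ hexp hcard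


section GL2

/-- Membership in the image of `SL_n` in `GL_n` is the determinant-one condition. -/
theorem mem_range_toGL_iff {n : Type*} [Fintype n] [DecidableEq n] {R : Type*} [CommRing R]
    (x : GL n R) :
    x ∈ (SpecialLinearGroup.toGL : SpecialLinearGroup n R →* GL n R).range ↔
      Matrix.GeneralLinearGroup.det x = 1 := by
  constructor
  · rintro ⟨s, rfl⟩
    ext
    simp
  · intro h
    have h' : (x : Matrix n n R).det = 1 := by
      have := congrArg Units.val h
      simpa using this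
    exact ⟨⟨(x : Matrix n n R), h'⟩, Units.ext rfl⟩

variable (p : ℕ) [Fact p.Prime]

/-- Sylow `p`-subgroups of `GL₂(p)` have order `p`. -/
theorem card_sylow_GL2 (R : Sylow p (GL (Fin 2) (ZMod p))) :
    Nat.card (R : Subgroup (GL (Fin 2) (ZMod p))) = p := by
  have h1 := R.card_eq_multiplicity
  have h2 := (Helper07.sylUGL (F := ZMod p) p).card_eq_multiplicity
  have h3 : Nat.card ((Helper07.sylUGL (F := ZMod p) p : Sylow p (GL (Fin 2) (ZMod p))) :
      Subgroup (GL (Fin 2) (ZMod p))) = p := by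
    rw [Helper07.sylUGL_coe, Helper07.card_UGL, ZMod.card]
  rw [h1, ← h2, h3]

/-- Sylow `p`-subgroups of `GL₂(p)` consist of determinant-one matrices. -/
theorem sylow_GL2_le_range (R : Sylow p (GL (Fin 2) (ZMod p))) :
    (R : Subgroup (GL (Fin 2) (ZMod p))) ≤
      (SpecialLinearGroup.toGL :
        SpecialLinearGroup (Fin 2) (ZMod p) →* GL (Fin 2) (ZMod p)).range := by
  have hp : p.Prime := Fact.out
  intro x hx
  rw [mem_range_toGL_iff]
  obtain ⟨k, hk⟩ := R.isPGroup' ⟨x, hx⟩
  have hxk : x ^ p ^ k = 1 := by simpa using congrArg Subtype.val hk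
  have hd : (Matrix.GeneralLinearGroup.det x) ^ p ^ k = 1 := by rw [← map_pow, hxk, map_one]
  have hd2 : (Matrix.GeneralLinearGroup.det x) ^ (p - 1) = 1 :=
    ZMod.units_pow_card_sub_one_eq_one p _
  have hnd : ¬ p ∣ p - 1 :=
    Nat.not_dvd_of_pos_of_lt (by have := hp.two_le; omega) (by have := hp.two_le; omega)
  have hcop : Nat.Coprime (p ^ k) (p - 1) :=
    Nat.Coprime.pow_left k ((Nat.Prime.coprime_iff_not_dvd hp).mpr hnd)
  have h1 := Nat.dvd_gcd (orderOf_dvd_of_pow_eq_one hd) (orderOf_dvd_of_pow_eq_one hd2)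
  rw [hcop.gcd_eq_one, Nat.dvd_one] at h1
  exact orderOf_eq_one_iff.mp h1

/-- A subgroup of `GL₂(p)` containing two distinct Sylow `p`-subgroups contains `SL₂(p)`. -/
theorem toGL_range_le_of_two_sylow (R₁ R₂ : Sylow p (GL (Fin 2) (ZMod p))) (hne : R₁ ≠ R₂)
    (G' : Subgroup (GL (Fin 2) (ZMod p))) (h₁ : (R₁ : Subgroup _) ≤ G')
    (h₂ : (R₂ : Subgroup _) ≤ G') :
    (SpecialLinearGroup.toGL :
      SpecialLinearGroup (Fin 2) (ZMod p) →* GL (Fin 2) (ZMod p)).range ≤ G' := by
  have hinj := SpecialLinearGroup.toGL_injective (n := Fin 2) (R := ZMod p)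
  set Q₁ := R₁.comapOfInjective SpecialLinearGroup.toGL hinj (sylow_GL2_le_range p R₁) with hQ₁
  set Q₂ := R₂.comapOfInjective SpecialLinearGroup.toGL hinj (sylow_GL2_le_range p R₂) with hQ₂
  have e1 : (Q₁ : Subgroup (SpecialLinearGroup (Fin 2) (ZMod p))).map SpecialLinearGroup.toGL =
      R₁ := by
    rw [hQ₁, Sylow.coe_comapOfInjective, Subgroup.map_comap_eq_self (sylow_GL2_le_range p R₁)]
  have e2 : (Q₂ : Subgroup (SpecialLinearGroup (Fin 2) (ZMod p))).map SpecialLinearGroup.toGL =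
      R₂ := by
    rw [hQ₂, Sylow.coe_comapOfInjective, Subgroup.map_comap_eq_self (sylow_GL2_le_range p R₂)]
  have hQ : Q₁ ≠ Q₂ := by
    intro h
    apply hne
    apply Sylow.ext
    rw [← e1, ← e2, h]
  have hsup := Helper07.sylow_SL_two_sup_eq_top (F := ZMod p) p Q₁ Q₂ hQ
  calc (SpecialLinearGroup.toGL :
        SpecialLinearGroup (Fin 2) (ZMod p) →* GL (Fin 2) (ZMod p)).range
      = (⊤ : Subgroup (SpecialLinearGroup (Fin 2) (ZMod p))).map SpecialLinearGroup.toGL :=
        MonoidHom.range_eq_map _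
    _ = ((Q₁ : Subgroup (SpecialLinearGroup (Fin 2) (ZMod p))) ⊔
          (Q₂ : Subgroup (SpecialLinearGroup (Fin 2) (ZMod p)))).map SpecialLinearGroup.toGL := by
        rw [hsup]
    _ = (R₁ : Subgroup _) ⊔ (R₂ : Subgroup _) := by rw [Subgroup.map_sup, e1, e2]
    _ ≤ G' := sup_le h₁ h₂

/-- A subgroup of `GL₂(p)` containing two distinct nontrivial `p`-subgroups contains `SL₂(p)`. -/
theorem toGL_range_le_of_two_pSubgroups (G' A₁ A₂ : Subgroup (GL (Fin 2) (ZMod p)))
    (h₁ : A₁ ≤ G') (h₂ : A₂ ≤ G') (hp₁ : IsPGroup p A₁) (hp₂ : IsPGroup p A₂)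
    (hb₁ : A₁ ≠ ⊥) (hb₂ : A₂ ≠ ⊥) (hne : A₁ ≠ A₂) :
    (SpecialLinearGroup.toGL :
      SpecialLinearGroup (Fin 2) (ZMod p) →* GL (Fin 2) (ZMod p)).range ≤ G' := by
  have hp : p.Prime := Fact.out
  obtain ⟨R₁, hR₁⟩ := hp₁.exists_le_sylow
  obtain ⟨R₂, hR₂⟩ := hp₂.exists_le_sylow
  have key : ∀ (A : Subgroup (GL (Fin 2) (ZMod p))) (R : Sylow p (GL (Fin 2) (ZMod p))),
      A ≤ R → A ≠ ⊥ → A = R := by
    intro A R hAR hA
    apply Subgroup.eq_of_le_of_card_ge hAR
    rw [card_sylow_GL2 p R]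
    have hdvd : Nat.card A ∣ p := by
      have h := Subgroup.card_dvd_of_le hAR
      rwa [card_sylow_GL2 p R] at h
    rcases (Nat.dvd_prime hp).mp hdvd with h | h
    · exact absurd (Subgroup.card_eq_one.mp h) hA
    · exact h.ge
  have k1 := key A₁ R₁ hR₁ hb₁
  have k2 := key A₂ R₂ hR₂ hb₂
  refine toGL_range_le_of_two_sylow p R₁ R₂ ?_ G' (k1 ▸ h₁) (k2 ▸ h₂)
  intro h
  apply hne
  rw [k1, k2, h]

/-- A group embedding in `GL₂(p)` with two distinct nontrivial `p`-subgroups has a subgroup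
isomorphic to `SL₂(p)`. -/
theorem exists_subgroup_equiv_SL2 {G : Type*} [Group G] (ι : G →* GL (Fin 2) (ZMod p))
    (hι : Function.Injective ι) (P₁ P₂ : Subgroup G) (hp₁ : IsPGroup p P₁) (hp₂ : IsPGroup p P₂)
    (hb₁ : P₁ ≠ ⊥) (hb₂ : P₂ ≠ ⊥) (hne : P₁ ≠ P₂) :
    ∃ K : Subgroup G, Nonempty (K ≃* SpecialLinearGroup (Fin 2) (ZMod p)) := by
  have hle := toGL_range_le_of_two_pSubgroups p ι.range (P₁.map ι) (P₂.map ι)
    (Subgroup.map_le_range _ _) (Subgroup.map_le_range _ _) (hp₁.map ι) (hp₂.map ι)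
    (fun h => hb₁ ((Subgroup.map_eq_bot_iff_of_injective _ hι).mp h))
    (fun h => hb₂ ((Subgroup.map_eq_bot_iff_of_injective _ hι).mp h))
    (fun h => hne (Subgroup.map_injective hι h))
  set T := (SpecialLinearGroup.toGL :
      SpecialLinearGroup (Fin 2) (ZMod p) →* GL (Fin 2) (ZMod p)).range with hT
  refine ⟨T.comap ι, ⟨?_⟩⟩
  have e1 : (T.comap ι) ≃* ((T.comap ι).map ι) := Subgroup.equivMapOfInjective _ ι hι
  have e2 : ((T.comap ι).map ι) ≃* T := MulEquiv.subgroupCongr (Subgroup.map_comap_eq_self hle)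
  have e3 : SpecialLinearGroup (Fin 2) (ZMod p) ≃* T :=
    MonoidHom.ofInjective (SpecialLinearGroup.toGL_injective (n := Fin 2) (R := ZMod p))
  exact (e1.trans e2).trans e3.symm

end GL2

end Cfsg.Agent.Lib.Helper89
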