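import Mathlib
import Cfsg.Agent.Lib.Helper31.BG134Defs
import Cfsg.Agent.Lib.Helper31.BG12a
import Cfsg.Agent.Lib.Helper55.SylowIn
import Cfsg.Agent.Lib.Helper01.BGNarrow

set_option autoImplicit false

/-! Keystone 142812 (K-S1428-CJ): `τ₂` is invariant under conjugation. -/

namespace Cfsg.Agent.Lib.Helper89.BG134

open Cfsg Cfsg.Agent.Lib.Helper55 Cfsg.Agent.Lib.Helper31.BG134

variable {G : Type*} [Group G] [Finite G]

/-- KEYSTONE 142812  K-S1428-CJ  (`τ₂` is invariant under conjugation). -/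
theorem mem_tau2_cj {M : Subgroup G} {p : ℕ} (hp : p ∈ tau2 M) (g : G) : p ∈ tau2 (cj g M) := by
  obtain ⟨hpp, hns, h2, h1⟩ := hp
  have : Fact p.Prime := ⟨hpp⟩
  have e : M ≃* cj g M :=
    Subgroup.equivMapOfInjective M (MulAut.conj g).toMonoidHom (MulAut.conj g).injective
  refine ⟨hpp, ?_, ?_, ?_⟩
  · intro hs
    have := Cfsg.Agent.Lib.Helper31.BG12.mem_sigma_cj hs g⁻¹
    rw [cj_inv_cj] at this
    exact hns this
  · exact Cfsg.Agent.Lib.Helper01.BGNarrow.pRankLE_of_mulEquiv e h2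
  · intro h
    exact h1 (Cfsg.Agent.Lib.Helper01.BGNarrow.pRankLE_of_mulEquiv e.symm h)

end Cfsg.Agent.Lib.Helper89.BG134
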