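import Mathlib
import Cfsg.Agent.Lib.Helper56.NSE3Defs

/-!
# K-NSE3-L03 (keystone 399603, architect helper56): `same_step`
-/

set_option autoImplicit false

namespace Cfsg.Agent.Lib.Helper89.NSE3

open Cfsg.Agent.S3995 (s)
open Cfsg.Agent.Lib.Helper56.NSE3 (Hyp)

variable {G : Type*} [Group G] [Finite G]

/-- L03 SAME STEP. -/
theorem same_step
    (hpair : ∀ {p k : ℕ}, p.Prime → ¬ p ∣ k → p * k ∣ Nat.card G → p ∣ s G k + s G (p * k))
    {μ ν : ℕ} (H : Hyp G μ ν) {p q : ℕ} (hp : p.Prime) (hq : q.Prime)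
    (hp2 : p ≠ 2) (hq2 : q ≠ 2) (hpq : p ≠ q) (hpG : p ∣ Nat.card G) (hqG : q ∣ Nat.card G)
    (hsp : s G p = μ) (hsq : s G q = μ) :
    p ∣ μ + 1 ∧ q ∣ μ + 1 ∧ (p : ℤ) ∣ (ν : ℤ) - 1 ∧ (q : ℤ) ∣ (ν : ℤ) - 1 ∧ 2 ≤ μ ∧ 2 ≤ ν := by
  have hp3 : 2 < p := lt_of_le_of_ne hp.two_le (Ne.symm hp2)
  have hq3 : 2 < q := lt_of_le_of_ne hq.two_le (Ne.symm hq2)
  have h1p : p ∣ μ + 1 := by
    have h := hpair hp (k := 1) (fun h => hp.one_lt.ne' (Nat.dvd_one.mp h)) (by rwa [mul_one])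
    rw [mul_one, Cfsg.Agent.S3995.s_one, hsp, add_comm] at h
    exact h
  have h1q : q ∣ μ + 1 := by
    have h := hpair hq (k := 1) (fun h => hq.one_lt.ne' (Nat.dvd_one.mp h)) (by rwa [mul_one])
    rw [mul_one, Cfsg.Agent.S3995.s_one, hsq, add_comm] at h
    exact h
  have hμ2 : 2 ≤ μ := by
    haveI : Fact p.Prime := ⟨hp⟩
    obtain ⟨g, hg⟩ := exists_prime_orderOf_dvd_card' p hpG
    have := Cfsg.Agent.S3995.two_le_s hp3 g hg
    rwa [hsp] at this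
  have hpqG : p * q ∣ Nat.card G :=
    ((Nat.coprime_primes hp hq).mpr hpq).mul_dvd_of_dvd_of_dvd hpG hqG
  have hnpq : ¬ p ∣ q := fun h => hpq ((Nat.prime_dvd_prime_iff_eq hp hq).mp h)
  have hnqp : ¬ q ∣ p := fun h => hpq ((Nat.prime_dvd_prime_iff_eq hq hp).mp h).symm
  have hP := hpair hp hnpq hpqG
  have hQ := hpair hq hnqp (by rwa [mul_comm])
  rw [hsq] at hP
  rw [hsp, mul_comm q p] at hQ
  have hne0 : s G (p * q) ≠ 0 := by
    intro h0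
    rw [h0, add_zero] at hP
    have : p ∣ 1 := (Nat.dvd_add_right hP).mp h1p
    exact hp.one_lt.ne' (Nat.dvd_one.mp this)
  obtain ⟨g, hg⟩ := (Cfsg.Agent.S3995.s_ne_zero_iff (p * q)).mp hne0
  have hpq2 : 2 < p * q := by nlinarith
  have h2le := Cfsg.Agent.S3995.two_le_s hpq2 g hg
  have hval : s G (p * q) = ν := by
    rcases H (p * q) with h | h | h | h
    · exact absurd h hne0
    · omega
    · exfalso
      rw [h] at hP
      have h2μ : p ∣ 2 * μ := by rwa [two_mul]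
      have hpμ : p ∣ μ := by
        rcases (Nat.Prime.dvd_mul hp).mp h2μ with h2 | h2
        · exact absurd ((Nat.prime_dvd_prime_iff_eq hp Nat.prime_two).mp h2) hp2
        · exact h2
      have : p ∣ 1 := (Nat.dvd_add_right hpμ).mp h1p
      exact hp.one_lt.ne' (Nat.dvd_one.mp this)
    · exact h
  rw [hval] at hP hQ h2le
  refine ⟨h1p, h1q, ?_, ?_, hμ2, h2le⟩
  · have a : (p : ℤ) ∣ ((μ + ν : ℕ) : ℤ) := Int.natCast_dvd_natCast.mpr hP
    have b : (p : ℤ) ∣ ((μ + 1 : ℕ) : ℤ) := Int.natCast_dvd_natCast.mpr h1p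
    have h := dvd_sub a b
    push_cast at h
    have e : ((μ : ℤ) + ν - (μ + 1)) = (ν : ℤ) - 1 := by ring
    rwa [e] at h
  · have a : (q : ℤ) ∣ ((μ + ν : ℕ) : ℤ) := Int.natCast_dvd_natCast.mpr hQ
    have b : (q : ℤ) ∣ ((μ + 1 : ℕ) : ℤ) := Int.natCast_dvd_natCast.mpr h1q
    have h := dvd_sub a b
    push_cast at h
    have e : ((μ : ℤ) + ν - (μ + 1)) = (ν : ℤ) - 1 := by ring
    rwa [e] at h

end Cfsg.Agent.Lib.Helper89.NSE3
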