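import Mathlib
import Cfsg.Agent.Lib.Helper89.CubeSetup

set_option autoImplicit false

/-!
Two `p`-elements of a group `A` of automorphisms of a finite abelian `p`-group `E`, when the
`p`-subgroups of `A` have order at most `p` and the `p`-elements act as "transvections"
(commutator subgroup of order `p`, centralized by the element).
-/

namespace Cfsg.Agent.Lib.Helper89

section PairAut

variable {E : Type*} [Group E]

/-- The fixed points of an automorphism. -/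
def fixSub (τ : MulAut E) : Subgroup E where
  carrier := {e | τ e = e}
  mul_mem' := by
    intro a b ha hb
    change τ (a * b) = a * b
    change τ a = a at ha
    change τ b = b at hb
    rw [map_mul, ha, hb]
  one_mem' := map_one τ
  inv_mem' := by
    intro a ha
    change τ a⁻¹ = a⁻¹
    change τ a = a at ha
    rw [map_inv, ha]

theorem mem_fixSub {τ : MulAut E} {e : E} : e ∈ fixSub τ ↔ τ e = e := Iff.rfl

/-- `e ↦ e⁻¹ τ(e)` as a homomorphism of a commutative group. -/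
def comHom (hc : ∀ a b : E, a * b = b * a) (τ : MulAut E) : E →* E :=
  MonoidHom.mk' (fun e => e⁻¹ * τ e) (by
    intro a b
    show (a * b)⁻¹ * τ (a * b) = a⁻¹ * τ a * (b⁻¹ * τ b)
    calc (a * b)⁻¹ * τ (a * b) = (a⁻¹ * b⁻¹) * (τ a * τ b) := by
          rw [map_mul, mul_inv_rev, hc b⁻¹ a⁻¹]
      _ = a⁻¹ * (b⁻¹ * τ a) * τ b := by simp only [mul_assoc]
      _ = a⁻¹ * (τ a * b⁻¹) * τ b := by rw [hc b⁻¹ (τ a)]
      _ = a⁻¹ * τ a * (b⁻¹ * τ b) := by simp only [mul_assoc])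

theorem comHom_apply (hc : ∀ a b : E, a * b = b * a) (τ : MulAut E) (e : E) :
    comHom hc τ e = e⁻¹ * τ e := rfl

theorem apply_eq_mul_comHom (hc : ∀ a b : E, a * b = b * a) (τ : MulAut E) (e : E) :
    τ e = e * comHom hc τ e := by
  rw [comHom_apply, mul_inv_cancel_left]

theorem comHom_eq_one_iff (hc : ∀ a b : E, a * b = b * a) (τ : MulAut E) (e : E) :
    comHom hc τ e = 1 ↔ τ e = e := by
  rw [comHom_apply, inv_mul_eq_one, eq_comm]

/-- the "centre" of the automorphism: the image of `e ↦ e⁻¹ τ(e)` -/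
def cen (hc : ∀ a b : E, a * b = b * a) (τ : MulAut E) : Subgroup E := (comHom hc τ).range

theorem comHom_mem_cen (hc : ∀ a b : E, a * b = b * a) (τ : MulAut E) (e : E) :
    comHom hc τ e ∈ cen hc τ := ⟨e, rfl⟩

theorem pow_apply_of_fix (hc : ∀ a b : E, a * b = b * a) (τ : MulAut E) (x : E)
    (hfix : τ (comHom hc τ x) = comHom hc τ x) (j : ℕ) :
    (τ ^ j) x = x * (comHom hc τ x) ^ j := by
  induction j with
  | zero => simp
  | succ j ih =>
    rw [pow_succ', MulAut.mul_apply, ih, map_mul, map_pow, hfix, apply_eq_mul_comHom hc τ x,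
      mul_assoc, ← pow_succ']

theorem pow_apply_fixed (τ : MulAut E) (x : E) (hx : τ x = x) (j : ℕ) : (τ ^ j) x = x := by
  induction j with
  | zero => simp
  | succ j ih => rw [pow_succ', MulAut.mul_apply, ih, hx]

theorem zpow_apply_fixed (τ : MulAut E) (x : E) (hx : τ x = x) (j : ℤ) : (τ ^ j) x = x := by
  have hinv : τ⁻¹ x = x := by
    conv_lhs => rw [← hx]
    exact MulAut.inv_apply_self E τ x
  cases j with
  | ofNat n => simpa using pow_apply_fixed τ x hx n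
  | negSucc n =>
    rw [zpow_negSucc, ← inv_pow]
    exact pow_apply_fixed τ⁻¹ x hinv (n + 1)

theorem mem_zpowers_apply_fixed {τ σ : MulAut E} (hσ : σ ∈ Subgroup.zpowers τ) (x : E)
    (hx : τ x = x) : σ x = x := by
  obtain ⟨k, rfl⟩ := Subgroup.mem_zpowers_iff.mp hσ
  exact zpow_apply_fixed τ x hx k

/-- conjugating an automorphism moves its centre -/
theorem comHom_conj (hc : ∀ a b : E, a * b = b * a) (σ τ : MulAut E) (e : E) :
    comHom hc (σ * τ * σ⁻¹) (σ e) = σ (comHom hc τ e) := by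
  rw [comHom_apply, comHom_apply, MulAut.mul_apply, MulAut.mul_apply, MulAut.inv_apply_self,
    map_mul, map_inv]

theorem mem_cen_conj (hc : ∀ a b : E, a * b = b * a) (σ τ : MulAut E) (x : E)
    (hx : x ∈ cen hc τ) : σ x ∈ cen hc (σ * τ * σ⁻¹) := by
  obtain ⟨e, rfl⟩ := hx
  exact ⟨σ e, comHom_conj hc σ τ e⟩

/-- The data: `p`-subgroups of `A` are small, and the `p`-elements of `A` are transvections. -/
structure AutData (hc : ∀ a b : E, a * b = b * a) (p : ℕ) (A : Subgroup (MulAut E)) : Prop where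
  hN : ∀ τ σ : MulAut E, τ ∈ A → σ ∈ A → τ ≠ 1 → τ ^ p = 1 → σ ^ p = 1 →
        σ * τ * σ⁻¹ ∈ Subgroup.zpowers τ → σ ∈ Subgroup.zpowers τ
  hcard : ∀ τ ∈ A, τ ≠ 1 → τ ^ p = 1 → Nat.card (cen hc τ) = p
  hfix : ∀ τ ∈ A, τ ≠ 1 → τ ^ p = 1 → ∀ x ∈ cen hc τ, τ x = x

variable {hc : ∀ a b : E, a * b = b * a} {p : ℕ} {A : Subgroup (MulAut E)}

/-- a pair of `p`-elements of `A` generating different subgroups -/
structure IsPair (A : Subgroup (MulAut E)) (p : ℕ) (t t' : MulAut E) : Prop where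
  tA : t ∈ A
  t'A : t' ∈ A
  t1 : t ≠ 1
  t'1 : t' ≠ 1
  tp : t ^ p = 1
  t'p : t' ^ p = 1
  hne : t' ∉ Subgroup.zpowers t

theorem IsPair.symm (h : AutData hc p A) {t t' : MulAut E} (hp : IsPair A p t t') :
    IsPair A p t' t := by
  refine ⟨hp.t'A, hp.tA, hp.t'1, hp.t1, hp.t'p, hp.tp, ?_⟩
  intro hmem
  apply hp.hne
  apply h.hN t t' hp.tA hp.t'A hp.t1 hp.tp hp.t'p
  obtain ⟨k, hk⟩ := Subgroup.mem_zpowers_iff.mp hmem
  have hcomm : Commute t' t := by
    rw [← hk]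
    exact Commute.zpow_right (Commute.refl _) k
  have : t' * t * t'⁻¹ = t := by
    rw [hcomm.eq, mul_inv_cancel_right]
  rw [this]
  exact Subgroup.mem_zpowers t

/-- Key fact: no nontrivial element of the centre of `t` is fixed by `t'`. -/
theorem IsPair.cen_fix_eq_one [Finite E] [Fact p.Prime] (h : AutData hc p A) {t t' : MulAut E}
    (hp : IsPair A p t t') (x : E) (hx : x ∈ cen hc t) (hfx : t' x = x) : x = 1 := by
  by_contra hx1
  have hcard := h.hcard t hp.tA hp.t1 hp.tp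
  have hgen : ∀ y ∈ cen hc t, ∃ n : ℕ, y = x ^ n :=
    exists_pow_eq_of_card_prime (Fact.out : p.Prime) (cen hc t) hcard hx hx1
  have hfixall : ∀ y ∈ cen hc t, t' y = y := by
    intro y hy
    obtain ⟨n, rfl⟩ := hgen y hy
    rw [map_pow, hfx]
  have hfixinv : ∀ y ∈ cen hc t, t'⁻¹ y = y := by
    intro y hy
    conv_lhs => rw [← hfixall y hy]
    exact MulAut.inv_apply_self E t' y
  have htfix := h.hfix t hp.tA hp.t1 hp.tp
  obtain ⟨σ, hσ⟩ : ∃ σ : MulAut E, σ = t' * t * t'⁻¹ := ⟨_, rfl⟩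
  have hσA : σ ∈ A := hσ ▸ A.mul_mem (A.mul_mem hp.t'A hp.tA) (A.inv_mem hp.t'A)
  have hσp : σ ^ p = 1 := by
    rw [hσ, conj_pow, hp.tp, mul_one, mul_inv_cancel]
  have hσe : ∀ e : E, σ e = e * comHom hc t (t'⁻¹ e) := by
    intro e
    rw [hσ, MulAut.mul_apply, MulAut.mul_apply, apply_eq_mul_comHom hc t (t'⁻¹ e), map_mul,
      MulAut.apply_inv_self, hfixall _ (comHom_mem_cen hc t _)]
  have hσfix : ∀ y ∈ cen hc t, σ y = y := by
    intro y hy
    rw [hσ, MulAut.mul_apply, MulAut.mul_apply, hfixinv y hy, htfix y hy, hfixall y hy]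
  have hcomm : σ * t = t * σ := by
    ext e
    rw [MulAut.mul_apply, MulAut.mul_apply, apply_eq_mul_comHom hc t e, map_mul,
      hσfix _ (comHom_mem_cen hc t e), hσe e, map_mul, htfix _ (comHom_mem_cen hc t _),
      apply_eq_mul_comHom hc t e, mul_assoc, mul_assoc,
      hc (comHom hc t (t'⁻¹ e)) (comHom hc t e)]
  have h1 : σ ∈ Subgroup.zpowers t := by
    apply h.hN t σ hp.tA hσA hp.t1 hp.tp hσp
    have : σ * t * σ⁻¹ = t := by rw [hcomm, mul_inv_cancel_right]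
    rw [this]
    exact Subgroup.mem_zpowers t
  exact hp.hne (h.hN t t' hp.tA hp.t'A hp.t1 hp.tp hp.t'p (hσ ▸ h1))


/-- Generators `d`, `d'` of the two centres, normalised so that `t' d = d d'⁻¹`, `t^j d' = d' d`. -/
structure Gens (hc : ∀ a b : E, a * b = b * a) (t t' : MulAut E) (d d' : E) (j : ℕ) : Prop where
  dmem : d ∈ cen hc t
  d'mem : d' ∈ cen hc t'
  d1 : d ≠ 1
  d'1 : d' ≠ 1
  td : t d = d
  t'd' : t' d' = d'
  t'd : t' d = d * d'⁻¹
  tjd' : (t ^ j) d' = d' * d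
  gen : ∀ y ∈ cen hc t, ∃ n : ℕ, y = d ^ n
  gen' : ∀ y ∈ cen hc t', ∃ n : ℕ, y = d' ^ n

theorem IsPair.exists_gens [Finite E] [Fact p.Prime] (h : AutData hc p A) {t t' : MulAut E}
    (hp : IsPair A p t t') : ∃ (d d' : E) (j : ℕ), Gens hc t t' d d' j := by
  have hpr : p.Prime := Fact.out
  have hcard := h.hcard t hp.tA hp.t1 hp.tp
  have hcard' := h.hcard t' hp.t'A hp.t'1 hp.t'p
  have hne : cen hc t ≠ ⊥ := by
    intro hb
    rw [hb, Subgroup.card_bot] at hcard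
    exact hpr.one_lt.ne hcard
  obtain ⟨⟨d, hd⟩, hd1⟩ := (Subgroup.ne_bot_iff_exists_ne_one).mp hne
  have hd1' : d ≠ 1 := fun hh => hd1 (Subtype.ext hh)
  have htfix := h.hfix t hp.tA hp.t1 hp.tp
  have ht'fix := h.hfix t' hp.t'A hp.t'1 hp.t'p
  have hb1 : comHom hc t' d ≠ 1 := by
    intro hh
    exact hd1' (hp.cen_fix_eq_one h d hd ((comHom_eq_one_iff hc t' d).mp hh))
  have hd'mem : (comHom hc t' d)⁻¹ ∈ cen hc t' := (cen hc t').inv_mem (comHom_mem_cen hc t' d)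
  have hd'1 : (comHom hc t' d)⁻¹ ≠ 1 := by
    intro hh
    exact hb1 (inv_eq_one.mp hh)
  have ha1 : comHom hc t ((comHom hc t' d)⁻¹) ≠ 1 := by
    intro hh
    exact hd'1 ((hp.symm h).cen_fix_eq_one h _ hd'mem ((comHom_eq_one_iff hc t _).mp hh))
  have hamem := comHom_mem_cen hc t ((comHom hc t' d)⁻¹)
  obtain ⟨j, hj⟩ := exists_pow_eq_of_card_prime hpr (cen hc t) hcard hamem ha1 d hd
  refine ⟨d, (comHom hc t' d)⁻¹, j, hd, hd'mem, hd1', hd'1, htfix d hd, ht'fix _ hd'mem, ?_, ?_,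
    exists_pow_eq_of_card_prime hpr (cen hc t) hcard hd hd1',
    exists_pow_eq_of_card_prime hpr (cen hc t') hcard' hd'mem hd'1⟩
  · rw [inv_inv]
    exact apply_eq_mul_comHom hc t' d
  · rw [pow_apply_of_fix hc t _ (htfix _ hamem) j, ← hj]

section WithGens

variable {t t' : MulAut E} {d d' : E} {j : ℕ}

/-- the element swapping the two centres -/
def swapAut (t t' : MulAut E) (j : ℕ) : MulAut E := t ^ j * t' * t ^ j

theorem Gens.swap_d (g : Gens hc t t' d d' j) : swapAut t t' j d = d'⁻¹ := by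
  unfold swapAut
  rw [MulAut.mul_apply, MulAut.mul_apply, pow_apply_fixed t d g.td j, g.t'd, map_mul, map_inv,
    pow_apply_fixed t d g.td j, g.tjd', mul_inv_rev, mul_inv_cancel_left]

theorem Gens.swap_d' (g : Gens hc t t' d d' j) : swapAut t t' j d' = d := by
  unfold swapAut
  rw [MulAut.mul_apply, MulAut.mul_apply, g.tjd', map_mul, g.t'd', g.t'd, hc d d'⁻¹,
    mul_inv_cancel_left, pow_apply_fixed t d g.td j]

theorem swap_fix (t t' : MulAut E) (j : ℕ) (w : E) (hw : t w = w) (hw' : t' w = w) :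
    swapAut t t' j w = w := by
  unfold swapAut
  rw [MulAut.mul_apply, MulAut.mul_apply, pow_apply_fixed t w hw j, hw', pow_apply_fixed t w hw j]

theorem swap_mem (A : Subgroup (MulAut E)) (ht : t ∈ A) (ht' : t' ∈ A) (j : ℕ) :
    swapAut t t' j ∈ A :=
  A.mul_mem (A.mul_mem (A.pow_mem ht j) ht') (A.pow_mem ht j)

/-- `fixSub t = cen t · (fixSub t ⊓ fixSub t')` -/
theorem Gens.exists_mul_fix (g : Gens hc t t' d d' j) (c : E) (hct : t c = c) :
    ∃ x ∈ cen hc t, t (x * c) = x * c ∧ t' (x * c) = x * c := by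
  obtain ⟨m, hm⟩ := g.gen' _ (comHom_mem_cen hc t' c)
  have hbd : comHom hc t' d = d'⁻¹ := by
    rw [comHom_apply, g.t'd, inv_mul_cancel_left]
  refine ⟨d ^ m, (cen hc t).pow_mem g.dmem m, ?_, ?_⟩
  · rw [map_mul, map_pow, g.td, hct]
  · rw [← comHom_eq_one_iff hc, map_mul, map_pow, hbd, hm, inv_pow, inv_mul_cancel]

/-- `E = cen t' · fixSub t` -/
theorem Gens.exists_mul_fix' [Finite E] [Fact p.Prime] (h : AutData hc p A) (hp : IsPair A p t t')
    (g : Gens hc t t' d d' j) (e : E) :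
    ∃ y ∈ cen hc t', t (y * e) = y * e := by
  have hpr : p.Prime := Fact.out
  have hcard := h.hcard t hp.tA hp.t1 hp.tp
  have ha1 : comHom hc t d' ≠ 1 := by
    intro hh
    exact g.d'1 ((hp.symm h).cen_fix_eq_one h _ g.d'mem ((comHom_eq_one_iff hc t _).mp hh))
  obtain ⟨m, hm⟩ := exists_pow_eq_of_card_prime hpr (cen hc t) hcard (comHom_mem_cen hc t d') ha1
    _ (comHom_mem_cen hc t e)
  refine ⟨(d' ^ m)⁻¹, (cen hc t').inv_mem ((cen hc t').pow_mem g.d'mem m), ?_⟩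
  rw [← comHom_eq_one_iff hc, map_mul, map_inv, map_pow, hm, inv_mul_cancel]

/-- every element is `u v w` with `u ∈ cen t'`, `v ∈ cen t`, `w` fixed by both -/
theorem Gens.exists_decomp [Finite E] [Fact p.Prime] (h : AutData hc p A) (hp : IsPair A p t t')
    (g : Gens hc t t' d d' j) (e : E) :
    ∃ u ∈ cen hc t', ∃ v ∈ cen hc t, ∃ w : E, t w = w ∧ t' w = w ∧ e = u * v * w := by
  obtain ⟨y, hy, hye⟩ := g.exists_mul_fix' h hp e
  obtain ⟨x, hx, hx1, hx2⟩ := g.exists_mul_fix (y * e) hye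
  refine ⟨y⁻¹, (cen hc t').inv_mem hy, x⁻¹, (cen hc t).inv_mem hx, x * (y * e), hx1, hx2, ?_⟩
  rw [mul_assoc, inv_mul_cancel_left, inv_mul_cancel_left]

/-- the square of the swap inverts both centres -/
theorem Gens.sq_swap_d (g : Gens hc t t' d d' j) :
    (swapAut t t' j * swapAut t t' j) d = d⁻¹ := by
  rw [MulAut.mul_apply, g.swap_d, map_inv, g.swap_d']

theorem Gens.sq_swap_d' (g : Gens hc t t' d d' j) :
    (swapAut t t' j * swapAut t t' j) d' = d'⁻¹ := by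
  rw [MulAut.mul_apply, g.swap_d', g.swap_d]

theorem Gens.sq_swap_cen (g : Gens hc t t' d d' j) (x : E) (hx : x ∈ cen hc t) :
    (swapAut t t' j * swapAut t t' j) x = x⁻¹ := by
  obtain ⟨n, rfl⟩ := g.gen x hx
  rw [map_pow, g.sq_swap_d, inv_pow]

theorem Gens.sq_swap_cen' (g : Gens hc t t' d d' j) (x : E) (hx : x ∈ cen hc t') :
    (swapAut t t' j * swapAut t t' j) x = x⁻¹ := by
  obtain ⟨n, rfl⟩ := g.gen' x hx
  rw [map_pow, g.sq_swap_d', inv_pow]

/-- the square of the swap commutes with `t` -/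
theorem Gens.sq_swap_comm [Finite E] [Fact p.Prime] (h : AutData hc p A) (hp : IsPair A p t t')
    (g : Gens hc t t' d d' j) :
    (swapAut t t' j * swapAut t t' j) * t = t * (swapAut t t' j * swapAut t t' j) := by
  obtain ⟨β, hβ⟩ : ∃ β : MulAut E, β = swapAut t t' j * swapAut t t' j := ⟨_, rfl⟩
  rw [← hβ]
  have htfix := h.hfix t hp.tA hp.t1 hp.tp
  have hβw : ∀ w : E, t w = w → t' w = w → β w = w := by
    intro w hw hw'
    rw [hβ, MulAut.mul_apply, swap_fix t t' j w hw hw', swap_fix t t' j w hw hw']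
  have hβv : ∀ v ∈ cen hc t, β v = v⁻¹ := fun v hv => hβ ▸ g.sq_swap_cen v hv
  have hβu : ∀ u ∈ cen hc t', β u = u⁻¹ := fun u hu => hβ ▸ g.sq_swap_cen' u hu
  ext e
  obtain ⟨u, hu, v, hv, w, hw, hw', rfl⟩ := g.exists_decomp h hp e
  have hau := comHom_mem_cen hc t u
  have htu : t u = u * comHom hc t u := apply_eq_mul_comHom hc t u
  have h1 : (β * t) (u * v * w) = u⁻¹ * (comHom hc t u)⁻¹ * v⁻¹ * w := by
    simp only [MulAut.mul_apply, map_mul]
    rw [hw, htfix v hv, htu, map_mul, hβw w hw hw', hβv v hv, hβu u hu, hβv _ hau]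
  have h2 : (t * β) (u * v * w) = u⁻¹ * (comHom hc t u)⁻¹ * v⁻¹ * w := by
    simp only [MulAut.mul_apply, map_mul]
    rw [hβw w hw hw', hβv v hv, hβu u hu, hw, map_inv, map_inv, htfix v hv, htu, mul_inv_rev,
      hc (comHom hc t u)⁻¹ u⁻¹]
  rw [h1, h2]

end WithGens


theorem conj_ne_one {α t : MulAut E} (ht : t ≠ 1) : α * t * α⁻¹ ≠ 1 := by
  intro hh
  apply ht
  have : t = α⁻¹ * (α * t * α⁻¹) * α := by group
  rw [this, hh, mul_one, inv_mul_cancel]

theorem conj_pow_eq_one {α t : MulAut E} {p : ℕ} (ht : t ^ p = 1) : (α * t * α⁻¹) ^ p = 1 := by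
  rw [conj_pow, ht, mul_one, mul_inv_cancel]

/-- Every element of `A` is a "swap" (or `1`) times an element normalizing `⟨t⟩`. -/
theorem exists_swap_mul_normalizer [Finite E] [Fact p.Prime] (h : AutData hc p A) {t : MulAut E}
    (htA : t ∈ A) (ht1 : t ≠ 1) (htp : t ^ p = 1) (α : MulAut E) (hα : α ∈ A) :
    ∃ n ν : MulAut E, α = n * ν ∧ n ∈ A ∧ ν ∈ A ∧ ν * t * ν⁻¹ ∈ Subgroup.zpowers t ∧
      (n = 1 ∨ ∃ j : ℕ, n = swapAut t (α * t * α⁻¹) j) := by
  obtain ⟨σ, hσ⟩ : ∃ σ : MulAut E, σ = α * t * α⁻¹ := ⟨_, rfl⟩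
  have hσA : σ ∈ A := hσ ▸ A.mul_mem (A.mul_mem hα htA) (A.inv_mem hα)
  have hσ1 : σ ≠ 1 := hσ ▸ conj_ne_one ht1
  have hσp : σ ^ p = 1 := hσ ▸ conj_pow_eq_one htp
  by_cases hmem : σ ∈ Subgroup.zpowers t
  · exact ⟨1, α, (one_mul α).symm, A.one_mem, hα, hσ ▸ hmem, Or.inl rfl⟩
  · have hp : IsPair A p t σ := ⟨htA, hσA, ht1, hσ1, htp, hσp, hmem⟩
    obtain ⟨d, d', j, g⟩ := hp.exists_gens h
    obtain ⟨n, hn⟩ : ∃ n : MulAut E, n = swapAut t σ j := ⟨_, rfl⟩
    have hnA : n ∈ A := hn ▸ swap_mem A htA hσA j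
    have ht₁A : n * t * n⁻¹ ∈ A := A.mul_mem (A.mul_mem hnA htA) (A.inv_mem hnA)
    have hσmem : σ ∈ Subgroup.zpowers (n * t * n⁻¹) := by
      by_contra hcon
      have hp₁ : IsPair A p (n * t * n⁻¹) σ :=
        ⟨ht₁A, hσA, conj_ne_one ht1, hσ1, conj_pow_eq_one htp, hσp, hcon⟩
      have hx : n d ∈ cen hc (n * t * n⁻¹) := mem_cen_conj hc n t d g.dmem
      have hnd : n d = d'⁻¹ := hn ▸ g.swap_d
      have hfix : σ (n d) = n d := by
        rw [hnd, map_inv, h.hfix σ hσA hσ1 hσp d' g.d'mem]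
      have := hp₁.cen_fix_eq_one h (n d) hx hfix
      rw [hnd, inv_eq_one] at this
      exact g.d'1 this
    obtain ⟨k, hk⟩ := Subgroup.mem_zpowers_iff.mp hσmem
    refine ⟨n, n⁻¹ * α, by group, hnA, A.mul_mem (A.inv_mem hnA) hα, ?_, Or.inr ⟨j, hσ ▸ hn⟩⟩
    have h1 : n⁻¹ * α * t * (n⁻¹ * α)⁻¹ = n⁻¹ * σ * n := by rw [hσ]; group
    rw [h1, ← hk, conj_zpow]
    have h2 : n⁻¹ * (n * t ^ k * n⁻¹) * n = t ^ k := by group
    rw [h2]
    exact Subgroup.zpow_mem_zpowers t k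

/-! ### The case `p = 2`: exactly three involutions -/

theorem eq_of_mem_zpowers_of_sq {σ τ : MulAut E} (hτ2 : τ ^ 2 = 1) (hσ1 : σ ≠ 1)
    (hσ : σ ∈ Subgroup.zpowers τ) : σ = τ := by
  obtain ⟨k, rfl⟩ := Subgroup.mem_zpowers_iff.mp hσ
  rcases Int.even_or_odd k with ⟨m, rfl⟩ | ⟨m, rfl⟩
  · exfalso
    apply hσ1
    rw [← two_mul, zpow_mul, zpow_ofNat, hτ2, one_zpow]
  · rw [zpow_add, zpow_mul, zpow_ofNat, hτ2, one_zpow, one_mul, zpow_one]

theorem eq_of_card_two (H : Subgroup E) (hH : Nat.card H = 2) {x y : E} (hx : x ∈ H) (hy : y ∈ H)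
    (hx1 : x ≠ 1) (hy1 : y ≠ 1) : x = y ∧ x * x = 1 := by
  have : Finite H := Nat.finite_of_card_ne_zero (by rw [hH]; norm_num)
  have hsq : ∀ z ∈ H, z * z = 1 := by
    intro z hz
    have := pow_card_eq_one' (G := H) (x := ⟨z, hz⟩)
    rw [hH] at this
    have h2 := congrArg Subtype.val this
    simpa [pow_two] using h2
  refine ⟨?_, hsq x hx⟩
  -- three distinct elements 1, x, y cannot exist in a group of order 2
  by_contra hne
  have hcard : 2 < Nat.card H := by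
    have hinj : Function.Injective (fun i : Fin 3 => (![⟨1, H.one_mem⟩, ⟨x, hx⟩, ⟨y, hy⟩] i : H)) := by
      intro i k hik
      fin_cases i <;> fin_cases k <;> simp_all [Subtype.ext_iff]
    have := Nat.card_le_card_of_injective _ hinj
    simp only [Nat.card_eq_fintype_card, Fintype.card_fin] at this
    omega
  omega

theorem third_involution [Finite E] (h : AutData hc 2 A) {t t' t'' : MulAut E}
    (hp : IsPair A 2 t t') (hp1 : IsPair A 2 t t'') (hp2 : IsPair A 2 t' t'') :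
    t'' = t * t' * t⁻¹ := by
  have : Fact (Nat.Prime 2) := ⟨Nat.prime_two⟩
  obtain ⟨d, d', j, g⟩ := hp.exists_gens h
  obtain ⟨σ, hσ⟩ : ∃ σ : MulAut E, σ = t * t' * t⁻¹ := ⟨_, rfl⟩
  rw [← hσ]
  have hσA : σ ∈ A := hσ ▸ A.mul_mem (A.mul_mem hp.tA hp.t'A) (A.inv_mem hp.tA)
  have hσ1 : σ ≠ 1 := hσ ▸ conj_ne_one hp.t'1
  have hσp : σ ^ 2 = 1 := hσ ▸ conj_pow_eq_one hp.t'p
  have hmem : t'' ∈ Subgroup.zpowers σ := by
    by_contra hcon
    have hp3 : IsPair A 2 σ t'' := ⟨hσA, hp1.t'A, hσ1, hp1.t'1, hσp, hp1.t'p, hcon⟩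
    have hx : t d' ∈ cen hc σ := hσ ▸ mem_cen_conj hc t t' d' g.d'mem
    -- t d' = d' * d
    have ha1 : comHom hc t d' ≠ 1 := by
      intro hh
      exact g.d'1 ((hp.symm h).cen_fix_eq_one h _ g.d'mem ((comHom_eq_one_iff hc t _).mp hh))
    have hcard := h.hcard t hp.tA hp.t1 hp.tp
    have had : comHom hc t d' = d :=
      (eq_of_card_two (cen hc t) hcard (comHom_mem_cen hc t d') g.dmem ha1 g.d1).1
    have htd' : t d' = d' * d := by rw [apply_eq_mul_comHom hc t d', had]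
    -- action of t'' on d and d'
    have hb1 : comHom hc t'' d ≠ 1 := by
      intro hh
      exact g.d1 (hp1.cen_fix_eq_one h _ g.dmem ((comHom_eq_one_iff hc t'' _).mp hh))
    have hc1 : comHom hc t'' d' ≠ 1 := by
      intro hh
      exact g.d'1 (hp2.cen_fix_eq_one h _ g.d'mem ((comHom_eq_one_iff hc t'' _).mp hh))
    have hcard'' := h.hcard t'' hp1.t'A hp1.t'1 hp1.t'p
    obtain ⟨hbc, hbb⟩ := eq_of_card_two (cen hc t'') hcard'' (comHom_mem_cen hc t'' d)
      (comHom_mem_cen hc t'' d') hb1 hc1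
    have hfix : t'' (t d') = t d' := by
      rw [htd', map_mul, apply_eq_mul_comHom hc t'' d', apply_eq_mul_comHom hc t'' d, ← hbc]
      calc d' * comHom hc t'' d * (d * comHom hc t'' d)
          = d' * (comHom hc t'' d * d) * comHom hc t'' d := by simp only [mul_assoc]
        _ = d' * (d * comHom hc t'' d) * comHom hc t'' d := by rw [hc (comHom hc t'' d) d]
        _ = d' * d * (comHom hc t'' d * comHom hc t'' d) := by simp only [mul_assoc]
        _ = d' * d := by rw [hbb, mul_one]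
    have := hp3.cen_fix_eq_one h (t d') hx hfix
    rw [htd'] at this
    -- d' * d = 1 contradicts t d = d but t d' ≠ d'
    have hd'd : d' = d⁻¹ := eq_inv_of_mul_eq_one_left this
    apply ha1
    rw [comHom_eq_one_iff, hd'd, map_inv, g.td]
  exact eq_of_mem_zpowers_of_sq hσp hp1.t'1 hmem

/-- For `p = 2` the involutions of `A` are `t`, `t'` and `t t' t⁻¹`. -/
theorem involution_cases [Finite E] (h : AutData hc 2 A) {t t' : MulAut E} (hp : IsPair A 2 t t')
    (σ : MulAut E) (hσA : σ ∈ A) (hσ1 : σ ≠ 1) (hσ2 : σ ^ 2 = 1) :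
    σ = t ∨ σ = t' ∨ σ = t * t' * t⁻¹ := by
  by_cases h1 : σ ∈ Subgroup.zpowers t
  · exact Or.inl (eq_of_mem_zpowers_of_sq hp.tp hσ1 h1)
  by_cases h2 : σ ∈ Subgroup.zpowers t'
  · exact Or.inr (Or.inl (eq_of_mem_zpowers_of_sq hp.t'p hσ1 h2))
  exact Or.inr (Or.inr (third_involution h hp ⟨hp.tA, hσA, hp.t1, hσ1, hp.tp, hσ2, h1⟩
    ⟨hp.t'A, hσA, hp.t'1, hσ1, hp.t'p, hσ2, h2⟩))

end PairAut

end Cfsg.Agent.Lib.Helper89
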