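import Cfsg.Agent.Lib.Helper89.CenterIdx2
import Cfsg.Agent.Lib.Helper53.StronglyEmbedded

set_option autoImplicit false

/-!
The `AutData` of `Aut_F(E)`, existence of a pair, and extension of automorphisms normalizing
`Aut_S(E)` to `S`.
-/

namespace Cfsg.Agent.Lib.Helper89

open Cfsg Cfsg.FusionSystem Cfsg.Agent.Lib.Helper87

/-- In a finite group with a strongly `p`-embedded subgroup there are two
distinct nontrivial `p`-subgroups. -/
theorem exists_two_pSubgroups_of_embedded {X : Type*} [Group X] [Finite X] (p : ℕ) [Fact p.Prime]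
    (E : Subgroup X) (hE : IsStronglyPEmbedded p E) :
    ∃ P₁ P₂ : Subgroup X, IsPGroup p P₁ ∧ IsPGroup p P₂ ∧ P₁ ≠ ⊥ ∧ P₂ ≠ ⊥ ∧ P₁ ≠ P₂ := by
  obtain ⟨hdvd, hEtop, P, hP⟩ := hE
  have hPbot : (P : Subgroup X) ≠ ⊥ := P.ne_bot_of_dvd_card hdvd
  have hN : Subgroup.normalizer ((P : Subgroup X) : Set X) ≤ E :=
    (Cfsg.Agent.Lib.Helper53.kGeneratedCore_one_le_iff P E).mp hP P le_rfl hPbot
  have hNtop : Subgroup.normalizer ((P : Subgroup X) : Set X) ≠ ⊤ := by
    intro h
    apply hEtop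
    rw [eq_top_iff, ← h]
    exact hN
  obtain ⟨g, hg⟩ : ∃ g : X, g ∉ Subgroup.normalizer ((P : Subgroup X) : Set X) := by
    by_contra hcon
    apply hNtop
    rw [eq_top_iff]
    intro g _
    by_contra hg
    exact hcon ⟨g, hg⟩
  have hsm : g • P ≠ P := fun h => hg (Sylow.smul_eq_iff_mem_normalizer.mp h)
  refine ⟨P, (g • P : Sylow p X), P.isPGroup', (g • P).isPGroup', hPbot, ?_, ?_⟩
  · exact (g • P).ne_bot_of_dvd_card hdvd
  · intro h
    apply hsm
    exact Sylow.ext h.symm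

variable {Ω : Type*} [Group Ω] {S : Subgroup Ω} {p : ℕ} {E : Subgroup Ω} {y : Ω}

theorem EssSetup.finite [Finite S] (h : EssSetup S p E y) : Finite E := finite_of_le h.hES

theorem EssSetup.t_mem_autGroup (h : EssSetup S p E y) (F : FusionSystem S) :
    h.t ∈ F.autGroup E :=
  autInducedBy_le_autGroup F h.hES h.t_mem

theorem EssSetup.exists_sylow [Finite S] [Fact p.Prime] (h : EssSetup S p E y) (F : FusionSystem S)
    (hfa : F.IsFullyAutomized p E) :
    ∃ R : Sylow p (F.autGroup E),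
      (R : Subgroup (F.autGroup E)) = (Subgroup.zpowers h.t).subgroupOf (F.autGroup E) := by
  obtain ⟨-, R, hR⟩ := hfa
  rw [h.autInducedBy_eq] at hR
  exact ⟨R, hR⟩

theorem EssSetup.autData [Finite S] [Fact p.Prime] (h : EssSetup S p E y) (F : FusionSystem S)
    (hfa : F.IsFullyAutomized p E) : AutData h.comm p (F.autGroup E) := by
  have := h.finite
  obtain ⟨R, hR⟩ := h.exists_sylow F hfa
  exact autData_of_sylow h.comm (F.autGroup E) h.t (h.t_mem_autGroup F) h.t_ne_one h.t_pow_p R hR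
    h.card_cen h.t_fix_cen

theorem EssSetup.exists_pair [Finite S] [Fact p.Prime] (h : EssSetup S p E y) (F : FusionSystem S)
    (hfa : F.IsFullyAutomized p E) (hE : F.IsEssential p E) :
    ∃ t' : MulAut E, IsPair (F.autGroup E) p h.t t' := by
  have hpr : p.Prime := Fact.out
  have := h.finite
  obtain ⟨R, hR⟩ := h.exists_sylow F hfa
  have hRcard : Nat.card R = p := by
    have : Nat.card R = Nat.card (R : Subgroup (F.autGroup E)) := rfl
    rw [this, hR, card_subgroupOf_of_le ((Subgroup.zpowers_le).mpr (h.t_mem_autGroup F)),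
      Nat.card_zpowers]
    exact orderOf_eq_prime h.t_pow_p h.t_ne_one
  obtain ⟨-, -, hnorm, Emb, hEmb⟩ := hE
  have hInn : (Inn E).subgroupOf (F.autGroup E) = ⊥ := by
    rw [eq_bot_iff]
    rintro ⟨α, hα⟩ hmem
    rw [Subgroup.mem_subgroupOf] at hmem
    obtain ⟨g, hg⟩ := hmem
    rw [Subgroup.mem_bot]
    apply Subtype.ext
    change α = 1
    have hg' : MulAut.conj g = α := hg
    rw [← hg']
    ext x
    simp only [MulAut.conj_apply, MulAut.one_apply]
    rw [h.comm g x, mul_inv_cancel_right]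
  let e : (F.autGroup E ⧸ (Inn E).subgroupOf (F.autGroup E)) ≃* F.autGroup E :=
    (QuotientGroup.quotientMulEquivOfEq hInn).trans QuotientGroup.quotientBot
  obtain ⟨P₁, P₂, hp₁, hp₂, hb₁, hb₂, hne⟩ := exists_two_pSubgroups_of_embedded p Emb hEmb
  have hinj : Function.Injective e.toMonoidHom := e.injective
  have ht' : (⟨h.t, h.t_mem_autGroup F⟩ : F.autGroup E) ^ p = 1 :=
    Subtype.ext (by rw [Subgroup.coe_pow]; exact h.t_pow_p)
  obtain ⟨σ, hσ1, hσp, hσt⟩ := exists_not_mem_zpowers R hRcard ht' (hp₁.map e.toMonoidHom)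
    (hp₂.map e.toMonoidHom)
    (fun hb => hb₁ ((Subgroup.map_eq_bot_iff_of_injective _ hinj).mp hb))
    (fun hb => hb₂ ((Subgroup.map_eq_bot_iff_of_injective _ hinj).mp hb))
    (fun hb => hne (Subgroup.map_injective hinj hb))
  refine ⟨(σ : MulAut E), h.t_mem_autGroup F, σ.2, h.t_ne_one, ?_, h.t_pow_p, ?_, ?_⟩
  · intro hσ
    exact hσ1 (Subtype.ext hσ)
  · have := congrArg Subtype.val hσp
    rw [Subgroup.coe_pow] at this
    exact this
  · intro hmem
    apply hσt
    rw [← coe_mem_zpowers_iff]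
    exact hmem

/-- An `F`-automorphism of `E` normalizing `Aut_S(E)` extends to an `F`-automorphism of `S`. -/
theorem EssSetup.exists_extension [Finite S] (h : EssSetup S p E y) (F : FusionSystem S)
    (hrec : F.IsReceptive E) (ν : MulAut E) (hν : ν ∈ F.autGroup E)
    (hnorm : ν * h.t * ν⁻¹ ∈ Subgroup.zpowers h.t) :
    ∃ μ : MulAut S, μ ∈ F.autGroup S ∧
      ∀ e : E, ((μ ⟨e, h.hES e.2⟩ : S) : Ω) = ((ν e : E) : Ω) := by
  have := h.finite
  have hφ : E.subtype.comp ν.toMonoidHom ∈ F.Hom E := (mem_autGroup_iff F h.hES ν).mp hν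
  have hrange : (E.subtype.comp ν.toMonoidHom).range = E := by
    ext x
    constructor
    · rintro ⟨e, rfl⟩
      exact (ν e).2
    · intro hx
      refine ⟨ν⁻¹ ⟨x, hx⟩, ?_⟩
      show ((ν (ν⁻¹ ⟨x, hx⟩) : E) : Ω) = x
      rw [MulAut.apply_inv_self]
  obtain ⟨ψ, hψ, hψe⟩ := hrec.2 E _ hφ hrange
  rw [← mem_powers_iff_mem_zpowers] at hnorm
  obtain ⟨n, hn⟩ := hnorm
  have hn' : h.t ^ n = ν * h.t * ν⁻¹ := hn
  have hyext : y ∈ extender S E (E.subtype.comp ν.toMonoidHom) := by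
    rw [mem_extender_iff]
    refine ⟨h.hyS, h.hyn, y ^ n, S.pow_mem h.hyS n, ?_⟩
    intro x hx
    show ((ν ⟨y * x * y⁻¹, hx⟩ : E) : Ω) = y ^ n * ((ν x : E) : Ω) * (y ^ n)⁻¹
    rw [← h.t_pow_apply n (ν x), hn']
    have : (⟨y * x * y⁻¹, hx⟩ : E) = h.t x := Subtype.ext (h.t_apply x).symm
    rw [this, MulAut.mul_apply, MulAut.mul_apply, MulAut.inv_apply_self]
  have hEext : E ≤ extender S E (E.subtype.comp ν.toMonoidHom) :=
    le_extender h.hES (fun x => h.hES (ν x).2)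
  have hSext : S ≤ extender S E (E.subtype.comp ν.toMonoidHom) := by
    intro g hg
    obtain ⟨i, e, he, rfl⟩ := h.decomp g hg
    exact Subgroup.mul_mem _ (Subgroup.pow_mem _ hyext i) (hEext he)
  have hψ' : ψ.comp (Subgroup.inclusion hSext) ∈ F.Hom S := restrict_mem F hSext hψ
  have hr' : (ψ.comp (Subgroup.inclusion hSext)).range = S := by
    have hle : (ψ.comp (Subgroup.inclusion hSext)).range ≤ S := by
      rintro _ ⟨x, rfl⟩
      exact hom_mem F hψ' x
    have : Finite (ψ.comp (Subgroup.inclusion hSext)).range := finite_of_le hle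
    exact Subgroup.eq_of_le_of_card_ge hle (card_range_eq F hψ').ge
  obtain ⟨μ, hμ, hμe⟩ := exists_aut_of_range_eq F hψ' hr'
  refine ⟨μ, hμ, fun e => ?_⟩
  rw [hμe]
  show ψ ⟨(e : Ω), hSext (h.hES e.2)⟩ = _
  rw [hψe (e : Ω) e.2 (hSext (h.hES e.2))]
  rfl

end Cfsg.Agent.Lib.Helper89
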