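import Cfsg.Agent.Lib.Helper89.Generation
import Cfsg.Agent.Lib.Helper89.FusionAut
import Cfsg.Agent.Lib.Helper89.FusionConj
import Cfsg.Agent.Lib.Helper89.CubeSetup
import Cfsg.Agent.Lib.Helper87.FusionSaturated
import Cfsg.Agent.Lib.Helper87.NormalizerBasic
import Cfsg.Agent.S5077

set_option autoImplicit false

/-!
An automorphism of a normal abelian subgroup `Z2` (with `[Z2, S] ≤ Z(S)`, `|Z2 : Z(S)| = p = |Z(S)|`) that
moves the centre forces `C_S(Z2)` to be essential.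
-/

namespace Cfsg.Agent.Lib.Helper89

open Cfsg Cfsg.FusionSystem Cfsg.Agent.Lib.Helper87

variable {Ω : Type*} [Group Ω] {S : Subgroup Ω}

/-- An `F`-automorphism of a receptive subgroup whose extender is all of `S` extends to an
`F`-automorphism of `S`. -/
theorem exists_extension_of_le_extender [Finite S] (F : FusionSystem S) {E : Subgroup Ω} (hES : E ≤ S)
    (hrec : F.IsReceptive E) (ν : MulAut E) (hν : ν ∈ F.autGroup E)
    (hSext : S ≤ extender S E (E.subtype.comp ν.toMonoidHom)) :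
    ∃ μ : MulAut S, μ ∈ F.autGroup S ∧
      ∀ e : E, ((μ ⟨e, hES e.2⟩ : S) : Ω) = ((ν e : E) : Ω) := by
  have : Finite E := finite_of_le hES
  have hφ : E.subtype.comp ν.toMonoidHom ∈ F.Hom E := (mem_autGroup_iff F hES ν).mp hν
  have hrange : (E.subtype.comp ν.toMonoidHom).range = E := by
    ext x
    constructor
    · rintro ⟨e, rfl⟩
      exact (ν e).2
    · intro hx
      refine ⟨ν⁻¹ ⟨x, hx⟩, ?_⟩
      show ((ν (ν⁻¹ ⟨x, hx⟩) : E) : Ω) = x
      rw [MulAut.apply_inv_self]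
  obtain ⟨ψ, hψ, hψe⟩ := hrec.2 E _ hφ hrange
  have hψ' : ψ.comp (Subgroup.inclusion hSext) ∈ F.Hom S := restrict_mem F hSext hψ
  have hr' : (ψ.comp (Subgroup.inclusion hSext)).range = S := by
    have hle : (ψ.comp (Subgroup.inclusion hSext)).range ≤ S := by
      rintro _ ⟨x, rfl⟩
      exact hom_mem F hψ' x
    have : Finite (ψ.comp (Subgroup.inclusion hSext)).range := finite_of_le hle
    exact Subgroup.eq_of_le_of_card_ge hle (card_range_eq F hψ').ge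
  obtain ⟨μ, hμ, hμe⟩ := exists_aut_of_range_eq F hψ' hr'
  refine ⟨μ, hμ, fun e => ?_⟩
  rw [hμe]
  show ψ ⟨(e : Ω), hSext (hES e.2)⟩ = _
  rw [hψe (e : Ω) e.2 (hSext (hES e.2))]
  rfl

/-- automorphisms of `S` preserve the centre, in both directions -/
theorem center_iff_of_aut {Z1 : Subgroup Ω} (hZ1 : ∀ g, g ∈ Z1 ↔ g ∈ S ∧ ∀ t ∈ S, t * g = g * t)
    (μ : MulAut S) (s : S) : (s : Ω) ∈ Z1 ↔ ((μ s : S) : Ω) ∈ Z1 := by
  have key : ∀ (ν : MulAut S) (s : S), (s : Ω) ∈ Z1 → ((ν s : S) : Ω) ∈ Z1 := by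
    intro ν s hs
    rw [hZ1] at hs ⊢
    refine ⟨(ν s).2, fun t ht => ?_⟩
    have h1 : ν⁻¹ ⟨t, ht⟩ * s = s * ν⁻¹ ⟨t, ht⟩ := Subtype.ext (hs.2 _ (ν⁻¹ ⟨t, ht⟩).2)
    have h2 := congrArg ν h1
    rw [map_mul, map_mul, MulAut.apply_inv_self] at h2
    exact congrArg Subtype.val h2
  constructor
  · exact key μ s
  · intro h
    have := key μ⁻¹ (μ s) h
    rwa [MulAut.inv_apply_self] at this

theorem normalizerIn_eq_of_conj_mem {P : Subgroup Ω}
    (h : ∀ g ∈ S, ∀ c ∈ P, g * c * g⁻¹ ∈ P) : normalizerIn S P = S := by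
  apply le_antisymm (normalizerIn_le S P)
  intro g hg
  refine mem_normalizerIn.mpr ⟨hg, fun x => ⟨fun hx => h g hg x hx, fun hx => ?_⟩⟩
  have h1 := h g⁻¹ (S.inv_mem hg) _ hx
  have h2 : g⁻¹ * (g * x * g⁻¹) * g⁻¹⁻¹ = x := by group
  rwa [h2] at h1

theorem isEssential_centralizerIn_of_move [Finite S] (p : ℕ) [Fact p.Prime] (hS : IsPGroup p S)
    (F : FusionSystem S) (hF : F.IsSaturated p) (Z1 Z2 : Subgroup Ω)
    (hZ1 : ∀ g, g ∈ Z1 ↔ g ∈ S ∧ ∀ t ∈ S, t * g = g * t)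
    (hZ12 : Z1 ≤ Z2) (hZ2S : Z2 ≤ S)
    (hZ2n : ∀ g ∈ S, ∀ w ∈ Z2, g * w * g⁻¹ ∈ Z2)
    (hZ2c : ∀ g ∈ S, ∀ w ∈ Z2, g * w * g⁻¹ * w⁻¹ ∈ Z1)
    (hZ2ab : ∀ u ∈ Z2, ∀ v ∈ Z2, u * v = v * u)
    (hidx : Z1.relIndex Z2 = p) (hZ1card : Nat.card Z1 = p)
    (φ : Z2 →* Ω) (hφ : φ ∈ F.Hom Z2) (hφr : φ.range = Z2)
    (hmove : ∃ (z : Ω) (hz : z ∈ Z2), z ∈ Z1 ∧ φ ⟨z, hz⟩ ∉ Z1) :
    F.IsEssential p (centralizerIn S Z2) := by
  classical
  have hp : p.Prime := Fact.out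
  set C := centralizerIn S Z2 with hC
  have hCS : C ≤ S := centralizerIn_le S Z2
  have hZ2C : Z2 ≤ C := fun w hw =>
    mem_centralizerIn.mpr ⟨hZ2S hw, fun x hx => hZ2ab x hx w hw⟩
  have hZ1S : Z1 ≤ S := hZ12.trans hZ2S
  have hcentral : ∀ s ∈ S, ∀ z ∈ Z1, s * z = z * s := fun s hs z hz => ((hZ1 z).mp hz).2 s hs
  -- `C` is normal in `S`
  have hCn : ∀ g ∈ S, ∀ c ∈ C, g * c * g⁻¹ ∈ C := by
    intro g hg c hc
    obtain ⟨hcS, hcc⟩ := mem_centralizerIn.mp hc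
    refine mem_centralizerIn.mpr ⟨S.mul_mem (S.mul_mem hg hcS) (S.inv_mem hg), fun w hw => ?_⟩
    have hw' : g⁻¹ * w * g ∈ Z2 := by
      have := hZ2n g⁻¹ (S.inv_mem hg) w hw
      rwa [inv_inv] at this
    have h1 := hcc _ hw'
    calc w * (g * c * g⁻¹) = g * ((g⁻¹ * w * g) * c) * g⁻¹ := by group
      _ = g * (c * (g⁻¹ * w * g)) * g⁻¹ := by rw [h1]
      _ = g * c * g⁻¹ * w := by group
  have hNC : normalizerIn S C = S := normalizerIn_eq_of_conj_mem hCn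
  have hfnC : F.IsFullyNormalized C := isFullyNormalized_of_normalizerIn_eq F hCS hNC
  obtain ⟨hfcC, hfaC⟩ := fullyNormalized_props p hS F hF C hfnC
  have hsat := (Cfsg.Agent.S5077.result p hS F).mp hF
  have hrecC : F.IsReceptive C := hsat.2 C hfcC
  have hcenC : F.IsCentric C := by
    apply isCentric_of_fullyCentralized F hfcC
    intro g hg
    obtain ⟨hgS, hgc⟩ := mem_centralizerIn.mp hg
    exact mem_centralizerIn.mpr ⟨hgS, fun w hw => hgc w (hZ2C hw)⟩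
  -- an element of `Z2` outside `Z1`
  have hex : ∃ w ∈ Z2, w ∉ Z1 := by
    by_contra hcon
    have hle : Z2 ≤ Z1 := fun w hw => by
      by_contra h
      exact hcon ⟨w, hw, h⟩
    have h1 : Z1.relIndex Z2 = 1 := Subgroup.relIndex_eq_one.mpr hle
    rw [h1] at hidx
    exact hp.one_lt.ne hidx
  obtain ⟨w, hwZ2, hwZ1⟩ := hex
  have hZ2norm : Z2 ≤ Subgroup.normalizer (Z1 : Set Ω) := by
    intro u hu
    rw [Subgroup.mem_normalizer_iff]
    intro z
    have huS := hZ2S hu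
    constructor
    · intro hz
      have h1 : u * z * u⁻¹ = z := by rw [hcentral u huS z hz, mul_inv_cancel_right]
      rwa [h1]
    · intro hz
      have h1 := hcentral u⁻¹ (S.inv_mem huS) _ hz
      have h2 : z = u * z * u⁻¹ := by
        calc z = u⁻¹ * (u * z * u⁻¹) * u := by group
          _ = (u * z * u⁻¹) * u⁻¹ * u := by rw [h1]
          _ = u * z * u⁻¹ := by group
      rwa [h2]
  -- the commutator homomorphism `S → Z1`
  let f : ↥S →* ↥Z1 :=
    { toFun := fun g => ⟨(g : Ω) * w * (g : Ω)⁻¹ * w⁻¹, hZ2c g g.2 w hwZ2⟩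
      map_one' := by
        apply Subtype.ext
        show (1 : Ω) * w * (1 : Ω)⁻¹ * w⁻¹ = 1
        group
      map_mul' := by
        intro g h
        apply Subtype.ext
        show ((g : Ω) * (h : Ω)) * w * ((g : Ω) * (h : Ω))⁻¹ * w⁻¹ =
          ((g : Ω) * w * (g : Ω)⁻¹ * w⁻¹) * ((h : Ω) * w * (h : Ω)⁻¹ * w⁻¹)
        have hc1 := hcentral g g.2 _ (hZ2c h h.2 w hwZ2)
        have hc2 := hcentral _ (hZ1S (hZ2c g g.2 w hwZ2)) _ (hZ2c h h.2 w hwZ2)
        calc ((g : Ω) * (h : Ω)) * w * ((g : Ω) * (h : Ω))⁻¹ * w⁻¹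
            = ((g : Ω) * ((h : Ω) * w * (h : Ω)⁻¹ * w⁻¹)) * w * (g : Ω)⁻¹ * w⁻¹ := by group
          _ = (((h : Ω) * w * (h : Ω)⁻¹ * w⁻¹) * (g : Ω)) * w * (g : Ω)⁻¹ * w⁻¹ := by rw [hc1]
          _ = ((h : Ω) * w * (h : Ω)⁻¹ * w⁻¹) * ((g : Ω) * w * (g : Ω)⁻¹ * w⁻¹) := by group
          _ = ((g : Ω) * w * (g : Ω)⁻¹ * w⁻¹) * ((h : Ω) * w * (h : Ω)⁻¹ * w⁻¹) := hc2.symm }
  have hker : f.ker = C.subgroupOf S := by
    ext g
    rw [MonoidHom.mem_ker, Subgroup.mem_subgroupOf]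
    constructor
    · intro hg
      have h1 : (g : Ω) * w * (g : Ω)⁻¹ * w⁻¹ = 1 := congrArg Subtype.val hg
      have hgw : (g : Ω) * w = w * (g : Ω) := by
        have h2 : (g : Ω) * w * (g : Ω)⁻¹ = w := mul_inv_eq_one.mp h1
        calc (g : Ω) * w = ((g : Ω) * w * (g : Ω)⁻¹) * (g : Ω) := by group
          _ = w * (g : Ω) := by rw [h2]
      refine mem_centralizerIn.mpr ⟨g.2, fun u hu => ?_⟩
      obtain ⟨i, z, hz, rfl⟩ := exists_pow_mul_of_relIndex_prime hp Z1 Z2 hZ2norm hidx hwZ2 hwZ1 u hu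
      have h3 : (g : Ω) * w ^ i = w ^ i * (g : Ω) := (Commute.pow_right hgw i).eq
      have h4 := hcentral g g.2 z hz
      calc w ^ i * z * (g : Ω) = w ^ i * (z * (g : Ω)) := by group
        _ = w ^ i * ((g : Ω) * z) := by rw [h4]
        _ = (w ^ i * (g : Ω)) * z := by group
        _ = ((g : Ω) * w ^ i) * z := by rw [h3]
        _ = (g : Ω) * (w ^ i * z) := by group
    · intro hg
      apply Subtype.ext
      show (g : Ω) * w * (g : Ω)⁻¹ * w⁻¹ = 1
      have h1 := (mem_centralizerIn.mp hg).2 w hwZ2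
      rw [← h1]
      group
  have hCidx : C.relIndex S = p := by
    have h1 : f.ker.index = Nat.card f.range := Subgroup.index_ker f
    have h2 : Nat.card f.range ∣ Nat.card Z1 := Subgroup.card_subgroup_dvd_card _
    rw [hZ1card, ← h1, hker] at h2
    rcases (Nat.dvd_prime hp).mp h2 with h3 | h3
    · exfalso
      have h4 : S ≤ C := Subgroup.relIndex_eq_one.mp h3
      apply hwZ1
      rw [hZ1]
      refine ⟨hZ2S hwZ2, fun t ht => ?_⟩
      exact ((mem_centralizerIn.mp (h4 ht)).2 w hwZ2).symm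
    · exact h3
  have hCneS : C ≠ S := by
    intro h
    have h1 : C.relIndex S = 1 := Subgroup.relIndex_eq_one.mpr h.ge
    rw [hCidx] at h1
    exact hp.one_lt.ne' h1
  have hbig : ∀ H : Subgroup Ω, C ≤ H → H ≤ S → ¬ H ≤ C → S ≤ H := by
    intro H hCH hHS hne
    have h1 := Subgroup.relIndex_mul_relIndex C H S hCH hHS
    rw [hCidx] at h1
    have h2 : C.relIndex H ∣ p := Dvd.intro _ h1
    rcases (Nat.dvd_prime hp).mp h2 with h3 | h3
    · exact absurd (Subgroup.relIndex_eq_one.mp h3) hne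
    · rw [h3] at h1
      have h4 : H.relIndex S = 1 := by
        have h5 : p * H.relIndex S = p * 1 := by rw [h1, mul_one]
        exact Nat.eq_of_mul_eq_mul_left hp.pos h5
      exact Subgroup.relIndex_eq_one.mp h4
  -- extend `φ` to `C`
  have hNZ2 : normalizerIn S Z2 = S := normalizerIn_eq_of_conj_mem hZ2n
  have hfnZ2 : F.IsFullyNormalized Z2 := isFullyNormalized_of_normalizerIn_eq F hZ2S hNZ2
  have hrecZ2 : F.IsReceptive Z2 := hsat.2 Z2 (fullyNormalized_props p hS F hF Z2 hfnZ2).1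
  obtain ⟨ψ, hψ, hψe⟩ := hrecZ2.2 Z2 φ hφ hφr
  have hCext : C ≤ extender S Z2 φ := centralizerIn_le_extender S Z2 φ
  have hψC : ψ.comp (Subgroup.inclusion hCext) ∈ F.Hom C := restrict_mem F hCext hψ
  have hψCZ : ∀ (x : Ω) (hx : x ∈ Z2),
      (ψ.comp (Subgroup.inclusion hCext)) ⟨x, hZ2C hx⟩ = φ ⟨x, hx⟩ :=
    fun x hx => hψe x hx (hCext (hZ2C hx))
  have hψCC : ∀ c : C, (ψ.comp (Subgroup.inclusion hCext)) c ∈ C := by
    intro c
    refine mem_centralizerIn.mpr ⟨hom_mem F hψC c, fun v hv => ?_⟩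
    have hv' : v ∈ φ.range := by rw [hφr]; exact hv
    obtain ⟨v', rfl⟩ := hv'
    have h1 : φ v' = (ψ.comp (Subgroup.inclusion hCext)) ⟨v'.1, hZ2C v'.2⟩ := (hψCZ v'.1 v'.2).symm
    rw [h1, ← map_mul, ← map_mul]
    congr 1
    apply Subtype.ext
    exact (mem_centralizerIn.mp c.2).2 v'.1 v'.2
  have hrC : (ψ.comp (Subgroup.inclusion hCext)).range = C := by
    have hle : (ψ.comp (Subgroup.inclusion hCext)).range ≤ C := by
      rintro _ ⟨c, rfl⟩
      exact hψCC c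
    have : Finite C := finite_of_le hCS
    exact Subgroup.eq_of_le_of_card_ge hle (card_range_eq F hψC).ge
  obtain ⟨α, hα, hαe⟩ := exists_aut_of_range_eq F hψC hrC
  -- suppose `C` is not essential
  by_contra hess
  let B' : Subgroup (MulAut C) :=
    { carrier := {β | ∀ x : C, (x : Ω) ∈ Z1 ↔ ((β x : C) : Ω) ∈ Z1}
      one_mem' := fun x => Iff.rfl
      mul_mem' := by
        intro a b ha hb x
        rw [MulAut.mul_apply]
        exact (hb x).trans (ha (b x))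
      inv_mem' := by
        intro a ha x
        have h1 := ha (a⁻¹ x)
        rw [MulAut.apply_inv_self] at h1
        exact h1.symm }
  have hInn : Inn C ≤ B' := by
    rintro _ ⟨c, rfl⟩ x
    show (x : Ω) ∈ Z1 ↔ ((c : Ω) * (x : Ω) * (c : Ω)⁻¹) ∈ Z1
    have hcS : (c : Ω) ∈ S := hCS c.2
    constructor
    · intro hx
      have h1 : (c : Ω) * (x : Ω) * (c : Ω)⁻¹ = (x : Ω) := by
        rw [hcentral c hcS x hx, mul_inv_cancel_right]
      rwa [h1]
    · intro hx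
      have h1 := hcentral (c : Ω)⁻¹ (S.inv_mem hcS) _ hx
      have h2 : (x : Ω) = (c : Ω) * (x : Ω) * (c : Ω)⁻¹ := by
        calc (x : Ω) = (c : Ω)⁻¹ * ((c : Ω) * (x : Ω) * (c : Ω)⁻¹) * (c : Ω) := by group
          _ = ((c : Ω) * (x : Ω) * (c : Ω)⁻¹) * (c : Ω)⁻¹ * (c : Ω) := by rw [h1]
          _ = (c : Ω) * (x : Ω) * (c : Ω)⁻¹ := by group
      rwa [h2]
  have hext : ∀ α' ∈ F.autGroup C, ∀ g ∈ extender S C (C.subtype.comp α'.toMonoidHom),
      g ∉ C → α' ∈ B' := by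
    intro α' hα' g hg hgC
    have hCe : C ≤ extender S C (C.subtype.comp α'.toMonoidHom) :=
      le_extender hCS (fun x => hCS (α' x).2)
    have hSe : S ≤ extender S C (C.subtype.comp α'.toMonoidHom) :=
      hbig _ hCe ((extender_le S C _).trans (normalizerIn_le S C)) (fun hle => hgC (hle hg))
    obtain ⟨μ, hμ, hμe⟩ := exists_extension_of_le_extender F hCS hrecC α' hα' hSe
    intro x
    rw [← hμe x]
    exact center_iff_of_aut hZ1 μ ⟨x, hCS x.2⟩
  have hle := autGroup_le_of_extender_of_not_essential hS hfnC hfaC hcenC hCneS hess B' hInn hext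
  have hαB : α ∈ B' := hle hα
  obtain ⟨z, hz, hzZ1, hφz⟩ := hmove
  have h1 := (hαB ⟨z, hZ2C hz⟩).mp hzZ1
  rw [hαe, hψCZ z hz] at h1
  exact hφz h1

end Cfsg.Agent.Lib.Helper89
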