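import Mathlib
import Cfsg.Prelude.Def_Blocks
import Cfsg.Agent.Lib.Helper70.IPDefs

/-!
# K-IP-IND (keystone 446301, architect helper70): `hasAb_of_red`
-/

set_option autoImplicit false

namespace Cfsg.Agent.Lib.Helper89.IP

open Cfsg Cfsg.Agent.Lib.Helper70.IP

universe u

theorem hasAb_of_red {G : Type u} [Group G] [Finite G] (b : ℕ) (hR : Red G b)
    (IH : ∀ H : Subgroup G, H ≠ ⊤ → ∀ c : ℕ, DegLE H c → HasAb H ((c.factorial) ^ 2)) :
    HasAb G ((b.factorial) ^ 2) := by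
  obtain ⟨H, c, hH, hdeg, hle⟩ := hR
  obtain ⟨A, hab, hidx⟩ := IH H hH c hdeg
  refine ⟨A.map H.subtype, ?_, ?_⟩
  · rintro x ⟨x', hx', rfl⟩ y ⟨y', hy', rfl⟩
    rw [← map_mul, ← map_mul, hab x' hx' y' hy']
  · rw [Subgroup.index_map_subtype]
    calc A.index * H.index ≤ (c.factorial) ^ 2 * H.index := Nat.mul_le_mul_right _ hidx
      _ = H.index * (c.factorial) ^ 2 := mul_comm _ _
      _ ≤ (b.factorial) ^ 2 := hle

end Cfsg.Agent.Lib.Helper89.IP
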