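import Mathlib
import Cfsg.Prelude.Def_JordanBlocks
import Cfsg.Prelude.Def_LieClassical
import Cfsg.Agent.Lib.Helper73.UCDefs
import Cfsg.Agent.S2581

/-!
# K-UC-K2 (keystone 264602, architect helper73): `card_centralizer_GL_of_isConj`
-/

set_option autoImplicit false

namespace Cfsg.Agent.Lib.Helper89.UC

open Matrix Cfsg.Agent.Lib.Helper73.UC

variable {K : Type*} [Field K]

/-- a group isomorphism transports centralisers -/
theorem commute_iff_of_mulEquiv {G H : Type*} [Group G] [Group H] (Ψ : G ≃* H) (g a : G) :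
    g * a = a * g ↔ Ψ g * Ψ a = Ψ a * Ψ g := by
  rw [← map_mul, ← map_mul, Ψ.injective.eq_iff]

theorem card_centralizer_GL_of_isConj [Fintype K] {Q n t : ℕ} (hK : Fintype.card K = Q)
    (d : Fin t → ℕ) (hd : ∀ k, 1 ≤ d k) (e : ((k : Fin t) × Fin (d k)) ≃ Fin n) (A : GL (Fin n) K)
    (hA : IsConj (Matrix.reindex e e (Cfsg.jordanTypeMatrix d K)) (A : Matrix (Fin n) (Fin n) K)) :
    Nat.card {g : GL (Fin n) K // g * A = A * g} =
      Q ^ gam d * ∏ i ∈ Finset.range (Finset.univ.sup d + 1), ∏ j : Fin (mult d i),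
        (Q ^ mult d i - Q ^ (j : ℕ)) := by
  classical
  obtain ⟨c, hc⟩ := hA
  have hc' : (c : Matrix (Fin n) (Fin n) K) * Matrix.reindex e e (Cfsg.jordanTypeMatrix d K) =
      (A : Matrix (Fin n) (Fin n) K) * (c : Matrix (Fin n) (Fin n) K) := hc
  -- the reindexing isomorphism of unit groups
  let R : Matrix (Fin n) (Fin n) K ≃ₐ[K] Matrix ((k : Fin t) × Fin (d k)) ((k : Fin t) × Fin (d k)) K :=
    Matrix.reindexAlgEquiv K K e.symm
  let Φ : GL (Fin n) K ≃* GL ((k : Fin t) × Fin (d k)) K := Units.mapEquiv R.toMulEquiv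
  let Ψ : GL (Fin n) K ≃* GL ((k : Fin t) × Fin (d k)) K := (MulAut.conj (c⁻¹ : GL (Fin n) K)).trans Φ
  have hΦ : ∀ x : GL (Fin n) K, ((Φ x : GL ((k : Fin t) × Fin (d k)) K) :
      Matrix ((k : Fin t) × Fin (d k)) ((k : Fin t) × Fin (d k)) K) =
      Matrix.reindex e.symm e.symm (x : Matrix (Fin n) (Fin n) K) := by
    intro x
    rfl
  have hJ' : ((c⁻¹ * A * c : GL (Fin n) K) : Matrix (Fin n) (Fin n) K) =
      Matrix.reindex e e (Cfsg.jordanTypeMatrix d K) := by
    rw [Units.val_mul, Units.val_mul, mul_assoc, ← hc', ← mul_assoc, ← Units.val_mul, inv_mul_cancel,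
      Units.val_one, one_mul]
  have hΨA : ((Ψ A : GL ((k : Fin t) × Fin (d k)) K) :
      Matrix ((k : Fin t) × Fin (d k)) ((k : Fin t) × Fin (d k)) K) = Cfsg.jordanTypeMatrix d K := by
    have h1 : Ψ A = Φ (c⁻¹ * A * c) := by
      show Φ (MulAut.conj (c⁻¹ : GL (Fin n) K) A) = _
      rw [MulAut.conj_apply, inv_inv]
    rw [h1, hΦ, hJ']
    ext i j
    simp
  have hiff : ∀ g : GL (Fin n) K, g * A = A * g ↔
      ((Ψ g : GL ((k : Fin t) × Fin (d k)) K) :
        Matrix ((k : Fin t) × Fin (d k)) ((k : Fin t) × Fin (d k)) K) * Cfsg.jordanTypeMatrix d K =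
      Cfsg.jordanTypeMatrix d K * ((Ψ g : GL ((k : Fin t) × Fin (d k)) K) :
        Matrix ((k : Fin t) × Fin (d k)) ((k : Fin t) × Fin (d k)) K) := by
    intro g
    rw [commute_iff_of_mulEquiv Ψ g A, Units.ext_iff, Units.val_mul, Units.val_mul, hΨA]
  have hcard : Nat.card {g : GL (Fin n) K // g * A = A * g} =
      Nat.card {h : GL ((k : Fin t) × Fin (d k)) K //
        (h : Matrix ((k : Fin t) × Fin (d k)) ((k : Fin t) × Fin (d k)) K) * Cfsg.jordanTypeMatrix d K =
        Cfsg.jordanTypeMatrix d K * (h : Matrix ((k : Fin t) × Fin (d k)) ((k : Fin t) × Fin (d k)) K)} :=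
    Nat.card_congr (Equiv.subtypeEquiv (p := fun g : GL (Fin n) K => g * A = A * g)
      (q := fun h : GL ((k : Fin t) × Fin (d k)) K =>
        (h : Matrix ((k : Fin t) × Fin (d k)) ((k : Fin t) × Fin (d k)) K) * Cfsg.jordanTypeMatrix d K =
        Cfsg.jordanTypeMatrix d K * (h : Matrix ((k : Fin t) × Fin (d k)) ((k : Fin t) × Fin (d k)) K))
      Ψ.toEquiv hiff)
  rw [hcard]
  exact Cfsg.Agent.S2581.result hK d hd

end Cfsg.Agent.Lib.Helper89.UC
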