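import Cfsg.Agent.Lib.Helper89.NormalCrit
import Cfsg.Agent.Lib.Helper90.StabChain
import Cfsg.Agent.Lib.Helper90.FusionNormal

set_option autoImplicit false

namespace Cfsg.Agent.Lib.Helper89

open Cfsg Cfsg.FusionSystem Cfsg.Agent.Lib.Helper87
open scoped commutatorElement

variable {Ω : Type*} [Group Ω] {S : Subgroup Ω}

/-- The invariance property of a term of a chain used below: `D` is normalized by `S`, and every
`F`-automorphism of a subgroup `P ≥ D` preserves `D`. -/
def ChainInv (F : FusionSystem S) (D : Subgroup Ω) : Prop :=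
  (∀ g ∈ S, ∀ y ∈ D, g * y * g⁻¹ ∈ D) ∧
    ∀ P : Subgroup Ω, P ≤ S → D ≤ P → ∀ α ∈ F.autGroup P, ∀ x : P, (x : Ω) ∈ D → ((α x : P) : Ω) ∈ D

theorem chainInv_of_stronglyClosed {F : FusionSystem S} {D : Subgroup Ω} (hD : F.StronglyClosed D) :
    ChainInv F D :=
  ⟨Helper90.StronglyClosed.conj_mem F hD,
    fun _ hP _ _ hα x hx => Helper90.StronglyClosed.aut_mem F hD hP hα x hx⟩

theorem chainInv_of_weaklyClosed {F : FusionSystem S} {D : Subgroup Ω} (hD : F.WeaklyClosed D) :
    ChainInv F D := by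
  constructor
  · intro g hg y hy
    have h1 := hD.2 _ (F.conj_mem hD.1 hg)
    have h2 : conjHom D g ⟨y, hy⟩ ∈ (conjHom D g).range := ⟨_, rfl⟩
    rw [h1] at h2
    exact h2
  · intro P hP hDP α hα x hx
    have hαF := (mem_autGroup_iff F hP α).mp hα
    have h1 := hD.2 _ (restrict_mem F hDP hαF)
    have h2 : ((P.subtype.comp α.toMonoidHom).comp (Subgroup.inclusion hDP)) ⟨x, hx⟩ ∈
        ((P.subtype.comp α.toMonoidHom).comp (Subgroup.inclusion hDP)).range := ⟨_, rfl⟩
    rw [h1] at h2
    exact h2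

theorem conjAut_inv (P : Subgroup Ω) (g : Ω) (hg : g ∈ Subgroup.normalizer (P : Set Ω)) :
    (conjAut P g hg)⁻¹ = conjAut P g⁻¹ (Subgroup.inv_mem _ hg) := by
  apply inv_eq_of_mul_eq_one_right
  ext x
  show g * (g⁻¹ * (x : Ω) * g⁻¹⁻¹) * g⁻¹ = x
  group

/-- The chain criterion: let `Q` be strongly closed in `F` and `c` a chain of subgroups of `Q` starting at `⊥`,
with `[c (k+1), Q] ≤ c k`, each term being `S`-invariant and invariant under the `F`-automorphisms of the
subgroups containing it. Then every term of the chain lies in every centric radical subgroup. -/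
theorem chain_le_of_centric_radical [Finite S] {p : ℕ} [Fact p.Prime] (hS : IsPGroup p S)
    (F : FusionSystem S) {Q : Subgroup Ω} (hQ : F.StronglyClosed Q)
    (c : ℕ → Subgroup Ω) (hc0 : c 0 = ⊥) (hmono : Monotone c) (hcQ : ∀ k, c k ≤ Q)
    (hcomm : ∀ k, ⁅c (k + 1), Q⁆ ≤ c k) (hinv : ∀ k, ChainInv F (c k))
    {P : Subgroup Ω} (hcen : F.IsCentric P) (hrad : F.IsRadical p P) : ∀ k, c k ≤ P := by
  have hPS : P ≤ S := hcen.1
  have : Finite P := finite_of_le hPS
  have hPp : IsPGroup p P := hS.to_le hPS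
  have hQconj := Helper90.StronglyClosed.conj_mem F hQ
  intro k
  induction k with
  | zero => rw [hc0]; exact bot_le
  | succ k ih =>
    by_contra hnot
    obtain ⟨d, hdD, hdN, hdP⟩ := Helper90.exists_normalizer_not_mem hS ((hcQ (k + 1)).trans hQ.1) hPS
      (hinv (k + 1)).1 hnot
    have hdS : d ∈ S := hQ.1 (hcQ _ hdD)
    -- the chain in `Ω` and in `P`
    let e : ℕ → Subgroup Ω := fun m => if m ≤ k then c m else if m = k + 1 then Q else ⊤
    have he1 : ∀ m, m ≤ k → e m = c m := fun m hm => by simp only [e, if_pos hm]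
    have he2 : e (k + 1) = Q := by
      have h1 : ¬ (k + 1 ≤ k) := by omega
      simp only [e, if_neg h1, if_true]
    have he3 : ∀ m, k + 2 ≤ m → e m = ⊤ := fun m hm => by
      have h1 : ¬ (m ≤ k) := by omega
      have h2 : ¬ (m = k + 1) := by omega
      simp only [e, if_neg h1, if_neg h2]
    have hemono : Monotone e := by
      apply monotone_nat_of_le_succ
      intro m
      rcases Nat.lt_or_ge m k with h | h
      · rw [he1 m h.le, he1 (m + 1) h]; exact hmono (Nat.le_succ m)
      · rcases Nat.eq_or_lt_of_le h with h' | h'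
        · subst h'
          rw [he1 k le_rfl, he2]; exact hcQ k
        · rw [he3 (m + 1) (by omega)]; exact le_top
    let ch : ℕ → Subgroup P := fun m => (e m).subgroupOf P
    have hchmono : Monotone ch := fun a b hab => Subgroup.comap_mono (hemono hab)
    have hch0 : ch 0 = ⊥ := by
      show (e 0).subgroupOf P = ⊥
      rw [he1 0 (Nat.zero_le k), hc0, Subgroup.bot_subgroupOf]
    have hchtop : ch (k + 2) = ⊤ := by
      show (e (k + 2)).subgroupOf P = ⊤
      rw [he3 (k + 2) le_rfl, Subgroup.top_subgroupOf]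
    -- conjugation by an element of `c (k+1)` normalizing `P` stabilizes the chain
    have hstab : ∀ (g : Ω) (hg : g ∈ Subgroup.normalizer (P : Set Ω)), g ∈ c (k + 1) →
        ∀ i, ∀ x ∈ ch (i + 1), x⁻¹ * conjAut P g hg x ∈ ch i := by
      intro g hg hgD i x hx
      have hgQ : g ∈ Q := hcQ _ hgD
      show ((x⁻¹ * conjAut P g hg x : P) : Ω) ∈ e i
      have hval : ((x⁻¹ * conjAut P g hg x : P) : Ω) = (x : Ω)⁻¹ * (g * x * g⁻¹) := rfl
      rw [hval]
      have hx' : (x : Ω) ∈ e (i + 1) := hx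
      rcases Nat.lt_or_ge i k with h | h
      · rw [he1 i h.le]
        rw [he1 (i + 1) h] at hx'
        apply hcomm i
        have h1 : ⁅(x : Ω)⁻¹, g⁆ ∈ ⁅c (i + 1), Q⁆ :=
          Subgroup.commutator_mem_commutator (Subgroup.inv_mem _ hx') hgQ
        have h2 : ⁅(x : Ω)⁻¹, g⁆ = (x : Ω)⁻¹ * (g * x * g⁻¹) := by
          rw [commutatorElement_def]; group
        rw [← h2]; exact h1
      · rcases Nat.eq_or_lt_of_le h with h' | h'
        · subst h'
          rw [he1 k le_rfl]
          rw [he2] at hx'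
          apply hcomm k
          have h1 : ⁅g, (x : Ω)⁻¹⁆ ∈ ⁅c (k + 1), Q⁆ :=
            Subgroup.commutator_mem_commutator hgD (Subgroup.inv_mem _ hx')
          have h2 : (⁅g, (x : Ω)⁻¹⁆)⁻¹ = (x : Ω)⁻¹ * (g * x * g⁻¹) := by
            rw [commutatorElement_def]; group
          rw [← h2]; exact Subgroup.inv_mem _ h1
        · rcases Nat.eq_or_lt_of_le h' with h'' | h''
          · subst h''
            rw [he2]
            have h1 : (x : Ω)⁻¹ * g * (x : Ω)⁻¹⁻¹ ∈ Q :=
              hQconj _ (S.inv_mem (hPS x.2)) g hgQ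
            have h2 : (x : Ω)⁻¹ * (g * x * g⁻¹) = ((x : Ω)⁻¹ * g * (x : Ω)⁻¹⁻¹) * g⁻¹ := by group
            rw [h2]
            exact Q.mul_mem h1 (Q.inv_mem hgQ)
          · rw [he3 i (by omega)]; trivial
    have hβmem : ∀ (g : Ω) (hg : g ∈ Subgroup.normalizer (P : Set Ω)), g ∈ c (k + 1) →
        conjAut P g hg ∈ Helper90.stabChain ch hchmono := by
      intro g hg hgD i x hx
      refine ⟨hstab g hg hgD i x hx, ?_⟩
      rw [conjAut_inv]
      exact hstab g⁻¹ _ (Subgroup.inv_mem _ hgD) i x hx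
    -- `F`-automorphisms of `P` preserve the chain
    have hpres : ∀ α ∈ F.autGroup P, ∀ j, ∀ x ∈ ch j, α x ∈ ch j := by
      intro α hα j x hx
      show ((α x : P) : Ω) ∈ e j
      have hx' : (x : Ω) ∈ e j := hx
      rcases Nat.lt_or_ge k j with h | h
      · rcases Nat.eq_or_lt_of_le h with h' | h'
        · subst h'
          rw [he2] at hx' ⊢
          exact Helper90.StronglyClosed.aut_mem F hQ hPS hα x hx'
        · rw [he3 j (by omega)]; trivial
      · rw [he1 j h] at hx' ⊢
        exact (hinv j).2 P hPS ((hmono h).trans ih) α hα x hx'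
    let A := F.autGroup P
    let D : Subgroup (MulAut P) := Helper90.stabChain ch hchmono
    have hDp : IsPGroup p D := Helper90.stabChain_isPGroup hPp ch hch0 hchmono (k + 2) hchtop
    have hDnorm : (D.subgroupOf A).Normal := by
      constructor
      intro n hn a
      have hnD : (n : MulAut P) ∈ D := Subgroup.mem_subgroupOf.mp hn
      refine Subgroup.mem_subgroupOf.mpr ?_
      show (a : MulAut P) * (n : MulAut P) * (a : MulAut P)⁻¹ ∈ D
      exact Helper90.stabChain_conj_mem ch hchmono (a : MulAut P) (hpres _ a.2)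
        (hpres _ (A.inv_mem a.2)) hnD
    have hDcore : D.subgroupOf A ≤ pCore p A :=
      Cfsg.Agent.Lib.Helper52.le_pCore hDnorm (hDp.comap_subtype)
    have hβA : conjAut P d hdN ∈ A :=
      autInducedBy_le_autGroup F hPS (conjAut_mem_autInducedBy hdS hdN)
    have hβInn : conjAut P d hdN ∈ Inn P := by
      have h1 : (⟨conjAut P d hdN, hβA⟩ : A) ∈ pCore p A :=
        hDcore (Subgroup.mem_subgroupOf.mpr (hβmem d hdN hdD))
      rw [← hrad.2]
      exact ⟨⟨_, hβA⟩, h1, rfl⟩
    exact hdP (mem_of_conjAut_mem_inn F hcen hdS hdN hβInn)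

end Cfsg.Agent.Lib.Helper89
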