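import Cfsg.Prelude.Def_FusionComponents
import Cfsg.Agent.Lib.Helper89.FusionAut
import Cfsg.Agent.Lib.Helper87.FusionAut
import Cfsg.Agent.Lib.Helper87.SylowRel
import Cfsg.Agent.Lib.Helper87.FusionSaturated
import Mathlib

set_option autoImplicit false

namespace Cfsg.Agent.Lib.Helper89

open Cfsg Cfsg.FusionSystem Cfsg.Agent.Lib.Helper87

/-! ### Sylow-type lemmas in ambient form -/

section Abstract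

/-- A `p`-subgroup of a finite subgroup `A` is conjugate, by an element of `A`, into a given maximal
`p`-subgroup `T` of `A`. -/
theorem exists_conj_mem_of_maximal {M : Type*} [Group M] {p : ℕ} [Fact p.Prime] (A T : Subgroup M)
    [Finite A] (hTA : T ≤ A) (hTp : IsPGroup p T)
    (hmax : ∀ C : Subgroup M, IsPGroup p C → T ≤ C → C ≤ A → C = T)
    (D : Subgroup M) (hD : IsPGroup p D) (hDA : D ≤ A) :
    ∃ g ∈ A, ∀ d ∈ D, g * d * g⁻¹ ∈ T := by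
  obtain ⟨R, hR⟩ := (sylow_subgroupOf_iff (p := p) A T hTA).mpr ⟨hTp, hmax⟩
  have hD' : IsPGroup p (D.subgroupOf A) := hD.comap_subtype
  obtain ⟨P', hP'⟩ := hD'.exists_le_sylow
  obtain ⟨g, hg⟩ := MulAction.exists_smul_eq A P' R
  refine ⟨g, g.2, fun d hd => ?_⟩
  have h1 : (⟨d, hDA hd⟩ : A) ∈ (P' : Subgroup A) := hP' (Subgroup.mem_subgroupOf.mpr hd)
  have h2 : g * ⟨d, hDA hd⟩ * g⁻¹ ∈ ((g • P' : Sylow p A) : Subgroup A) := by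
    rw [Sylow.coe_subgroup_smul, Subgroup.mem_pointwise_smul_iff_inv_smul_mem]
    simp only [MulAut.smul_def, MulAut.inv_apply, MulAut.conj_symm_apply]
    have : g⁻¹ * (g * ⟨d, hDA hd⟩ * g⁻¹) * g = ⟨d, hDA hd⟩ := by group
    rw [this]; exact h1
  rw [hg, hR, Subgroup.mem_subgroupOf] at h2
  exact h2

/-- In a group acting on a set, with a finite subgroup `A'` all of whose `p`-subgroups are conjugate
into `T`: some translate of a point has `T ⊓ stabilizer` as a maximal `p`-subgroup of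
`A' ⊓ stabilizer`. -/
theorem exists_smul_max_stabilizer {A X : Type*} [Group A] [MulAction A X] {p : ℕ}
    (A' T : Subgroup A) [Finite A']
    (hTA : T ≤ A')
    (hT : ∀ R : Subgroup A, IsPGroup p R → R ≤ A' → ∃ g ∈ A', ∀ r ∈ R, g * r * g⁻¹ ∈ T)
    (x : X) :
    ∃ g ∈ A', ∀ R : Subgroup A, IsPGroup p R → R ≤ A' → R ≤ MulAction.stabilizer A (g • x) →
      T ⊓ MulAction.stabilizer A (g • x) ≤ R → R ≤ T := by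
  haveI : Finite T := finite_of_le hTA
  obtain ⟨g, hgA, hmax⟩ := exists_max_nat (fun g : A => g ∈ A')
    (fun g => Nat.card ↥(T ⊓ MulAction.stabilizer A (g • x))) (Nat.card T) ⟨1, A'.one_mem⟩
    (fun g _ => Subgroup.card_le_of_le inf_le_left)
  refine ⟨g, hgA, fun R hRp hRA hRst hle => ?_⟩
  haveI : Finite R := finite_of_le hRA
  obtain ⟨h, hhA, hh⟩ := hT R hRp hRA
  set R' := R.map (MulAut.conj h).toMonoidHom with hR'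
  have hR'T : R' ≤ T := by
    rintro _ ⟨r, hr, rfl⟩
    exact hh r hr
  have hR'st : R' ≤ MulAction.stabilizer A ((h * g) • x) := by
    rintro _ ⟨r, hr, rfl⟩
    rw [MulAction.mem_stabilizer_iff]
    have h1 : r • (g • x) = g • x := MulAction.mem_stabilizer_iff.mp (hRst hr)
    show (h * r * h⁻¹) • ((h * g) • x) = (h * g) • x
    rw [← mul_smul, show h * r * h⁻¹ * (h * g) = h * (r * g) by group, mul_smul, mul_smul, h1,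
      ← mul_smul]
  have hcard : Nat.card R' = Nat.card R :=
    Subgroup.card_map_of_injective (MulAut.conj h).injective
  have h1 : Nat.card R' ≤ Nat.card ↥(T ⊓ MulAction.stabilizer A ((h * g) • x)) := by
    haveI : Finite ↥(T ⊓ MulAction.stabilizer A ((h * g) • x)) :=
      finite_of_le (inf_le_left : T ⊓ MulAction.stabilizer A ((h * g) • x) ≤ T)
    exact Subgroup.card_le_of_le (le_inf hR'T hR'st)
  have h2 := hmax (h * g) (A'.mul_mem hhA hgA)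
  have h3 : Nat.card R ≤ Nat.card ↥(T ⊓ MulAction.stabilizer A (g • x)) := by
    rw [← hcard]; exact h1.trans h2
  have h4 := Subgroup.eq_of_le_of_card_ge hle h3
  rw [← h4]
  exact inf_le_left

end Abstract


/-! ### Product maps -/

section Product

variable {Ω₁ Ω₂ : Type*} [Group Ω₁] [Group Ω₂]

/-- First projection of a subgroup of a product into a subgroup containing the image. -/
def projFst (P : Subgroup (Ω₁ × Ω₂)) {P₁ : Subgroup Ω₁}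
    (h₁ : P.map (MonoidHom.fst Ω₁ Ω₂) ≤ P₁) : P →* P₁ :=
  ((MonoidHom.fst Ω₁ Ω₂).comp P.subtype).codRestrict P₁ (fun x => h₁ ⟨x, x.2, rfl⟩)

/-- Second projection of a subgroup of a product into a subgroup containing the image. -/
def projSnd (P : Subgroup (Ω₁ × Ω₂)) {P₂ : Subgroup Ω₂}
    (h₂ : P.map (MonoidHom.snd Ω₁ Ω₂) ≤ P₂) : P →* P₂ :=
  ((MonoidHom.snd Ω₁ Ω₂).comp P.subtype).codRestrict P₂ (fun x => h₂ ⟨x, x.2, rfl⟩)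

/-- The restriction to `P` of the product of two maps. -/
def prodRes (P : Subgroup (Ω₁ × Ω₂)) {P₁ : Subgroup Ω₁} {P₂ : Subgroup Ω₂}
    (h₁ : P.map (MonoidHom.fst Ω₁ Ω₂) ≤ P₁) (h₂ : P.map (MonoidHom.snd Ω₁ Ω₂) ≤ P₂)
    (φ₁ : P₁ →* Ω₁) (φ₂ : P₂ →* Ω₂) : P →* Ω₁ × Ω₂ :=
  MonoidHom.prod (φ₁.comp (projFst P h₁)) (φ₂.comp (projSnd P h₂))

theorem prodRes_apply (P : Subgroup (Ω₁ × Ω₂)) {P₁ : Subgroup Ω₁} {P₂ : Subgroup Ω₂}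
    (h₁ : P.map (MonoidHom.fst Ω₁ Ω₂) ≤ P₁) (h₂ : P.map (MonoidHom.snd Ω₁ Ω₂) ≤ P₂)
    (φ₁ : P₁ →* Ω₁) (φ₂ : P₂ →* Ω₂) (x : P) :
    prodRes P h₁ h₂ φ₁ φ₂ x =
      (φ₁ ⟨(x : Ω₁ × Ω₂).1, h₁ ⟨x, x.2, rfl⟩⟩, φ₂ ⟨(x : Ω₁ × Ω₂).2, h₂ ⟨x, x.2, rfl⟩⟩) := rfl

variable {S₁ : Subgroup Ω₁} {S₂ : Subgroup Ω₂} {F₁ : FusionSystem S₁} {F₂ : FusionSystem S₂}
  {E : FusionSystem (S₁.prod S₂)}

theorem prodRes_mem (hE : IsProductSystem F₁ F₂ E) {P : Subgroup (Ω₁ × Ω₂)}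
    (hP : P ≤ S₁.prod S₂) {P₁ : Subgroup Ω₁} {P₂ : Subgroup Ω₂}
    (h₁ : P.map (MonoidHom.fst Ω₁ Ω₂) ≤ P₁) (h₂ : P.map (MonoidHom.snd Ω₁ Ω₂) ≤ P₂)
    {φ₁ : P₁ →* Ω₁} (hφ₁ : φ₁ ∈ F₁.Hom P₁) {φ₂ : P₂ →* Ω₂} (hφ₂ : φ₂ ∈ F₂.Hom P₂) :
    prodRes P h₁ h₂ φ₁ φ₂ ∈ E.Hom P :=
  (hE P _).mpr ⟨hP, φ₁.comp (Subgroup.inclusion h₁), restrict_mem F₁ h₁ hφ₁,
    φ₂.comp (Subgroup.inclusion h₂), restrict_mem F₂ h₂ hφ₂, fun _ _ _ => rfl⟩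

theorem exists_of_mem (hE : IsProductSystem F₁ F₂ E) {P : Subgroup (Ω₁ × Ω₂)}
    {φ : P →* Ω₁ × Ω₂} (hφ : φ ∈ E.Hom P) :
    ∃ φ₁ ∈ F₁.Hom (P.map (MonoidHom.fst Ω₁ Ω₂)), ∃ φ₂ ∈ F₂.Hom (P.map (MonoidHom.snd Ω₁ Ω₂)),
      φ = prodRes P le_rfl le_rfl φ₁ φ₂ := by
  obtain ⟨-, φ₁, hφ₁, φ₂, hφ₂, h⟩ := (hE P φ).mp hφ
  refine ⟨φ₁, hφ₁, φ₂, hφ₂, ?_⟩
  ext x
  · rw [h x ⟨x, x.2, rfl⟩ ⟨x, x.2, rfl⟩]; rfl
  · rw [h x ⟨x, x.2, rfl⟩ ⟨x, x.2, rfl⟩]; rfl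

/-! ### Receptivity in a product system -/

theorem isReceptive_of_proj (hE : IsProductSystem F₁ F₂ E) {Q : Subgroup (Ω₁ × Ω₂)}
    (hQ : Q ≤ S₁.prod S₂) (hr₁ : F₁.IsReceptive (Q.map (MonoidHom.fst Ω₁ Ω₂)))
    (hr₂ : F₂.IsReceptive (Q.map (MonoidHom.snd Ω₁ Ω₂))) : E.IsReceptive Q := by
  refine ⟨hQ, fun R ψ hψ hr => ?_⟩
  obtain ⟨ψ₁, hψ₁, ψ₂, hψ₂, rfl⟩ := exists_of_mem hE hψ
  have hRS : R ≤ S₁.prod S₂ := hom_le E hψ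
  -- the ranges of the components
  have hrange₁ : ψ₁.range = Q.map (MonoidHom.fst Ω₁ Ω₂) := by
    rw [← hr]
    ext y
    constructor
    · rintro ⟨⟨_, x, hx, rfl⟩, rfl⟩
      exact ⟨_, ⟨⟨x, hx⟩, rfl⟩, rfl⟩
    · rintro ⟨_, ⟨x, rfl⟩, rfl⟩
      exact ⟨_, rfl⟩
  have hrange₂ : ψ₂.range = Q.map (MonoidHom.snd Ω₁ Ω₂) := by
    rw [← hr]
    ext y
    constructor
    · rintro ⟨⟨_, x, hx, rfl⟩, rfl⟩
      exact ⟨_, ⟨⟨x, hx⟩, rfl⟩, rfl⟩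
    · rintro ⟨_, ⟨x, rfl⟩, rfl⟩
      exact ⟨_, rfl⟩
  obtain ⟨χ₁, hχ₁, hχ₁e⟩ := hr₁.2 _ ψ₁ hψ₁ hrange₁
  obtain ⟨χ₂, hχ₂, hχ₂e⟩ := hr₂.2 _ ψ₂ hψ₂ hrange₂
  set ψ := prodRes R le_rfl le_rfl ψ₁ ψ₂ with hψdef
  -- the projections of the extender lie in the extenders
  have hN₁ : (extender (S₁.prod S₂) R ψ).map (MonoidHom.fst Ω₁ Ω₂) ≤
      extender S₁ (R.map (MonoidHom.fst Ω₁ Ω₂)) ψ₁ := by
    rintro _ ⟨g, hg, rfl⟩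
    obtain ⟨hgS, hgN, h, hhS, hh⟩ := mem_extender_iff.mp hg
    rw [mem_extender_iff]
    refine ⟨hgS.1, ?_, h.1, hhS.1, ?_⟩
    · exact Subgroup.le_normalizer_map (MonoidHom.fst Ω₁ Ω₂) ⟨g, hgN, rfl⟩
    · rintro ⟨_, x, hx, rfl⟩ hy
      have hx' : g * x * g⁻¹ ∈ R := (Subgroup.mem_normalizer_iff.mp hgN x).mp hx
      have := congrArg Prod.fst (hh ⟨x, hx⟩ hx')
      exact this
  have hN₂ : (extender (S₁.prod S₂) R ψ).map (MonoidHom.snd Ω₁ Ω₂) ≤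
      extender S₂ (R.map (MonoidHom.snd Ω₁ Ω₂)) ψ₂ := by
    rintro _ ⟨g, hg, rfl⟩
    obtain ⟨hgS, hgN, h, hhS, hh⟩ := mem_extender_iff.mp hg
    rw [mem_extender_iff]
    refine ⟨hgS.2, ?_, h.2, hhS.2, ?_⟩
    · exact Subgroup.le_normalizer_map (MonoidHom.snd Ω₁ Ω₂) ⟨g, hgN, rfl⟩
    · rintro ⟨_, x, hx, rfl⟩ hy
      have hx' : g * x * g⁻¹ ∈ R := (Subgroup.mem_normalizer_iff.mp hgN x).mp hx
      have := congrArg Prod.snd (hh ⟨x, hx⟩ hx')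
      exact this
  have hNS : extender (S₁.prod S₂) R ψ ≤ S₁.prod S₂ :=
    (extender_le _ _ _).trans (normalizerIn_le _ _)
  refine ⟨prodRes _ hN₁ hN₂ χ₁ χ₂, prodRes_mem hE hNS hN₁ hN₂ hχ₁ hχ₂, fun x hP hN => ?_⟩
  have e1 := hχ₁e x.1 ⟨x, hP, rfl⟩ (hN₁ ⟨x, hN, rfl⟩)
  have e2 := hχ₂e x.2 ⟨x, hP, rfl⟩ (hN₂ ⟨x, hN, rfl⟩)
  exact Prod.ext e1 e2

end Product


/-! ### Automorphisms in a product system -/

section Aut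

variable {Ω₁ Ω₂ : Type*} [Group Ω₁] [Group Ω₂]

/-- The embedding of the external product of two subgroups. -/
def emb (Q₁ : Subgroup Ω₁) (Q₂ : Subgroup Ω₂) : ↥Q₁ × ↥Q₂ →* Ω₁ × Ω₂ :=
  MonoidHom.prodMap Q₁.subtype Q₂.subtype

theorem emb_injective (Q₁ : Subgroup Ω₁) (Q₂ : Subgroup Ω₂) : Function.Injective (emb Q₁ Q₂) := by
  intro a b h
  have h1 := congrArg Prod.fst h
  have h2 := congrArg Prod.snd h
  exact Prod.ext (Subtype.ext h1) (Subtype.ext h2)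

theorem range_emb (Q₁ : Subgroup Ω₁) (Q₂ : Subgroup Ω₂) : (emb Q₁ Q₂).range = Q₁.prod Q₂ := by
  ext y
  constructor
  · rintro ⟨x, rfl⟩
    exact ⟨x.1.2, x.2.2⟩
  · rintro ⟨h1, h2⟩
    exact ⟨(⟨y.1, h1⟩, ⟨y.2, h2⟩), rfl⟩

theorem map_emb_le {Q₁ : Subgroup Ω₁} {Q₂ : Subgroup Ω₂} (H : Subgroup (↥Q₁ × ↥Q₂)) :
    H.map (emb Q₁ Q₂) ≤ Q₁.prod Q₂ := by
  rintro _ ⟨x, -, rfl⟩
  exact ⟨x.1.2, x.2.2⟩

theorem map_emb_fst_le {Q₁ : Subgroup Ω₁} {Q₂ : Subgroup Ω₂} (H : Subgroup (↥Q₁ × ↥Q₂)) :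
    (H.map (emb Q₁ Q₂)).map (MonoidHom.fst Ω₁ Ω₂) ≤ Q₁ := by
  rintro _ ⟨_, ⟨x, -, rfl⟩, rfl⟩
  exact x.1.2

theorem map_emb_snd_le {Q₁ : Subgroup Ω₁} {Q₂ : Subgroup Ω₂} (H : Subgroup (↥Q₁ × ↥Q₂)) :
    (H.map (emb Q₁ Q₂)).map (MonoidHom.snd Ω₁ Ω₂) ≤ Q₂ := by
  rintro _ ⟨_, ⟨x, -, rfl⟩, rfl⟩
  exact x.2.2

/-- A pair of automorphisms acts on the external product. -/
def prodAut (Q₁ : Subgroup Ω₁) (Q₂ : Subgroup Ω₂) :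
    MulAut Q₁ × MulAut Q₂ →* MulAut (↥Q₁ × ↥Q₂) where
  toFun a := MulEquiv.prodCongr a.1 a.2
  map_one' := by ext x <;> rfl
  map_mul' a b := by ext x <;> rfl

/-- The action of pairs of automorphisms on the subgroups of the external product. -/
@[reducible] def subgroupAction {Q₁ : Subgroup Ω₁} {Q₂ : Subgroup Ω₂} :
    MulAction (MulAut Q₁ × MulAut Q₂) (Subgroup (↥Q₁ × ↥Q₂)) where
  smul a H := H.map (prodAut Q₁ Q₂ a).toMonoidHom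
  one_smul H := by
    show H.map (prodAut Q₁ Q₂ 1).toMonoidHom = H
    rw [map_one]; exact Subgroup.map_id H
  mul_smul a b H := by
    show H.map (prodAut Q₁ Q₂ (a * b)).toMonoidHom =
      (H.map (prodAut Q₁ Q₂ b).toMonoidHom).map (prodAut Q₁ Q₂ a).toMonoidHom
    rw [Subgroup.map_map, map_mul]; rfl

attribute [local instance] subgroupAction

variable {Q₁ : Subgroup Ω₁} {Q₂ : Subgroup Ω₂}

/-- The map of the product system induced on (the image of) `H` by a pair of automorphisms. -/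
def actHom (H : Subgroup (↥Q₁ × ↥Q₂)) (a : MulAut Q₁ × MulAut Q₂) :
    ↥(H.map (emb Q₁ Q₂)) →* Ω₁ × Ω₂ :=
  prodRes (H.map (emb Q₁ Q₂)) (map_emb_fst_le H) (map_emb_snd_le H)
    (Q₁.subtype.comp a.1.toMonoidHom) (Q₂.subtype.comp a.2.toMonoidHom)

theorem actHom_apply (H : Subgroup (↥Q₁ × ↥Q₂)) (a : MulAut Q₁ × MulAut Q₂)
    (x : ↥(H.map (emb Q₁ Q₂))) :
    actHom H a x = (((a.1 ⟨(x : Ω₁ × Ω₂).1, map_emb_fst_le H ⟨x, x.2, rfl⟩⟩ : Q₁) : Ω₁),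
      ((a.2 ⟨(x : Ω₁ × Ω₂).2, map_emb_snd_le H ⟨x, x.2, rfl⟩⟩ : Q₂) : Ω₂)) := rfl

theorem actHom_emb (H : Subgroup (↥Q₁ × ↥Q₂)) (a : MulAut Q₁ × MulAut Q₂)
    (y : ↥Q₁ × ↥Q₂) (hy : y ∈ H) :
    actHom H a ⟨emb Q₁ Q₂ y, Subgroup.mem_map_of_mem _ hy⟩ = emb Q₁ Q₂ (prodAut Q₁ Q₂ a y) := rfl

theorem actHom_range (H : Subgroup (↥Q₁ × ↥Q₂)) (a : MulAut Q₁ × MulAut Q₂) :
    (actHom H a).range = (a • H).map (emb Q₁ Q₂) := by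
  ext z
  constructor
  · rintro ⟨⟨_, y, hy, rfl⟩, rfl⟩
    exact ⟨prodAut Q₁ Q₂ a y, ⟨y, hy, rfl⟩, (actHom_emb H a y hy).symm⟩
  · rintro ⟨_, ⟨y, hy, rfl⟩, rfl⟩
    exact ⟨⟨emb Q₁ Q₂ y, Subgroup.mem_map_of_mem _ hy⟩, actHom_emb H a y hy⟩

variable {S₁ : Subgroup Ω₁} {S₂ : Subgroup Ω₂} {F₁ : FusionSystem S₁} {F₂ : FusionSystem S₂}
  {E : FusionSystem (S₁.prod S₂)}

theorem map_emb_le_prod (hQ₁ : Q₁ ≤ S₁) (hQ₂ : Q₂ ≤ S₂) (H : Subgroup (↥Q₁ × ↥Q₂)) :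
    H.map (emb Q₁ Q₂) ≤ S₁.prod S₂ :=
  (map_emb_le H).trans (Subgroup.prod_mono hQ₁ hQ₂)

theorem actHom_mem (hE : IsProductSystem F₁ F₂ E) (hQ₁ : Q₁ ≤ S₁) (hQ₂ : Q₂ ≤ S₂)
    (H : Subgroup (↥Q₁ × ↥Q₂)) {a : MulAut Q₁ × MulAut Q₂} (ha₁ : a.1 ∈ F₁.autGroup Q₁)
    (ha₂ : a.2 ∈ F₂.autGroup Q₂) : actHom H a ∈ E.Hom (H.map (emb Q₁ Q₂)) :=
  prodRes_mem hE (map_emb_le_prod hQ₁ hQ₂ H) _ _ ((mem_autGroup_iff F₁ hQ₁ a.1).mp ha₁)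
    ((mem_autGroup_iff F₂ hQ₂ a.2).mp ha₂)

theorem isConj_smul (hE : IsProductSystem F₁ F₂ E) (hQ₁ : Q₁ ≤ S₁) (hQ₂ : Q₂ ≤ S₂)
    (H : Subgroup (↥Q₁ × ↥Q₂)) {a : MulAut Q₁ × MulAut Q₂} (ha₁ : a.1 ∈ F₁.autGroup Q₁)
    (ha₂ : a.2 ∈ F₂.autGroup Q₂) :
    E.IsConj (H.map (emb Q₁ Q₂)) ((a • H).map (emb Q₁ Q₂)) :=
  ⟨actHom H a, actHom_mem hE hQ₁ hQ₂ H ha₁ ha₂, actHom_range H a⟩

/-- `α` is the restriction to (the image of) `H` of the pair `a`. -/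
def Rel (H : Subgroup (↥Q₁ × ↥Q₂)) (a : MulAut Q₁ × MulAut Q₂)
    (α : MulAut ↥(H.map (emb Q₁ Q₂))) : Prop :=
  ∀ x : ↥(H.map (emb Q₁ Q₂)), ((α x : ↥(H.map (emb Q₁ Q₂))) : Ω₁ × Ω₂) = actHom H a x

theorem rel_one (H : Subgroup (↥Q₁ × ↥Q₂)) : Rel H 1 1 := fun _ => rfl

theorem rel_mul {H : Subgroup (↥Q₁ × ↥Q₂)} {a b : MulAut Q₁ × MulAut Q₂}
    {α β : MulAut ↥(H.map (emb Q₁ Q₂))} (hα : Rel H a α) (hβ : Rel H b β) :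
    Rel H (a * b) (α * β) := by
  intro x
  have hb := hβ x
  have ha := hα (β x)
  rw [actHom_apply] at hb ha
  have e1 : (⟨((β x : ↥(H.map (emb Q₁ Q₂))) : Ω₁ × Ω₂).1,
      map_emb_fst_le H ⟨β x, (β x).2, rfl⟩⟩ : Q₁) =
      b.1 ⟨(x : Ω₁ × Ω₂).1, map_emb_fst_le H ⟨x, x.2, rfl⟩⟩ :=
    Subtype.ext (congrArg Prod.fst hb)
  have e2 : (⟨((β x : ↥(H.map (emb Q₁ Q₂))) : Ω₁ × Ω₂).2,
      map_emb_snd_le H ⟨β x, (β x).2, rfl⟩⟩ : Q₂) =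
      b.2 ⟨(x : Ω₁ × Ω₂).2, map_emb_snd_le H ⟨x, x.2, rfl⟩⟩ :=
    Subtype.ext (congrArg Prod.snd hb)
  rw [e1, e2] at ha
  show ((α (β x) : ↥(H.map (emb Q₁ Q₂))) : Ω₁ × Ω₂) = _
  rw [ha]
  rfl

theorem rel_inv {H : Subgroup (↥Q₁ × ↥Q₂)} {a : MulAut Q₁ × MulAut Q₂}
    {α : MulAut ↥(H.map (emb Q₁ Q₂))} (hα : Rel H a α) : Rel H a⁻¹ α⁻¹ := by
  intro x
  have ha := hα (α⁻¹ x)
  rw [MulAut.apply_inv_self, actHom_apply] at ha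
  have e1 : (⟨(x : Ω₁ × Ω₂).1, map_emb_fst_le H ⟨x, x.2, rfl⟩⟩ : Q₁) =
      a.1 ⟨((α⁻¹ x : ↥(H.map (emb Q₁ Q₂))) : Ω₁ × Ω₂).1,
        map_emb_fst_le H ⟨α⁻¹ x, (α⁻¹ x).2, rfl⟩⟩ :=
    Subtype.ext (congrArg Prod.fst ha)
  have e2 : (⟨(x : Ω₁ × Ω₂).2, map_emb_snd_le H ⟨x, x.2, rfl⟩⟩ : Q₂) =
      a.2 ⟨((α⁻¹ x : ↥(H.map (emb Q₁ Q₂))) : Ω₁ × Ω₂).2,
        map_emb_snd_le H ⟨α⁻¹ x, (α⁻¹ x).2, rfl⟩⟩ :=
    Subtype.ext (congrArg Prod.snd ha)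
  rw [actHom_apply, e1, e2]
  show _ = ((((a.1)⁻¹ (a.1 _) : Q₁) : Ω₁), (((a.2)⁻¹ (a.2 _) : Q₂) : Ω₂))
  rw [MulAut.inv_apply_self, MulAut.inv_apply_self]

theorem rel_pow {H : Subgroup (↥Q₁ × ↥Q₂)} {a : MulAut Q₁ × MulAut Q₂}
    {α : MulAut ↥(H.map (emb Q₁ Q₂))} (hα : Rel H a α) (n : ℕ) : Rel H (a ^ n) (α ^ n) := by
  induction n with
  | zero => rw [pow_zero, pow_zero]; exact rel_one H
  | succ n ih => rw [pow_succ, pow_succ]; exact rel_mul ih hα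

/-- The pair is determined by the restriction when `H` projects onto both factors. -/
theorem rel_unique {H : Subgroup (↥Q₁ × ↥Q₂)}
    (hf₁ : (H.map (emb Q₁ Q₂)).map (MonoidHom.fst Ω₁ Ω₂) = Q₁)
    (hf₂ : (H.map (emb Q₁ Q₂)).map (MonoidHom.snd Ω₁ Ω₂) = Q₂)
    {a b : MulAut Q₁ × MulAut Q₂}
    {α : MulAut ↥(H.map (emb Q₁ Q₂))} (ha : Rel H a α) (hb : Rel H b α) : a = b := by
  apply Prod.ext
  · ext y
    have hy : (y : Ω₁) ∈ (H.map (emb Q₁ Q₂)).map (MonoidHom.fst Ω₁ Ω₂) := by rw [hf₁]; exact y.2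
    obtain ⟨x, hx, hxy⟩ := hy
    have h1 := congrArg Prod.fst ((ha ⟨x, hx⟩).symm.trans (hb ⟨x, hx⟩))
    rw [actHom_apply, actHom_apply] at h1
    have e : (⟨((⟨x, hx⟩ : ↥(H.map (emb Q₁ Q₂))) : Ω₁ × Ω₂).1,
        map_emb_fst_le H ⟨x, hx, rfl⟩⟩ : Q₁) = y := Subtype.ext hxy
    rw [e] at h1
    exact h1
  · ext y
    have hy : (y : Ω₂) ∈ (H.map (emb Q₁ Q₂)).map (MonoidHom.snd Ω₁ Ω₂) := by rw [hf₂]; exact y.2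
    obtain ⟨x, hx, hxy⟩ := hy
    have h1 := congrArg Prod.snd ((ha ⟨x, hx⟩).symm.trans (hb ⟨x, hx⟩))
    rw [actHom_apply, actHom_apply] at h1
    have e : (⟨((⟨x, hx⟩ : ↥(H.map (emb Q₁ Q₂))) : Ω₁ × Ω₂).2,
        map_emb_snd_le H ⟨x, hx, rfl⟩⟩ : Q₂) = y := Subtype.ext hxy
    rw [e] at h1
    exact h1


/-- (I) A pair of automorphisms of the factor systems stabilizing `H` restricts to an automorphism of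
the product system. -/
theorem exists_rel_of_mem_stabilizer (hE : IsProductSystem F₁ F₂ E) (hQ₁ : Q₁ ≤ S₁) (hQ₂ : Q₂ ≤ S₂)
    (H : Subgroup (↥Q₁ × ↥Q₂)) {a : MulAut Q₁ × MulAut Q₂} (ha₁ : a.1 ∈ F₁.autGroup Q₁)
    (ha₂ : a.2 ∈ F₂.autGroup Q₂) (hst : a ∈ MulAction.stabilizer (MulAut Q₁ × MulAut Q₂) H) :
    ∃ α ∈ E.autGroup (H.map (emb Q₁ Q₂)), Rel H a α := by
  have hr : (actHom H a).range = H.map (emb Q₁ Q₂) := by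
    rw [actHom_range, MulAction.mem_stabilizer_iff.mp hst]
  obtain ⟨α, hα, hαx⟩ := exists_aut_of_range_eq E (actHom_mem hE hQ₁ hQ₂ H ha₁ ha₂) hr
  exact ⟨α, hα, hαx⟩

/-- (II) Every automorphism of the product system on (the image of) `H` is the restriction of a pair
of automorphisms of the factor systems stabilizing `H`. -/
theorem exists_rel_of_mem_autGroup (hE : IsProductSystem F₁ F₂ E) (hQ₁ : Q₁ ≤ S₁) (hQ₂ : Q₂ ≤ S₂)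
    {H : Subgroup (↥Q₁ × ↥Q₂)}
    (hf₁ : (H.map (emb Q₁ Q₂)).map (MonoidHom.fst Ω₁ Ω₂) = Q₁)
    (hf₂ : (H.map (emb Q₁ Q₂)).map (MonoidHom.snd Ω₁ Ω₂) = Q₂)
    {α : MulAut ↥(H.map (emb Q₁ Q₂))} (hα : α ∈ E.autGroup (H.map (emb Q₁ Q₂))) :
    ∃ a : MulAut Q₁ × MulAut Q₂, a.1 ∈ F₁.autGroup Q₁ ∧ a.2 ∈ F₂.autGroup Q₂ ∧
      a ∈ MulAction.stabilizer (MulAut Q₁ × MulAut Q₂) H ∧ Rel H a α := by
  have hQ := map_emb_le_prod hQ₁ hQ₂ H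
  have hαE := (mem_autGroup_iff E hQ α).mp hα
  obtain ⟨φ₁, hφ₁, φ₂, hφ₂, heq⟩ := exists_of_mem hE hαE
  have hαx : ∀ x : ↥(H.map (emb Q₁ Q₂)), ((α x : ↥(H.map (emb Q₁ Q₂))) : Ω₁ × Ω₂) =
      (φ₁ ⟨(x : Ω₁ × Ω₂).1, ⟨x, x.2, rfl⟩⟩, φ₂ ⟨(x : Ω₁ × Ω₂).2, ⟨x, x.2, rfl⟩⟩) := by
    intro x
    have := congrArg (fun f => f x) heq
    exact this
  -- transport the components to `Q₁`, `Q₂`
  have hφ₁' := cast_mem F₁ hf₁.symm hφ₁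
  have hφ₂' := cast_mem F₂ hf₂.symm hφ₂
  have hr₁ : (φ₁.comp (Subgroup.inclusion hf₁.symm.le)).range = Q₁ := by
    ext z
    constructor
    · rintro ⟨y, rfl⟩
      have hy : (y : Ω₁) ∈ (H.map (emb Q₁ Q₂)).map (MonoidHom.fst Ω₁ Ω₂) := by
        rw [hf₁]; exact y.2
      obtain ⟨x, hx, hxy⟩ := hy
      have h1 := congrArg Prod.fst (hαx ⟨x, hx⟩)
      have h2 : ((α ⟨x, hx⟩ : ↥(H.map (emb Q₁ Q₂))) : Ω₁ × Ω₂).1 ∈ Q₁ :=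
        map_emb_fst_le H ⟨_, (α ⟨x, hx⟩).2, rfl⟩
      have e : (Subgroup.inclusion hf₁.symm.le y :
          ↥((H.map (emb Q₁ Q₂)).map (MonoidHom.fst Ω₁ Ω₂))) =
          ⟨x.1, ⟨x, hx, rfl⟩⟩ := Subtype.ext hxy.symm
      show φ₁ (Subgroup.inclusion hf₁.symm.le y) ∈ Q₁
      rw [e]
      rw [h1] at h2
      exact h2
    · intro hz
      have hz' : z ∈ (H.map (emb Q₁ Q₂)).map (MonoidHom.fst Ω₁ Ω₂) := by rw [hf₁]; exact hz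
      obtain ⟨x, hx, rfl⟩ := hz'
      obtain ⟨x', hx'⟩ := α.surjective ⟨x, hx⟩
      have h1 := congrArg Prod.fst (hαx x')
      rw [hx'] at h1
      refine ⟨⟨(x' : Ω₁ × Ω₂).1, map_emb_fst_le H ⟨x', x'.2, rfl⟩⟩, ?_⟩
      exact h1.symm
  have hr₂ : (φ₂.comp (Subgroup.inclusion hf₂.symm.le)).range = Q₂ := by
    ext z
    constructor
    · rintro ⟨y, rfl⟩
      have hy : (y : Ω₂) ∈ (H.map (emb Q₁ Q₂)).map (MonoidHom.snd Ω₁ Ω₂) := by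
        rw [hf₂]; exact y.2
      obtain ⟨x, hx, hxy⟩ := hy
      have h1 := congrArg Prod.snd (hαx ⟨x, hx⟩)
      have h2 : ((α ⟨x, hx⟩ : ↥(H.map (emb Q₁ Q₂))) : Ω₁ × Ω₂).2 ∈ Q₂ :=
        map_emb_snd_le H ⟨_, (α ⟨x, hx⟩).2, rfl⟩
      have e : (Subgroup.inclusion hf₂.symm.le y :
          ↥((H.map (emb Q₁ Q₂)).map (MonoidHom.snd Ω₁ Ω₂))) =
          ⟨x.2, ⟨x, hx, rfl⟩⟩ := Subtype.ext hxy.symm
      show φ₂ (Subgroup.inclusion hf₂.symm.le y) ∈ Q₂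
      rw [e]
      rw [h1] at h2
      exact h2
    · intro hz
      have hz' : z ∈ (H.map (emb Q₁ Q₂)).map (MonoidHom.snd Ω₁ Ω₂) := by rw [hf₂]; exact hz
      obtain ⟨x, hx, rfl⟩ := hz'
      obtain ⟨x', hx'⟩ := α.surjective ⟨x, hx⟩
      have h1 := congrArg Prod.snd (hαx x')
      rw [hx'] at h1
      refine ⟨⟨(x' : Ω₁ × Ω₂).2, map_emb_snd_le H ⟨x', x'.2, rfl⟩⟩, ?_⟩
      exact h1.symm
  obtain ⟨a₁, ha₁, ha₁x⟩ := exists_aut_of_range_eq F₁ hφ₁' hr₁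
  obtain ⟨a₂, ha₂, ha₂x⟩ := exists_aut_of_range_eq F₂ hφ₂' hr₂
  have hrel : Rel H (a₁, a₂) α := by
    intro x
    rw [hαx x, actHom_apply]
    apply Prod.ext
    · exact (ha₁x ⟨(x : Ω₁ × Ω₂).1, map_emb_fst_le H ⟨x, x.2, rfl⟩⟩).symm
    · exact (ha₂x ⟨(x : Ω₁ × Ω₂).2, map_emb_snd_le H ⟨x, x.2, rfl⟩⟩).symm
  refine ⟨(a₁, a₂), ha₁, ha₂, ?_, hrel⟩
  rw [MulAction.mem_stabilizer_iff]
  apply Subgroup.map_injective (emb_injective Q₁ Q₂)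
  rw [← actHom_range]
  ext z
  constructor
  · rintro ⟨x, rfl⟩
    rw [← hrel x]
    exact (α x).2
  · intro hz
    obtain ⟨x', hx'⟩ := α.surjective ⟨z, hz⟩
    refine ⟨x', ?_⟩
    rw [← hrel x', hx']

/-- A restriction of a pair of automorphisms induced by the Sylow groups is induced by the Sylow group
of the product. -/
theorem rel_mem_autInducedBy {H : Subgroup (↥Q₁ × ↥Q₂)} {a : MulAut Q₁ × MulAut Q₂}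
    {α : MulAut ↥(H.map (emb Q₁ Q₂))} (h : Rel H a α) (ha₁ : a.1 ∈ autInducedBy S₁ Q₁)
    (ha₂ : a.2 ∈ autInducedBy S₂ Q₂) : α ∈ autInducedBy (S₁.prod S₂) (H.map (emb Q₁ Q₂)) := by
  obtain ⟨s₁, hs₁, hs₁x⟩ := (mem_autInducedBy_iff S₁ Q₁ a.1).mp ha₁
  obtain ⟨s₂, hs₂, hs₂x⟩ := (mem_autInducedBy_iff S₂ Q₂ a.2).mp ha₂
  rw [mem_autInducedBy_iff]
  refine ⟨(s₁, s₂), ⟨hs₁, hs₂⟩, fun x => ?_⟩
  rw [h x, actHom_apply]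
  exact Prod.ext (hs₁x _) (hs₂x _)

theorem isPGroup_prod {p : ℕ} (h₁ : IsPGroup p S₁) (h₂ : IsPGroup p S₂) :
    IsPGroup p ↥(S₁.prod S₂) := by
  rintro ⟨x, hx₁, hx₂⟩
  obtain ⟨k₁, hk₁⟩ := h₁ ⟨x.1, hx₁⟩
  obtain ⟨k₂, hk₂⟩ := h₂ ⟨x.2, hx₂⟩
  have e₁ : x.1 ^ p ^ k₁ = 1 := by simpa using congrArg Subtype.val hk₁
  have e₂ : x.2 ^ p ^ k₂ = 1 := by simpa using congrArg Subtype.val hk₂
  refine ⟨k₁ + k₂, Subtype.ext ?_⟩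
  show x ^ p ^ (k₁ + k₂) = 1
  apply Prod.ext
  · show x.1 ^ p ^ (k₁ + k₂) = 1
    rw [pow_add, pow_mul, e₁, one_pow]
  · show x.2 ^ p ^ (k₁ + k₂) = 1
    rw [pow_add, mul_comm, pow_mul, e₂, one_pow]

/-- (P5) The maximality property forces the image of `H` to be fully automized. -/
theorem isFullyAutomized_of_max {p : ℕ} [Fact p.Prime] (hE : IsProductSystem F₁ F₂ E)
    (hS₁ : IsPGroup p S₁) (hS₂ : IsPGroup p S₂) (hQ₁ : Q₁ ≤ S₁) (hQ₂ : Q₂ ≤ S₂)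
    {H : Subgroup (↥Q₁ × ↥Q₂)}
    (hf₁ : (H.map (emb Q₁ Q₂)).map (MonoidHom.fst Ω₁ Ω₂) = Q₁)
    (hf₂ : (H.map (emb Q₁ Q₂)).map (MonoidHom.snd Ω₁ Ω₂) = Q₂)
    (hmax : ∀ R : Subgroup (MulAut Q₁ × MulAut Q₂), IsPGroup p R →
      R ≤ (F₁.autGroup Q₁).prod (F₂.autGroup Q₂) →
      R ≤ MulAction.stabilizer (MulAut Q₁ × MulAut Q₂) H →
      (autInducedBy S₁ Q₁).prod (autInducedBy S₂ Q₂) ⊓
        MulAction.stabilizer (MulAut Q₁ × MulAut Q₂) H ≤ R →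
      R ≤ (autInducedBy S₁ Q₁).prod (autInducedBy S₂ Q₂)) :
    E.IsFullyAutomized p (H.map (emb Q₁ Q₂)) := by
  have hQ := map_emb_le_prod hQ₁ hQ₂ H
  refine ⟨hQ, ?_⟩
  rw [sylow_subgroupOf_iff _ _ (autInducedBy_le_autGroup E hQ)]
  refine ⟨isPGroup_autInducedBy (isPGroup_prod hS₁ hS₂) _, fun C hC hBC hCG => ?_⟩
  refine le_antisymm ?_ hBC
  -- the pairs restricting to elements of `C`
  let R : Subgroup (MulAut Q₁ × MulAut Q₂) :=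
    { carrier := {a | a.1 ∈ F₁.autGroup Q₁ ∧ a.2 ∈ F₂.autGroup Q₂ ∧
        a ∈ MulAction.stabilizer (MulAut Q₁ × MulAut Q₂) H ∧ ∃ α ∈ C, Rel H a α}
      mul_mem' := by
        rintro a b ⟨ha₁, ha₂, hast, α, hα, hαr⟩ ⟨hb₁, hb₂, hbst, β, hβ, hβr⟩
        exact ⟨Subgroup.mul_mem _ ha₁ hb₁, Subgroup.mul_mem _ ha₂ hb₂, Subgroup.mul_mem _ hast hbst,
          α * β, C.mul_mem hα hβ, rel_mul hαr hβr⟩
      one_mem' := ⟨Subgroup.one_mem _, Subgroup.one_mem _, Subgroup.one_mem _, 1, C.one_mem,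
        rel_one H⟩
      inv_mem' := by
        rintro a ⟨ha₁, ha₂, hast, α, hα, hαr⟩
        exact ⟨Subgroup.inv_mem _ ha₁, Subgroup.inv_mem _ ha₂, Subgroup.inv_mem _ hast,
          α⁻¹, C.inv_mem hα, rel_inv hαr⟩ }
  have hRp : IsPGroup p R := by
    rintro ⟨a, ha₁, ha₂, hast, α, hα, hαr⟩
    obtain ⟨k, hk⟩ := hC ⟨α, hα⟩
    have hk' : α ^ p ^ k = 1 := by simpa using congrArg Subtype.val hk
    refine ⟨k, Subtype.ext ?_⟩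
    show a ^ p ^ k = 1
    have h1 := rel_pow hαr (p ^ k)
    rw [hk'] at h1
    exact rel_unique hf₁ hf₂ h1 (rel_one H)
  have hRA : R ≤ (F₁.autGroup Q₁).prod (F₂.autGroup Q₂) := fun a ha => ⟨ha.1, ha.2.1⟩
  have hRst : R ≤ MulAction.stabilizer (MulAut Q₁ × MulAut Q₂) H := fun a ha => ha.2.2.1
  have hTR : (autInducedBy S₁ Q₁).prod (autInducedBy S₂ Q₂) ⊓
      MulAction.stabilizer (MulAut Q₁ × MulAut Q₂) H ≤ R := by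
    rintro a ⟨⟨ha₁, ha₂⟩, hast⟩
    have ha₁' := autInducedBy_le_autGroup F₁ hQ₁ ha₁
    have ha₂' := autInducedBy_le_autGroup F₂ hQ₂ ha₂
    obtain ⟨α, -, hαr⟩ := exists_rel_of_mem_stabilizer hE hQ₁ hQ₂ H ha₁' ha₂' hast
    exact ⟨ha₁', ha₂', hast, α, hBC (rel_mem_autInducedBy hαr ha₁ ha₂), hαr⟩
  have hRT := hmax R hRp hRA hRst hTR
  intro α hα
  obtain ⟨a, ha₁, ha₂, hast, hαr⟩ := exists_rel_of_mem_autGroup hE hQ₁ hQ₂ hf₁ hf₂ (hCG hα)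
  have haR : a ∈ R := ⟨ha₁, ha₂, hast, α, hα, hαr⟩
  obtain ⟨hT₁, hT₂⟩ := hRT haR
  exact rel_mem_autInducedBy hαr hT₁ hT₂


/-- Projections of a translate. -/
theorem map_fst_smul {H : Subgroup (↥Q₁ × ↥Q₂)} (a : MulAut Q₁ × MulAut Q₂)
    (hf₁ : (H.map (emb Q₁ Q₂)).map (MonoidHom.fst Ω₁ Ω₂) = Q₁) :
    ((a • H).map (emb Q₁ Q₂)).map (MonoidHom.fst Ω₁ Ω₂) = Q₁ := by
  refine le_antisymm (map_emb_fst_le _) ?_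
  intro z hz
  have hy : ((a.1⁻¹ ⟨z, hz⟩ : Q₁) : Ω₁) ∈ (H.map (emb Q₁ Q₂)).map (MonoidHom.fst Ω₁ Ω₂) := by
    rw [hf₁]; exact (a.1⁻¹ ⟨z, hz⟩).2
  obtain ⟨_, ⟨y, hy', rfl⟩, hxy⟩ := hy
  refine ⟨emb Q₁ Q₂ (prodAut Q₁ Q₂ a y), ⟨prodAut Q₁ Q₂ a y, ⟨y, hy', rfl⟩, rfl⟩, ?_⟩
  have e : y.1 = a.1⁻¹ ⟨z, hz⟩ := Subtype.ext hxy
  show ((a.1 y.1 : Q₁) : Ω₁) = z
  rw [e, MulAut.apply_inv_self]

theorem map_snd_smul {H : Subgroup (↥Q₁ × ↥Q₂)} (a : MulAut Q₁ × MulAut Q₂)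
    (hf₂ : (H.map (emb Q₁ Q₂)).map (MonoidHom.snd Ω₁ Ω₂) = Q₂) :
    ((a • H).map (emb Q₁ Q₂)).map (MonoidHom.snd Ω₁ Ω₂) = Q₂ := by
  refine le_antisymm (map_emb_snd_le _) ?_
  intro z hz
  have hy : ((a.2⁻¹ ⟨z, hz⟩ : Q₂) : Ω₂) ∈ (H.map (emb Q₁ Q₂)).map (MonoidHom.snd Ω₁ Ω₂) := by
    rw [hf₂]; exact (a.2⁻¹ ⟨z, hz⟩).2
  obtain ⟨_, ⟨y, hy', rfl⟩, hxy⟩ := hy
  refine ⟨emb Q₁ Q₂ (prodAut Q₁ Q₂ a y), ⟨prodAut Q₁ Q₂ a y, ⟨y, hy', rfl⟩, rfl⟩, ?_⟩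
  have e : y.2 = a.2⁻¹ ⟨z, hz⟩ := Subtype.ext hxy
  show ((a.2 y.2 : Q₂) : Ω₂) = z
  rw [e, MulAut.apply_inv_self]

/-- The direct product of two saturated fusion systems is saturated. -/
theorem isSaturated_of_isProductSystem [Finite S₁] [Finite S₂] (p : ℕ) [Fact p.Prime]
    (hS₁ : IsPGroup p S₁) (hS₂ : IsPGroup p S₂) (hF₁ : F₁.IsSaturated p) (hF₂ : F₂.IsSaturated p)
    (hE : IsProductSystem F₁ F₂ E) : E.IsSaturated p := by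
  intro P hP
  have hP₁ : P.map (MonoidHom.fst Ω₁ Ω₂) ≤ S₁ := by
    rintro _ ⟨x, hx, rfl⟩; exact (hP hx).1
  have hP₂ : P.map (MonoidHom.snd Ω₁ Ω₂) ≤ S₂ := by
    rintro _ ⟨x, hx, rfl⟩; exact (hP hx).2
  obtain ⟨Q₁, ⟨φ₁, hφ₁, hr₁⟩, ⟨hQ₁, hfa₁⟩, hrec₁⟩ := hF₁ _ hP₁
  obtain ⟨Q₂, ⟨φ₂, hφ₂, hr₂⟩, ⟨hQ₂, hfa₂⟩, hrec₂⟩ := hF₂ _ hP₂
  rw [sylow_subgroupOf_iff _ _ (autInducedBy_le_autGroup F₁ hQ₁)] at hfa₁
  rw [sylow_subgroupOf_iff _ _ (autInducedBy_le_autGroup F₂ hQ₂)] at hfa₂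
  obtain ⟨hT₁p, hT₁max⟩ := hfa₁
  obtain ⟨hT₂p, hT₂max⟩ := hfa₂
  haveI : Finite ↥(F₁.autGroup Q₁) := finite_autGroup F₁ hQ₁
  haveI : Finite ↥(F₂.autGroup Q₂) := finite_autGroup F₂ hQ₂
  haveI : Finite ↥((F₁.autGroup Q₁).prod (F₂.autGroup Q₂)) :=
    Finite.of_equiv _ (Subgroup.prodEquiv (F₁.autGroup Q₁) (F₂.autGroup Q₂)).symm.toEquiv
  -- the first conjugate
  set φ := prodRes P le_rfl le_rfl φ₁ φ₂ with hφdef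
  have hφ : φ ∈ E.Hom P := prodRes_mem hE hP _ _ hφ₁ hφ₂
  have hQ'le : φ.range ≤ Q₁.prod Q₂ := by
    rintro _ ⟨x, rfl⟩
    refine ⟨?_, ?_⟩
    · rw [← hr₁]; exact ⟨_, rfl⟩
    · rw [← hr₂]; exact ⟨_, rfl⟩
  set H' := φ.range.comap (emb Q₁ Q₂) with hH'def
  have hH' : H'.map (emb Q₁ Q₂) = φ.range :=
    Subgroup.map_comap_eq_self (by rw [range_emb]; exact hQ'le)
  have hf₁' : (H'.map (emb Q₁ Q₂)).map (MonoidHom.fst Ω₁ Ω₂) = Q₁ := by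
    rw [hH', ← hr₁]
    ext z
    constructor
    · rintro ⟨_, ⟨x, rfl⟩, rfl⟩
      exact ⟨_, rfl⟩
    · rintro ⟨⟨_, x, hx, rfl⟩, rfl⟩
      exact ⟨_, ⟨⟨x, hx⟩, rfl⟩, rfl⟩
  have hf₂' : (H'.map (emb Q₁ Q₂)).map (MonoidHom.snd Ω₁ Ω₂) = Q₂ := by
    rw [hH', ← hr₂]
    ext z
    constructor
    · rintro ⟨_, ⟨x, rfl⟩, rfl⟩
      exact ⟨_, rfl⟩
    · rintro ⟨⟨_, x, hx, rfl⟩, rfl⟩
      exact ⟨_, ⟨⟨x, hx⟩, rfl⟩, rfl⟩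
  -- conjugating p-subgroups into the product of the Sylow groups
  have hconj : ∀ R : Subgroup (MulAut Q₁ × MulAut Q₂), IsPGroup p R →
      R ≤ (F₁.autGroup Q₁).prod (F₂.autGroup Q₂) →
      ∃ g ∈ (F₁.autGroup Q₁).prod (F₂.autGroup Q₂), ∀ r ∈ R,
        g * r * g⁻¹ ∈ (autInducedBy S₁ Q₁).prod (autInducedBy S₂ Q₂) := by
    intro R hR hRA
    obtain ⟨g₁, hg₁, hg₁x⟩ := exists_conj_mem_of_maximal (F₁.autGroup Q₁) (autInducedBy S₁ Q₁)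
      (autInducedBy_le_autGroup F₁ hQ₁) hT₁p hT₁max
      (R.map (MonoidHom.fst (MulAut Q₁) (MulAut Q₂))) (hR.map _)
      (by rintro _ ⟨r, hr, rfl⟩; exact (hRA hr).1)
    obtain ⟨g₂, hg₂, hg₂x⟩ := exists_conj_mem_of_maximal (F₂.autGroup Q₂) (autInducedBy S₂ Q₂)
      (autInducedBy_le_autGroup F₂ hQ₂) hT₂p hT₂max
      (R.map (MonoidHom.snd (MulAut Q₁) (MulAut Q₂))) (hR.map _)
      (by rintro _ ⟨r, hr, rfl⟩; exact (hRA hr).2)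
    refine ⟨(g₁, g₂), ⟨hg₁, hg₂⟩, fun r hr => ⟨?_, ?_⟩⟩
    · exact hg₁x r.1 ⟨r, hr, rfl⟩
    · exact hg₂x r.2 ⟨r, hr, rfl⟩
  obtain ⟨g, hgA, hmax⟩ := exists_smul_max_stabilizer (p := p)
    ((F₁.autGroup Q₁).prod (F₂.autGroup Q₂)) ((autInducedBy S₁ Q₁).prod (autInducedBy S₂ Q₂))
    (Subgroup.prod_mono (autInducedBy_le_autGroup F₁ hQ₁) (autInducedBy_le_autGroup F₂ hQ₂))
    hconj H'
  have hf₁ := map_fst_smul g hf₁'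
  have hf₂ := map_snd_smul g hf₂'
  refine ⟨(g • H').map (emb Q₁ Q₂), ?_, ?_, ?_⟩
  · refine isConj_trans E ⟨φ, hφ, hH'.symm⟩ (isConj_smul hE hQ₁ hQ₂ H' hgA.1 hgA.2)
  · exact isFullyAutomized_of_max hE hS₁ hS₂ hQ₁ hQ₂ hf₁ hf₂ hmax
  · refine isReceptive_of_proj hE (map_emb_le_prod hQ₁ hQ₂ _) ?_ ?_
    · rw [hf₁]; exact hrec₁
    · rw [hf₂]; exact hrec₂

end Aut

end Cfsg.Agent.Lib.Helper89
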