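import Cfsg.Agent.S5255
import Cfsg.Agent.Lib.Helper89.FusionConj
import Cfsg.Agent.Lib.Helper90.FusionNormal

set_option autoImplicit false

namespace Cfsg.Agent.Lib.Helper89

open Cfsg Cfsg.FusionSystem
open scoped Pointwise

variable {Ω : Type*} [Group Ω] {S : Subgroup Ω}

/-- `φ` is equivariant for `θ : S →* Γ` up to conjugation in `Γ`. -/
def ConjGood {Γ : Type*} [Group Γ] (θ : S →* Γ) {P : Subgroup Ω} (φ : P →* Ω) : Prop :=
  ∃ γ : Γ, ∀ (x : P) (hx : (x : Ω) ∈ S) (hφ : φ x ∈ S), θ ⟨φ x, hφ⟩ = γ * θ ⟨x, hx⟩ * γ⁻¹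

/-- The maps of `F` that are `θ`-equivariant up to conjugation on all large enough subgroups. -/
def conjSystem [Finite S] (F : FusionSystem S) {Γ : Type*} [Group Γ] (θ : S →* Γ) (n : ℕ) :
    FusionSystem S where
  Hom P := {φ | φ ∈ F.Hom P ∧ (Nat.card S < Nat.card P + n → ConjGood θ φ)}
  le_of_mem h := F.le_of_mem h.1
  injective_of_mem h := F.injective_of_mem h.1
  conj_mem := by
    intro P g hP hg
    refine ⟨F.conj_mem hP hg, fun _ => ⟨θ ⟨g, hg⟩, fun x hx hφ => ?_⟩⟩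
    have : (⟨conjHom P g x, hφ⟩ : S) = ⟨g, hg⟩ * ⟨x, hx⟩ * ⟨g, hg⟩⁻¹ := Subtype.ext rfl
    rw [this, map_mul, map_mul, map_inv]
  comp_mem := by
    rintro P Q φ ψ ⟨hφ, hφG⟩ ⟨hψ, hψG⟩ h
    refine ⟨F.comp_mem hφ hψ h, fun hc => ?_⟩
    have hQ : Q ≤ S := Helper87.hom_le F hψ
    have : Finite Q := Helper87.finite_of_le hQ
    have hcard : Nat.card P ≤ Nat.card Q := by
      refine Nat.card_le_card_of_injective (φ.codRestrict Q h) ?_
      intro a b hab
      exact F.injective_of_mem hφ (congrArg Subtype.val hab)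
    have hc' : Nat.card S < Nat.card Q + n := by omega
    obtain ⟨γ₁, h₁⟩ := hφG hc
    obtain ⟨γ₂, h₂⟩ := hψG hc'
    refine ⟨γ₂ * γ₁, fun x hx hφx => ?_⟩
    have e1 := h₂ ⟨φ x, h x⟩ (Helper87.hom_mem F hφ x) hφx
    have e2 := h₁ x hx (Helper87.hom_mem F hφ x)
    show θ ⟨ψ ⟨φ x, h x⟩, _⟩ = _
    rw [e1, e2]
    group
  inv_mem := by
    rintro P φ ⟨hφ, hφG⟩
    obtain ⟨ψ, hψ, hψx⟩ := F.inv_mem hφ
    refine ⟨ψ, ⟨hψ, fun hc => ?_⟩, hψx⟩
    have hcard : Nat.card φ.range = Nat.card P :=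
      (Nat.card_congr (MonoidHom.ofInjective (F.injective_of_mem hφ)).toEquiv).symm
    rw [hcard] at hc
    obtain ⟨γ, hγ⟩ := hφG hc
    refine ⟨γ⁻¹, fun y hy hψy => ?_⟩
    obtain ⟨_, x, rfl⟩ := y
    have hx : (x : Ω) ∈ S := Helper87.hom_le F hφ x.2
    have e := hγ x hx hy
    have e2 : (⟨ψ ⟨φ x, ⟨x, rfl⟩⟩, hψy⟩ : S) = ⟨x, hx⟩ := Subtype.ext (hψx x)
    rw [e2, e]
    group

theorem autGroup_le_conjSystem [Finite S] (F : FusionSystem S) {Γ : Type*} [Group Γ] (θ : S →* Γ)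
    (n : ℕ) (R : Subgroup Ω)
    (h : Nat.card S < Nat.card R + n → ∀ α : MulAut R, R.subtype.comp α.toMonoidHom ∈ F.Hom R →
      ConjGood θ (R.subtype.comp α.toMonoidHom)) :
    F.autGroup R ≤ (conjSystem F θ n).autGroup R := by
  apply Subgroup.closure_mono
  intro α hα
  exact ⟨hα, fun hc => h hc α hα⟩

/-- Key step: an `F`-automorphism of a fully automized receptive `R` not containing the strongly closed
subgroup `T ≤ ker θ` is `θ`-equivariant up to conjugation, provided all `F`-maps on strictly larger subgroups are. -/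
theorem conjGood_of_not_le [Finite S] (p : ℕ) [Fact p.Prime] (hS : IsPGroup p S) (F : FusionSystem S)
    {T : Subgroup Ω} (hT : F.StronglyClosed T) {Γ : Type*} [Group Γ] (θ : S →* Γ)
    (hθT : ∀ (t : Ω) (ht : t ∈ T), θ ⟨t, hT.1 ht⟩ = 1)
    {R : Subgroup Ω} (hRS : R ≤ S) (hTR : ¬ T ≤ R)
    (hfa : F.IsFullyAutomized p R) (hrec : F.IsReceptive R)
    (ih : ∀ (X : Subgroup Ω) (ψ : X →* Ω), ψ ∈ F.Hom X → Nat.card R < Nat.card X → ConjGood θ ψ)
    (α : MulAut R) (hα : R.subtype.comp α.toMonoidHom ∈ F.Hom R) :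
    ConjGood θ (R.subtype.comp α.toMonoidHom) := by
  have : Finite R := Helper87.finite_of_le hRS
  obtain ⟨Sy, hSy⟩ := hfa.2
  have : (Cfsg.Agent.S5255.trivModT F T R).Normal := Cfsg.Agent.S5255.trivModT_normal F hT hRS
  have hTn := Cfsg.Agent.S5255.stronglyClosed_conj F hT
  let a : F.autGroup R := ⟨α, (Helper89.mem_autGroup_iff F hRS α).mpr hα⟩
  have : Finite (F.autGroup R) := by
    have : Finite (MulAut R) := inferInstance
    infer_instance
  obtain ⟨ν, hν, κ, hκ, haνκ⟩ := Helper90.exists_mul_of_normal Sy (Cfsg.Agent.S5255.trivModT F T R) a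
  -- an element of `N_T(R)` outside `R`
  obtain ⟨g₀, hg₀T, hg₀N, hg₀R⟩ := Helper90.exists_normalizer_not_mem hS hT.1 hRS hTn hTR
  let c₀ : MulAut R := Helper89.conjAut R g₀ hg₀N
  have hc₀S : c₀ ∈ autInducedBy S R := Helper89.conjAut_mem_autInducedBy (hT.1 hg₀T) hg₀N
  have hc₀A : c₀ ∈ F.autGroup R := Helper89.autInducedBy_le_autGroup F hRS hc₀S
  let c : F.autGroup R := ⟨c₀, hc₀A⟩
  have hcSy : c ∈ (Sy : Subgroup (F.autGroup R)) := by
    rw [hSy]; exact Subgroup.mem_subgroupOf.mpr hc₀S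
  have hcC : c ∈ Cfsg.Agent.S5255.trivModT F T R := by
    intro z
    show (z : Ω)⁻¹ * (g₀ * (z : Ω) * g₀⁻¹) ∈ T
    have h1 : (z : Ω)⁻¹ * g₀ * (z : Ω)⁻¹⁻¹ ∈ T := hTn _ (S.inv_mem (hRS z.2)) g₀ hg₀T
    have e : (z : Ω)⁻¹ * (g₀ * (z : Ω) * g₀⁻¹) = ((z : Ω)⁻¹ * g₀ * (z : Ω)⁻¹⁻¹) * g₀⁻¹ := by group
    rw [e]
    exact T.mul_mem h1 (T.inv_mem hg₀T)
  have hconj : ν * c * ν⁻¹ ∈ (Sy : Subgroup (F.autGroup R)) ⊓ Cfsg.Agent.S5255.trivModT F T R :=
    (Subgroup.mem_normalizer_iff.mp hν c).mp ⟨hcSy, hcC⟩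
  have hconjS : ((ν * c * ν⁻¹ : F.autGroup R) : MulAut R) ∈ autInducedBy S R := by
    have := hconj.1
    rw [hSy] at this
    exact Subgroup.mem_subgroupOf.mp this
  obtain ⟨h, hhS, hh⟩ := (Helper89.mem_autInducedBy_iff S R _).mp hconjS
  -- `ν` extends to its extender, which contains `g₀`
  set νhom : R →* Ω := R.subtype.comp (ν : MulAut R).toMonoidHom with hνhom
  have hνF : νhom ∈ F.Hom R := (Helper89.mem_autGroup_iff F hRS ν).mp ν.2
  have hg₀ext : g₀ ∈ extender S R νhom := by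
    rw [Helper87.mem_extender_iff]
    refine ⟨hT.1 hg₀T, hg₀N, h, hhS, fun z hz => ?_⟩
    have h1 := hh ((ν : MulAut R) z)
    have h2 : ((ν * c * ν⁻¹ : F.autGroup R) : MulAut R) ((ν : MulAut R) z) =
        (ν : MulAut R) (c₀ z) := by
      show (ν : MulAut R) (c₀ ((ν : MulAut R)⁻¹ ((ν : MulAut R) z))) = _
      rw [MulAut.inv_apply_self]
    rw [h2] at h1
    have h3 : c₀ z = ⟨g₀ * (z : Ω) * g₀⁻¹, hz⟩ := Subtype.ext rfl
    rw [h3] at h1
    exact h1
  have hνrange : νhom.range = R :=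
    Helper90.range_eq_of_forall_mem F hνF (fun z => ((ν : MulAut R) z).2)
  obtain ⟨ψ, hψ, hψext⟩ := hrec.2 R νhom hνF hνrange
  have hRle : R ≤ extender S R νhom := Helper87.le_extender hRS (Helper87.hom_mem F hνF)
  have hXS : extender S R νhom ≤ S :=
    (Helper87.extender_le S R νhom).trans (Helper87.normalizerIn_le S R)
  have : Finite (extender S R νhom) := Helper87.finite_of_le hXS
  have hlt : Nat.card R < Nat.card (extender S R νhom) := by
    by_contra hcon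
    have := Subgroup.eq_of_le_of_card_ge hRle (not_lt.mp hcon)
    apply hg₀R
    rw [this]; exact hg₀ext
  obtain ⟨γ, hγ⟩ := ih _ ψ hψ hlt
  refine ⟨γ, fun x hx hαx => ?_⟩
  -- `α x = ν (κ x)` and `κ x = x * t` with `t ∈ T`
  have e : α x = (ν : MulAut R) ((κ : MulAut R) x) := by
    have : (a : MulAut R) = (ν : MulAut R) * (κ : MulAut R) := by
      rw [haνκ]; rfl
    show (a : MulAut R) x = _
    rw [this]; rfl
  have hκx : (x : Ω)⁻¹ * (((κ : MulAut R) x : R) : Ω) ∈ T := hκ x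
  have hκS : (((κ : MulAut R) x : R) : Ω) ∈ S := hRS ((κ : MulAut R) x).2
  have h5 := hγ ⟨((κ : MulAut R) x : R), hRle ((κ : MulAut R) x).2⟩ hκS
  have h6 := hψext _ ((κ : MulAut R) x).2 (hRle ((κ : MulAut R) x).2)
  have h7 : θ ⟨(((κ : MulAut R) x : R) : Ω), hκS⟩ = θ ⟨x, hx⟩ := by
    have : (⟨(((κ : MulAut R) x : R) : Ω), hκS⟩ : S) =
        ⟨x, hx⟩ * ⟨(x : Ω)⁻¹ * (((κ : MulAut R) x : R) : Ω), hT.1 hκx⟩ := by
      apply Subtype.ext
      show _ = (x : Ω) * ((x : Ω)⁻¹ * _)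
      group
    rw [this, map_mul, hθT _ hκx, mul_one]
  have hψS : ψ ⟨(((κ : MulAut R) x : R) : Ω), hRle ((κ : MulAut R) x).2⟩ ∈ S := Helper87.hom_mem F hψ _
  have h8 : (⟨(R.subtype.comp α.toMonoidHom) x, hαx⟩ : S) =
      ⟨ψ ⟨(((κ : MulAut R) x : R) : Ω), hRle ((κ : MulAut R) x).2⟩, hψS⟩ := by
    apply Subtype.ext
    show ((α x : R) : Ω) = ψ ⟨(((κ : MulAut R) x : R) : Ω), hRle ((κ : MulAut R) x).2⟩
    rw [h6, e]
    rfl
  rw [h8, h5 hψS, h7]

/-- A homomorphism `θ : S →* Γ` killing a strongly closed subgroup `T` of the saturated fusion system `F`, and equivariant up to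
conjugation for the `F`-automorphisms of the subgroups containing `T`, is equivariant up to conjugation for all maps of `F`. -/
theorem conjGood_of_saturated [Finite S] (p : ℕ) [Fact p.Prime] (hS : IsPGroup p S) (F : FusionSystem S)
    (hF : F.IsSaturated p) {T : Subgroup Ω} (hT : F.StronglyClosed T) {Γ : Type*} [Group Γ] (θ : S →* Γ)
    (hθT : ∀ (t : Ω) (ht : t ∈ T), θ ⟨t, hT.1 ht⟩ = 1)
    (hover : ∀ (R : Subgroup Ω), R ≤ S → T ≤ R → ∀ α : MulAut R, R.subtype.comp α.toMonoidHom ∈ F.Hom R →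
      ConjGood θ (R.subtype.comp α.toMonoidHom))
    {P : Subgroup Ω} {φ : P →* Ω} (hφ : φ ∈ F.Hom P) : ConjGood θ φ := by
  have main : ∀ n : ℕ, F ≤ conjSystem F θ n := by
    intro n
    induction n with
    | zero =>
      intro P φ hφ
      refine ⟨hφ, fun hc => ?_⟩
      have := Helper87.card_le_of_le (Helper87.hom_le F hφ)
      omega
    | succ n ih =>
      apply Cfsg.Agent.S5082.result p hS F hF
      intro R hR
      have hRS : R ≤ S := by
        rcases hR with rfl | hR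
        · exact le_rfl
        · exact hR.1.1
      apply autGroup_le_conjSystem
      intro hc α hα
      by_cases hTR : T ≤ R
      · exact hover R hRS hTR α hα
      · have hess : F.IsEssential p R := by
          rcases hR with rfl | hR
          · exact absurd hT.1 hTR
          · exact hR
        have h77 := (Cfsg.Agent.S5077.result p hS F).mp hF
        obtain ⟨hfc, hfa⟩ := h77.1 R hess.2.1
        have hrec := h77.2 R hfc
        refine conjGood_of_not_le p hS F hT θ hθT hRS hTR hfa hrec ?_ α hα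
        intro X ψ hψ hlt
        exact (ih X hψ).2 (by omega)
  exact (main (Nat.card S + 1) P hφ).2 (by omega)

end Cfsg.Agent.Lib.Helper89
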