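import Cfsg.Agent.Lib.Helper89.FusionAut
import Cfsg.Agent.Lib.Helper87.FusionRealized
import Mathlib.GroupTheory.SemidirectProduct

set_option autoImplicit false

namespace Cfsg.Agent.Lib.Helper89

open Cfsg Cfsg.FusionSystem Cfsg.Agent.Lib.Helper87
open scoped Pointwise

variable {Ω : Type*} [Group Ω]

/-- The fusion system over `P` whose maps are the restrictions of the elements of a subgroup `B ≤ Aut(P)`
containing `Inn(P)`. -/
def autSystem (P : Subgroup Ω) (B : Subgroup (MulAut P)) (hB : Inn P ≤ B) : FusionSystem P where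
  Hom R := {φ | ∃ hR : R ≤ P, ∃ γ ∈ B, ∀ x : R, φ x = ((γ ⟨x, hR x.2⟩ : P) : Ω)}
  le_of_mem := by
    rintro R φ ⟨hR, γ, -, h⟩
    exact ⟨hR, fun x => by rw [h x]; exact (γ _).2⟩
  injective_of_mem := by
    rintro R φ ⟨hR, γ, -, h⟩ a b hab
    rw [h a, h b] at hab
    have h1 := γ.injective (Subtype.ext hab)
    exact Subtype.ext (congrArg (fun z : P => (z : Ω)) h1)
  conj_mem := by
    intro R g hR hg
    exact ⟨hR, MulAut.conj ⟨g, hg⟩, hB ⟨⟨g, hg⟩, rfl⟩, fun x => rfl⟩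
  comp_mem := by
    rintro R Q φ ψ ⟨hR, γ₁, h₁B, h₁⟩ ⟨hQ, γ₂, h₂B, h₂⟩ h
    refine ⟨hR, γ₂ * γ₁, B.mul_mem h₂B h₁B, fun x => ?_⟩
    show ψ ⟨φ x, h x⟩ = _
    rw [h₂]
    have : (⟨φ x, hQ (h x)⟩ : P) = γ₁ ⟨x, hR x.2⟩ := Subtype.ext (h₁ x)
    rw [this]; rfl
  inv_mem := by
    rintro R φ ⟨hR, γ, hγB, h⟩
    have hrange : φ.range ≤ P := by
      rintro _ ⟨x, rfl⟩
      rw [h x]; exact (γ _).2
    refine ⟨(P.subtype.comp (γ⁻¹ : MulAut P).toMonoidHom).comp (Subgroup.inclusion hrange),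
      ⟨hrange, γ⁻¹, B.inv_mem hγB, fun x => rfl⟩, fun x => ?_⟩
    show (((γ⁻¹ : MulAut P) ⟨φ x, hrange ⟨x, rfl⟩⟩ : P) : Ω) = x
    have : (⟨φ x, hrange ⟨x, rfl⟩⟩ : P) = γ ⟨x, hR x.2⟩ := Subtype.ext (h x)
    rw [this]; simp

theorem mem_autSystem_iff {P : Subgroup Ω} {B : Subgroup (MulAut P)} {hB : Inn P ≤ B} {R : Subgroup Ω}
    (φ : R →* Ω) : φ ∈ (autSystem P B hB).Hom R ↔
      ∃ hR : R ≤ P, ∃ γ ∈ B, ∀ x : R, φ x = ((γ ⟨x, hR x.2⟩ : P) : Ω) := Iff.rfl

theorem autSystem_isSubsystemOf {S : Subgroup Ω} (F : FusionSystem S) {P : Subgroup Ω} (hPS : P ≤ S)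
    (B : Subgroup (MulAut P)) (hB : Inn P ≤ B) (hBF : B ≤ F.autGroup P) :
    (autSystem P B hB).IsSubsystemOf F := by
  rintro R φ ⟨hR, γ, hγ, h⟩
  have h1 := (mem_autGroup_iff F hPS γ).mp (hBF hγ)
  exact hom_congr F (restrict_mem F hR h1) (fun x => h x)

theorem autGroup_autSystem (P : Subgroup Ω) (B : Subgroup (MulAut P)) (hB : Inn P ≤ B) :
    (autSystem P B hB).autGroup P = B := by
  ext α
  rw [mem_autGroup_iff _ le_rfl]
  constructor
  · rintro ⟨_, γ, hγ, h⟩
    have : α = γ := by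
      ext x
      exact h x
    rw [this]; exact hγ
  · intro hα
    exact ⟨le_rfl, α, hα, fun x => rfl⟩

/-- The system of `Inn(P)⟨β⟩`, for `β` of prime order `q ≠ p`, is realized by the semidirect product of `P` by `⟨β⟩`,
hence saturated. -/
theorem autSystem_saturated {p : ℕ} [Fact p.Prime] {P : Subgroup Ω} [Finite P] (hP : IsPGroup p P)
    (β : MulAut P) (q : ℕ) (hq : q.Prime) (hqp : q ≠ p) (hβ : orderOf β = q) :
    (autSystem P (Inn P ⊔ Subgroup.zpowers β) le_sup_left).IsSaturated p := by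
  let H : Subgroup (MulAut P) := Subgroup.zpowers β
  let G := P ⋊[H.subtype] H
  let ι : P →* G := SemidirectProduct.inl
  have hHfin : Finite H := by
    have : orderOf β ≠ 0 := by rw [hβ]; exact hq.ne_zero
    exact Nat.finite_of_card_ne_zero (by rw [Nat.card_zpowers]; exact this)
  have hGfin : Finite G := Finite.of_equiv _ (SemidirectProduct.equivProd (φ := H.subtype)).symm
  have hreal : (autSystem P (Inn P ⊔ Subgroup.zpowers β) le_sup_left).IsRealizedBy ι := by
    refine ⟨SemidirectProduct.inl_injective, fun R hR φ hφ => ?_⟩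
    constructor
    · rintro ⟨_, γ, hγ, h⟩
      have hγ' : γ ∈ ((Inn P ⊔ Subgroup.zpowers β : Subgroup (MulAut P)) : Set (MulAut P)) := hγ
      rw [Subgroup.normal_mul] at hγ'
      obtain ⟨c, hc, b, hb, hcb⟩ := Set.mem_mul.mp hγ'
      obtain ⟨y, rfl⟩ := hc
      refine ⟨SemidirectProduct.inl y * SemidirectProduct.inr ⟨b, hb⟩, fun x => ?_⟩
      have h1 : (⟨φ x, hφ x⟩ : P) = γ ⟨x, hR x.2⟩ := Subtype.ext (h x)
      rw [h1, ← hcb]
      have h2 : (MulAut.conj y * b) ⟨x, hR x.2⟩ = y * b ⟨x, hR x.2⟩ * y⁻¹ := rfl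
      rw [h2]
      have h3 := SemidirectProduct.inl_aut (φ := H.subtype) (⟨b, hb⟩ : H) (⟨x, hR x.2⟩ : P)
      have h4 : (H.subtype ⟨b, hb⟩) ⟨x, hR x.2⟩ = b ⟨x, hR x.2⟩ := rfl
      rw [h4] at h3
      show ι (y * b ⟨x, hR x.2⟩ * y⁻¹) = _
      rw [map_mul, map_mul, h3, map_inv]
      simp only [mul_inv_rev, mul_assoc]
      rfl
    · rintro ⟨g, hg⟩
      refine ⟨hR, MulAut.conj g.left * (g.right : MulAut P),
        Subgroup.mul_mem _ (Subgroup.mem_sup_left ⟨g.left, rfl⟩) (Subgroup.mem_sup_right g.right.2),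
        fun x => ?_⟩
      have h1 := hg x
      have h2 : g = SemidirectProduct.inl g.left * SemidirectProduct.inr g.right :=
        (SemidirectProduct.inl_left_mul_inr_right g).symm
      have h3 := SemidirectProduct.inl_aut (φ := H.subtype) g.right (⟨x, hR x.2⟩ : P)
      have h4 : (H.subtype g.right) ⟨x, hR x.2⟩ = (g.right : MulAut P) ⟨x, hR x.2⟩ := rfl
      rw [h4] at h3
      have h5 : ι ⟨φ x, hφ x⟩ = ι (g.left * (g.right : MulAut P) ⟨x, hR x.2⟩ * g.left⁻¹) := by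
        rw [h1, map_mul, map_mul, map_inv]
        show g * ι ⟨x, hR x.2⟩ * g⁻¹ = SemidirectProduct.inl g.left *
          SemidirectProduct.inl ((g.right : MulAut P) ⟨x, hR x.2⟩) * (SemidirectProduct.inl g.left)⁻¹
        rw [h3]
        conv_lhs => rw [h2]
        rw [mul_inv_rev, ← map_inv (SemidirectProduct.inr : H →* G)]
        simp only [mul_assoc]
        rfl
      have h6 := SemidirectProduct.inl_injective h5
      have h7 := congrArg (fun z : P => (z : Ω)) h6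
      exact h7
  -- the image of `P` is a Sylow subgroup
  have hidx : ι.range.index = q := by
    have h1 : ι.range = (SemidirectProduct.rightHom : G →* H).ker :=
      SemidirectProduct.range_inl_eq_ker_rightHom
    rw [h1, Subgroup.index_ker]
    have h2 : (SemidirectProduct.rightHom : G →* H).range = ⊤ :=
      MonoidHom.range_eq_top.mpr SemidirectProduct.rightHom_surjective
    rw [h2, Nat.card_congr (Subgroup.topEquiv (G := H)).toEquiv, Nat.card_zpowers, hβ]
  have hpr : IsPGroup p ι.range := by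
    rw [MonoidHom.range_eq_map]
    exact IsPGroup.map ((IsPGroup.of_surjective hP (Subgroup.topEquiv (G := P)).symm.toMonoidHom
      (Subgroup.topEquiv (G := P)).symm.surjective)) ι
  have hnd : ¬ p ∣ ι.range.index := by
    rw [hidx]
    intro h
    exact hqp ((Nat.prime_dvd_prime_iff_eq (Fact.out : p.Prime) hq).mp h).symm
  exact isSaturated_of_realized _ hreal (hpr.toSylow hnd) (IsPGroup.toSylow_coe hpr hnd)

end Cfsg.Agent.Lib.Helper89
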