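import Mathlib
import Cfsg.Agent.Lib.Helper31.BG134Defs
import Cfsg.Agent.Lib.Helper12.CNMaxSub
import Cfsg.Agent.S1406

set_option autoImplicit false

/-! Keystone 142813 (K-S1428-NR): `S1406 ⇒ N_G(Q) ≤ H`. -/

namespace Cfsg.Agent.Lib.Helper89.BG134

open Cfsg Cfsg.Agent.Lib.Helper31.BG134

variable {G : Type*} [Group G] [Finite G]

/-- KEYSTONE 142813  K-S1428-NR. -/
theorem normalizer_le_of_rank (hG : IsMinSimpleOddOrder G) {H : Subgroup G} (hH : IsCoatom H)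
    {Q : Subgroup G} (hQH : Q ≤ H) (hQ1 : Q ≠ ⊥)
    (hQα : ∀ q : ℕ, q.Prime → q ∣ Nat.card Q → q ∉ alpha H)
    (hrk : ¬ RankLE 1 ↥(alphaCore H ⊓ Subgroup.centralizer (Q : Set G))) :
    Subgroup.normalizer (Q : Set G) ≤ H := by
  have hU := Cfsg.Agent.S1406.result hG H hH Q hQH hQα hrk
  have hQtop : Q ≠ ⊤ := by
    intro h
    rw [h] at hQH
    exact hH.1 (top_le_iff.mp hQH)
  obtain ⟨L, hL, hNL⟩ := Cfsg.Agent.Lib.Helper12.CNMaxSub.exists_coatom_normalizer_le hG hQ1 hQtop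
  have hle : H ⊓ Subgroup.centralizer (Q : Set G) ≤ L :=
    (inf_le_right.trans (Subgroup.centralizer_le_normalizer _)).trans hNL
  obtain ⟨M₀, -, huniq⟩ := hU
  have h1 : L = M₀ := huniq L ⟨hL, hle⟩
  have h2 : H = M₀ := huniq H ⟨hH, inf_le_left⟩
  rw [h2, ← h1]
  exact hNL

end Cfsg.Agent.Lib.Helper89.BG134
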