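import Cfsg.Agent.Lib.Helper89.BG1435P13cA
import Cfsg.Agent.S1420
import Cfsg.Agent.S1439

/-!
# K-1435-P13c (keystone 143519, architect helper31): `normal_or_T0`
-/

set_option autoImplicit false
set_option linter.unusedSectionVars false
set_option linter.unusedVariables false
set_option linter.style.haveILetI false

namespace Cfsg.Agent.Lib.Helper89.BG1435

open Cfsg Subgroup
open scoped commutatorElement

variable {G : Type*} [Group G] [Finite G]

/-- core of `normal_or_T0`: the statements of S1420 (`E'` abelian) and S1439 (`Y` cyclic) as hypotheses -/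
theorem normal_or_T0_of (hG : IsMinSimpleOddOrder G) {H K E : Subgroup G} (hH : IsCoatom H)
    (hp : (Nat.card K).Prime) (hpH : Nat.card K ∉ sigma H) (hpτ : Nat.card K ∉ tau2 H)
    (hfpf : sigmaCore H ⊓ centralizer (K : Set G) = ⊥)
    (hE : IsComplIn E (sigmaCore H) H) (hKE : K ≤ E)
    (hAc : IsMulCommutative ↥⁅E, E⁆)
    (hYc : IsCyclic ↥(piCoreOf {q | q.Prime ∧ q ∉ sigma H} (fittingOf H))) :
    E ≤ normalizer (K : Set G) ∨
      ∃ T₀ : Subgroup G, T₀ ≤ E ∧ (Nat.card T₀).Prime ∧ H ≤ normalizer (T₀ : Set G) ∧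
        (∀ x ∈ K, x ≠ 1 → T₀ ⊓ centralizer ({x} : Set G) = ⊥) ∧
        T₀ ≤ centralizer (sigmaCore H : Set G) := by
  classical
  have hpF : Fact (Nat.card K).Prime := ⟨hp⟩
  have hHall : IsPiHallOf (sigma H) (sigmaCore H) H := (Cfsg.Agent.S1350.result hG H hH).1
  have hEH : E ≤ H := hE.1
  have hKH : K ≤ H := hKE.trans hEH
  have hAE : ⁅E, E⁆ ≤ E := Subgroup.commutator_le_self E
  have hcommA : ∀ a ∈ ⁅E, E⁆, ∀ b ∈ ⁅E, E⁆, a * b = b * a := fun a ha b hb =>
    congrArg Subtype.val (hAc.is_comm.comm ⟨a, ha⟩ ⟨b, hb⟩)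
  have hEA : E ≤ normalizer ((⁅E, E⁆ : Subgroup G) : Set G) :=
    le_normalizer_of_conj_mem (fun e he x hx => conj_mem_commutator_self he hx)
  have hKA : K ≤ normalizer ((⁅E, E⁆ : Subgroup G) : Set G) := hKE.trans hEA
  -- `p` is odd
  have hp2 : Nat.card K ≠ 2 := by
    intro h2
    have hodd : Odd (Nat.card G) := hG.1
    have hdvd : Nat.card K ∣ Nat.card G := Subgroup.card_subgroup_dvd_card K
    rw [h2] at hdvd
    exact (Nat.not_even_iff_odd.mpr hodd) (even_iff_two_dvd.mpr hdvd)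
  -- `H` has `p`-rank one
  have hr1 : PRankLE (Nat.card K) 1 ↥H := by
    by_contra h1
    have h2 : PRankLE (Nat.card K) 2 ↥H := by
      by_contra h2
      exact hpH (Cfsg.Agent.Lib.Helper13.BG12.mem_sigma_of_not_pRankLE_two hG hH hp h2)
    exact hpτ ⟨hp, hpH, h2, h1⟩
  -- a generator of `K`
  have hK1 : K ≠ ⊥ := by
    intro h
    rw [h, Subgroup.card_bot] at hp
    exact Nat.not_prime_one hp
  obtain ⟨k, hkK, hk1⟩ := (Subgroup.ne_bot_iff_exists_ne_one).mp hK1 |> fun ⟨k, hk⟩ =>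
    (⟨(k : G), k.2, fun h => hk (Subtype.ext h)⟩ : ∃ k ∈ K, k ≠ 1)
  obtain ⟨hKz, hko⟩ := zpowers_eq_of_prime_card hp hkK hk1
  have hKpow : ∀ x ∈ K, x ^ Nat.card K = 1 := by
    intro x hx
    have h0 : (⟨x, hx⟩ : K) ^ Nat.card K = 1 := pow_card_eq_one'
    have h1 := congrArg Subtype.val h0
    rwa [Subgroup.coe_pow, Subgroup.coe_one] at h1
  by_cases hpA : Nat.card K ∣ Nat.card ↥⁅E, E⁆
  · -- CASE 1: `p ∣ |E'|`: `K = Ω₁(O_p(E'))`
    left
    let Ω : Subgroup G :=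
      { carrier := {x | x ∈ ⁅E, E⁆ ∧ x ^ Nat.card K = 1}
        mul_mem' := by
          rintro a b ⟨ha, ha'⟩ ⟨hb, hb'⟩
          exact ⟨Subgroup.mul_mem _ ha hb, by
            rw [(show Commute a b from hcommA a ha b hb).mul_pow, ha', hb', one_mul]⟩
        one_mem' := ⟨Subgroup.one_mem _, one_pow _⟩
        inv_mem' := by
          rintro a ⟨ha, ha'⟩
          exact ⟨Subgroup.inv_mem _ ha, by rw [inv_pow, ha', inv_one]⟩ }
    have hΩmem : ∀ x, x ∈ Ω ↔ x ∈ ⁅E, E⁆ ∧ x ^ Nat.card K = 1 := fun x => Iff.rfl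
    have hΩE : E ≤ normalizer (Ω : Set G) := by
      apply le_normalizer_of_conj_mem
      rintro e he x ⟨hx, hx'⟩
      exact ⟨conj_mem_commutator_self he hx, by rw [conj_pow, hx', mul_one, mul_inv_cancel]⟩
    have hΩp : IsPGroup (Nat.card K) Ω := by
      intro g
      refine ⟨1, Subtype.ext ?_⟩
      rw [pow_one, Subgroup.coe_pow, Subgroup.coe_one]
      exact g.2.2
    have hKp : IsPGroup (Nat.card K) K := IsPGroup.of_card (n := 1) (by rw [pow_one])
    have hQp : IsPGroup (Nat.card K) ↥(K ⊔ Ω) :=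
      IsPGroup.to_sup_of_normal_right' hKp hΩp (hKE.trans hΩE)
    have hΩH : Ω ≤ H := fun x hx => hEH (hAE hx.1)
    have hQH : K ⊔ Ω ≤ H := sup_le hKH hΩH
    have hQcyc : IsCyclic ↥(K ⊔ Ω) :=
      Cfsg.Agent.Lib.Helper13.BG12.isCyclic_of_pRankLE_one hp2 hr1 hQH hQp
    -- `Ω ≤ K`
    have hΩK : Ω ≤ K := by
      intro w hw
      have hkQ : k ∈ K ⊔ Ω := (le_sup_left : K ≤ K ⊔ Ω) hkK
      have hwQ : w ∈ K ⊔ Ω := (le_sup_right : Ω ≤ K ⊔ Ω) hw
      have ho : orderOf (⟨k, hkQ⟩ : ↥(K ⊔ Ω)) = Nat.card K := by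
        rw [← hko]; exact Subgroup.orderOf_mk k hkQ
      have hw1 : (⟨w, hwQ⟩ : ↥(K ⊔ Ω)) ^ Nat.card K = 1 := by
        apply Subtype.ext
        rw [Subgroup.coe_pow, Subgroup.coe_one]
        exact hw.2
      have hmem := Cfsg.Agent.Lib.Helper01.mem_zpowers_of_isCyclic hp.pos
        (⟨k, hkQ⟩ : ↥(K ⊔ Ω)) ⟨w, hwQ⟩ ho hw1
      obtain ⟨n, hn⟩ := Subgroup.mem_zpowers_iff.mp hmem
      have hn' : k ^ n = w := by
        have := congrArg Subtype.val hn
        rwa [Subgroup.coe_zpow] at this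
      rw [← hKz, ← hn']
      exact Subgroup.zpow_mem_zpowers k n
    -- `K ≤ Ω`
    obtain ⟨a, ha⟩ := exists_prime_orderOf_dvd_card' (G := ↥⁅E, E⁆) (Nat.card K) hpA
    have haΩ : (a : G) ∈ Ω := by
      refine ⟨a.2, ?_⟩
      rw [← Subgroup.coe_pow, ← ha, pow_orderOf_eq_one, Subgroup.coe_one]
    have ha1 : (a : G) ≠ 1 := by
      intro h
      have : a = 1 := Subtype.ext h
      rw [this, orderOf_one] at ha
      exact hp.one_lt.ne ha
    obtain ⟨hKz', -⟩ := zpowers_eq_of_prime_card hp (hΩK haΩ) ha1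
    have hKΩ : K ≤ Ω := by
      rw [← hKz', Subgroup.zpowers_le]
      exact haΩ
    have hKeq : K = Ω := le_antisymm hKΩ hΩK
    rw [hKeq]
    exact hΩE
  · by_cases hT : (⁅⁅E, E⁆, K⁆ : Subgroup G) = ⊥
    · -- CASE 2a: `K` centralizes `E'`
      left
      have hcent : ⁅E, E⁆ ≤ centralizer (K : Set G) :=
        Subgroup.commutator_eq_bot_iff_le_centralizer.mp hT
      apply le_normalizer_of_conj_mem
      intro e he x hx
      have hcA : ⁅e, x⁆ ∈ ⁅E, E⁆ := Subgroup.commutator_mem_commutator he (hKE hx)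
      have hcx : x * ⁅e, x⁆ = ⁅e, x⁆ * x := (Subgroup.mem_centralizer_iff.mp (hcent hcA)) x hx
      have h2 : e * x * e⁻¹ = ⁅e, x⁆ * x := by
        rw [commutatorElement_def]; group
      have h3 : (⁅e, x⁆ * x) ^ Nat.card K = ⁅e, x⁆ ^ Nat.card K := by
        rw [(show Commute ⁅e, x⁆ x from hcx.symm).mul_pow, hKpow x hx, mul_one]
      have h4 : (e * x * e⁻¹) ^ Nat.card K = 1 := by
        rw [conj_pow, hKpow x hx, mul_one, mul_inv_cancel]
      rw [h2, h3] at h4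
      have h5 : orderOf ⁅e, x⁆ ∣ Nat.card K := orderOf_dvd_of_pow_eq_one h4
      have h6 : orderOf ⁅e, x⁆ ∣ Nat.card ↥⁅E, E⁆ := Subgroup.orderOf_dvd_natCard _ hcA
      have h7 : ⁅e, x⁆ = 1 := by
        rcases (Nat.dvd_prime hp).mp h5 with h | h
        · exact orderOf_eq_one_iff.mp h
        · rw [h] at h6; exact absurd h6 hpA
      rw [h2, h7, one_mul]
      exact hx
    · -- CASE 2b: `T₁ = ⁅E', K⁆ ≠ 1`
      right
      set T₁ : Subgroup G := ⁅⁅E, E⁆, K⁆ with hT₁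
      have hT₁A : T₁ ≤ ⁅E, E⁆ := by
        rw [hT₁, Subgroup.commutator_le]
        intro a ha k' hk'
        have h1 : k' * a⁻¹ * k'⁻¹ ∈ ⁅E, E⁆ :=
          conj_mem_commutator_self (hKE hk') (Subgroup.inv_mem _ ha)
        have h2 : ⁅a, k'⁆ = a * (k' * a⁻¹ * k'⁻¹) := by rw [commutatorElement_def]; group
        rw [h2]; exact Subgroup.mul_mem _ ha h1
      have hT₁E : T₁ ≤ E := hT₁A.trans hAE
      have hT₁H : T₁ ≤ H := hT₁E.trans hEH
      have hET₁ : E ≤ normalizer (T₁ : Set G) := le_normalizer_commutator_derived hKE hcommA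
      have hKT₁ : K ≤ normalizer (T₁ : Set G) := hKE.trans hET₁
      have hcommT : ∀ a ∈ T₁, ∀ b ∈ T₁, a * b = b * a := fun a ha b hb =>
        hcommA a (hT₁A ha) b (hT₁A hb)
      have hT₁nil : Group.IsNilpotent ↥T₁ := isNilpotent_of_comm' hcommT
      have hEσ := Cfsg.Agent.Lib.Helper13.BG12.complIn_prime_not_mem_sigma hHall hE
      have hT₁σ : ∀ q : ℕ, q.Prime → q ∣ Nat.card T₁ → q ∉ sigma H := fun q hq hqd =>
        hEσ q hq (hqd.trans (Subgroup.card_dvd_of_le hT₁E))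
      have hT₁cop : (Nat.card T₁).Coprime (Nat.card (sigmaCore H)) := by
        apply Nat.coprime_of_dvd
        intro q hq hq1 hq2
        exact hT₁σ q hq hq1 (Cfsg.Agent.Lib.Helper71.BG11.sigmaCore_pi hG hH hq hq2)
      have hT₁fpf : ∀ x ∈ K, x ≠ 1 → T₁ ⊓ centralizer ({x} : Set G) = ⊥ := fun x hx hx1 =>
        commutator_inf_centralizer_eq_bot hp hcommA hKA hpA hx hx1
      have hT₁c : T₁ ≤ centralizer (sigmaCore H : Set G) :=
        frob_centralizes' hG hH hKH hp hpH hfpf hT₁H hKT₁ hT₁nil hT₁cop hT₁fpf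
      -- `H` normalizes `T₁`
      have hHT₁ : H ≤ normalizer (T₁ : Set G) := by
        intro h hh
        obtain ⟨e, he, s, hs, rfl⟩ := hE.2.2.2 h hh
        apply Subgroup.mul_mem _ (hET₁ he)
        have hS : sigmaCore H ≤ centralizer (T₁ : Set G) := Subgroup.le_centralizer_iff.mp hT₁c
        exact Subgroup.centralizer_le_normalizer _ (hS hs)
      -- `T₁` is cyclic
      have hT₁F : T₁ ≤ fittingOf H :=
        Cfsg.Agent.Lib.Helper13.BG127.le_fittingOf_of_nilpotent hT₁H hHT₁ hT₁nil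
      have hFH : fittingOf H ≤ H := by
        rintro _ ⟨y, _, rfl⟩
        exact y.2
      have hT₁Y : T₁ ≤ piCoreOf {q | q.Prime ∧ q ∉ sigma H} (fittingOf H) :=
        Cfsg.Agent.Lib.Helper31.le_piCoreOf _ (fittingOf H) T₁ hT₁F (hFH.trans hHT₁)
          (fun q hq hqd => ⟨hq, hT₁σ q hq hqd⟩)
      have hT₁cyc : IsCyclic ↥T₁ :=
        isCyclic_of_injective (Subgroup.inclusion hT₁Y) (Subgroup.inclusion_injective hT₁Y)
      -- an element of prime order
      have hcard1 : Nat.card T₁ ≠ 1 := fun h => hT (Subgroup.card_eq_one.mp h)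
      obtain ⟨t, ht, htd⟩ := Nat.exists_prime_and_dvd hcard1
      have htF : Fact t.Prime := ⟨ht⟩
      obtain ⟨g, hg⟩ := exists_prime_orderOf_dvd_card' (G := ↥T₁) t htd
      have hgo : orderOf (g : G) = t := by rw [Subgroup.orderOf_coe]; exact hg
      refine ⟨zpowers (g : G), ?_, ?_, ?_, ?_, ?_⟩
      · exact (Subgroup.zpowers_le.mpr g.2).trans hT₁E
      · rw [Nat.card_zpowers, hgo]; exact ht
      · -- `H` normalizes `T₀`
        apply le_normalizer_of_conj_mem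
        intro h hh x hx
        obtain ⟨n, rfl⟩ := Subgroup.mem_zpowers_iff.mp hx
        have hcg : h * (g : G) * h⁻¹ ∈ T₁ := conj_mem_of_le_normalizer' hHT₁ hh g.2
        have hpow : (⟨h * (g : G) * h⁻¹, hcg⟩ : ↥T₁) ^ t = 1 := by
          apply Subtype.ext
          rw [Subgroup.coe_pow, Subgroup.coe_one, conj_pow, ← hgo, pow_orderOf_eq_one, mul_one,
            mul_inv_cancel]
        have hmem := Cfsg.Agent.Lib.Helper01.mem_zpowers_of_isCyclic ht.pos g
          ⟨h * (g : G) * h⁻¹, hcg⟩ hg hpow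
        obtain ⟨m, hm⟩ := Subgroup.mem_zpowers_iff.mp hmem
        have hm' : (g : G) ^ m = h * (g : G) * h⁻¹ := by
          have := congrArg Subtype.val hm
          rwa [Subgroup.coe_zpow] at this
        have h8 : h * (g : G) ^ n * h⁻¹ = (h * (g : G) * h⁻¹) ^ n := by
          rw [conj_zpow]
        rw [h8, ← hm', ← zpow_mul]
        exact Subgroup.zpow_mem_zpowers _ _
      · intro x hx hx1
        rw [eq_bot_iff, ← hT₁fpf x hx hx1]
        exact inf_le_inf_right _ (Subgroup.zpowers_le.mpr g.2)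
      · exact (Subgroup.zpowers_le.mpr g.2).trans hT₁c

/-- **K-1435-P13c** (keystone 143519), exact spec signature. -/
theorem normal_or_T0 (hG : IsMinSimpleOddOrder G) {H K E : Subgroup G} (hH : IsCoatom H)
    (hp : (Nat.card K).Prime) (hpH : Nat.card K ∉ sigma H) (hpτ : Nat.card K ∉ tau2 H)
    (hfpf : sigmaCore H ⊓ centralizer (K : Set G) = ⊥)
    (hE : IsComplIn E (sigmaCore H) H) (hKE : K ≤ E) :
    E ≤ normalizer (K : Set G) ∨
      ∃ T₀ : Subgroup G, T₀ ≤ E ∧ (Nat.card T₀).Prime ∧ H ≤ normalizer (T₀ : Set G) ∧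
        (∀ x ∈ K, x ≠ 1 → T₀ ⊓ centralizer ({x} : Set G) = ⊥) ∧
        T₀ ≤ centralizer (sigmaCore H : Set G) :=
  normal_or_T0_of hG hH hp hpH hpτ hfpf hE hKE (Cfsg.Agent.S1420.result hG H hH E hE).2.1
    (Cfsg.Agent.S1439.result hG H hH).1

/-- SPARE for keystone 143504 (K-1435-P2), exact spec signature. -/
theorem frob_centralizes (hG : IsMinSimpleOddOrder G) {H K T : Subgroup G} (hH : IsCoatom H)
    (hKH : K ≤ H) (hp : (Nat.card K).Prime) (hpH : Nat.card K ∉ sigma H)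
    (hfpf : sigmaCore H ⊓ centralizer (K : Set G) = ⊥)
    (hTH : T ≤ H) (hKT : K ≤ normalizer (T : Set G)) (hTnil : Group.IsNilpotent T)
    (hTcop : (Nat.card T).Coprime (Nat.card (sigmaCore H)))
    (hTK : ∀ x ∈ K, x ≠ 1 → T ⊓ centralizer ({x} : Set G) = ⊥) :
    T ≤ centralizer (sigmaCore H : Set G) :=
  frob_centralizes' hG hH hKH hp hpH hfpf hTH hKT hTnil hTcop hTK

end Cfsg.Agent.Lib.Helper89.BG1435
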