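import Mathlib
import Cfsg.Prelude.Def_OddOrderLocal
import Cfsg.Agent.Lib.Helper13.BG12B
import Cfsg.Agent.Lib.Helper13.BG127
import Cfsg.Agent.Lib.Helper03.CoprimeAbelian
import Cfsg.Agent.Lib.Helper03.FrobSub
import Cfsg.Agent.Lib.Helper01.Coprime
import Cfsg.Agent.Lib.Helper01.CyclicAux
import Cfsg.Agent.Lib.Helper31.Transitivity
import Cfsg.Agent.Lib.Helper71.BG11a
import Cfsg.Agent.Lib.Helper55.Basic
import Cfsg.Agent.S1350

/-!
# K-1435-P13c (keystone 143519, architect helper31), core: `normal_or_T0_of`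

The statements of S1420 (`E'` abelian) and S1439 (`Y` cyclic) enter as hypotheses; `BG1435P13c.lean` feeds them.
-/

set_option autoImplicit false
set_option linter.unusedSectionVars false
set_option linter.unusedVariables false
set_option linter.style.haveILetI false

namespace Cfsg.Agent.Lib.Helper89.BG1435

open Cfsg Subgroup
open scoped commutatorElement

variable {G : Type*} [Group G]

/-- a subgroup stable under conjugation by the elements of `L` is normalized by `L` -/
theorem le_normalizer_of_conj_mem {N L : Subgroup G} (h : ∀ e ∈ L, ∀ x ∈ N, e * x * e⁻¹ ∈ N) :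
    L ≤ normalizer (N : Set G) := by
  intro e he
  rw [mem_normalizer_iff]
  intro x
  constructor
  · exact h e he x
  · intro hx
    have := h e⁻¹ (L.inv_mem he) _ hx
    simpa [mul_assoc] using this

theorem conj_mem_of_le_normalizer' {N L : Subgroup G} (h : L ≤ normalizer (N : Set G)) {e x : G}
    (he : e ∈ L) (hx : x ∈ N) : e * x * e⁻¹ ∈ N :=
  (mem_normalizer_iff.mp (h he) x).mp hx

/-- a non-identity element of a subgroup of prime order generates it -/
theorem zpowers_eq_of_prime_card [Finite G] {K : Subgroup G} (hp : (Nat.card K).Prime) {x : G}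
    (hx : x ∈ K) (hx1 : x ≠ 1) : zpowers x = K ∧ orderOf x = Nat.card K := by
  have hle : zpowers x ≤ K := zpowers_le.mpr hx
  have hdvd : orderOf x ∣ Nat.card K := Subgroup.orderOf_dvd_natCard K hx
  have ho : orderOf x = Nat.card K := by
    rcases (Nat.dvd_prime hp).mp hdvd with h | h
    · exact absurd (orderOf_eq_one_iff.mp h) hx1
    · exact h
  refine ⟨?_, ho⟩
  apply Subgroup.eq_of_le_of_card_ge hle
  rw [Nat.card_zpowers, ho]

/-- a subgroup whose elements commute is nilpotent -/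
theorem isNilpotent_of_comm' {X : Subgroup G} (h : ∀ a ∈ X, ∀ b ∈ X, a * b = b * a) :
    Group.IsNilpotent ↥X := by
  letI : CommGroup ↥X :=
    { (inferInstance : Group ↥X) with
      mul_comm := fun a b => Subtype.ext (h a a.2 b b.2) }
  exact CommGroup.isNilpotent

/-- `E` normalizes `⁅E, E⁆` -/
theorem conj_mem_commutator_self {E : Subgroup G} {e x : G} (he : e ∈ E) (hx : x ∈ ⁅E, E⁆) :
    e * x * e⁻¹ ∈ ⁅E, E⁆ := by
  have hxE : x ∈ E := Subgroup.commutator_le_self E hx
  have h1 : ⁅e, x⁆ ∈ ⁅E, E⁆ := Subgroup.commutator_mem_commutator he hxE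
  have h2 : e * x * e⁻¹ = ⁅e, x⁆ * x := by
    rw [commutatorElement_def]; group
  rw [h2]
  exact Subgroup.mul_mem _ h1 hx

/-- **Frobenius–Wielandt**: a nilpotent `σ(H)'`-subgroup `T` of `H` on which `K` (of prime order `p ∉ σ(H)`,
fixed-point-free on `H_σ`) acts without fixed points centralizes `H_σ`. -/
theorem frob_centralizes' [Finite G] (hG : IsMinSimpleOddOrder G) {H K T : Subgroup G} (hH : IsCoatom H)
    (hKH : K ≤ H) (hp : (Nat.card K).Prime) (hpH : Nat.card K ∉ sigma H)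
    (hfpf : sigmaCore H ⊓ centralizer (K : Set G) = ⊥)
    (hTH : T ≤ H) (hKT : K ≤ normalizer (T : Set G)) (hTnil : Group.IsNilpotent T)
    (hTcop : (Nat.card T).Coprime (Nat.card (sigmaCore H)))
    (hTK : ∀ x ∈ K, x ≠ 1 → T ⊓ centralizer ({x} : Set G) = ⊥) :
    T ≤ centralizer (sigmaCore H : Set G) := by
  set S := sigmaCore H with hS
  have hSH : S ≤ H := Cfsg.Agent.Lib.Helper71.BG11.sigmaCore_le H
  have hHS : H ≤ normalizer (S : Set G) := Cfsg.Agent.Lib.Helper71.BG11.le_normalizer_sigmaCore H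
  have hsolvH : Group.IsSolvable ↥H := Cfsg.Agent.Lib.Helper55.ms_solvable hG hH.1
  have hsolv : Group.IsSolvable ↥S :=
    Group.isSolvable_of_isSolvable_injective (f := Subgroup.inclusion hSH) (Subgroup.inclusion_injective hSH)
  have hpS : (Nat.card S).Coprime (Nat.card K) := by
    rw [Nat.coprime_comm]
    refine (Nat.Prime.coprime_iff_not_dvd hp).mpr (fun hd => hpH ?_)
    exact Cfsg.Agent.Lib.Helper71.BG11.sigmaCore_pi hG hH hp hd
  have hdvd : Nat.card ↥(T ⊔ K) ∣ Nat.card T * Nat.card K := by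
    have h1 := Cfsg.Agent.Lib.Helper01.card_sup_mul_card_inf_of_le_normalizer T K hKT
    rw [sup_comm] at h1
    exact Dvd.intro _ h1
  have hcop : Nat.Coprime (Nat.card S) (Nat.card ↥(T ⊔ K)) :=
    Nat.Coprime.coprime_dvd_right hdvd (Nat.Coprime.mul_right hTcop.symm hpS)
  have key := Cfsg.Agent.Lib.Helper03.FrobSub.wielandt_sub T K S
    (fun e he u hu => conj_mem_of_le_normalizer' hKT he hu)
    (fun e he he1 u hu hc => by
      have hmem : u ∈ T ⊓ centralizer ({e} : Set G) :=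
        ⟨hu, Subgroup.mem_centralizer_singleton_iff.mpr hc.symm⟩
      rw [hTK e he he1, Subgroup.mem_bot] at hmem
      exact hmem)
    hTnil
    (fun x hx h hh => conj_mem_of_le_normalizer' hHS ((sup_le hTH hKH) hx) hh)
    hsolv hcop
  rw [hfpf, Subgroup.card_bot, one_pow, one_mul] at key
  have hc1 : 1 ≤ Nat.card ↥(S ⊓ centralizer ((T ⊔ K : Subgroup G) : Set G)) ^ Nat.card K :=
    Nat.one_le_pow _ _ Nat.card_pos
  have hle : Nat.card S ≤ Nat.card ↥(S ⊓ centralizer (T : Set G)) := by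
    calc Nat.card S = 1 * Nat.card S := (one_mul _).symm
      _ ≤ _ := by rw [← key]; exact Nat.mul_le_mul_right _ hc1
  have heq : S ⊓ centralizer (T : Set G) = S := Subgroup.eq_of_le_of_card_ge inf_le_left hle
  have hST : S ≤ centralizer (T : Set G) := by
    rw [← heq]; exact inf_le_right
  exact Subgroup.le_centralizer_iff.mp hST


/-- conjugation by `e ∈ E` maps `⁅a, k⁆` (`a ∈ E' = A` abelian, `k ∈ E`) to `⁅e a e⁻¹, k⁆` -/
theorem conj_commutator_eq {E : Subgroup G}
    (hcommA : ∀ a ∈ ⁅E, E⁆, ∀ b ∈ ⁅E, E⁆, a * b = b * a) {e a k : G} (he : e ∈ E)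
    (ha : a ∈ ⁅E, E⁆) (hk : k ∈ E) : e * ⁅a, k⁆ * e⁻¹ = ⁅e * a * e⁻¹, k⁆ := by
  set a' := e * a * e⁻¹ with ha'
  set c := ⁅e, k⁆ with hc
  set d := k * a'⁻¹ * k⁻¹ with hd
  have ha'A : a' ∈ ⁅E, E⁆ := conj_mem_commutator_self he ha
  have hcA : c ∈ ⁅E, E⁆ := Subgroup.commutator_mem_commutator he hk
  have hdA : d ∈ ⁅E, E⁆ := conj_mem_commutator_self hk (Subgroup.inv_mem _ ha'A)
  have h1 : e * ⁅a, k⁆ * e⁻¹ = a' * c * d * c⁻¹ := by
    simp only [commutatorElement_def, ha', hc, hd]; group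
  have h2 : c * d = d * c := hcommA c hcA d hdA
  have h3 : ⁅a', k⁆ = a' * d := by
    simp only [commutatorElement_def, hd]; group
  rw [h1, h3]
  calc a' * c * d * c⁻¹ = a' * (c * d) * c⁻¹ := by group
    _ = a' * (d * c) * c⁻¹ := by rw [h2]
    _ = a' * d := by group

/-- `E` normalizes `⁅E', K⁆` for `K ≤ E` when `E'` is abelian -/
theorem le_normalizer_commutator_derived {E K : Subgroup G} (hKE : K ≤ E)
    (hcommA : ∀ a ∈ ⁅E, E⁆, ∀ b ∈ ⁅E, E⁆, a * b = b * a) :
    E ≤ normalizer ((⁅⁅E, E⁆, K⁆ : Subgroup G) : Set G) := by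
  apply le_normalizer_of_conj_mem
  intro e he x hx
  have hmap : (⁅⁅E, E⁆, K⁆ : Subgroup G).map (MulAut.conj e).toMonoidHom ≤ ⁅⁅E, E⁆, K⁆ := by
    rw [Subgroup.commutator_def, MonoidHom.map_closure, Subgroup.closure_le]
    rintro _ ⟨g, ⟨a, ha, k, hk, rfl⟩, rfl⟩
    show e * ⁅a, k⁆ * e⁻¹ ∈ _
    rw [conj_commutator_eq hcommA he ha (hKE hk), ← Subgroup.commutator_def]
    exact Subgroup.commutator_mem_commutator (conj_mem_commutator_self he ha) hk
  exact hmap ⟨x, hx, rfl⟩

/-- coprime action of `K = ⟨x⟩` on the abelian group `A`: no fixed points on `⁅A, K⁆` -/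
theorem commutator_inf_centralizer_eq_bot [Finite G] {A K : Subgroup G} (hp : (Nat.card K).Prime)
    (hcommA : ∀ a ∈ A, ∀ b ∈ A, a * b = b * a) (hKA : K ≤ normalizer (A : Set G))
    (hpA : ¬ Nat.card K ∣ Nat.card A) {x : G} (hx : x ∈ K) (hx1 : x ≠ 1) :
    ⁅A, K⁆ ⊓ centralizer ({x} : Set G) = ⊥ := by
  obtain ⟨hKz, -⟩ := zpowers_eq_of_prime_card hp hx hx1
  have hT₁A : ⁅A, K⁆ ≤ A := by
    rw [Subgroup.commutator_le]
    intro a ha k hk
    have h1 : k * a⁻¹ * k⁻¹ ∈ A := conj_mem_of_le_normalizer' hKA hk (A.inv_mem ha)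
    have h2 : ⁅a, k⁆ = a * (k * a⁻¹ * k⁻¹) := by rw [commutatorElement_def]; group
    rw [h2]; exact A.mul_mem ha h1
  set M : Subgroup G := K ⊔ A with hM
  have hAM : A ≤ M := le_sup_right
  have hKM : K ≤ M := le_sup_left
  have hcopAK : (Nat.card A).Coprime (Nat.card K) :=
    ((Nat.Prime.coprime_iff_not_dvd hp).mpr hpA).symm
  have hcardM : Nat.card M = Nat.card A * Nat.card K :=
    Cfsg.Agent.Lib.Helper01.card_sup_of_coprime_of_le_normalizer A K hKA hcopAK
  have hidx : Nat.card A * A.relIndex M = Nat.card M := by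
    have := (A.subgroupOf M).card_mul_index
    rwa [Nat.card_congr (Subgroup.subgroupOfEquivOfLe hAM).toEquiv] at this
  have hrel : A.relIndex M = Nat.card K := by
    have hpos : 0 < Nat.card A := Nat.card_pos
    rw [hcardM] at hidx
    exact Nat.eq_of_mul_eq_mul_left hpos hidx
  have hc : IsMulCommutative A := ⟨⟨fun a b => Subtype.ext (hcommA a a.2 b b.2)⟩⟩
  have hkey := Cfsg.Agent.Lib.Helper03.commutator_inf_centralizer_inf_eq_bot_of_abelian_hall
    A M hAM hc (by rw [hrel]; exact hcopAK)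
  rw [eq_bot_iff]
  intro t ht
  obtain ⟨ht1, ht2⟩ := Subgroup.mem_inf.mp ht
  have htA : t ∈ A := hT₁A ht1
  have htx : t * x = x * t := Subgroup.mem_centralizer_singleton_iff.mp ht2
  rw [← hkey]
  refine Subgroup.mem_inf.mpr ⟨Subgroup.mem_inf.mpr ⟨?_, ?_⟩, htA⟩
  · exact Subgroup.commutator_mono hAM hKM ht1
  · have hle : M ≤ centralizer ({t} : Set G) := by
      apply sup_le
      · rw [← hKz, Subgroup.zpowers_le]
        exact Subgroup.mem_centralizer_singleton_iff.mpr htx.symm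
      · intro a ha
        exact Subgroup.mem_centralizer_singleton_iff.mpr (hcommA a ha t htA)
    rw [Subgroup.mem_centralizer_iff]
    intro m hm
    exact Subgroup.mem_centralizer_singleton_iff.mp (hle hm)

end Cfsg.Agent.Lib.Helper89.BG1435
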