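import Cfsg.Prelude.Def_FusionSystem
import Cfsg.Agent.Lib.Helper87.FusionBasic
import Cfsg.Agent.Lib.Helper89.FusionAut
import Cfsg.Agent.Lib.Helper89.FusionConj
import Cfsg.Agent.Lib.Helper89.CubeSetup
import Cfsg.Agent.Lib.Helper89.CubeBad
import Cfsg.Agent.Lib.Helper89.PairAut
import Cfsg.Agent.Lib.Helper80.PGroup
import Cfsg.Agent.Lib.Helper75.PClasses
import Cfsg.Agent.Lib.Helper91.FusionEssentialClass

set_option autoImplicit false

/-!
Finite `p`-groups `S` with `|S : Z(S)| = p²`, and the essential subgroups of a saturated fusion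
system over such a group: basic structure.
-/

namespace Cfsg.Agent.Lib.Helper89

open Cfsg Cfsg.FusionSystem Cfsg.Agent.Lib.Helper87
open scoped commutatorElement

variable {Ω : Type*} [Group Ω] {S : Subgroup Ω}

/-- `Z(S)` as a subgroup of the ambient group -/
abbrev zS (S : Subgroup Ω) : Subgroup Ω := centralizerIn S S

/-- `S'` as a subgroup of the ambient group -/
def dS (S : Subgroup Ω) : Subgroup Ω := (commutator ↥S).map S.subtype

theorem zS_le (S : Subgroup Ω) : zS S ≤ S := centralizerIn_le S S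

theorem mem_zS_comm {z : Ω} (hz : z ∈ zS S) {s : Ω} (hs : s ∈ S) : s * z = z * s :=
  (mem_centralizerIn.mp hz).2 s hs

theorem zS_subgroupOf (S : Subgroup Ω) : (zS S).subgroupOf S = Subgroup.center ↥S := by
  ext ⟨x, hx⟩
  rw [Subgroup.mem_subgroupOf, Subgroup.mem_center_iff]
  constructor
  · intro h g
    apply Subtype.ext
    exact mem_zS_comm h g.2
  · intro h
    refine mem_centralizerIn.mpr ⟨hx, fun y hy => ?_⟩
    have := h ⟨y, hy⟩
    exact congrArg Subtype.val this

theorem dS_le (S : Subgroup Ω) : dS S ≤ S := by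
  rintro _ ⟨x, -, rfl⟩
  exact x.2

theorem comm_mem_dS {a b : Ω} (ha : a ∈ S) (hb : b ∈ S) : a * b * a⁻¹ * b⁻¹ ∈ dS S := by
  refine ⟨⁅(⟨a, ha⟩ : S), ⟨b, hb⟩⁆, ?_, ?_⟩
  · rw [commutator_def]
    exact Subgroup.commutator_mem_commutator (Subgroup.mem_top _) (Subgroup.mem_top _)
  · simp [commutatorElement_def]

theorem card_dS (S : Subgroup Ω) : Nat.card (dS S) = Nat.card (commutator ↥S) := by
  unfold dS
  exact Subgroup.card_map_of_injective S.subtype_injective

/-- The basic facts on `S` when `|S : Z(S)| ≤ p²` and `S` is nonabelian. -/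
theorem center_index_facts [Finite S] {p : ℕ} [Fact p.Prime] (hS : IsPGroup p S)
    (hidx : (Subgroup.center ↥S).index ≤ p ^ 2) (hna : ¬ ∀ a b : S, a * b = b * a) :
    (Subgroup.center ↥S).index = p ^ 2 ∧ Nat.card (dS S) = p ∧ dS S ≤ zS S ∧
      (zS S).relIndex S = p ^ 2 := by
  have hpr : p.Prime := Fact.out
  have h1 := Cfsg.Agent.Lib.Helper75.PClasses.p_sq_mul_card_center_le hS hna
  have h2 : (Subgroup.center ↥S).index * Nat.card (Subgroup.center ↥S) = Nat.card S :=
    Subgroup.index_mul_card _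
  have hpos : 0 < Nat.card (Subgroup.center ↥S) := Nat.card_pos
  have hge : p ^ 2 ≤ (Subgroup.center ↥S).index := by
    rw [← h2] at h1
    exact Nat.le_of_mul_le_mul_right h1 hpos
  have hi : (Subgroup.center ↥S).index = p ^ 2 := le_antisymm hidx hge
  have hc : Nat.card (commutator ↥S) = p :=
    Cfsg.Agent.Lib.Helper80.card_commutator_of_index_center hi
  have hcz : commutator ↥S ≤ Subgroup.center ↥S :=
    Cfsg.Agent.Lib.Helper80.le_center_of_normal_of_card_prime hS (commutator ↥S) hc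
  refine ⟨hi, (card_dS S).trans hc, ?_, ?_⟩
  · rintro _ ⟨x, hx, rfl⟩
    have := hcz hx
    rw [← zS_subgroupOf, Subgroup.mem_subgroupOf] at this
    exact this
  · unfold Subgroup.relIndex
    rw [zS_subgroupOf, hi]


/-! ### Essential subgroups -/

theorem essential_basic [Finite S] {p : ℕ} [Fact p.Prime] (F : FusionSystem S)
    (hF : F.IsSaturated p) (hrel : (zS S).relIndex S = p ^ 2) {E : Subgroup Ω}
    (hE : F.IsEssential p E) :
    E ≤ S ∧ centralizerIn S E ≤ E ∧ zS S ≤ E ∧ (zS S).relIndex E = p ∧ E.relIndex S = p := by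
  have hpr : p.Prime := Fact.out
  have hES : E ≤ S := hE.1.1
  have hcen : centralizerIn S E ≤ E := hE.1.2 E (isConj_refl F hES)
  have hZE : zS S ≤ E := by
    intro z hz
    apply hcen
    exact mem_centralizerIn.mpr ⟨zS_le S hz, fun x hx => mem_zS_comm hz (hES hx)⟩
  have hne : E ≠ S := Cfsg.Agent.Lib.Helper91.ne_top_of_isEssential p F hF hE
  have hSE : ¬ S ≤ E := fun h => hne (le_antisymm hES h)
  have hEZ : ¬ E ≤ zS S := by
    intro h
    apply hSE
    intro s hs
    apply hcen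
    exact mem_centralizerIn.mpr ⟨hs, fun x hx => (mem_zS_comm (h hx) hs).symm⟩
  have hmul := Subgroup.relIndex_mul_relIndex _ _ _ hZE hES
  rw [hrel] at hmul
  have ha1 : (zS S).relIndex E ≠ 1 := fun h => hEZ (Subgroup.relIndex_eq_one.mp h)
  have hb1 : E.relIndex S ≠ 1 := fun h => hSE (Subgroup.relIndex_eq_one.mp h)
  have hb : E.relIndex S ∣ p := Cfsg.Agent.Lib.Helper80.aux_nat hpr hmul ha1
  have ha : (zS S).relIndex E ∣ p :=
    Cfsg.Agent.Lib.Helper80.aux_nat hpr (by rw [mul_comm]; exact hmul) hb1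
  refine ⟨hES, hcen, hZE, ?_, ?_⟩
  · rcases (Nat.dvd_prime hpr).mp ha with h | h
    · exact absurd h ha1
    · exact h
  · rcases (Nat.dvd_prime hpr).mp hb with h | h
    · exact absurd h hb1
    · exact h

/-- The set-up around a subgroup `E` of index `p` containing `Z(S)` with `|E : Z(S)| = p`. -/
structure EssSetup (S : Subgroup Ω) (p : ℕ) (E : Subgroup Ω) (y : Ω) : Prop where
  hES : E ≤ S
  hZE : zS S ≤ E
  hcen : centralizerIn S E ≤ E
  hyS : y ∈ S
  hyE : y ∉ E
  hyn : y ∈ Subgroup.normalizer (E : Set Ω)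
  hSn : S ≤ Subgroup.normalizer (E : Set Ω)
  comm : ∀ a b : E, a * b = b * a
  decomp : ∀ g ∈ S, ∃ i : ℕ, ∃ e ∈ E, g = y ^ i * e
  fixZ : ∀ e ∈ E, y * e * y⁻¹ = e → e ∈ zS S
  ypow : y ^ p ∈ E
  hdz : dS S ≤ zS S
  hdcard : Nat.card (dS S) = p

theorem essSetup_of_not_mem [Finite S] {p : ℕ} [Fact p.Prime] (hdz : dS S ≤ zS S)
    (hdcard : Nat.card (dS S) = p) {E : Subgroup Ω} (hES : E ≤ S) (hcen : centralizerIn S E ≤ E)
    (hZE : zS S ≤ E) (hZidx : (zS S).relIndex E = p) (hEidx : E.relIndex S = p) {y : Ω}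
    (hyS : y ∈ S) (hyE : y ∉ E) : EssSetup S p E y := by
  have hpr : p.Prime := Fact.out
  have hSn : S ≤ Subgroup.normalizer (E : Set Ω) := by
    apply le_normalizer_of_conj_mem
    intro g hg x hx
    have h1 : g * x * g⁻¹ * x⁻¹ ∈ E := hZE (hdz (comm_mem_dS hg (hES hx)))
    have : g * x * g⁻¹ = g * x * g⁻¹ * x⁻¹ * x := by group
    rw [this]
    exact E.mul_mem h1 hx
  have hSE : ¬ S ≤ E := fun h => by
    have := Subgroup.relIndex_eq_one.mpr h
    rw [hEidx] at this
    exact hpr.one_lt.ne' this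
  have hEZ : ¬ E ≤ zS S := fun h => by
    have := Subgroup.relIndex_eq_one.mpr h
    rw [hZidx] at this
    exact hpr.one_lt.ne' this
  obtain ⟨x, hxE, hxZ⟩ := SetLike.not_le_iff_exists.mp hEZ
  have hEnZ : E ≤ Subgroup.normalizer ((zS S : Subgroup Ω) : Set Ω) := by
    apply le_normalizer_of_conj_mem
    intro g hg z hz
    have : g * z * g⁻¹ = z := by rw [mem_zS_comm hz (hES hg), mul_inv_cancel_right]
    rw [this]
    exact hz
  have hdecE := exists_pow_mul_of_relIndex_prime hpr (zS S) E hEnZ hZidx hxE hxZ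
  have hdecS := exists_pow_mul_of_relIndex_prime hpr E S hSn hEidx hyS hyE
  have hcommZ : ∀ z ∈ zS S, ∀ s ∈ S, Commute s z := fun z hz s hs => mem_zS_comm hz hs
  have hcomm : ∀ a b : E, a * b = b * a := by
    intro a b
    obtain ⟨i, z, hz, ha⟩ := hdecE a a.2
    obtain ⟨k, z', hz', hb⟩ := hdecE b b.2
    apply Subtype.ext
    show (a : Ω) * b = b * a
    rw [ha, hb]
    have hxS : x ∈ S := hES hxE
    have c1 : Commute (x ^ i) (x ^ k) := Commute.pow_pow_self x i k
    have c2 : Commute (x ^ i) z' := hcommZ z' hz' _ (S.pow_mem hxS i)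
    have c3 : Commute z (x ^ k) := (hcommZ z hz _ (S.pow_mem hxS k)).symm
    have c4 : Commute z z' := hcommZ z' hz' z (zS_le S hz)
    exact ((c1.mul_right c2).mul_left (c3.mul_right c4)).eq
  refine ⟨hES, hZE, hcen, hyS, hyE, hSn hyS, hSn, hcomm, hdecS, ?_, ?_, hdz, hdcard⟩
  · intro e he hfix
    refine mem_centralizerIn.mpr ⟨hES he, fun s hs => ?_⟩
    obtain ⟨i, e', he', rfl⟩ := hdecS s hs
    have c1 : Commute y e := by
      show y * e = e * y
      have : y * e = y * e * y⁻¹ * y := by group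
      rw [this, hfix]
    have c2 : Commute e' e := by
      have := hcomm ⟨e', he'⟩ ⟨e, he⟩
      exact congrArg Subtype.val this
    exact ((c1.pow_left i).mul_left c2).eq
  · have : (E.subgroupOf S).Normal := Subgroup.normal_subgroupOf_of_le_normalizer hSn
    have := Subgroup.pow_index_mem (E.subgroupOf S) (⟨y, hyS⟩ : S)
    have hidx' : (E.subgroupOf S).index = p := hEidx
    rw [hidx', Subgroup.mem_subgroupOf] at this
    simpa using this

theorem exists_essSetup [Finite S] {p : ℕ} [Fact p.Prime] (hdz : dS S ≤ zS S)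
    (hdcard : Nat.card (dS S) = p) {E : Subgroup Ω} (hES : E ≤ S) (hcen : centralizerIn S E ≤ E)
    (hZE : zS S ≤ E) (hZidx : (zS S).relIndex E = p) (hEidx : E.relIndex S = p) :
    ∃ y : Ω, EssSetup S p E y := by
  have hpr : p.Prime := Fact.out
  have hSE : ¬ S ≤ E := fun h => by
    have := Subgroup.relIndex_eq_one.mpr h
    rw [hEidx] at this
    exact hpr.one_lt.ne' this
  obtain ⟨y, hyS, hyE⟩ := SetLike.not_le_iff_exists.mp hSE
  exact ⟨y, essSetup_of_not_mem hdz hdcard hES hcen hZE hZidx hEidx hyS hyE⟩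

end Cfsg.Agent.Lib.Helper89
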