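import Cfsg.Agent.Lib.Helper89.CenterIdx9

set_option autoImplicit false
set_option linter.unusedSectionVars false

/-!
The prime `2`, two essential subgroups with different `W`: the subgroup `S₁` of index two.
-/

namespace Cfsg.Agent.Lib.Helper89

open Cfsg Cfsg.FusionSystem Cfsg.Agent.Lib.Helper87

section General
variable {G : Type*} [Group G]

theorem mem_sup_of_le_normalizer {H N : Subgroup G} (h : H ≤ Subgroup.normalizer (N : Set G))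
    {x : G} : x ∈ H ⊔ N ↔ ∃ a ∈ H, ∃ b ∈ N, x = a * b := by
  have h1 := Subgroup.coe_mul_of_left_le_normalizer_right H N h
  have h2 : x ∈ H ⊔ N ↔ x ∈ ((H ⊔ N : Subgroup G) : Set G) := Iff.rfl
  rw [h2, h1, Set.mem_mul]
  constructor
  · rintro ⟨a, ha, b, hb, rfl⟩
    exact ⟨a, ha, b, hb, rfl⟩
  · rintro ⟨a, ha, b, hb, rfl⟩
    exact ⟨a, ha, b, hb, rfl⟩

theorem mem_zpowers_of_mul_self {x g : G} (hx : x * x = 1) (hg : g ∈ Subgroup.zpowers x) :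
    g = 1 ∨ g = x := by
  obtain ⟨k, rfl⟩ := Subgroup.mem_zpowers_iff.mp hg
  have h2 : x ^ (2 : ℤ) = 1 := by rw [zpow_two]; exact hx
  rcases Int.even_or_odd' k with ⟨m, rfl | rfl⟩
  · left
    rw [zpow_mul, h2, one_zpow]
  · right
    rw [zpow_add_one, zpow_mul, h2, one_zpow, one_mul]

end General

variable {Ω : Type*} [Group Ω]

/-- the subgroup `⟨x₂⟩ ⟨x₁⟩ S' W` -/
def S1 (S : Subgroup Ω) (x₁ x₂ : Ω) (W : Subgroup Ω) : Subgroup Ω :=
  Subgroup.zpowers x₂ ⊔ (Subgroup.zpowers x₁ ⊔ (dS S ⊔ W))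

section S1
variable {S : Subgroup Ω} {x₁ x₂ s : Ω} {W : Subgroup Ω}

theorem dS_le_S1 : dS S ≤ S1 S x₁ x₂ W :=
  le_sup_left.trans (le_sup_right.trans le_sup_right)

theorem W_le_S1 : W ≤ S1 S x₁ x₂ W :=
  le_sup_right.trans (le_sup_right.trans le_sup_right)

theorem x₁_mem_S1 : x₁ ∈ S1 S x₁ x₂ W :=
  (le_sup_left.trans le_sup_right : Subgroup.zpowers x₁ ≤ S1 S x₁ x₂ W) (Subgroup.mem_zpowers x₁)

theorem x₂_mem_S1 : x₂ ∈ S1 S x₁ x₂ W :=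
  (le_sup_left : Subgroup.zpowers x₂ ≤ S1 S x₁ x₂ W) (Subgroup.mem_zpowers x₂)

theorem S1_le (hx₁ : x₁ ∈ S) (hx₂ : x₂ ∈ S) (hW : W ≤ zS S) : S1 S x₁ x₂ W ≤ S := by
  refine sup_le ((Subgroup.zpowers_le).mpr hx₂) (sup_le ((Subgroup.zpowers_le).mpr hx₁)
    (sup_le (dS_le S) (hW.trans (zS_le S))))

theorem conj_mem_S1 (hx₁ : x₁ ∈ S) (hx₂ : x₂ ∈ S) (hW : W ≤ zS S) {g y : Ω} (hg : g ∈ S)
    (hy : y ∈ S1 S x₁ x₂ W) : g * y * g⁻¹ ∈ S1 S x₁ x₂ W := by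
  have hyS : y ∈ S := S1_le hx₁ hx₂ hW hy
  have h1 : g * y * g⁻¹ = (g * y * g⁻¹ * y⁻¹) * y := by group
  rw [h1]
  exact Subgroup.mul_mem _ (dS_le_S1 (comm_mem_dS hg hyS)) hy

/-- normal form of the elements of `S₁` -/
theorem exists_of_mem_S1 (hdz : dS S ≤ zS S) (hx₁ : x₁ ∈ S) (hx₂ : x₂ ∈ S)
    (hx₁sq : x₁ * x₁ = 1) (hx₂sq : x₂ * x₂ = 1) (hW : W ≤ zS S) (hs : s ∈ dS S)
    (hconj : x₂ * x₁ * x₂⁻¹ = x₁ * s) {g : Ω} (hg : g ∈ S1 S x₁ x₂ W) :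
    ∃ a b u w : Ω, (a = 1 ∨ a = x₂) ∧ (b = 1 ∨ b = x₁) ∧ u ∈ dS S ∧ w ∈ W ∧
      g = a * (b * (u * w)) := by
  have hZ₁ : dS S ⊔ W ≤ zS S := sup_le hdz hW
  have hn1 : dS S ≤ Subgroup.normalizer (W : Set Ω) := by
    apply le_normalizer_of_conj_mem
    intro g hg w hw
    have : g * w * g⁻¹ = w := by
      rw [mem_zS_comm (hW hw) (dS_le S hg), mul_inv_cancel_right]
    rw [this]
    exact hw
  have hn2 : Subgroup.zpowers x₁ ≤ Subgroup.normalizer ((dS S ⊔ W : Subgroup Ω) : Set Ω) := by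
    apply le_normalizer_of_conj_mem
    intro g hg z hz
    have hgS : g ∈ S := (Subgroup.zpowers_le).mpr hx₁ hg
    have : g * z * g⁻¹ = z := by
      rw [mem_zS_comm (hZ₁ hz) hgS, mul_inv_cancel_right]
    rw [this]
    exact hz
  have hn3 : Subgroup.zpowers x₂ ≤
      Subgroup.normalizer ((Subgroup.zpowers x₁ ⊔ (dS S ⊔ W) : Subgroup Ω) : Set Ω) := by
    apply le_normalizer_of_conj_mem
    intro g hg n hn
    rcases mem_zpowers_of_mul_self hx₂sq hg with rfl | rfl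
    · simpa using hn
    · obtain ⟨b, hb, z, hz, rfl⟩ := (mem_sup_of_le_normalizer hn2).mp hn
      have hzc : g * z * g⁻¹ = z := by
        rw [mem_zS_comm (hZ₁ hz) hx₂, mul_inv_cancel_right]
      have e1 : g * (b * z) * g⁻¹ = (g * b * g⁻¹) * (g * z * g⁻¹) := by group
      rw [e1, hzc]
      rcases mem_zpowers_of_mul_self hx₁sq hb with rfl | rfl
      · rw [mul_one, mul_inv_cancel, one_mul]
        exact (le_sup_right : dS S ⊔ W ≤ _) hz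
      · rw [hconj, mul_assoc]
        refine Subgroup.mul_mem _ ((le_sup_left : Subgroup.zpowers b ≤ _) (Subgroup.mem_zpowers b))
          ((le_sup_right : dS S ⊔ W ≤ _) ?_)
        exact Subgroup.mul_mem _ ((le_sup_left : dS S ≤ _) hs) hz
  unfold S1 at hg
  obtain ⟨a, ha, n, hn, rfl⟩ := (mem_sup_of_le_normalizer hn3).mp hg
  obtain ⟨b, hb, z, hz, rfl⟩ := (mem_sup_of_le_normalizer hn2).mp hn
  obtain ⟨u, hu, w, hw, rfl⟩ := (mem_sup_of_le_normalizer hn1).mp hz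
  exact ⟨a, b, u, w, mem_zpowers_of_mul_self hx₂sq ha, mem_zpowers_of_mul_self hx₁sq hb, hu, hw, rfl⟩

end S1

end Cfsg.Agent.Lib.Helper89
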