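import Cfsg.Agent.Lib.Helper89.CenterIdx10

set_option autoImplicit false
set_option linter.unusedSectionVars false

/-!
The prime `2`: automorphisms of an essential subgroup modulo a subgroup `T`.
-/

namespace Cfsg.Agent.Lib.Helper89

open Cfsg Cfsg.FusionSystem Cfsg.Agent.Lib.Helper87

variable {Ω : Type*} [Group Ω] {S : Subgroup Ω}
variable [Finite S] [Fact (Nat.Prime 2)] {F : FusionSystem S}
variable {E : Subgroup Ω} {y : Ω} {t' : MulAut E} {d d' : E} {j : ℕ}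

theorem TwoData.d_eq {E₂ : Subgroup Ω} {y₂ : Ω} {t₂' : MulAut E₂} {d₂ d₂' : E₂} {j₂ : ℕ}
    (D₁ : TwoData F E y t' d d' j) (D₂ : TwoData F E₂ y₂ t₂' d₂ d₂' j₂) :
    (d₂ : Ω) = (d : Ω) := by
  rcases D₁.dS_cases D₂.d_mem with h | h
  · exact absurd h D₂.d_ne_one
  · exact h

theorem TwoData.cen_val_mem (D : TwoData F E y t' d d' j) {M : Subgroup Ω} (hd : (d : Ω) ∈ M)
    (hd' : (d' : Ω) ∈ M) {σ : MulAut E} (hσA : σ ∈ F.autGroup E) (hσ1 : σ ≠ 1)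
    (hσ2 : σ ^ 2 = 1) {u : E} (hu : u ∈ cen D.h.comm σ) : (u : Ω) ∈ M := by
  have := D.finite
  rcases involution_cases D.had D.pair σ hσA hσ1 hσ2 with rfl | rfl | rfl
  · obtain ⟨n, rfl⟩ := D.g.gen u hu
    rw [Subgroup.coe_pow]
    exact M.pow_mem hd n
  · obtain ⟨n, rfl⟩ := D.g.gen' u hu
    rw [Subgroup.coe_pow]
    exact M.pow_mem hd' n
  · rw [cen_conj_eq] at hu
    obtain ⟨u', hu', rfl⟩ := hu
    obtain ⟨n, rfl⟩ := D.g.gen' u' hu'
    show ((D.h.t (d' ^ n) : E) : Ω) ∈ M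
    rw [map_pow, D.t_x, Subgroup.coe_pow, Subgroup.coe_mul]
    exact M.pow_mem (M.mul_mem hd' hd) n

theorem TwoData.aut_V (D : TwoData F E y t' d d' j) {M : Subgroup Ω} (hd : (d : Ω) ∈ M)
    (hd' : (d' : Ω) ∈ M) {αE : MulAut E} (hαE : αE ∈ F.autGroup E) {σ₀ : MulAut E}
    (hσ₀A : σ₀ ∈ F.autGroup E) (hσ₀1 : σ₀ ≠ 1) (hσ₀2 : σ₀ ^ 2 = 1) {u : E}
    (hu : u ∈ cen D.h.comm σ₀) : ((αE u : E) : Ω) ∈ M := by
  have h1 := mem_cen_conj D.h.comm αE σ₀ u hu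
  exact D.cen_val_mem hd hd'
    (Subgroup.mul_mem _ (Subgroup.mul_mem _ hαE hσ₀A) (Subgroup.inv_mem _ hαE))
    (conj_ne_one hσ₀1) (conj_pow_eq_one hσ₀2) h1

theorem TwoData.aut_x_cases (D : TwoData F E y t' d d' j) {αE : MulAut E}
    (hαE : αE ∈ F.autGroup E) (hnz : ((αE d' : E) : Ω) ∉ zS S) :
    αE d' = d' ∨ αE d' = d' * d := by
  have := D.finite
  have h1 := mem_cen_conj D.h.comm αE t' d' D.g.d'mem
  have hne1 : αE d' ≠ 1 := by
    intro h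
    exact D.g.d'1 (αE.injective (h.trans (map_one αE).symm))
  have hσA : αE * t' * αE⁻¹ ∈ F.autGroup E :=
    Subgroup.mul_mem _ (Subgroup.mul_mem _ hαE D.pair.t'A) (Subgroup.inv_mem _ hαE)
  rcases involution_cases D.had D.pair _ hσA (conj_ne_one D.pair.t'1)
    (conj_pow_eq_one D.pair.t'p) with h | h | h
  · exfalso
    rw [h] at h1
    exact hnz (D.h.hdz ((D.h.mem_cen_iff _).mp h1))
  · left
    rw [h] at h1
    exact (eq_of_card_two (cen D.h.comm t') D.card_cen' h1 D.g.d'mem hne1 D.g.d'1).1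
  · right
    rw [h, cen_conj_eq] at h1
    obtain ⟨u', hu', hu'e⟩ := h1
    have hu'1 : u' ≠ 1 := by
      rintro rfl
      apply hne1
      rw [← hu'e]
      exact map_one _
    have := (eq_of_card_two (cen D.h.comm t') D.card_cen' hu' D.g.d'mem hu'1 D.g.d'1).1
    rw [← hu'e, this]
    exact D.t_x

theorem TwoData.diff_mem (D : TwoData F E y t' d d' j) {w w' : Ω} (hwZ : w ∈ zS S)
    (hw'Z : w' ∈ zS S) (hw : w ∉ D.W) (hw' : w' ∉ D.W) : w⁻¹ * w' ∈ D.W := by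
  obtain ⟨u, hu, v, hv, rfl⟩ := D.decompZ hwZ
  obtain ⟨u', hu', v', hv', rfl⟩ := D.decompZ hw'Z
  have hu1 : u = (d : Ω) := by
    rcases D.dS_cases hu with h | h
    · exfalso
      apply hw
      rw [h, one_mul]
      exact hv
    · exact h
  have hu'1 : u' = (d : Ω) := by
    rcases D.dS_cases hu' with h | h
    · exfalso
      apply hw'
      rw [h, one_mul]
      exact hv'
    · exact h
  rw [hu1, hu'1]
  have : ((d : Ω) * v)⁻¹ * ((d : Ω) * v') = v⁻¹ * v' := by group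
  rw [this]
  exact Subgroup.mul_mem _ (Subgroup.inv_mem _ hv) hv'

/-- Every `F`-automorphism of `E` is trivial modulo `T`, if `T` contains `d`, `d'` and the
`F`-automorphisms of `S` are trivial on `W` modulo `T`. -/
theorem TwoData.aut_mod (D : TwoData F E y t' d d' j) {T : Subgroup Ω} (hdT : (d : Ω) ∈ T)
    (hd'T : (d' : Ω) ∈ T)
    (hST : ∀ μ ∈ F.autGroup S, ∀ w : S, (w : Ω) ∈ D.W → ((μ w : S) : Ω) ∈ D.W ∧
      (w : Ω)⁻¹ * ((μ w : S) : Ω) ∈ T)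
    {αE : MulAut E} (hαE : αE ∈ F.autGroup E) (e : E) :
    (e : Ω)⁻¹ * ((αE e : E) : Ω) ∈ T := by
  have := D.finite
  have hcomp : ∀ x : E, ((comHom D.h.comm αE x : E) : Ω) = (x : Ω)⁻¹ * ((αE x : E) : Ω) := by
    intro x
    rw [comHom_apply, Subgroup.coe_mul, Subgroup.coe_inv]
  rw [← hcomp]
  obtain ⟨u, hu, v, hv, w, hw1, hw2, rfl⟩ := D.g.exists_decomp D.had D.pair e
  rw [map_mul, map_mul, Subgroup.coe_mul, Subgroup.coe_mul]
  refine T.mul_mem (T.mul_mem ?_ ?_) ?_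
  · rw [hcomp]
    exact T.mul_mem (T.inv_mem (D.cen_val_mem hdT hd'T D.pair.t'A D.pair.t'1 D.pair.t'p hu))
      (D.aut_V hdT hd'T hαE D.pair.t'A D.pair.t'1 D.pair.t'p hu)
  · rw [hcomp]
    exact T.mul_mem (T.inv_mem (D.cen_val_mem hdT hd'T D.pair.tA D.pair.t1 D.pair.tp hv))
      (D.aut_V hdT hd'T hαE D.pair.tA D.pair.t1 D.pair.tp hv)
  · rw [hcomp]
    have hwW : (w : Ω) ∈ D.W := D.mem_W.mpr ⟨w, hw1, hw2, rfl⟩
    obtain ⟨n, ν, hαnν, hnA, hνA, hνnorm, hn⟩ :=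
      exists_swap_mul_normalizer D.had D.pair.tA D.pair.t1 D.pair.tp αE hαE
    obtain ⟨μ, hμ, hμe⟩ := D.h.exists_extension F D.hrec ν hνA hνnorm
    obtain ⟨hμW, hμT⟩ := hST μ hμ ⟨(w : Ω), D.h.hES w.2⟩ hwW
    rw [hμe w] at hμW hμT
    have hnfix : n (ν w) = ν w := by
      rcases hn with rfl | ⟨k, rfl⟩
      · rfl
      · apply swap_fix
        · exact D.inv_fix D.pair.tA D.pair.tp hμW
        · refine D.inv_fix ?_ (conj_pow_eq_one D.pair.tp) hμW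
          exact Subgroup.mul_mem _ (Subgroup.mul_mem _ hαE D.pair.tA) (Subgroup.inv_mem _ hαE)
    rw [hαnν, MulAut.mul_apply, hnfix]
    exact hμT

end Cfsg.Agent.Lib.Helper89
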