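import Cfsg.Agent.Lib.Helper89.CenterIdx11
import Cfsg.Agent.Lib.Helper88.FusionHyp2
import Cfsg.Agent.S5082

set_option autoImplicit false
set_option linter.unusedSectionVars false

/-!
The prime `2`, two essential subgroups with different `W`: contradiction with the hyperfocal
subgroup being `S`.
-/

namespace Cfsg.Agent.Lib.Helper89

open Cfsg Cfsg.FusionSystem Cfsg.Agent.Lib.Helper87

variable {Ω : Type*} [Group Ω] {S : Subgroup Ω}
variable [Finite S] [Fact (Nat.Prime 2)] {F : FusionSystem S}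
variable {E : Subgroup Ω} {y : Ω} {t' : MulAut E} {d d' : E} {j : ℕ}
variable {E₂ : Subgroup Ω} {y₂ : Ω} {t₂' : MulAut E₂} {d₂ d₂' : E₂} {j₂ : ℕ}

/-- `F`-automorphisms of `S` are trivial modulo `T`, where `T` contains `S'`, the two involutions
and `W₁ ⊓ W₂`. -/
theorem TwoData.autS_mod (c : Ctx 2 F) (D₁ : TwoData F E y t' d d' j)
    (D₂ : TwoData F E₂ y₂ t₂' d₂ d₂' j₂) (hne : E ≠ E₂) {T : Subgroup Ω} (_hTS : T ≤ S)
    (hDT : dS S ≤ T) (_hx₁T : (d' : Ω) ∈ T) (_hx₂T : (d₂' : Ω) ∈ T) (hWT : D₁.W ⊓ D₂.W ≤ T)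
    {α : MulAut S} (hα : α ∈ F.autGroup S) (g : S) : (g : Ω)⁻¹ * ((α g : S) : Ω) ∈ T := by
  have hTnorm : (T.subgroupOf S).Normal := by
    constructor
    intro n hn g
    rw [Subgroup.mem_subgroupOf] at hn ⊢
    have h1 : ((g * n * g⁻¹ : S) : Ω) = ((g : Ω) * n * (g : Ω)⁻¹ * (n : Ω)⁻¹) * n := by
      simp
    rw [h1]
    exact T.mul_mem (hDT (comm_mem_dS g.2 n.2)) hn
  obtain ⟨π, hπ⟩ : ∃ π : S →* S ⧸ T.subgroupOf S, π = QuotientGroup.mk' (T.subgroupOf S) := ⟨_, rfl⟩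
  have hπeq : ∀ a b : S, π a = π b ↔ (a : Ω)⁻¹ * (b : Ω) ∈ T := by
    intro a b
    rw [hπ]
    show (QuotientGroup.mk a : S ⧸ T.subgroupOf S) = QuotientGroup.mk b ↔ _
    rw [QuotientGroup.eq, Subgroup.mem_subgroupOf]
    simp
  have hπ1 : ∀ a : S, (a : Ω) ∈ T → π a = 1 := by
    intro a ha
    rw [← map_one π, hπeq]
    simpa using T.inv_mem ha
  suffices hsuff : π (α g) = π g by
    exact (hπeq g (α g)).mp hsuff.symm
  -- the two involutions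
  obtain ⟨x₁, hx₁⟩ : ∃ x₁ : S, (x₁ : Ω) = (d' : Ω) := ⟨⟨(d' : Ω), D₁.h.hES d'.2⟩, rfl⟩
  obtain ⟨x₂, hx₂⟩ : ∃ x₂ : S, (x₂ : Ω) = (d₂' : Ω) := ⟨⟨(d₂' : Ω), D₂.h.hES d₂'.2⟩, rfl⟩
  have key : ∀ {E' : Subgroup Ω} {y' : Ω} {t'' : MulAut E'} {e e' : E'} {k : ℕ}
      (D : TwoData F E' y' t'' e e' k) (x : S), (x : Ω) = (e' : Ω) → π (α x) = π x := by
    intro E' y' t'' e e' k D x hx
    obtain ⟨αE, hαE, hαEe⟩ := exists_restrict_aut F D.h.hES hα (D.claimX c hα)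
    have hxx : (⟨((e' : E') : Ω), D.h.hES e'.2⟩ : S) = x := Subtype.ext hx.symm
    have hnz : ((αE e' : E') : Ω) ∉ zS S := by
      rw [hαEe, hxx]
      intro h
      apply D.x_not_mem_zS
      have := aut_mem_zS α⁻¹ h
      rw [MulAut.inv_apply_self, hx] at this
      exact this
    rcases D.aut_x_cases hαE hnz with h | h
    · have h1 := hαEe e'
      rw [h, hxx] at h1
      have : α x = x := Subtype.ext (by rw [← h1, hx])
      rw [this]
    · have h1 := hαEe e'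
      rw [h, hxx, Subgroup.coe_mul] at h1
      rw [hπeq, ← h1, ← hx]
      have e3 : ((x : Ω) * (e : Ω))⁻¹ * (x : Ω) = (e : Ω)⁻¹ := by group
      rw [e3]
      exact T.inv_mem (hDT D.d_mem)
  have hkey₁ : π (α x₁) = π x₁ := key D₁ x₁ hx₁
  have hkey₂ : π (α x₂) = π x₂ := key D₂ x₂ hx₂
  -- central elements
  have hZ : ∀ z : S, (z : Ω) ∈ zS S → π (α z) = π z := by
    intro z hz
    obtain ⟨u, hu, w, hw, hzuw⟩ := D₁.decompZ hz
    obtain ⟨us, hus⟩ : ∃ us : S, (us : Ω) = u := ⟨⟨u, dS_le S hu⟩, rfl⟩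
    obtain ⟨ws, hws⟩ : ∃ ws : S, (ws : Ω) = w := ⟨⟨w, zS_le S (D₁.W_le hw)⟩, rfl⟩
    have hzs : z = us * ws := Subtype.ext (by rw [Subgroup.coe_mul, hus, hws]; exact hzuw)
    have hαu : π (α us) = π us := by
      rw [hπ1 _ (hDT (aut_mem_dS α (by rw [hus]; exact hu))), hπ1 _ (hDT (by rw [hus]; exact hu))]
    have hαw : π (α ws) = π ws := by
      rw [eq_comm, hπeq]
      apply hWT
      have hw1 : ((α ws : S) : Ω) ∈ D₁.W := D₁.W_inv_S c hα (by rw [hws]; exact hw)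
      refine ⟨Subgroup.mul_mem _ (Subgroup.inv_mem _ (by rw [hws]; exact hw)) hw1, ?_⟩
      by_cases hw2 : w ∈ D₂.W
      · exact Subgroup.mul_mem _ (Subgroup.inv_mem _ (by rw [hws]; exact hw2))
          (D₂.W_inv_S c hα (by rw [hws]; exact hw2))
      · apply D₂.diff_mem (by rw [hws]; exact D₁.W_le hw) (D₁.W_le hw1) (by rw [hws]; exact hw2)
        intro h
        apply hw2
        have := D₂.W_inv_S c (Subgroup.inv_mem _ hα) h
        rw [MulAut.inv_apply_self, hws] at this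
        exact this
    rw [hzs, map_mul α, map_mul π, map_mul π, hαu, hαw]
  have hE₁ : ∀ e : S, (e : Ω) ∈ E → π (α e) = π e := by
    intro e he
    rcases D₁.E_cases he with hz | hz
    · exact hZ e hz
    · have he' : e = x₁ * (x₁⁻¹ * e) := by rw [mul_inv_cancel_left]
      have hz' : ((x₁⁻¹ * e : S) : Ω) ∈ zS S := by
        rw [Subgroup.coe_mul, Subgroup.coe_inv, hx₁]
        exact hz
      calc π (α e) = π (α (x₁ * (x₁⁻¹ * e))) := by rw [← he']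
        _ = π (α x₁) * π (α (x₁⁻¹ * e)) := by rw [map_mul α, map_mul π]
        _ = π x₁ * π (x₁⁻¹ * e) := by rw [hkey₁, hZ _ hz']
        _ = π e := by rw [← map_mul π, ← he']
  have hx₂E : (x₂ : Ω) ∉ E := by
    rw [hx₂]
    exact D₁.x_not_mem_of_ne c D₂ hne
  rcases D₁.S_cases x₂.2 hx₂E g.2 with hg | hg
  · exact hE₁ g hg
  · have hg' : g = x₂ * (x₂⁻¹ * g) := by rw [mul_inv_cancel_left]
    have hz' : ((x₂⁻¹ * g : S) : Ω) ∈ E := by
      rw [Subgroup.coe_mul, Subgroup.coe_inv]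
      exact hg
    calc π (α g) = π (α (x₂ * (x₂⁻¹ * g))) := by rw [← hg']
      _ = π (α x₂) * π (α (x₂⁻¹ * g)) := by rw [map_mul α, map_mul π]
      _ = π x₂ * π (x₂⁻¹ * g) := by rw [hkey₂, hE₁ _ hz']
      _ = π g := by rw [← map_mul π, ← hg']

/-- the case `W₁ ≠ W₂` is impossible -/
theorem TwoData.false_of_not_le (c : Ctx 2 F) (hhyp : F.hyperfocalSubgroup 2 = S)
    (D₁ : TwoData F E y t' d d' j) (D₂ : TwoData F E₂ y₂ t₂' d₂ d₂' j₂) (hne : E ≠ E₂)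
    (hnle : ¬ D₁.W ≤ D₂.W) : False := by
  obtain ⟨z₀, hz₀1, hz₀2⟩ := SetLike.not_le_iff_exists.mp hnle
  have hx₁S : (d' : Ω) ∈ S := D₁.h.hES d'.2
  have hx₂S : (d₂' : Ω) ∈ S := D₂.h.hES d₂'.2
  have hWZ : D₁.W ⊓ D₂.W ≤ zS S := inf_le_left.trans D₁.W_le
  obtain ⟨T, hT⟩ : ∃ T : Subgroup Ω, T = S1 S (d' : Ω) (d₂' : Ω) (D₁.W ⊓ D₂.W) := ⟨_, rfl⟩
  have hTS : T ≤ S := by rw [hT]; exact S1_le hx₁S hx₂S hWZ
  have hDT : dS S ≤ T := by rw [hT]; exact dS_le_S1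
  have hx₁T : (d' : Ω) ∈ T := by rw [hT]; exact x₁_mem_S1
  have hx₂T : (d₂' : Ω) ∈ T := by rw [hT]; exact x₂_mem_S1
  have hWT : D₁.W ⊓ D₂.W ≤ T := by rw [hT]; exact W_le_S1
  have hTnorm : ∀ s ∈ S, ∀ y ∈ T, s * y * s⁻¹ ∈ T := by
    intro s hs y hy
    rw [hT] at hy ⊢
    exact conj_mem_S1 hx₁S hx₂S hWZ hs hy
  -- `z₀ ∉ T`
  have hz₀T : z₀ ∉ T := by
    intro hmem
    rw [hT] at hmem
    obtain ⟨a, b, u, w, ha, hb, hu, hw, hdec⟩ := exists_of_mem_S1 D₁.h.hdz hx₁S hx₂S D₁.x_sq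
      D₂.x_sq hWZ D₁.d_mem (D₁.conj_x c D₂ hne) hmem
    have huwZ : u * w ∈ zS S := Subgroup.mul_mem _ (D₁.h.hdz hu) (hWZ hw)
    have hz₀Z : z₀ ∈ zS S := D₁.W_le hz₀1
    rcases ha with rfl | rfl
    · rw [one_mul] at hdec
      rcases hb with rfl | rfl
      · rw [one_mul] at hdec
        have hu1 : u = 1 := by
          apply D₁.dS_inf_W hu
          have : u = z₀ * w⁻¹ := by rw [hdec, mul_inv_cancel_right]
          rw [this]
          exact Subgroup.mul_mem _ hz₀1 (Subgroup.inv_mem _ hw.1)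
        rw [hu1, one_mul] at hdec
        rw [hdec] at hz₀2
        exact hz₀2 hw.2
      · apply D₁.x_not_mem_zS
        have : (d' : Ω) = z₀ * (u * w)⁻¹ := by rw [hdec, mul_inv_cancel_right]
        rw [this]
        exact Subgroup.mul_mem _ hz₀Z (Subgroup.inv_mem _ huwZ)
    · apply D₁.x_not_mem_of_ne c D₂ hne
      have : (d₂' : Ω) = z₀ * (b * (u * w))⁻¹ := by rw [hdec, mul_inv_cancel_right]
      rw [this]
      refine E.mul_mem (D₁.h.hZE hz₀Z) (E.inv_mem (E.mul_mem ?_ (D₁.h.hZE huwZ)))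
      rcases hb with rfl | rfl
      · exact E.one_mem
      · exact d'.2
  -- all maps of `F` are trivial modulo `T`
  have hS2 : ∀ μ ∈ F.autGroup S, ∀ g : S, (g : Ω)⁻¹ * ((μ g : S) : Ω) ∈ T :=
    fun μ hμ g => D₁.autS_mod c D₂ hne hTS hDT hx₁T hx₂T hWT hμ g
  have hmod : F ≤ Cfsg.Agent.Lib.Helper88.modSystem F T hTnorm := by
    apply Cfsg.Agent.S5082.result 2 c.hS F c.hF
    intro P hP α hα
    have hPS : P ≤ S := by
      rcases hP with rfl | hP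
      · exact le_rfl
      · exact hP.1.1
    apply Subgroup.subset_closure
    refine ⟨(mem_autGroup_iff F hPS α).mp hα, 1, S.one_mem, fun x => ?_⟩
    have e1 : (1 * (x : Ω) * 1⁻¹)⁻¹ * (P.subtype.comp α.toMonoidHom) x =
        (x : Ω)⁻¹ * ((α x : P) : Ω) := by simp
    rw [e1]
    rcases hP with rfl | hP
    · exact hS2 α hα x
    · rcases D₁.essential_cases c D₂ hne hP with rfl | rfl
      · exact D₁.aut_mod (hDT D₁.d_mem) hx₁T
          (fun μ hμ w hw => ⟨D₁.W_inv_S c hμ hw, hS2 μ hμ w⟩) hα x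
      · exact D₂.aut_mod (hDT D₂.d_mem) hx₂T
          (fun μ hμ w hw => ⟨D₂.W_inv_S c hμ hw, hS2 μ hμ w⟩) hα x
  have hhypT : F.hyperfocalSubgroup 2 ≤ T := by
    unfold FusionSystem.hyperfocalSubgroup
    rw [Subgroup.closure_le]
    rintro _ ⟨P, α, x, hPS, -, rfl⟩
    have hφ : P.subtype.comp (α : MulAut P).toMonoidHom ∈ F.Hom P :=
      (mem_autGroup_iff F hPS _).mp α.2
    obtain ⟨-, s, hs, hφs⟩ := hmod P hφ
    have h1 := hφs x
    have h2 : (x : Ω)⁻¹ * s * ((x : Ω)⁻¹)⁻¹ * s⁻¹ ∈ dS S :=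
      comm_mem_dS (S.inv_mem (hPS x.2)) hs
    have e2 : (x : Ω)⁻¹ * (((α : MulAut P) x : P) : Ω) =
        ((x : Ω)⁻¹ * s * ((x : Ω)⁻¹)⁻¹ * s⁻¹) *
          ((s * (x : Ω) * s⁻¹)⁻¹ * (P.subtype.comp (α : MulAut P).toMonoidHom) x) := by
      simp only [MonoidHom.coe_comp, Subgroup.coe_subtype, Function.comp_apply,
        MulEquiv.coe_toMonoidHom]
      group
    show (x : Ω)⁻¹ * (((α : MulAut P) x : P) : Ω) ∈ T
    rw [e2]
    exact T.mul_mem (hDT h2) h1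
  rw [hhyp] at hhypT
  exact hz₀T (hhypT (zS_le S (D₁.W_le hz₀1)))

end Cfsg.Agent.Lib.Helper89
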