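import Cfsg.Agent.Lib.Helper89.CenterIdx5
import Cfsg.Agent.Lib.Helper89.OmegaFix

set_option autoImplicit false

/-!
Odd `p`: exponent `p`, and the conclusion.
-/

namespace Cfsg.Agent.Lib.Helper89

open Cfsg Cfsg.FusionSystem Cfsg.Agent.Lib.Helper87
open scoped commutatorElement

variable {Ω : Type*} [Group Ω] {S : Subgroup Ω} {p : ℕ} {E : Subgroup Ω} {y : Ω}

theorem pow_eq_one_of_mem_dS (hdcard : Nat.card (dS S) = p) {c : Ω} (hc : c ∈ dS S) :
    c ^ p = 1 := by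
  have h := pow_card_eq_one' (G := dS S) (x := ⟨c, hc⟩)
  rw [hdcard] at h
  exact congrArg Subtype.val h

/-- the elements of order dividing `p` in `S`, for odd `p` -/
def omegaP (S : Subgroup Ω) (p : ℕ) (hp : p.Prime) (hp2 : p ≠ 2) (hdz : dS S ≤ zS S)
    (hdcard : Nat.card (dS S) = p) : Subgroup Ω where
  carrier := {x | x ∈ S ∧ x ^ p = 1}
  one_mem' := ⟨S.one_mem, one_pow p⟩
  mul_mem' := by
    rintro a b ⟨ha, hap⟩ ⟨hb, hbp⟩
    refine ⟨S.mul_mem ha hb, ?_⟩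
    have hc : ⁅b, a⁆ ∈ dS S := by
      rw [commutatorElement_def]
      exact comm_mem_dS hb ha
    have hcz := hdz hc
    have h1 : Commute ⁅b, a⁆ a := (mem_zS_comm hcz ha).symm
    have h2 : Commute ⁅b, a⁆ b := (mem_zS_comm hcz hb).symm
    have hcp : ⁅b, a⁆ ^ p = 1 := pow_eq_one_of_mem_dS hdcard hc
    have h2p : 2 < p := lt_of_le_of_ne hp.two_le (Ne.symm hp2)
    obtain ⟨k, hk⟩ : p ∣ p.choose 2 := hp.dvd_choose_self (by norm_num) h2p
    show (a * b) ^ p = 1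
    rw [mul_pow_of_comm_central a b h1 h2 p, hap, hbp, one_mul, one_mul, hk, pow_mul, hcp,
      one_pow]
  inv_mem' := by
    rintro a ⟨ha, hap⟩
    exact ⟨S.inv_mem ha, by show a⁻¹ ^ p = 1; rw [inv_pow, hap, inv_one]⟩

theorem mem_omegaP {hp : p.Prime} {hp2 : p ≠ 2} {hdz : dS S ≤ zS S}
    {hdcard : Nat.card (dS S) = p} {x : Ω} :
    x ∈ omegaP S p hp hp2 hdz hdcard ↔ x ∈ S ∧ x ^ p = 1 := Iff.rfl

theorem EssSetup.pow_eq_one_of_Wp_eq_bot [Finite S] [Fact p.Prime] (h : EssSetup S p E y)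
    {A : Subgroup (MulAut E)} (had : AutData h.comm p A) {t' : MulAut E}
    (hp : IsPair A p h.t t') (hW : Wp h.t t' = ⊥) : ∀ e : E, e ^ p = 1 := by
  have := h.finite
  obtain ⟨d, d', j, g⟩ := hp.exists_gens had
  intro e
  obtain ⟨u, hu, v, hv, w, hw1, hw2, rfl⟩ := g.exists_decomp had hp e
  have hw : w = 1 := by
    have : (w : Ω) ∈ Wp h.t t' := mem_Wp.mpr ⟨w, hw1, hw2, rfl⟩
    rw [hW, Subgroup.mem_bot] at this
    exact Subtype.ext this
  have hup : u ^ p = 1 := by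
    have hcard := had.hcard t' hp.t'A hp.t'1 hp.t'p
    have h1 := pow_card_eq_one' (G := cen h.comm t') (x := ⟨u, hu⟩)
    rw [hcard] at h1
    exact congrArg Subtype.val h1
  have hvp : v ^ p = 1 := by
    have hcard := had.hcard h.t hp.tA hp.t1 hp.tp
    have h1 := pow_card_eq_one' (G := cen h.comm h.t) (x := ⟨v, hv⟩)
    rw [hcard] at h1
    exact congrArg Subtype.val h1
  rw [hw, mul_one, (show Commute u v from h.comm u v).mul_pow, hup, hvp, one_mul]

section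
variable [Finite S] [Fact p.Prime] {F : FusionSystem S}

theorem Ctx.pow_eq_one_of_odd (c : Ctx p F) (hp2 : p ≠ 2) {E₀ : Subgroup Ω}
    (hE₀ : F.IsEssential p E₀) : ∀ x ∈ S, x ^ p = 1 := by
  have hpr : p.Prime := Fact.out
  by_contra hcon
  obtain ⟨g₀, hg₀⟩ := not_forall.mp hcon
  obtain ⟨hg₀S, hg₀p⟩ := Classical.not_imp.mp hg₀
  obtain ⟨Q, hQ⟩ : ∃ Q : Subgroup Ω, Q = omegaP S p hpr hp2 c.hdz c.hdcard := ⟨_, rfl⟩
  have hmemQ : ∀ x : Ω, x ∈ Q ↔ x ∈ S ∧ x ^ p = 1 := fun x => by rw [hQ]; exact mem_omegaP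
  have hQS : Q ≤ S := fun x hx => ((hmemQ x).mp hx).1
  have hSQ : ¬ S ≤ Q := fun hle => hg₀p ((hmemQ g₀).mp (hle hg₀S)).2
  have key : ∀ P : Subgroup Ω, F.IsEssential p P → P ≤ Q ∧ Q ≤ P := by
    intro P hP
    obtain ⟨y, h⟩ := c.exists_essSetup hP
    obtain ⟨fa, rec⟩ := c.fn_props hP.2.1
    have had := h.autData F fa
    obtain ⟨t', pair⟩ := h.exists_pair F fa hP
    have hW := c.Wp_eq_bot_of_odd hp2 hP h pair
    have hpow := h.pow_eq_one_of_Wp_eq_bot had pair hW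
    have hPQ : P ≤ Q := fun x hx =>
      (hmemQ x).mpr ⟨h.hES hx, congrArg Subtype.val (hpow ⟨x, hx⟩)⟩
    refine ⟨hPQ, ?_⟩
    obtain ⟨-, -, -, -, hPidx⟩ := essential_basic F c.hF c.hrel hP
    have hmul := Subgroup.relIndex_mul_relIndex P Q S hPQ hQS
    rw [hPidx] at hmul
    have hQ1 : Q.relIndex S ≠ 1 := fun h1 => hSQ (Subgroup.relIndex_eq_one.mp h1)
    have hQd : Q.relIndex S ∣ p := Dvd.intro_left _ hmul
    have hQp : Q.relIndex S = p := by
      rcases (Nat.dvd_prime hpr).mp hQd with h1 | h1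
      · exact absurd h1 hQ1
      · exact h1
    rw [hQp] at hmul
    have hP1 : P.relIndex Q = 1 := by
      have : P.relIndex Q * p = 1 * p := by rw [hmul, one_mul]
      exact Nat.eq_of_mul_eq_mul_right hpr.pos this
    exact Subgroup.relIndex_eq_one.mp hP1
  have hbot : Q = ⊥ := by
    apply c.eq_bot_of_invariant Q
    intro P hP
    rcases hP with rfl | hP
    · refine ⟨hQS, fun α hα x hx => ?_⟩
      rw [hmemQ] at hx ⊢
      refine ⟨(α x).2, ?_⟩
      have hx' : x ^ p = 1 := Subtype.ext (by simpa using hx.2)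
      have := congrArg (fun z : _ => ((α z : _) : Ω)) hx'
      simpa using this
    · obtain ⟨h1, h2⟩ := key P hP
      exact ⟨h2, fun α hα x hx => h1 (α x).2⟩
  obtain ⟨y₀, h₀⟩ := c.exists_essSetup hE₀
  have hle : dS S ≤ Q := (h₀.hdz.trans h₀.hZE).trans (key E₀ hE₀).1
  rw [hbot, le_bot_iff] at hle
  have hcard := c.hdcard
  rw [hle, Subgroup.card_bot] at hcard
  exact hpr.one_lt.ne hcard

theorem Ctx.result_odd (c : Ctx p F) (hp2 : p ≠ 2) {E₀ : Subgroup Ω}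
    (hE₀ : F.IsEssential p E₀) : Nat.card S = p ^ 3 ∧ Monoid.exponent ↥S = p := by
  have hpr : p.Prime := Fact.out
  have hcard : Nat.card S = p ^ 3 := by
    obtain ⟨y, h⟩ := c.exists_essSetup hE₀
    obtain ⟨fa, rec⟩ := c.fn_props hE₀.2.1
    obtain ⟨t', pair⟩ := h.exists_pair F fa hE₀
    have hW := c.Wp_eq_bot_of_odd hp2 hE₀ h pair
    obtain ⟨β, hd⟩ := h.exists_invData F fa rec pair
    exact card_of_zS_le_dS c (hd.zS_le_dS hW)
  refine ⟨hcard, ?_⟩
  have hpow := c.pow_eq_one_of_odd hp2 hE₀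
  have hdvd : Monoid.exponent ↥S ∣ p := by
    apply Monoid.exponent_dvd_of_forall_pow_eq_one
    intro x
    apply Subtype.ext
    have := hpow x x.2
    simpa using this
  rcases (Nat.dvd_prime hpr).mp hdvd with h1 | h1
  · exfalso
    have hsub : Subsingleton ↥S := Monoid.exp_eq_one_iff.mp h1
    have h1' : Nat.card S = 1 := Nat.card_eq_one_iff_unique.mpr ⟨hsub, ⟨1⟩⟩
    rw [hcard] at h1'
    have : 1 < p ^ 3 := Nat.one_lt_pow (by norm_num) hpr.one_lt
    omega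
  · exact h1

end

end Cfsg.Agent.Lib.Helper89
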