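import Cfsg.Agent.Lib.Helper89.CenterIdx12
import Cfsg.Agent.Lib.Helper89.CenterIdx6
import Cfsg.Agent.Lib.Helper89.OrderPCube

set_option autoImplicit false
set_option linter.unusedSectionVars false

/-!
Saturated fusion systems over `S` with `|S : Z(S)| ≤ p²`, trivial core and hyperfocal subgroup `S`:
the conclusion.
-/

namespace Cfsg.Agent.Lib.Helper89

open Cfsg Cfsg.FusionSystem Cfsg.Agent.Lib.Helper87

variable {Ω : Type*} [Group Ω] {S : Subgroup Ω}

theorem Ctx.result_two [Finite S] [Fact (Nat.Prime 2)] {F : FusionSystem S} (c : Ctx 2 F)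
    (hhyp : F.hyperfocalSubgroup 2 = S) {E₀ : Subgroup Ω} (hE₀ : F.IsEssential 2 E₀) :
    Nat.card S = 2 ^ 3 ∧ Nonempty (↥S ≃* DihedralGroup 4) := by
  obtain ⟨y₁, t₁', d₁, d₁', j₁, D₁⟩ := c.exists_twoData hE₀
  by_cases huniq : ∀ P : Subgroup Ω, F.IsEssential 2 P → P = E₀
  · exact (D₁.not_unique c huniq).elim
  · obtain ⟨E₂, hE₂⟩ := not_forall.mp huniq
    obtain ⟨hE₂ess, hE₂ne⟩ := Classical.not_imp.mp hE₂
    obtain ⟨y₂, t₂', d₂, d₂', j₂, D₂⟩ := c.exists_twoData hE₂ess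
    have hne : E₀ ≠ E₂ := fun h => hE₂ne h.symm
    by_cases hW : D₁.W = D₂.W
    · exact D₁.result_of_W_eq c D₂ hne hW
    · exfalso
      by_cases h1 : D₁.W ≤ D₂.W
      · by_cases h2 : D₂.W ≤ D₁.W
        · exact hW (le_antisymm h1 h2)
        · exact D₂.false_of_not_le c hhyp D₁ hne.symm h2
      · exact D₁.false_of_not_le c hhyp D₂ hne h1

theorem center_index_main [Finite S] (p : ℕ) [Fact p.Prime] (hS : IsPGroup p ↥S)
    (F : Cfsg.FusionSystem S) (hF : F.IsSaturated p) (hS1 : S ≠ ⊥) (hcore : F.core = ⊥)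
    (hhyp : F.hyperfocalSubgroup p = S) (hZ : (Subgroup.center ↥S).index ≤ p ^ 2) :
    Cfsg.IsExtraspecial p ↥S ∧ Nat.card S = p ^ 3 ∧ (p ≠ 2 → Monoid.exponent ↥S = p) ∧
      (p = 2 → Nonempty (↥S ≃* DihedralGroup 4)) := by
  have hpr : p.Prime := Fact.out
  -- an essential subgroup exists
  have hess : ∃ E₀ : Subgroup Ω, F.IsEssential p E₀ := by
    by_contra hno
    have hn : F.IsNormal S := by
      rw [Cfsg.Agent.S5087.result p hS F hF S]
      intro P hP
      rcases hP with rfl | hP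
      · refine ⟨le_rfl, fun α _ => ?_⟩
        rw [Subgroup.subgroupOf_self]
        exact Subgroup.map_top_of_surjective _ α.surjective
      · exact absurd ⟨P, hP⟩ hno
    have : S ≤ F.core := le_sSup hn
    rw [hcore] at this
    exact hS1 (le_bot_iff.mp this)
  obtain ⟨E₀, hE₀⟩ := hess
  -- `S` is not commutative
  have hna : ¬ ∀ a b : S, a * b = b * a := by
    intro hab
    apply Cfsg.Agent.Lib.Helper91.ne_top_of_isEssential p F hF hE₀
    apply le_antisymm hE₀.1.1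
    intro s hs
    apply hE₀.1.2 E₀ (isConj_refl F hE₀.1.1)
    refine mem_centralizerIn.mpr ⟨hs, fun x hx => ?_⟩
    exact congrArg Subtype.val (hab ⟨x, hE₀.1.1 hx⟩ ⟨s, hs⟩)
  obtain ⟨-, hdcard, hdz, hrel⟩ := center_index_facts hS hZ hna
  have c : Ctx p F := ⟨hS, hF, hcore, hdz, hdcard, hrel⟩
  have hcard : Nat.card S = p ^ 3 := by
    by_cases hp2 : p = 2
    · subst hp2
      exact (c.result_two hhyp hE₀).1
    · exact (c.result_odd hp2 hE₀).1
  obtain ⟨hcen, hcomm, -, hfrat⟩ := nonabelian_cube_basic (G := S) hcard hna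
  refine ⟨⟨⟨hS, hfrat, hcomm⟩, hcen⟩, hcard, fun hp2 => (c.result_odd hp2 hE₀).2, fun hp2 => ?_⟩
  subst hp2
  exact (c.result_two hhyp hE₀).2

end Cfsg.Agent.Lib.Helper89
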