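import Mathlib
import Cfsg.Agent.Lib.Helper89.CubeBad
import Cfsg.Agent.Lib.Helper89.PairAut

set_option autoImplicit false

/-!
Finite groups whose Sylow `p`-subgroups have order `p`, and the `AutData` of a group of
automorphisms of a commutative group with such a Sylow subgroup.
-/

namespace Cfsg.Agent.Lib.Helper89

section SylowPrime
variable {X : Type*} [Group X] [Finite X] {p : ℕ} [Fact p.Prime]

theorem card_dvd_card_sylow (R : Sylow p X) {H : Subgroup X} (hH : IsPGroup p H) :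
    Nat.card H ∣ Nat.card R := by
  obtain ⟨Q, hQ⟩ := hH.exists_le_sylow
  have h := Subgroup.card_dvd_of_le hQ
  rw [Q.card_eq_multiplicity, ← R.card_eq_multiplicity] at h
  exact h

omit [Finite X] [Fact p.Prime] in
theorem isPGroup_zpowers_of_pow_eq_one {τ : X} (hτ : τ ^ p = 1) :
    IsPGroup p (Subgroup.zpowers τ) := by
  rintro ⟨g, hg⟩
  obtain ⟨k, rfl⟩ := Subgroup.mem_zpowers_iff.mp hg
  refine ⟨1, ?_⟩
  apply Subtype.ext
  rw [Subgroup.coe_pow, Subgroup.coe_one]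
  show (τ ^ k) ^ p ^ 1 = 1
  rw [pow_one, ← zpow_natCast, ← zpow_mul, mul_comm, zpow_mul, zpow_natCast, hτ, one_zpow]

theorem exists_conj_mem_sylow (R : Sylow p X) {τ : X} (hτ : τ ^ p = 1) :
    ∃ g : X, ∃ r ∈ (R : Subgroup X), τ = g * r * g⁻¹ := by
  obtain ⟨Q, hQ⟩ := (isPGroup_zpowers_of_pow_eq_one hτ).exists_le_sylow
  obtain ⟨g, hg⟩ := MulAction.exists_smul_eq X R Q
  have hτQ : τ ∈ (Q : Subgroup X) := hQ (Subgroup.mem_zpowers τ)
  rw [← hg, Sylow.coe_subgroup_smul, Subgroup.mem_pointwise_smul_iff_inv_smul_mem] at hτQ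
  refine ⟨g, _, hτQ, ?_⟩
  rw [MulAut.smul_def, MulAut.conj_inv_apply]
  group

omit [Finite X] [Fact p.Prime] in
theorem coe_mem_zpowers_iff {G : Type*} [Group G] {A : Subgroup G} (a b : A) :
    (a : G) ∈ Subgroup.zpowers (b : G) ↔ a ∈ Subgroup.zpowers b := by
  rw [Subgroup.mem_zpowers_iff, Subgroup.mem_zpowers_iff]
  constructor
  · rintro ⟨k, hk⟩
    exact ⟨k, Subtype.ext (by rw [Subgroup.coe_zpow]; exact hk)⟩
  · rintro ⟨k, hk⟩
    exact ⟨k, by rw [← hk, Subgroup.coe_zpow]⟩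

theorem mem_zpowers_of_conj_mem_zpowers (R : Sylow p X) (hR : Nat.card R = p) {τ σ : X}
    (hτ1 : τ ≠ 1) (hτ : τ ^ p = 1) (hσ : σ ^ p = 1)
    (hconj : σ * τ * σ⁻¹ ∈ Subgroup.zpowers τ) : σ ∈ Subgroup.zpowers τ := by
  have hpr : p.Prime := Fact.out
  have hstep : ∀ x ∈ Subgroup.zpowers τ, σ * x * σ⁻¹ ∈ Subgroup.zpowers τ := by
    intro x hx
    obtain ⟨k, rfl⟩ := Subgroup.mem_zpowers_iff.mp hx
    rw [← conj_zpow]
    exact Subgroup.zpow_mem _ hconj k
  have hle : Subgroup.zpowers σ ≤ Subgroup.normalizer (Subgroup.zpowers τ : Set X) := by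
    apply le_normalizer_of_conj_mem
    intro g hg x hx
    rw [← mem_powers_iff_mem_zpowers] at hg
    obtain ⟨n, rfl⟩ := hg
    induction n generalizing x with
    | zero => simpa using hx
    | succ n ih =>
      have : σ ^ (n + 1) * x * (σ ^ (n + 1))⁻¹ = σ * (σ ^ n * x * (σ ^ n)⁻¹) * σ⁻¹ := by
        rw [pow_succ']; group
      rw [this]
      exact hstep _ (ih x hx)
  have hP : IsPGroup p (Subgroup.zpowers σ ⊔ Subgroup.zpowers τ : Subgroup X) :=
    IsPGroup.to_sup_of_normal_right' (isPGroup_zpowers_of_pow_eq_one hσ)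
      (isPGroup_zpowers_of_pow_eq_one hτ) hle
  have hdvd := card_dvd_card_sylow R hP
  rw [hR] at hdvd
  have hcτ : Nat.card (Subgroup.zpowers τ) = p := by
    rw [Nat.card_zpowers]; exact orderOf_eq_prime hτ hτ1
  have hle2 : Subgroup.zpowers τ ≤ Subgroup.zpowers σ ⊔ Subgroup.zpowers τ := le_sup_right
  have hcard_le : Nat.card (Subgroup.zpowers σ ⊔ Subgroup.zpowers τ : Subgroup X) ≤
      Nat.card (Subgroup.zpowers τ) := by
    rw [hcτ]; exact Nat.le_of_dvd hpr.pos hdvd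
  have heq := Subgroup.eq_of_le_of_card_ge hle2 hcard_le
  rw [heq]
  exact (le_sup_left : Subgroup.zpowers σ ≤ _) (Subgroup.mem_zpowers σ)

theorem exists_not_mem_zpowers (R : Sylow p X) (hR : Nat.card R = p) {t : X} (ht : t ^ p = 1)
    {P₁ P₂ : Subgroup X} (h₁ : IsPGroup p P₁) (h₂ : IsPGroup p P₂) (hb₁ : P₁ ≠ ⊥) (hb₂ : P₂ ≠ ⊥)
    (hne : P₁ ≠ P₂) : ∃ σ : X, σ ≠ 1 ∧ σ ^ p = 1 ∧ σ ∉ Subgroup.zpowers t := by
  have hpr : p.Prime := Fact.out
  have hcard : ∀ P : Subgroup X, IsPGroup p P → P ≠ ⊥ → Nat.card P = p := by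
    intro P hP hb
    have hdvd := card_dvd_card_sylow R hP
    rw [hR] at hdvd
    rcases (Nat.dvd_prime hpr).mp hdvd with h | h
    · exact absurd (Subgroup.card_eq_one.mp h) hb
    · exact h
  have hT : Nat.card (Subgroup.zpowers t) ≤ p := by
    have hdvd := card_dvd_card_sylow R (isPGroup_zpowers_of_pow_eq_one ht)
    rw [hR] at hdvd
    exact Nat.le_of_dvd hpr.pos hdvd
  have key : ∀ P : Subgroup X, IsPGroup p P → P ≠ ⊥ → ¬ P ≤ Subgroup.zpowers t →
      ∃ σ : X, σ ≠ 1 ∧ σ ^ p = 1 ∧ σ ∉ Subgroup.zpowers t := by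
    intro P hP hb hnle
    obtain ⟨σ, hσP, hσt⟩ := SetLike.not_le_iff_exists.mp hnle
    refine ⟨σ, ?_, ?_, hσt⟩
    · rintro rfl
      exact hσt (Subgroup.one_mem _)
    · have h := pow_card_eq_one' (G := P) (x := ⟨σ, hσP⟩)
      rw [hcard P hP hb] at h
      exact congrArg Subtype.val h
  by_cases h1 : P₁ ≤ Subgroup.zpowers t
  · by_cases h2 : P₂ ≤ Subgroup.zpowers t
    · exfalso
      apply hne
      have e1 := Subgroup.eq_of_le_of_card_ge h1 (by rw [hcard P₁ h₁ hb₁]; exact hT)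
      have e2 := Subgroup.eq_of_le_of_card_ge h2 (by rw [hcard P₂ h₂ hb₂]; exact hT)
      rw [e1, e2]
    · exact key P₂ h₂ hb₂ h2
  · exact key P₁ h₁ hb₁ h1

end SylowPrime

section AutDataOfSylow

theorem cen_ne_bot_of_ne_one {E' : Type*} [Group E'] (hc : ∀ a b : E', a * b = b * a)
    (τ : MulAut E') (hτ : τ ≠ 1) : cen hc τ ≠ ⊥ := by
  intro hb
  apply hτ
  ext e
  rw [MulAut.one_apply, ← comHom_eq_one_iff hc]
  have := comHom_mem_cen hc τ e
  rw [hb, Subgroup.mem_bot] at this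
  exact this

theorem card_eq_prime_of_le {G : Type*} [Group G] {p : ℕ} (hp : p.Prime) {H K : Subgroup G}
    (hHK : H ≤ K) (hK : Nat.card K = p) (hH : H ≠ ⊥) : Nat.card H = p := by
  have : Finite K := Nat.finite_of_card_ne_zero (by rw [hK]; exact hp.ne_zero)
  have hdvd : Nat.card H ∣ p := hK ▸ Subgroup.card_dvd_of_le hHK
  rcases (Nat.dvd_prime hp).mp hdvd with h1 | h1
  · exact absurd (Subgroup.card_eq_one.mp h1) hH
  · exact h1

variable {E : Type*} [Group E] (hc : ∀ a b : E, a * b = b * a)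

theorem cen_pow_le (t : MulAut E) (hfix : ∀ x ∈ cen hc t, t x = x) (n : ℕ) :
    cen hc (t ^ n) ≤ cen hc t := by
  rintro _ ⟨e, rfl⟩
  rw [comHom_apply, pow_apply_of_fix hc t e (hfix _ (comHom_mem_cen hc t e)) n,
    inv_mul_cancel_left]
  exact Subgroup.pow_mem _ (comHom_mem_cen hc t e) n

theorem cen_conj_eq (α σ : MulAut E) :
    cen hc (α * σ * α⁻¹) = (cen hc σ).map α.toMonoidHom := by
  ext x
  constructor
  · rintro ⟨e, rfl⟩
    refine ⟨comHom hc σ (α⁻¹ e), comHom_mem_cen hc σ _, ?_⟩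
    have := comHom_conj hc α σ (α⁻¹ e)
    rw [MulAut.apply_inv_self] at this
    exact this.symm
  · rintro ⟨x', hx', rfl⟩
    exact mem_cen_conj hc α σ x' hx'

theorem autData_of_sylow [Finite E] {p : ℕ} [Fact p.Prime] (A : Subgroup (MulAut E))
    (t : MulAut E) (htA : t ∈ A) (ht1 : t ≠ 1) (htp : t ^ p = 1) (R : Sylow p A)
    (hR : (R : Subgroup A) = (Subgroup.zpowers t).subgroupOf A)
    (hcard : Nat.card (cen hc t) = p) (hfix : ∀ x ∈ cen hc t, t x = x) :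
    AutData hc p A := by
  have hpr : p.Prime := Fact.out
  have hRcard : Nat.card R = p := by
    have : Nat.card R = Nat.card (R : Subgroup A) := rfl
    rw [this, hR, card_subgroupOf_of_le ((Subgroup.zpowers_le).mpr htA), Nat.card_zpowers]
    exact orderOf_eq_prime htp ht1
  have hconj : ∀ τ ∈ A, τ ^ p = 1 → ∃ α : MulAut E, ∃ n : ℕ, τ = α * t ^ n * α⁻¹ := by
    intro τ hτA hτp
    have hτp' : (⟨τ, hτA⟩ : A) ^ p = 1 := Subtype.ext (by rw [Subgroup.coe_pow]; exact hτp)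
    obtain ⟨g, r, hr, hgr⟩ := exists_conj_mem_sylow R hτp'
    rw [hR, Subgroup.mem_subgroupOf, ← mem_powers_iff_mem_zpowers] at hr
    obtain ⟨n, hn⟩ := hr
    refine ⟨(g : MulAut E), n, ?_⟩
    have hn' : t ^ n = (r : MulAut E) := hn
    have := congrArg Subtype.val hgr
    rw [hn']
    simpa using this
  have hboth : ∀ τ ∈ A, τ ≠ 1 → τ ^ p = 1 →
      Nat.card (cen hc τ) = p ∧ ∀ x ∈ cen hc τ, τ x = x := by
    intro τ hτA hτ1 hτp
    obtain ⟨α, n, rfl⟩ := hconj τ hτA hτp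
    have hn1 : t ^ n ≠ 1 := by
      intro h
      apply hτ1
      rw [h, mul_one, mul_inv_cancel]
    have hle := cen_pow_le hc t hfix n
    have hcn : Nat.card (cen hc (t ^ n)) = p :=
      card_eq_prime_of_le hpr hle hcard (cen_ne_bot_of_ne_one hc (t ^ n) hn1)
    constructor
    · rw [cen_conj_eq, Subgroup.card_map_of_injective α.injective]
      exact hcn
    · intro x hx
      rw [cen_conj_eq] at hx
      obtain ⟨x', hx', rfl⟩ := hx
      show (α * t ^ n * α⁻¹) (α x') = α x'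
      rw [MulAut.mul_apply, MulAut.mul_apply, MulAut.inv_apply_self,
        pow_apply_fixed t x' (hfix x' (hle hx')) n]
  refine ⟨?_, fun τ hτA hτ1 hτp => (hboth τ hτA hτ1 hτp).1,
    fun τ hτA hτ1 hτp => (hboth τ hτA hτ1 hτp).2⟩
  intro τ σ hτA hσA hτ1 hτp hσp hcj
  have h1 : (⟨τ, hτA⟩ : A) ≠ 1 := fun h => hτ1 (congrArg Subtype.val h)
  have h2 : (⟨τ, hτA⟩ : A) ^ p = 1 := Subtype.ext (by rw [Subgroup.coe_pow]; exact hτp)
  have h3 : (⟨σ, hσA⟩ : A) ^ p = 1 := Subtype.ext (by rw [Subgroup.coe_pow]; exact hσp)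
  have h4 : (⟨σ, hσA⟩ : A) * ⟨τ, hτA⟩ * (⟨σ, hσA⟩ : A)⁻¹ ∈ Subgroup.zpowers (⟨τ, hτA⟩ : A) := by
    rw [← coe_mem_zpowers_iff]
    exact hcj
  have := mem_zpowers_of_conj_mem_zpowers R hRcard h1 h2 h3 h4
  rw [← coe_mem_zpowers_iff] at this
  exact this

end AutDataOfSylow

end Cfsg.Agent.Lib.Helper89
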