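import Cfsg.Agent.Lib.Helper89.CenterIdx1
import Cfsg.Agent.Lib.Helper89.SylowPrime

set_option autoImplicit false

/-!
The automorphism `t` induced on `E` by an element `y ∈ S ∖ E`, and the `AutData` of `Aut_F(E)`.
-/

namespace Cfsg.Agent.Lib.Helper89

open Cfsg Cfsg.FusionSystem Cfsg.Agent.Lib.Helper87

variable {Ω : Type*} [Group Ω] {S : Subgroup Ω} {p : ℕ} {E : Subgroup Ω} {y : Ω}

/-- the automorphism of `E` induced by `y` -/
def EssSetup.t (h : EssSetup S p E y) : MulAut E := conjAut E y h.hyn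

theorem EssSetup.t_apply (h : EssSetup S p E y) (e : E) : ((h.t e : E) : Ω) = y * e * y⁻¹ :=
  conjAut_apply E y h.hyn e

theorem EssSetup.t_pow_apply (h : EssSetup S p E y) (n : ℕ) (e : E) :
    (((h.t ^ n) e : E) : Ω) = y ^ n * e * (y ^ n)⁻¹ := by
  induction n generalizing e with
  | zero => simp
  | succ n ih =>
    rw [pow_succ', MulAut.mul_apply, h.t_apply, ih, pow_succ']
    group

theorem EssSetup.t_mem (h : EssSetup S p E y) : h.t ∈ autInducedBy S E :=
  conjAut_mem_autInducedBy h.hyS h.hyn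

theorem EssSetup.t_fix_iff (h : EssSetup S p E y) (e : E) : h.t e = e ↔ (e : Ω) ∈ zS S := by
  constructor
  · intro hfix
    apply h.fixZ e e.2
    have := congrArg Subtype.val hfix
    rw [h.t_apply] at this
    exact this
  · intro hz
    apply Subtype.ext
    rw [h.t_apply, mem_zS_comm hz h.hyS, mul_inv_cancel_right]

theorem EssSetup.t_ne_one (h : EssSetup S p E y) : h.t ≠ 1 := by
  intro h1
  apply h.hyE
  apply h.hcen
  refine mem_centralizerIn.mpr ⟨h.hyS, fun x hx => ?_⟩
  have := congrArg (fun f : MulAut E => ((f ⟨x, hx⟩ : E) : Ω)) h1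
  simp only [MulAut.one_apply] at this
  rw [h.t_apply] at this
  -- y x y⁻¹ = x
  have h2 : y * x = x * y := by
    have h3 : y * x = y * x * y⁻¹ * y := by group
    rw [h3, this]
  exact h2.symm

theorem EssSetup.t_pow_p (h : EssSetup S p E y) : h.t ^ p = 1 := by
  ext e
  rw [MulAut.one_apply, h.t_pow_apply]
  have := h.comm ⟨y ^ p, h.ypow⟩ e
  have h2 : y ^ p * (e : Ω) = e * y ^ p := congrArg Subtype.val this
  rw [h2, mul_inv_cancel_right]

theorem EssSetup.autInducedBy_le (h : EssSetup S p E y) :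
    autInducedBy S E ≤ Subgroup.zpowers h.t := by
  intro α hα
  obtain ⟨g, hg, hgα⟩ := (mem_autInducedBy_iff S E α).mp hα
  obtain ⟨i, e, he, rfl⟩ := h.decomp g hg
  have : α = h.t ^ i := by
    ext x
    rw [hgα, h.t_pow_apply]
    have hc := h.comm ⟨e, he⟩ x
    have hc' : e * (x : Ω) = x * e := congrArg Subtype.val hc
    have : y ^ i * e * ↑x * (y ^ i * e)⁻¹ = y ^ i * (e * x * e⁻¹) * (y ^ i)⁻¹ := by group
    rw [this, hc', mul_inv_cancel_right]
  rw [this]
  exact Subgroup.pow_mem _ (Subgroup.mem_zpowers _) i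

theorem EssSetup.autInducedBy_eq (h : EssSetup S p E y) :
    autInducedBy S E = Subgroup.zpowers h.t :=
  le_antisymm h.autInducedBy_le ((Subgroup.zpowers_le).mpr h.t_mem)

theorem EssSetup.comHom_mem_dS (h : EssSetup S p E y) (e : E) :
    ((comHom h.comm h.t e : E) : Ω) ∈ dS S := by
  rw [comHom_apply]
  have : ((e⁻¹ * h.t e : E) : Ω) = (e : Ω)⁻¹ * y * ((e : Ω)⁻¹)⁻¹ * y⁻¹ := by
    rw [Subgroup.coe_mul, h.t_apply, Subgroup.coe_inv]
    group
  rw [this]
  exact comm_mem_dS (S.inv_mem (h.hES e.2)) h.hyS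

theorem EssSetup.cen_le (h : EssSetup S p E y) : cen h.comm h.t ≤ (dS S).subgroupOf E := by
  rintro _ ⟨e, rfl⟩
  rw [Subgroup.mem_subgroupOf]
  exact h.comHom_mem_dS e

theorem EssSetup.t_fix_cen (h : EssSetup S p E y) (x : E) (hx : x ∈ cen h.comm h.t) :
    h.t x = x := by
  rw [h.t_fix_iff]
  have := h.cen_le hx
  rw [Subgroup.mem_subgroupOf] at this
  exact h.hdz this

theorem EssSetup.card_cen [Fact p.Prime] (h : EssSetup S p E y) :
    Nat.card (cen h.comm h.t) = p := by
  have hpr : p.Prime := Fact.out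
  apply card_eq_prime_of_le hpr h.cen_le
  · rw [card_subgroupOf_of_le (h.hdz.trans h.hZE)]
    exact h.hdcard
  · exact cen_ne_bot_of_ne_one h.comm h.t h.t_ne_one

end Cfsg.Agent.Lib.Helper89
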