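import Cfsg.Agent.Lib.Helper89.CenterIdx3

set_option autoImplicit false

/-!
The subgroup `W` attached to a pair of `p`-elements of `Aut_F(E)`, the automorphism of `S` inverting
`S'` and fixing `W`, and the uniqueness lemma for odd `p`.
-/

namespace Cfsg.Agent.Lib.Helper89

open Cfsg Cfsg.FusionSystem Cfsg.Agent.Lib.Helper87

variable {Ω : Type*} [Group Ω] {S : Subgroup Ω} {p : ℕ} {E : Subgroup Ω} {y : Ω}

/-- Some power prime to `p` of every `F`-automorphism of `S` is inner. -/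
theorem exists_inner_pow [Finite S] [Fact p.Prime] (F : FusionSystem S)
    (hfa : F.IsFullyAutomized p S) :
    ∃ m : ℕ, ¬ p ∣ m ∧ ∀ γ ∈ F.autGroup S, ∃ s ∈ S, ∀ x : S,
      (((γ ^ m) x : S) : Ω) = s * x * s⁻¹ := by
  obtain ⟨-, R, hR⟩ := hfa
  have hRn : (R : Subgroup (F.autGroup S)).Normal := by
    rw [hR]
    constructor
    intro n hn g
    rw [Subgroup.mem_subgroupOf] at hn ⊢
    obtain ⟨s, hs, hsn⟩ := (mem_autInducedBy_iff S S _).mp hn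
    rw [mem_autInducedBy_iff]
    refine ⟨(((g : MulAut S) ⟨s, hs⟩ : S) : Ω), ((g : MulAut S) ⟨s, hs⟩).2, fun x => ?_⟩
    have hn' : ∀ z : S, (n : MulAut S) z = ⟨s, hs⟩ * z * (⟨s, hs⟩ : S)⁻¹ :=
      fun z => Subtype.ext (hsn z)
    have : ((g * n * g⁻¹ : F.autGroup S) : MulAut S) x =
        (g : MulAut S) ⟨s, hs⟩ * x * ((g : MulAut S) ⟨s, hs⟩)⁻¹ := by
      rw [Subgroup.coe_mul, Subgroup.coe_mul, Subgroup.coe_inv, MulAut.mul_apply,
        MulAut.mul_apply, hn', map_mul, map_mul, map_inv, MulAut.apply_inv_self]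
    rw [this]
    simp
  refine ⟨(R : Subgroup (F.autGroup S)).index, R.not_dvd_index, fun γ hγ => ?_⟩
  have hmem := Subgroup.pow_index_mem (R : Subgroup (F.autGroup S)) (⟨γ, hγ⟩ : F.autGroup S)
  have hmem2 := hR.le hmem
  rw [Subgroup.mem_subgroupOf, Subgroup.coe_pow] at hmem2
  exact (mem_autInducedBy_iff S S _).mp hmem2

/-- the subgroup of common fixed points of `t` and `t'`, in the ambient group -/
def Wp (t t' : MulAut E) : Subgroup Ω := (fixSub t ⊓ fixSub t').map E.subtype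

theorem mem_Wp {t t' : MulAut E} {x : Ω} :
    x ∈ Wp t t' ↔ ∃ e : E, t e = e ∧ t' e = e ∧ (e : Ω) = x := by
  unfold Wp
  constructor
  · rintro ⟨e, ⟨h1, h2⟩, rfl⟩
    exact ⟨e, h1, h2, rfl⟩
  · rintro ⟨e, h1, h2, rfl⟩
    exact ⟨e, ⟨h1, h2⟩, rfl⟩

theorem Wp_le (t t' : MulAut E) : Wp t t' ≤ E := by
  intro x hx
  obtain ⟨e, -, -, rfl⟩ := mem_Wp.mp hx
  exact e.2

theorem EssSetup.Wp_le_zS (h : EssSetup S p E y) (t' : MulAut E) : Wp h.t t' ≤ zS S := by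
  intro x hx
  obtain ⟨e, h1, -, rfl⟩ := mem_Wp.mp hx
  exact (h.t_fix_iff e).mp h1

theorem EssSetup.cen_eq [Finite S] [Fact p.Prime] (h : EssSetup S p E y) :
    cen h.comm h.t = (dS S).subgroupOf E := by
  have := h.finite
  apply Subgroup.eq_of_le_of_card_ge h.cen_le
  rw [h.card_cen, card_subgroupOf_of_le (h.hdz.trans h.hZE), h.hdcard]

theorem EssSetup.mem_cen_iff [Finite S] [Fact p.Prime] (h : EssSetup S p E y) (e : E) :
    e ∈ cen h.comm h.t ↔ (e : Ω) ∈ dS S := by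
  rw [h.cen_eq, Subgroup.mem_subgroupOf]

/-- an `F`-automorphism of `S` inverting `S'` and fixing `W` pointwise, where `Z(S) = S' W` -/
structure InvData (F : FusionSystem S) (W : Subgroup Ω) (β : MulAut S) : Prop where
  mem : β ∈ F.autGroup S
  hWZ : W ≤ zS S
  inv : ∀ u : S, (u : Ω) ∈ dS S → β u = u⁻¹
  fix : ∀ w : S, (w : Ω) ∈ W → β w = w
  decomp : ∀ z : S, (z : Ω) ∈ zS S → ∃ u w : S, (u : Ω) ∈ dS S ∧ (w : Ω) ∈ W ∧ z = u * w

theorem EssSetup.exists_invData [Finite S] [Fact p.Prime] (h : EssSetup S p E y)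
    (F : FusionSystem S) (hfa : F.IsFullyAutomized p E) (hrec : F.IsReceptive E) {t' : MulAut E}
    (hp : IsPair (F.autGroup E) p h.t t') : ∃ β : MulAut S, InvData F (Wp h.t t') β := by
  have := h.finite
  have had := h.autData F hfa
  obtain ⟨d, d', j, g⟩ := hp.exists_gens had
  obtain ⟨β₀, hβ₀⟩ : ∃ β₀ : MulAut E, β₀ = swapAut h.t t' j * swapAut h.t t' j := ⟨_, rfl⟩
  have hβ₀A : β₀ ∈ F.autGroup E := by
    rw [hβ₀]
    exact Subgroup.mul_mem _ (swap_mem _ hp.tA hp.t'A j) (swap_mem _ hp.tA hp.t'A j)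
  have hcomm : β₀ * h.t = h.t * β₀ := by
    rw [hβ₀]
    exact g.sq_swap_comm had hp
  have hnorm : β₀ * h.t * β₀⁻¹ ∈ Subgroup.zpowers h.t := by
    rw [hcomm, mul_inv_cancel_right]
    exact Subgroup.mem_zpowers _
  obtain ⟨μ, hμ, hμe⟩ := h.exists_extension F hrec β₀ hβ₀A hnorm
  refine ⟨μ, hμ, h.Wp_le_zS t', ?_, ?_, ?_⟩
  · intro u hu
    have huE : (u : Ω) ∈ E := h.hZE (h.hdz hu)
    have hcen : (⟨(u : Ω), huE⟩ : E) ∈ cen h.comm h.t := (h.mem_cen_iff _).mpr hu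
    have h1 := hμe ⟨(u : Ω), huE⟩
    have h2 : β₀ ⟨(u : Ω), huE⟩ = (⟨(u : Ω), huE⟩ : E)⁻¹ := by
      rw [hβ₀]
      exact g.sq_swap_cen _ hcen
    apply Subtype.ext
    have h3 : (⟨((⟨(u : Ω), huE⟩ : E) : Ω), h.hES huE⟩ : S) = u := Subtype.ext rfl
    rw [h3, h2] at h1
    rw [h1]
    simp
  · intro w hw
    obtain ⟨e, he1, he2, hew⟩ := mem_Wp.mp hw
    have h1 := hμe e
    have h2 : β₀ e = e := by
      rw [hβ₀, MulAut.mul_apply, swap_fix _ _ _ e he1 he2, swap_fix _ _ _ e he1 he2]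
    apply Subtype.ext
    have h3 : (⟨(e : Ω), h.hES e.2⟩ : S) = w := Subtype.ext hew
    rw [h3, h2] at h1
    rw [h1, hew]
  · intro z hz
    have hzE : (z : Ω) ∈ E := h.hZE hz
    have hfixz : h.t ⟨(z : Ω), hzE⟩ = ⟨(z : Ω), hzE⟩ := (h.t_fix_iff _).mpr hz
    obtain ⟨x, hx, hx1, hx2⟩ := g.exists_mul_fix ⟨(z : Ω), hzE⟩ hfixz
    have hxD : (x : Ω) ∈ dS S := (h.mem_cen_iff x).mp hx
    refine ⟨⟨(x : Ω)⁻¹, S.inv_mem (dS_le S hxD)⟩,
      ⟨((x * ⟨(z : Ω), hzE⟩ : E) : Ω), h.hES (x * ⟨(z : Ω), hzE⟩ : E).2⟩, ?_, ?_, ?_⟩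
    · exact Subgroup.inv_mem _ hxD
    · exact mem_Wp.mpr ⟨x * ⟨(z : Ω), hzE⟩, hx1, hx2, rfl⟩
    · apply Subtype.ext
      simp

/-- **Uniqueness of `W`** for odd `p`. -/
theorem InvData.le_of_odd [Finite S] [Fact p.Prime] {F : FusionSystem S} (hp2 : p ≠ 2)
    (hdcard : Nat.card (dS S) = p) {m : ℕ} (hm : ¬ p ∣ m)
    (hfixm : ∀ γ ∈ F.autGroup S, ∀ z : S, (z : Ω) ∈ zS S → (γ ^ m) z = z)
    {W₁ W₂ : Subgroup Ω} {β₁ β₂ : MulAut S} (h₁ : InvData F W₁ β₁) (h₂ : InvData F W₂ β₂) :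
    W₁ ≤ W₂ := by
  have hpr : p.Prime := Fact.out
  intro w hw
  have hwZ : w ∈ zS S := h₁.hWZ hw
  obtain ⟨ws, hws⟩ : ∃ ws : S, (ws : Ω) = w := ⟨⟨w, zS_le S hwZ⟩, rfl⟩
  obtain ⟨u, w₂, hu, hw₂, hdec⟩ := h₂.decomp ws (by rw [hws]; exact hwZ)
  obtain ⟨γ, hγ⟩ : ∃ γ : MulAut S, γ = β₂ * β₁ := ⟨_, rfl⟩
  have hγA : γ ∈ F.autGroup S := by
    rw [hγ]
    exact Subgroup.mul_mem _ h₂.mem h₁.mem
  have hγu : γ u = u := by
    rw [hγ, MulAut.mul_apply, h₁.inv u hu, map_inv, h₂.inv u hu, inv_inv]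
  have hw₂eq : w₂ = u⁻¹ * ws := by rw [hdec, inv_mul_cancel_left]
  have hγw : γ ws = (u ^ 2)⁻¹ * ws := by
    rw [hγ, MulAut.mul_apply, h₁.fix ws (by rw [hws]; exact hw)]
    conv_lhs => rw [hdec]
    rw [map_mul, h₂.inv u hu, h₂.fix w₂ hw₂, hw₂eq, pow_two, mul_inv_rev, mul_assoc]
  have hpow : ∀ k : ℕ, (γ ^ k) ws = (u ^ (2 * k))⁻¹ * ws := by
    intro k
    induction k with
    | zero => simp
    | succ k ih =>
      have e : u ^ (2 * (k + 1)) = u ^ 2 * u ^ (2 * k) := by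
        rw [← pow_add]
        congr 1
        ring
      rw [pow_succ', MulAut.mul_apply, ih, map_mul, map_inv, map_pow, hγu, hγw, e, mul_inv_rev,
        mul_assoc]
  have hfix := hfixm γ hγA ws (by rw [hws]; exact hwZ)
  rw [hpow m] at hfix
  have hu2m : u ^ (2 * m) = 1 := by
    have : (u ^ (2 * m))⁻¹ = 1 := mul_right_cancel (hfix.trans (one_mul ws).symm)
    exact inv_eq_one.mp this
  have hup : u ^ p = 1 := by
    have h := pow_card_eq_one' (G := dS S) (x := ⟨(u : Ω), hu⟩)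
    rw [hdcard] at h
    have h' := congrArg Subtype.val h
    apply Subtype.ext
    simpa using h'
  have hcop : Nat.Coprime (2 * m) p := by
    apply Nat.Coprime.symm
    rw [Nat.Prime.coprime_iff_not_dvd hpr]
    intro hdvd
    rcases (Nat.Prime.dvd_mul hpr).mp hdvd with h | h
    · exact hp2 ((Nat.prime_dvd_prime_iff_eq hpr Nat.prime_two).mp h)
    · exact hm h
  have hu1 : u = 1 := by
    have h1 : orderOf u ∣ 2 * m := orderOf_dvd_of_pow_eq_one hu2m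
    have h2 : orderOf u ∣ p := orderOf_dvd_of_pow_eq_one hup
    have h3 : orderOf u ∣ 1 := by
      have := Nat.dvd_gcd h1 h2
      rwa [hcop.gcd_eq_one] at this
    exact orderOf_eq_one_iff.mp (Nat.dvd_one.mp h3)
  rw [hu1, one_mul] at hdec
  rw [← hws, hdec]
  exact hw₂

end Cfsg.Agent.Lib.Helper89
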