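import Cfsg.Agent.Lib.Helper89.CenterIdx4
import Cfsg.Agent.Lib.Helper89.NormalCrit
import Cfsg.Agent.S5077
import Cfsg.Agent.S5087

set_option autoImplicit false

/-!
The global context, and the proof that `W = 1` for odd `p`.
-/

namespace Cfsg.Agent.Lib.Helper89

open Cfsg Cfsg.FusionSystem Cfsg.Agent.Lib.Helper87

variable {Ω : Type*} [Group Ω] {S : Subgroup Ω} {p : ℕ} {E : Subgroup Ω} {y : Ω}

/-- the global hypotheses -/
structure Ctx (p : ℕ) (F : FusionSystem S) : Prop where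
  hS : IsPGroup p S
  hF : F.IsSaturated p
  hcore : F.core = ⊥
  hdz : dS S ≤ zS S
  hdcard : Nat.card (dS S) = p
  hrel : (zS S).relIndex S = p ^ 2

section
variable [Finite S] [Fact p.Prime] {F : FusionSystem S}

theorem Ctx.fn_props (c : Ctx p F) {P : Subgroup Ω} (hP : F.IsFullyNormalized P) :
    F.IsFullyAutomized p P ∧ F.IsReceptive P := by
  obtain ⟨h1, h2⟩ := (Cfsg.Agent.S5077.result p c.hS F).mp c.hF
  exact ⟨(h1 P hP).2, h2 P (h1 P hP).1⟩

theorem Ctx.essSetup_of (c : Ctx p F) (hE : F.IsEssential p E) {y : Ω} (hyS : y ∈ S)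
    (hyE : y ∉ E) : EssSetup S p E y := by
  obtain ⟨hES, hcen, hZE, hZidx, hEidx⟩ := essential_basic F c.hF c.hrel hE
  exact essSetup_of_not_mem c.hdz c.hdcard hES hcen hZE hZidx hEidx hyS hyE

theorem Ctx.exists_essSetup (c : Ctx p F) (hE : F.IsEssential p E) :
    ∃ y : Ω, EssSetup S p E y := by
  obtain ⟨hES, hcen, hZE, hZidx, hEidx⟩ := essential_basic F c.hF c.hrel hE
  exact Cfsg.Agent.Lib.Helper89.exists_essSetup c.hdz c.hdcard hES hcen hZE hZidx hEidx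

theorem Ctx.eq_bot_of_invariant (c : Ctx p F) (Q : Subgroup Ω)
    (h : ∀ P : Subgroup Ω, (P = S ∨ F.IsEssential p P) → Q ≤ P ∧
      ∀ α ∈ F.autGroup P, ∀ x : P, (x : Ω) ∈ Q → ((α x : P) : Ω) ∈ Q) : Q = ⊥ := by
  have hn : F.IsNormal Q := by
    rw [Cfsg.Agent.S5087.result p c.hS F c.hF Q]
    intro P hP
    obtain ⟨h1, h2⟩ := h P hP
    refine ⟨h1, fun α hα => map_eq_of_forall_le (F.autGroup P) _ (fun β hβ => ?_) α hα⟩
    rintro _ ⟨x, hx, rfl⟩
    exact Subgroup.mem_subgroupOf.mpr (h2 β hβ x (Subgroup.mem_subgroupOf.mp hx))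
  have : Q ≤ F.core := le_sSup hn
  rw [c.hcore] at this
  exact le_bot_iff.mp this

end

/-! ### Automorphisms of `S` and characteristic subgroups -/

theorem aut_mem_zS (α : MulAut S) {z : S} (hz : (z : Ω) ∈ zS S) : ((α z : S) : Ω) ∈ zS S := by
  refine mem_centralizerIn.mpr ⟨(α z).2, fun x hx => ?_⟩
  have h1 : α⁻¹ ⟨x, hx⟩ * z = z * α⁻¹ ⟨x, hx⟩ :=
    Subtype.ext (mem_zS_comm hz (α⁻¹ ⟨x, hx⟩).2)
  have h2 := congrArg α h1
  rw [map_mul, map_mul, MulAut.apply_inv_self] at h2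
  exact congrArg Subtype.val h2

theorem coe_mem_dS_iff (u : S) : (u : Ω) ∈ dS S ↔ u ∈ commutator ↥S := by
  unfold dS
  constructor
  · rintro ⟨c, hc, hcu⟩
    have : c = u := Subtype.ext hcu
    rw [← this]
    exact hc
  · intro h
    exact ⟨u, h, rfl⟩

theorem aut_mem_dS (α : MulAut S) {u : S} (hu : (u : Ω) ∈ dS S) : ((α u : S) : Ω) ∈ dS S := by
  rw [coe_mem_dS_iff] at hu ⊢
  have h := Subgroup.characteristic_iff_map_eq.mp (inferInstance : (commutator ↥S).Characteristic) α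
  rw [← h]
  exact ⟨u, hu, rfl⟩

/-- the image of a subgroup of the ambient group under an automorphism of `S` -/
def imgSub (W : Subgroup Ω) (α : MulAut S) : Subgroup Ω :=
  (W.subgroupOf S).map (S.subtype.comp α.toMonoidHom)

theorem mem_imgSub {W : Subgroup Ω} {α : MulAut S} {x : Ω} :
    x ∈ imgSub W α ↔ ∃ w : S, (w : Ω) ∈ W ∧ ((α w : S) : Ω) = x := by
  unfold imgSub
  constructor
  · rintro ⟨w, hw, rfl⟩
    exact ⟨w, Subgroup.mem_subgroupOf.mp hw, rfl⟩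
  · rintro ⟨w, hw, rfl⟩
    exact ⟨w, Subgroup.mem_subgroupOf.mpr hw, rfl⟩

theorem InvData.conj {F : FusionSystem S} {W : Subgroup Ω} {β : MulAut S} (h : InvData F W β)
    (α : MulAut S) (hα : α ∈ F.autGroup S) : InvData F (imgSub W α) (α * β * α⁻¹) := by
  refine ⟨?_, ?_, ?_, ?_, ?_⟩
  · exact Subgroup.mul_mem _ (Subgroup.mul_mem _ hα h.mem) (Subgroup.inv_mem _ hα)
  · intro x hx
    obtain ⟨w, hw, rfl⟩ := mem_imgSub.mp hx
    exact aut_mem_zS α (h.hWZ hw)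
  · intro u hu
    rw [MulAut.mul_apply, MulAut.mul_apply, h.inv _ (aut_mem_dS α⁻¹ hu), map_inv,
      MulAut.apply_inv_self]
  · intro w' hw'
    obtain ⟨w, hw, hww'⟩ := mem_imgSub.mp hw'
    have : w' = α w := Subtype.ext hww'.symm
    rw [this, MulAut.mul_apply, MulAut.mul_apply, MulAut.inv_apply_self, h.fix w hw]
  · intro z hz
    obtain ⟨u, w, hu, hw, hdec⟩ := h.decomp (α⁻¹ z) (aut_mem_zS α⁻¹ hz)
    refine ⟨α u, α w, aut_mem_dS α hu, mem_imgSub.mpr ⟨w, hw, rfl⟩, ?_⟩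
    rw [← map_mul, ← hdec, MulAut.apply_inv_self]

theorem InvData.zS_le_dS {F : FusionSystem S} {W : Subgroup Ω} {β : MulAut S} (h : InvData F W β)
    (hW : W = ⊥) : zS S ≤ dS S := by
  intro z hz
  obtain ⟨u, w, hu, hw, hdec⟩ := h.decomp ⟨z, zS_le S hz⟩ hz
  rw [hW, Subgroup.mem_bot] at hw
  have hw1 : w = 1 := Subtype.ext hw
  rw [hw1, mul_one] at hdec
  have : z = (u : Ω) := congrArg Subtype.val hdec
  rw [this]
  exact hu

section
variable [Finite S] [Fact p.Prime] {F : FusionSystem S}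

theorem card_of_zS_le_dS (c : Ctx p F) (h : zS S ≤ dS S) : Nat.card S = p ^ 3 := by
  have heq : zS S = dS S := le_antisymm h c.hdz
  have hcz : Nat.card (zS S) = p := by rw [heq]; exact c.hdcard
  have h1 : ((zS S).subgroupOf S).index * Nat.card ((zS S).subgroupOf S) = Nat.card S :=
    Subgroup.index_mul_card _
  have h2 : ((zS S).subgroupOf S).index = p ^ 2 := c.hrel
  rw [h2, card_subgroupOf_of_le (zS_le S), hcz] at h1
  rw [← h1]
  ring

/-- In the context, with `p` odd, the subgroup `W` of a pair is trivial. -/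
theorem Ctx.Wp_eq_bot_of_odd (c : Ctx p F) (hp2 : p ≠ 2) {E₀ : Subgroup Ω} {y₀ : Ω}
    (hE₀ : F.IsEssential p E₀) (h₀ : EssSetup S p E₀ y₀) {t₀' : MulAut E₀}
    (hp₀ : IsPair (F.autGroup E₀) p h₀.t t₀') : Wp h₀.t t₀' = ⊥ := by
  have hpr : p.Prime := Fact.out
  obtain ⟨m, hm, hinner⟩ := exists_inner_pow F (c.fn_props (isFullyNormalized_self F)).1
  have hfixm : ∀ γ ∈ F.autGroup S, ∀ z : S, (z : Ω) ∈ zS S → (γ ^ m) z = z := by
    intro γ hγ z hz
    obtain ⟨s, hs, hsx⟩ := hinner γ hγ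
    apply Subtype.ext
    rw [hsx z, mem_zS_comm hz hs, mul_inv_cancel_right]
  obtain ⟨fa₀, rec₀⟩ := c.fn_props hE₀.2.1
  obtain ⟨β₀, hd₀⟩ := h₀.exists_invData F fa₀ rec₀ hp₀
  obtain ⟨W, hW⟩ : ∃ W : Subgroup Ω, W = Wp h₀.t t₀' := ⟨_, rfl⟩
  rw [← hW] at hd₀ ⊢
  have hU : ∀ (W' : Subgroup Ω) (β' : MulAut S), InvData F W' β' → W' = W := fun W' β' hd' =>
    le_antisymm (hd'.le_of_odd hp2 c.hdcard hm hfixm hd₀) (hd₀.le_of_odd hp2 c.hdcard hm hfixm hd')
  have hSinv : ∀ α ∈ F.autGroup S, ∀ x : S, (x : Ω) ∈ W → ((α x : S) : Ω) ∈ W := by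
    intro α hα x hx
    have := hU _ _ (hd₀.conj α hα)
    rw [← this]
    exact mem_imgSub.mpr ⟨x, hx, rfl⟩
  apply c.eq_bot_of_invariant W
  intro P hP
  rcases hP with rfl | hP
  · exact ⟨hd₀.hWZ.trans (zS_le _), hSinv⟩
  · obtain ⟨y, h⟩ := c.exists_essSetup hP
    have := h.finite
    obtain ⟨fa, rec⟩ := c.fn_props hP.2.1
    have had := h.autData F fa
    have hfixW : ∀ τ ∈ F.autGroup P, τ ^ p = 1 → ∀ e : P, (e : Ω) ∈ W → τ e = e := by
      intro τ hτ hτp e he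
      by_cases hτt : τ ∈ Subgroup.zpowers h.t
      · exact mem_zpowers_apply_fixed hτt e ((h.t_fix_iff e).mpr (hd₀.hWZ he))
      · have hτ1 : τ ≠ 1 := by
          rintro rfl
          exact hτt (Subgroup.one_mem _)
        have pair : IsPair (F.autGroup P) p h.t τ :=
          ⟨h.t_mem_autGroup F, hτ, h.t_ne_one, hτ1, h.t_pow_p, hτp, hτt⟩
        obtain ⟨β', hd'⟩ := h.exists_invData F fa rec pair
        have hWeq := hU _ _ hd'
        rw [← hWeq] at he
        obtain ⟨e', -, he'2, he'e⟩ := mem_Wp.mp he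
        have : e' = e := Subtype.ext he'e
        rw [← this]
        exact he'2
    refine ⟨hd₀.hWZ.trans h.hZE, fun α hα x hx => ?_⟩
    obtain ⟨n, ν, hαnν, hnA, hνA, hνnorm, hn⟩ :=
      exists_swap_mul_normalizer had (h.t_mem_autGroup F) h.t_ne_one h.t_pow_p α hα
    obtain ⟨μ, hμ, hμe⟩ := h.exists_extension F rec ν hνA hνnorm
    have hνx : ((ν x : P) : Ω) ∈ W := by
      rw [← hμe x]
      exact hSinv μ hμ _ hx
    have hnfix : n (ν x) = ν x := by
      rcases hn with rfl | ⟨j, rfl⟩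
      · rfl
      · apply swap_fix
        · exact hfixW h.t (h.t_mem_autGroup F) h.t_pow_p _ hνx
        · refine hfixW _ ?_ (conj_pow_eq_one h.t_pow_p) _ hνx
          exact Subgroup.mul_mem _ (Subgroup.mul_mem _ hα (h.t_mem_autGroup F))
            (Subgroup.inv_mem _ hα)
    rw [hαnν, MulAut.mul_apply, hnfix]
    exact hνx

end

end Cfsg.Agent.Lib.Helper89
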