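import Cfsg.Agent.Lib.Helper89.CenterIdx5

set_option autoImplicit false
set_option linter.unusedSectionVars false

/-!
The prime `2`: the data of an essential subgroup and first consequences.
-/

namespace Cfsg.Agent.Lib.Helper89

open Cfsg Cfsg.FusionSystem Cfsg.Agent.Lib.Helper87

variable {Ω : Type*} [Group Ω] {S : Subgroup Ω} {E : Subgroup Ω} {y : Ω}

/-- all the data attached to an essential subgroup, for the prime `2` -/
structure TwoData (F : FusionSystem S) (E : Subgroup Ω) (y : Ω) (t' : MulAut E) (d d' : E)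
    (j : ℕ) : Prop where
  ess : F.IsEssential 2 E
  h : EssSetup S 2 E y
  hfa : F.IsFullyAutomized 2 E
  hrec : F.IsReceptive E
  had : AutData h.comm 2 (F.autGroup E)
  pair : IsPair (F.autGroup E) 2 h.t t'
  g : Gens h.comm h.t t' d d' j
  hZidx : (zS S).relIndex E = 2
  hEidx : E.relIndex S = 2

section
variable [Finite S] [Fact (Nat.Prime 2)] {F : FusionSystem S}

theorem Ctx.exists_twoData (c : Ctx 2 F) (hE : F.IsEssential 2 E) :
    ∃ (y : Ω) (t' : MulAut E) (d d' : E) (j : ℕ), TwoData F E y t' d d' j := by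
  obtain ⟨y, h⟩ := c.exists_essSetup hE
  have := h.finite
  obtain ⟨fa, rec⟩ := c.fn_props hE.2.1
  have had := h.autData F fa
  obtain ⟨t', pair⟩ := h.exists_pair F fa hE
  obtain ⟨d, d', j, g⟩ := pair.exists_gens had
  obtain ⟨-, -, -, hZidx, hEidx⟩ := essential_basic F c.hF c.hrel hE
  exact ⟨y, t', d, d', j, hE, h, fa, rec, had, pair, g, hZidx, hEidx⟩

variable {t' : MulAut E} {d d' : E} {j : ℕ}

theorem TwoData.finite (D : TwoData F E y t' d d' j) : Finite E := D.h.finite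

theorem TwoData.x_not_mem_zS (D : TwoData F E y t' d d' j) : (d' : Ω) ∉ zS S := by
  intro hz
  have h1 : D.h.t d' = d' := (D.h.t_fix_iff d').mpr hz
  have h2 := pow_apply_fixed D.h.t d' h1 j
  rw [D.g.tjd'] at h2
  exact D.g.d1 (mul_eq_left.mp h2)

theorem TwoData.card_cen (D : TwoData F E y t' d d' j) : Nat.card (cen D.h.comm D.h.t) = 2 :=
  D.had.hcard D.h.t D.pair.tA D.pair.t1 D.pair.tp

theorem TwoData.card_cen' (D : TwoData F E y t' d d' j) : Nat.card (cen D.h.comm t') = 2 :=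
  D.had.hcard t' D.pair.t'A D.pair.t'1 D.pair.t'p

theorem TwoData.t_x (D : TwoData F E y t' d d' j) : D.h.t d' = d' * d := by
  have h1 : comHom D.h.comm D.h.t d' ≠ 1 := by
    intro h
    rw [comHom_eq_one_iff] at h
    exact D.x_not_mem_zS ((D.h.t_fix_iff d').mp h)
  have h2 := (eq_of_card_two (cen D.h.comm D.h.t) D.card_cen
    (comHom_mem_cen D.h.comm D.h.t d') D.g.dmem h1 D.g.d1).1
  rw [apply_eq_mul_comHom D.h.comm, h2]

theorem TwoData.x_sq (D : TwoData F E y t' d d' j) : (d' : Ω) * d' = 1 := by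
  have h := (eq_of_card_two (cen D.h.comm t') D.card_cen' D.g.d'mem D.g.d'mem D.g.d'1 D.g.d'1).2
  exact congrArg Subtype.val h

theorem TwoData.d_sq (D : TwoData F E y t' d d' j) : (d : Ω) * d = 1 := by
  have h := (eq_of_card_two (cen D.h.comm D.h.t) D.card_cen D.g.dmem D.g.dmem D.g.d1 D.g.d1).2
  exact congrArg Subtype.val h

theorem TwoData.d_mem (D : TwoData F E y t' d d' j) : (d : Ω) ∈ dS S :=
  (D.h.mem_cen_iff d).mp D.g.dmem

theorem TwoData.d_ne_one (D : TwoData F E y t' d d' j) : (d : Ω) ≠ 1 := by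
  intro h
  exact D.g.d1 (Subtype.ext h)

theorem TwoData.x_ne_one (D : TwoData F E y t' d d' j) : (d' : Ω) ≠ 1 := by
  intro h
  exact D.g.d'1 (Subtype.ext h)

theorem TwoData.dS_cases (D : TwoData F E y t' d d' j) {u : Ω} (hu : u ∈ dS S) :
    u = 1 ∨ u = (d : Ω) := by
  by_cases h1 : u = 1
  · exact Or.inl h1
  · right
    have huE : u ∈ E := D.h.hZE (D.h.hdz hu)
    have hcen : (⟨u, huE⟩ : E) ∈ cen D.h.comm D.h.t := (D.h.mem_cen_iff _).mpr hu
    have hne : (⟨u, huE⟩ : E) ≠ 1 := fun h => h1 (congrArg Subtype.val h)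
    have := (eq_of_card_two (cen D.h.comm D.h.t) D.card_cen hcen D.g.dmem hne D.g.d1).1
    exact congrArg Subtype.val this

theorem TwoData.dS_sq (D : TwoData F E y t' d d' j) {u : Ω} (hu : u ∈ dS S) : u * u = 1 := by
  rcases D.dS_cases hu with rfl | rfl
  · exact one_mul 1
  · exact D.d_sq

/-- the subgroup `W` of the data -/
def TwoData.W (D : TwoData F E y t' d d' j) : Subgroup Ω := Wp D.h.t t'

theorem TwoData.W_le (D : TwoData F E y t' d d' j) : D.W ≤ zS S := D.h.Wp_le_zS t'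

theorem TwoData.mem_W (D : TwoData F E y t' d d' j) {x : Ω} :
    x ∈ D.W ↔ ∃ e : E, D.h.t e = e ∧ t' e = e ∧ (e : Ω) = x := mem_Wp

theorem TwoData.decompZ (D : TwoData F E y t' d d' j) {z : Ω} (hz : z ∈ zS S) :
    ∃ u ∈ dS S, ∃ w ∈ D.W, z = u * w := by
  have hzE : z ∈ E := D.h.hZE hz
  have hfixz : D.h.t ⟨z, hzE⟩ = ⟨z, hzE⟩ := (D.h.t_fix_iff _).mpr hz
  obtain ⟨x, hx, hx1, hx2⟩ := D.g.exists_mul_fix ⟨z, hzE⟩ hfixz
  have hxD : (x : Ω) ∈ dS S := (D.h.mem_cen_iff x).mp hx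
  refine ⟨(x : Ω)⁻¹, Subgroup.inv_mem _ hxD, ((x * ⟨z, hzE⟩ : E) : Ω),
    D.mem_W.mpr ⟨_, hx1, hx2, rfl⟩, ?_⟩
  simp

theorem TwoData.dS_inf_W (D : TwoData F E y t' d d' j) {u : Ω} (hu : u ∈ dS S) (hw : u ∈ D.W) :
    u = 1 := by
  have := D.finite
  obtain ⟨e, he1, he2, rfl⟩ := D.mem_W.mp hw
  have hcen : e ∈ cen D.h.comm D.h.t := (D.h.mem_cen_iff e).mpr hu
  have := D.pair.cen_fix_eq_one D.had e hcen he2
  rw [this]
  rfl

theorem TwoData.not_sq (D : TwoData F E y t' d d' j) {z : Ω} (hz : z ∈ zS S) :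
    z * z ≠ (d : Ω) := by
  intro hzz
  obtain ⟨u, hu, w, hw, rfl⟩ := D.decompZ hz
  have huS : u ∈ S := dS_le S hu
  have hwZ : w ∈ zS S := D.W_le hw
  have hcomm : Commute w u := mem_zS_comm hwZ huS |>.symm
  have h1 : u * w * (u * w) = u * u * (w * w) := Commute.mul_mul_mul_comm hcomm u w
  rw [h1, D.dS_sq hu, one_mul] at hzz
  have hdW : (d : Ω) ∈ D.W := by
    rw [← hzz]
    exact Subgroup.mul_mem _ hw hw
  exact D.d_ne_one (D.dS_inf_W D.d_mem hdW)

theorem TwoData.inv_fix (D : TwoData F E y t' d d' j) {σ : MulAut E} (hσA : σ ∈ F.autGroup E)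
    (hσ2 : σ ^ 2 = 1) {e : E} (he : (e : Ω) ∈ D.W) : σ e = e := by
  have := D.finite
  obtain ⟨e', he1, he2, hee⟩ := D.mem_W.mp he
  have : e' = e := Subtype.ext hee
  subst this
  by_cases hσ1 : σ = 1
  · rw [hσ1]; rfl
  · rcases involution_cases D.had D.pair σ hσA hσ1 hσ2 with rfl | rfl | rfl
    · exact he1
    · exact he2
    · rw [MulAut.mul_apply, MulAut.mul_apply]
      have h3 : D.h.t⁻¹ e' = e' := by
        conv_lhs => rw [← he1]
        exact MulAut.inv_apply_self _ _ _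
      rw [h3, he2, he1]

theorem TwoData.W_inv (D : TwoData F E y t' d d' j) {α : MulAut E} (hα : α ∈ F.autGroup E)
    {e : E} (he : (e : Ω) ∈ D.W) : ((α e : E) : Ω) ∈ D.W := by
  have key : ∀ τ : MulAut E, τ ∈ F.autGroup E → τ ^ 2 = 1 → τ (α e) = α e := by
    intro τ hτ hτ2
    have hσA : α⁻¹ * τ * α⁻¹⁻¹ ∈ F.autGroup E :=
      Subgroup.mul_mem _ (Subgroup.mul_mem _ (Subgroup.inv_mem _ hα) hτ)
        (Subgroup.inv_mem _ (Subgroup.inv_mem _ hα))
    have h1 := D.inv_fix hσA (conj_pow_eq_one hτ2) he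
    rw [inv_inv, MulAut.mul_apply, MulAut.mul_apply] at h1
    have h2 := congrArg α h1
    rw [MulAut.apply_inv_self] at h2
    exact h2
  exact D.mem_W.mpr ⟨α e, key _ D.pair.tA D.pair.tp, key _ D.pair.t'A D.pair.t'p, rfl⟩

theorem TwoData.conj_eq (D : TwoData F E y t' d d' j) {g : Ω} (hgS : g ∈ S) (hgE : g ∉ E)
    (e : E) : g * e * g⁻¹ = ((D.h.t e : E) : Ω) := by
  have hgn : g ∈ Subgroup.normalizer (E : Set Ω) := D.h.hSn hgS
  have hmem : conjAut E g hgn ∈ Subgroup.zpowers D.h.t := by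
    rw [← D.h.autInducedBy_eq]
    exact conjAut_mem_autInducedBy hgS hgn
  have hne : conjAut E g hgn ≠ 1 := by
    intro h1
    apply hgE
    apply D.h.hcen
    refine mem_centralizerIn.mpr ⟨hgS, fun x hx => ?_⟩
    have := congrArg (fun f : MulAut E => ((f ⟨x, hx⟩ : E) : Ω)) h1
    simp only [MulAut.one_apply] at this
    rw [conjAut_apply] at this
    have h3 : g * x = g * x * g⁻¹ * g := by group
    rw [h3, this]
  have := eq_of_mem_zpowers_of_sq D.h.t_pow_p hne hmem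
  rw [← this, conjAut_apply]

theorem TwoData.E_cases (D : TwoData F E y t' d d' j) {e : Ω} (he : e ∈ E) :
    e ∈ zS S ∨ (d' : Ω)⁻¹ * e ∈ zS S := by
  by_cases hz : e ∈ zS S
  · exact Or.inl hz
  · right
    have hidx : ((zS S).subgroupOf E).index = 2 := D.hZidx
    have h1 := Subgroup.mul_mem_iff_of_index_two hidx (a := (d'⁻¹ : E)) (b := (⟨e, he⟩ : E))
    rw [Subgroup.mem_subgroupOf, Subgroup.mem_subgroupOf, Subgroup.mem_subgroupOf] at h1
    have h2 : ((d'⁻¹ : E) : Ω) ∉ zS S := by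
      intro h
      apply D.x_not_mem_zS
      have := Subgroup.inv_mem _ h
      simpa using this
    have h3 := h1.mpr ⟨fun h => absurd h h2, fun h => absurd h hz⟩
    simpa using h3

theorem TwoData.S_cases (D : TwoData F E y t' d d' j) {g₂ : Ω} (hg₂S : g₂ ∈ S) (hg₂E : g₂ ∉ E)
    {c : Ω} (hc : c ∈ S) : c ∈ E ∨ g₂⁻¹ * c ∈ E := by
  by_cases hcE : c ∈ E
  · exact Or.inl hcE
  · right
    have hidx : (E.subgroupOf S).index = 2 := D.hEidx
    have h1 := Subgroup.mul_mem_iff_of_index_two hidx (a := (⟨g₂, hg₂S⟩⁻¹ : S)) (b := (⟨c, hc⟩ : S))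
    rw [Subgroup.mem_subgroupOf, Subgroup.mem_subgroupOf, Subgroup.mem_subgroupOf] at h1
    have h2 : (((⟨g₂, hg₂S⟩ : S)⁻¹ : S) : Ω) ∉ E := by
      intro h
      apply hg₂E
      have := Subgroup.inv_mem _ h
      simpa using this
    have h3 := h1.mpr ⟨fun h => absurd h h2, fun h => absurd h hcE⟩
    simpa using h3

/-- the noncentral involutions of `S` lie in two cosets of the centre -/
theorem TwoData.ni_class (D : TwoData F E y t' d d' j) {g₂ c : Ω} (hg₂S : g₂ ∈ S)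
    (hg₂E : g₂ ∉ E) (hg₂ : g₂ * g₂ = 1) (hcS : c ∈ S) (hc : c * c = 1) (hcZ : c ∉ zS S) :
    (d' : Ω)⁻¹ * c ∈ zS S ∨ g₂⁻¹ * c ∈ zS S := by
  rcases D.S_cases hg₂S hg₂E hcS with hcE | hcE
  · left
    rcases D.E_cases hcE with h | h
    · exact absurd h hcZ
    · exact h
  · rcases D.E_cases hcE with h | h
    · exact Or.inr h
    · exfalso
      obtain ⟨z, hzdef⟩ : ∃ z : Ω, z = (d' : Ω)⁻¹ * (g₂⁻¹ * c) := ⟨_, rfl⟩
      rw [← hzdef] at h
      have hxS : (d' : Ω) ∈ S := D.h.hES d'.2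
      have hconj : g₂ * (d' : Ω) * g₂⁻¹ = (d' : Ω) * (d : Ω) := by
        rw [D.conj_eq hg₂S hg₂E d', D.t_x]
        rfl
      have hg₂inv : g₂⁻¹ = g₂ := inv_eq_of_mul_eq_one_left hg₂
      have hdZ : (d : Ω) ∈ zS S := D.h.hdz D.d_mem
      obtain ⟨a, hadef⟩ : ∃ a : Ω, a = g₂ * (d' : Ω) := ⟨_, rfl⟩
      have haS : a ∈ S := by rw [hadef]; exact S.mul_mem hg₂S hxS
      have haa : a * a = (d : Ω) := by
        have e1 : a * a = g₂ * (d' : Ω) * g₂⁻¹ * (d' : Ω) := by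
          rw [hg₂inv, hadef]; simp only [mul_assoc]
        rw [e1, hconj, mul_assoc, (mem_zS_comm hdZ hxS).symm, ← mul_assoc, D.x_sq, one_mul]
      have hca : c = a * z := by
        rw [hadef, hzdef]; group
      have hcomm : Commute z a := (mem_zS_comm h haS).symm
      have e2 : a * z * (a * z) = a * a * (z * z) := Commute.mul_mul_mul_comm hcomm a z
      rw [hca, e2, haa] at hc
      have hzz : z * z = (d : Ω) := by
        have h1 : z * z = (d : Ω)⁻¹ := (inv_eq_of_mul_eq_one_right hc).symm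
        rw [h1]
        exact inv_eq_of_mul_eq_one_left D.d_sq
      exact D.not_sq h hzz

end

end Cfsg.Agent.Lib.Helper89
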