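import Cfsg.Agent.Lib.Helper89.CenterIdx7

set_option autoImplicit false
set_option linter.unusedSectionVars false

/-!
The prime `2`: `F`-automorphisms of `S` stabilize the essential subgroups; the case of a unique
essential subgroup.
-/

namespace Cfsg.Agent.Lib.Helper89

open Cfsg Cfsg.FusionSystem Cfsg.Agent.Lib.Helper87

variable {Ω : Type*} [Group Ω] {S : Subgroup Ω} {E : Subgroup Ω} {y : Ω}
variable [Finite S] [Fact (Nat.Prime 2)] {F : FusionSystem S}
variable {t' : MulAut E} {d d' : E} {j : ℕ}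

/-- `F`-automorphisms of `S` stabilize an essential subgroup. -/
theorem TwoData.claimX (c : Ctx 2 F) (D : TwoData F E y t' d d' j) {α : MulAut S}
    (hα : α ∈ F.autGroup S) : ∀ e : S, (e : Ω) ∈ E → ((α e : S) : Ω) ∈ E := by
  have hES := D.h.hES
  obtain ⟨x₁, hx₁⟩ : ∃ x₁ : S, (x₁ : Ω) = (d' : Ω) := ⟨⟨(d' : Ω), hES d'.2⟩, rfl⟩
  have hx₁E : (x₁ : Ω) ∈ E := by rw [hx₁]; exact d'.2
  have hx₁sq : x₁ * x₁ = 1 := Subtype.ext (by
    rw [Subgroup.coe_mul, hx₁]; exact D.x_sq)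
  have step1 : ((α x₁ : S) : Ω) ∈ E := by
    by_contra hnot
    obtain ⟨g₂, hg₂⟩ : ∃ g₂ : S, g₂ = α x₁ := ⟨_, rfl⟩
    rw [← hg₂] at hnot
    have hg₂sq : g₂ * g₂ = 1 := by rw [hg₂, ← map_mul, hx₁sq, map_one]
    have hg₂sq' : (g₂ : Ω) * g₂ = 1 := congrArg Subtype.val hg₂sq
    have hg₂Z : (g₂ : Ω) ∉ zS S := fun h => hnot (D.h.hZE h)
    have hbsq : ((α g₂ : S) : Ω) * (α g₂ : S) = 1 := by
      have : α g₂ * α g₂ = 1 := by rw [← map_mul, hg₂sq, map_one]
      exact congrArg Subtype.val this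
    have hbZ : ((α g₂ : S) : Ω) ∉ zS S := by
      intro h
      apply hg₂Z
      have := aut_mem_zS α⁻¹ h
      rwa [MulAut.inv_apply_self] at this
    rcases D.ni_class g₂.2 hnot hg₂sq' (α g₂).2 hbsq hbZ with hL | hR
    · -- `α (α x₁) = x₁ z₀`
      obtain ⟨z₀, hz₀⟩ : ∃ z₀ : S, z₀ = x₁⁻¹ * α g₂ := ⟨_, rfl⟩
      have hz₀Z : (z₀ : Ω) ∈ zS S := by
        rw [hz₀, Subgroup.coe_mul, Subgroup.coe_inv, hx₁]
        exact hL
      have hαα : α g₂ = x₁ * z₀ := by rw [hz₀, mul_inv_cancel_left]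
      obtain ⟨m, hm, hinner⟩ := exists_inner_pow F (c.fn_props (isFullyNormalized_self F)).1
      have hind : ∀ k : ℕ, ∃ z : S, (z : Ω) ∈ zS S ∧ (α ^ (2 * k + 1)) x₁ = g₂ * z := by
        intro k
        induction k with
        | zero => exact ⟨1, Subgroup.one_mem _, by simp [hg₂]⟩
        | succ k ih =>
          obtain ⟨z, hz, hk⟩ := ih
          refine ⟨z * (α ^ (2 * k + 1)) z₀, ?_, ?_⟩
          · rw [Subgroup.coe_mul]
            exact Subgroup.mul_mem _ hz (aut_mem_zS _ hz₀Z)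
          · have e1 : 2 * (k + 1) + 1 = (2 * k + 1) + 1 + 1 := by ring
            rw [e1, pow_succ, pow_succ, MulAut.mul_apply, MulAut.mul_apply, ← hg₂, hαα, map_mul,
              hk, mul_assoc]
      have hodd : Odd m := by
        rw [← Nat.not_even_iff_odd, even_iff_two_dvd]
        exact hm
      obtain ⟨k, hk⟩ := hodd
      obtain ⟨z, hz, hzk⟩ := hind k
      rw [← hk] at hzk
      obtain ⟨s, hs, hsx⟩ := hinner α hα
      have h1 := hsx x₁
      rw [hzk] at h1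
      have h2 : s * (x₁ : Ω) * s⁻¹ ∈ E :=
        (Subgroup.mem_normalizer_iff.mp (D.h.hSn hs) _).mp hx₁E
      rw [← h1, Subgroup.coe_mul] at h2
      have h3 : (g₂ : Ω) = (g₂ : Ω) * (z : Ω) * (z : Ω)⁻¹ := by group
      apply hnot
      rw [h3]
      exact E.mul_mem h2 (E.inv_mem (D.h.hZE hz))
    · -- `g₂⁻¹ α(g₂) = α (x₁⁻¹ g₂)` central
      have h1 : ((α (x₁⁻¹ * g₂) : S) : Ω) ∈ zS S := by
        rw [map_mul, map_inv, ← hg₂, Subgroup.coe_mul, Subgroup.coe_inv]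
        exact hR
      have h2 := aut_mem_zS α⁻¹ h1
      rw [MulAut.inv_apply_self, Subgroup.coe_mul, Subgroup.coe_inv] at h2
      apply hnot
      have h3 : (g₂ : Ω) = (x₁ : Ω) * ((x₁ : Ω)⁻¹ * (g₂ : Ω)) := by group
      rw [h3]
      exact E.mul_mem hx₁E (D.h.hZE h2)
  intro e he
  rcases D.E_cases he with hz | hz
  · exact D.h.hZE (aut_mem_zS α hz)
  · obtain ⟨z, hzdef⟩ : ∃ z : S, z = x₁⁻¹ * e := ⟨_, rfl⟩
    have hzZ : (z : Ω) ∈ zS S := by
      rw [hzdef, Subgroup.coe_mul, Subgroup.coe_inv, hx₁]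
      exact hz
    have he' : e = x₁ * z := by rw [hzdef, mul_inv_cancel_left]
    rw [he', map_mul, Subgroup.coe_mul]
    exact E.mul_mem step1 (D.h.hZE (aut_mem_zS α hzZ))

/-- restriction of an automorphism of `S` stabilizing `E` -/
theorem exists_restrict_aut (F : FusionSystem S) {E : Subgroup Ω} (hES : E ≤ S) {α : MulAut S}
    (hα : α ∈ F.autGroup S) (hinv : ∀ e : S, (e : Ω) ∈ E → ((α e : S) : Ω) ∈ E) :
    ∃ αE : MulAut E, αE ∈ F.autGroup E ∧
      ∀ e : E, ((αE e : E) : Ω) = ((α ⟨e, hES e.2⟩ : S) : Ω) := by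
  have : Finite E := finite_of_le hES
  have hφS : S.subtype.comp α.toMonoidHom ∈ F.Hom S := (mem_autGroup_iff F le_rfl α).mp hα
  have hφ := restrict_mem F hES hφS
  have hle : ((S.subtype.comp α.toMonoidHom).comp (Subgroup.inclusion hES)).range ≤ E := by
    rintro _ ⟨e, rfl⟩
    exact hinv ⟨e, hES e.2⟩ e.2
  have hr : ((S.subtype.comp α.toMonoidHom).comp (Subgroup.inclusion hES)).range = E :=
    Subgroup.eq_of_le_of_card_ge hle (card_range_eq F hφ).ge
  obtain ⟨αE, hαE, hαEe⟩ := exists_aut_of_range_eq F hφ hr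
  exact ⟨αE, hαE, fun e => by rw [hαEe]; rfl⟩

/-- two essential subgroups, one contained in the other, are equal -/
theorem essential_eq_of_le (c : Ctx 2 F) {E₁ E₂ : Subgroup Ω} (h₁ : F.IsEssential 2 E₁)
    (h₂ : F.IsEssential 2 E₂) (hle : E₁ ≤ E₂) : E₁ = E₂ := by
  obtain ⟨-, -, -, -, hidx₁⟩ := essential_basic F c.hF c.hrel h₁
  obtain ⟨hE₂S, -, -, -, hidx₂⟩ := essential_basic F c.hF c.hrel h₂
  have hmul := Subgroup.relIndex_mul_relIndex E₁ E₂ S hle hE₂S
  rw [hidx₁, hidx₂] at hmul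
  have h1 : E₁.relIndex E₂ = 1 := by omega
  exact le_antisymm hle (Subgroup.relIndex_eq_one.mp h1)

/-- There cannot be a unique essential subgroup. -/
theorem TwoData.not_unique (c : Ctx 2 F) (D : TwoData F E y t' d d' j)
    (huniq : ∀ P : Subgroup Ω, F.IsEssential 2 P → P = E) : False := by
  have hbot : E = ⊥ := by
    apply c.eq_bot_of_invariant E
    intro P hP
    rcases hP with rfl | hP
    · exact ⟨D.h.hES, fun α hα x hx => D.claimX c hα x hx⟩
    · have := huniq P hP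
      subst this
      exact ⟨le_rfl, fun α _ x _ => (α x).2⟩
  have hx : (d' : Ω) ∈ (⊥ : Subgroup Ω) := hbot.le d'.2
  rw [Subgroup.mem_bot] at hx
  exact D.x_ne_one hx

end Cfsg.Agent.Lib.Helper89
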