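import Cfsg.Agent.Lib.Helper89.CenterIdx8
import Cfsg.Agent.Lib.Helper08.PgoModInn

set_option autoImplicit false
set_option linter.unusedSectionVars false

/-!
The prime `2`: two essential subgroups.
-/

namespace Cfsg.Agent.Lib.Helper89

open Cfsg Cfsg.FusionSystem Cfsg.Agent.Lib.Helper87

variable {Ω : Type*} [Group Ω] {S : Subgroup Ω}
variable [Finite S] [Fact (Nat.Prime 2)] {F : FusionSystem S}
variable {E : Subgroup Ω} {y : Ω} {t' : MulAut E} {d d' : E} {j : ℕ}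

theorem TwoData.le_of_x_mem (D : TwoData F E y t' d d' j) {M : Subgroup Ω} (hZM : zS S ≤ M)
    (hx : (d' : Ω) ∈ M) : E ≤ M := by
  intro e he
  rcases D.E_cases he with hz | hz
  · exact hZM hz
  · have h3 : e = (d' : Ω) * ((d' : Ω)⁻¹ * e) := by group
    rw [h3]
    exact M.mul_mem hx (hZM hz)

theorem TwoData.W_inv_S (c : Ctx 2 F) (D : TwoData F E y t' d d' j) {α : MulAut S}
    (hα : α ∈ F.autGroup S) {x : S} (hx : (x : Ω) ∈ D.W) : ((α x : S) : Ω) ∈ D.W := by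
  obtain ⟨αE, hαE, hαEe⟩ := exists_restrict_aut F D.h.hES hα (D.claimX c hα)
  have hxE : (x : Ω) ∈ E := D.h.hZE (D.W_le hx)
  have h1 := D.W_inv hαE (e := ⟨(x : Ω), hxE⟩) hx
  rw [hαEe] at h1
  exact h1

variable {E₂ : Subgroup Ω} {y₂ : Ω} {t₂' : MulAut E₂} {d₂ d₂' : E₂} {j₂ : ℕ}

theorem TwoData.x_not_mem_of_ne (c : Ctx 2 F) (D₁ : TwoData F E y t' d d' j)
    (D₂ : TwoData F E₂ y₂ t₂' d₂ d₂' j₂) (hne : E ≠ E₂) : (d₂' : Ω) ∉ E := by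
  intro hx
  have hle : E₂ ≤ E := D₂.le_of_x_mem D₁.h.hZE hx
  exact hne (essential_eq_of_le c D₂.ess D₁.ess hle).symm

/-- every essential subgroup is one of the two -/
theorem TwoData.essential_cases (c : Ctx 2 F) (D₁ : TwoData F E y t' d d' j)
    (D₂ : TwoData F E₂ y₂ t₂' d₂ d₂' j₂) (hne : E ≠ E₂) {P : Subgroup Ω}
    (hP : F.IsEssential 2 P) : P = E ∨ P = E₂ := by
  obtain ⟨yP, tP', dP, dP', jP, DP⟩ := c.exists_twoData hP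
  have hx₂E := D₁.x_not_mem_of_ne c D₂ hne
  have hx₂S : (d₂' : Ω) ∈ S := D₂.h.hES d₂'.2
  rcases D₁.ni_class hx₂S hx₂E D₂.x_sq (DP.h.hES dP'.2) DP.x_sq DP.x_not_mem_zS with h | h
  · left
    have hxE : (dP' : Ω) ∈ E := by
      have h3 : (dP' : Ω) = (d' : Ω) * ((d' : Ω)⁻¹ * (dP' : Ω)) := by group
      rw [h3]
      exact E.mul_mem d'.2 (D₁.h.hZE h)
    exact essential_eq_of_le c hP D₁.ess (DP.le_of_x_mem D₁.h.hZE hxE)
  · right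
    have hxE : (dP' : Ω) ∈ E₂ := by
      have h3 : (dP' : Ω) = (d₂' : Ω) * ((d₂' : Ω)⁻¹ * (dP' : Ω)) := by group
      rw [h3]
      exact E₂.mul_mem d₂'.2 (D₂.h.hZE h)
    exact essential_eq_of_le c hP D₂.ess (DP.le_of_x_mem D₂.h.hZE hxE)

theorem TwoData.conj_x (c : Ctx 2 F) (D₁ : TwoData F E y t' d d' j)
    (D₂ : TwoData F E₂ y₂ t₂' d₂ d₂' j₂) (hne : E ≠ E₂) :
    (d₂' : Ω) * (d' : Ω) * (d₂' : Ω)⁻¹ = (d' : Ω) * (d : Ω) := by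
  rw [D₁.conj_eq (D₂.h.hES d₂'.2) (D₁.x_not_mem_of_ne c D₂ hne) d', D₁.t_x]
  rfl

/-- the case `W₁ = W₂` -/
theorem TwoData.result_of_W_eq (c : Ctx 2 F) (D₁ : TwoData F E y t' d d' j)
    (D₂ : TwoData F E₂ y₂ t₂' d₂ d₂' j₂) (hne : E ≠ E₂) (hW : D₁.W = D₂.W) :
    Nat.card S = 2 ^ 3 ∧ Nonempty (↥S ≃* DihedralGroup 4) := by
  have hbot : D₁.W = ⊥ := by
    apply c.eq_bot_of_invariant
    intro P hP
    rcases hP with rfl | hP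
    · exact ⟨D₁.W_le.trans (zS_le _), fun α hα x hx => D₁.W_inv_S c hα hx⟩
    · rcases D₁.essential_cases c D₂ hne hP with rfl | rfl
      · exact ⟨D₁.W_le.trans D₁.h.hZE, fun α hα x hx => D₁.W_inv hα hx⟩
      · rw [hW]
        exact ⟨D₂.W_le.trans D₂.h.hZE, fun α hα x hx => D₂.W_inv hα hx⟩
  have hZD : zS S ≤ dS S := by
    intro z hz
    obtain ⟨u, hu, w, hw, rfl⟩ := D₁.decompZ hz
    rw [hbot, Subgroup.mem_bot] at hw
    rw [hw, mul_one]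
    exact hu
  have hcard : Nat.card S = 2 ^ 3 := card_of_zS_le_dS c hZD
  refine ⟨hcard, ?_⟩
  obtain ⟨x₁, hx₁⟩ : ∃ x₁ : S, (x₁ : Ω) = (d' : Ω) := ⟨⟨(d' : Ω), D₁.h.hES d'.2⟩, rfl⟩
  obtain ⟨x₂, hx₂⟩ : ∃ x₂ : S, (x₂ : Ω) = (d₂' : Ω) := ⟨⟨(d₂' : Ω), D₂.h.hES d₂'.2⟩, rfl⟩
  have hx₁sq : x₁ * x₁ = 1 := Subtype.ext (by rw [Subgroup.coe_mul, hx₁]; exact D₁.x_sq)
  have hx₂sq : x₂ * x₂ = 1 := Subtype.ext (by rw [Subgroup.coe_mul, hx₂]; exact D₂.x_sq)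
  have hx₁1 : x₁ ≠ 1 := fun h => D₁.x_ne_one (by rw [← hx₁, h]; rfl)
  have hx₂1 : x₂ ≠ 1 := fun h => D₂.x_ne_one (by rw [← hx₂, h]; rfl)
  have hprod : x₁ * x₂ * (x₁ * x₂) ≠ 1 := by
    intro h
    have h1 := congrArg Subtype.val h
    simp only [Subgroup.coe_mul, Subgroup.coe_one, hx₁, hx₂] at h1
    have hconj := D₁.conj_x c D₂ hne
    have hinv : (d₂' : Ω)⁻¹ = (d₂' : Ω) := inv_eq_of_mul_eq_one_left D₂.x_sq
    rw [hinv] at hconj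
    have h2 : (d' : Ω) * (d₂' : Ω) * ((d' : Ω) * (d₂' : Ω)) =
        (d' : Ω) * ((d₂' : Ω) * (d' : Ω) * (d₂' : Ω)) := by simp only [mul_assoc]
    rw [h2, hconj, ← mul_assoc, D₁.x_sq, one_mul] at h1
    exact D₁.d_ne_one h1
  have hidx : (⊥ : Subgroup S).index = 8 := by
    rw [Subgroup.index_bot, hcard]; norm_num
  obtain ⟨ψ, hsurj, hker⟩ := Cfsg.Agent.Lib.Helper08.exists_hom_dihedral_four (⊥ : Subgroup S)
    hidx x₁ x₂ (by rw [hx₁sq]; exact Subgroup.one_mem _) (by rw [hx₂sq]; exact Subgroup.one_mem _)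
    (by rw [Subgroup.mem_bot]; exact hx₁1) (by rw [Subgroup.mem_bot]; exact hx₂1)
    (by rw [Subgroup.mem_bot]; exact hprod)
  have hinj : Function.Injective ψ := (MonoidHom.ker_eq_bot_iff ψ).mp hker
  exact ⟨MulEquiv.ofBijective ψ ⟨hinj, hsurj⟩⟩

end Cfsg.Agent.Lib.Helper89
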