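import Cfsg.Agent.Lib.Helper89.StrEmbDual
import Cfsg.Agent.Lib.Helper89.SylowPrime
import Cfsg.Agent.Lib.Helper89.CenterIdx6
import Cfsg.Agent.Lib.Helper03.FusEss2
import Cfsg.Agent.Lib.Helper03.UniqueAbIdx
import Cfsg.Agent.Lib.Helper80.PGroup
import Cfsg.Agent.Lib.Helper91.FusionEssentialClass
import Cfsg.Agent.S5087

set_option autoImplicit false

/-!
Fusion systems over a `p`-group with an extraspecial subgroup of index `p`.
-/

namespace Cfsg.Agent.Lib.Helper89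

open Cfsg Cfsg.FusionSystem Cfsg.Agent.Lib.Helper87
open scoped commutatorElement

variable {Ω : Type*} [Group Ω] {S : Subgroup Ω}

/-- In an abelian essential subgroup `P`, a subgroup `R` of `N_S(P)` all of whose elements centralize `l`
(of order dividing `p`) and move every element of `P` inside its coset of `⟨l⟩` satisfies `|R : R ∩ P| ≤ p`. -/
theorem relIndex_le_of_common_center [Finite S] {p : ℕ} [Fact p.Prime]
    (hS : IsPGroup p S) (F : FusionSystem S) {P : Subgroup Ω}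
    (hP : F.IsEssential p P) (hcomm : ∀ u ∈ P, ∀ v ∈ P, u * v = v * u)
    (l : Ω) (hlP : l ∈ P) (hl : l ^ p = 1)
    (R : Subgroup Ω) (hR : R ≤ normalizerIn S P)
    (hfix : ∀ g ∈ R, g * l * g⁻¹ = l)
    (hquot : ∀ g ∈ R, ∀ u ∈ P, u⁻¹ * (g * u * g⁻¹) ∈ Subgroup.zpowers l) :
    P.relIndex R ≤ p := by
  have hPS : P ≤ S := hP.1.1
  have : Finite P := finite_of_le hPS
  obtain ⟨hcen, hfn, hnorm, E, hE⟩ := hP
  set Γ := F.autGroup P with hΓ
  set N := (Inn P).subgroupOf Γ with hNdef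
  have hN : ∀ n ∈ N, (n : MulAut P) = 1 := by
    intro n hn
    rw [hNdef, Subgroup.mem_subgroupOf] at hn
    obtain ⟨u, hu⟩ := hn
    rw [← hu]
    ext v
    rw [MulAut.conj_apply, MulAut.one_apply, Subgroup.coe_mul, Subgroup.coe_mul,
      hcomm u u.2 v v.2]
    simp
  let ρ : Γ ⧸ N →* MulAut P := QuotientGroup.lift N Γ.subtype (fun n hn => hN n hn)
  have hρmk : ∀ γ : Γ, ρ (QuotientGroup.mk γ) = (γ : MulAut P) := fun γ => rfl
  have hρ : Function.Injective ρ := by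
    rw [injective_iff_map_eq_one]
    intro q hq
    obtain ⟨γ, rfl⟩ := QuotientGroup.mk_surjective q
    rw [hρmk] at hq
    have : γ = 1 := Subtype.ext hq
    rw [this]; rfl
  let φ : ↥R →* Γ ⧸ N :=
    (QuotientGroup.mk' N).comp ((Cfsg.Agent.Lib.Helper03.FusEss.normHom F hPS).comp
      (Subgroup.inclusion hR))
  have hφ : ∀ (g : R) (x : P), ((ρ (φ g) x : P) : Ω) = g * x * (g : Ω)⁻¹ := fun g x => rfl
  have hRp : IsPGroup p R := hS.to_le (hR.trans (normalizerIn_le S P))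
  have hT0 : IsPGroup p φ.range := hRp.of_surjective φ.rangeRestrict φ.rangeRestrict_surjective
  have hcard : Nat.card φ.range ≤ p := by
    refine card_le_of_common_center (V := P) (fun a b => Subtype.ext (hcomm a a.2 b b.2)) E hE ρ hρ
      φ.range hT0 ⟨l, hlP⟩ (Subtype.ext (by simpa using hl)) ?_ ?_
    · rintro _ ⟨g, rfl⟩
      apply Subtype.ext
      rw [hφ]
      exact hfix g g.2
    · rintro _ ⟨g, rfl⟩ v
      rw [← coe_mem_zpowers_iff]
      rw [Subgroup.coe_mul, Subgroup.coe_inv, hφ]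
      exact hquot g g.2 v v.2
  have hker : φ.ker = P.subgroupOf R := by
    ext g
    rw [MonoidHom.mem_ker, Subgroup.mem_subgroupOf]
    show (QuotientGroup.mk' N) (Cfsg.Agent.Lib.Helper03.FusEss.normHom F hPS
      (Subgroup.inclusion hR g)) = 1 ↔ _
    rw [QuotientGroup.mk'_apply, QuotientGroup.eq_one_iff]
    constructor
    · intro h
      have h1 : Cfsg.Agent.Lib.Helper03.FusEss.normHom F hPS (Subgroup.inclusion hR g) = 1 :=
        Subtype.ext (hN _ h)
      rw [Cfsg.Agent.Lib.Helper03.FusEss.normHom_eq_one_iff] at h1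
      exact hcen.2 P (isConj_refl F hPS) h1
    · intro h
      have h1 : Cfsg.Agent.Lib.Helper03.FusEss.normHom F hPS (Subgroup.inclusion hR g) = 1 := by
        rw [Cfsg.Agent.Lib.Helper03.FusEss.normHom_eq_one_iff, mem_centralizerIn]
        exact ⟨hPS h, fun x hx => hcomm x hx _ h⟩
      rw [h1]; exact Subgroup.one_mem _
  calc P.relIndex R = (P.subgroupOf R).index := rfl
    _ = φ.ker.index := by rw [hker]
    _ = Nat.card φ.range := Subgroup.index_ker φ
    _ ≤ p := hcard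

/-- an element `≠ 1` of a subgroup of prime order generates it -/
theorem mem_zpowers_of_card_prime {p : ℕ} [Fact p.Prime] (Z : Subgroup Ω) (hZ : Nat.card Z = p)
    {c : Ω} (hc : c ∈ Z) (hc1 : c ≠ 1) : ∀ ζ ∈ Z, ζ ∈ Subgroup.zpowers c := by
  intro ζ hζ
  have h1 : (⟨c, hc⟩ : Z) ≠ 1 := fun h => hc1 (congrArg Subtype.val h)
  have h2 := zpowers_eq_top_of_prime_card hZ h1
  have h3 : (⟨ζ, hζ⟩ : Z) ∈ Subgroup.zpowers (⟨c, hc⟩ : Z) := by rw [h2]; trivial
  obtain ⟨k, hk⟩ := Subgroup.mem_zpowers_iff.mp h3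
  refine Subgroup.mem_zpowers_iff.mpr ⟨k, ?_⟩
  have := congrArg Subtype.val hk
  simpa using this

theorem pow_eq_one_of_card_prime {p : ℕ} (Z : Subgroup Ω) (hZ : Nat.card Z = p)
    {c : Ω} (hc : c ∈ Z) : c ^ p = 1 := by
  have h1 : (⟨c, hc⟩ : Z) ^ Nat.card Z = 1 := pow_card_eq_one'
  rw [hZ] at h1
  have := congrArg Subtype.val h1
  simpa using this

/-- every automorphism of a nonabelian `P` all of whose commutators lie in the subgroup `Z0` of
prime order preserves `Z0`. -/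
theorem aut_mem_of_comm_mem {p : ℕ} [Fact p.Prime] {P : Subgroup Ω} (Z0 : Subgroup Ω)
    (hZ0 : Nat.card Z0 = p) (hcommP : ∀ a ∈ P, ∀ b ∈ P, a * b * a⁻¹ * b⁻¹ ∈ Z0)
    (hna : ¬ ∀ a ∈ P, ∀ b ∈ P, a * b = b * a) (α : MulAut P) (x : P) (hx : (x : Ω) ∈ Z0) :
    ((α x : P) : Ω) ∈ Z0 := by
  classical
  have hex : ∃ a ∈ P, ∃ b ∈ P, a * b ≠ b * a := by
    by_contra hcon
    apply hna
    intro a ha b hb
    by_contra h
    exact hcon ⟨a, ha, b, hb, h⟩
  obtain ⟨a, ha, b, hb, hab⟩ := hex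
  set c : P := ⟨a, ha⟩ * ⟨b, hb⟩ * ⟨a, ha⟩⁻¹ * ⟨b, hb⟩⁻¹ with hc
  have hcZ : (c : Ω) ∈ Z0 := hcommP a ha b hb
  have hc1 : (c : Ω) ≠ 1 := by
    intro h
    apply hab
    have h1 : a * b * a⁻¹ * b⁻¹ = 1 := h
    calc a * b = (a * b * a⁻¹ * b⁻¹) * (b * a) := by group
      _ = b * a := by rw [h1, one_mul]
  have hαc : ((α c : P) : Ω) ∈ Z0 := by
    have h1 : α c = α ⟨a, ha⟩ * α ⟨b, hb⟩ * (α ⟨a, ha⟩)⁻¹ * (α ⟨b, hb⟩)⁻¹ := by
      rw [hc, map_mul, map_mul, map_mul, map_inv, map_inv]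
    rw [h1]
    exact hcommP _ (α ⟨a, ha⟩).2 _ (α ⟨b, hb⟩).2
  obtain ⟨k, hk⟩ := Subgroup.mem_zpowers_iff.mp (mem_zpowers_of_card_prime Z0 hZ0 hcZ hc1 _ hx)
  have hxk : x = c ^ k := Subtype.ext (by rw [Subgroup.coe_zpow]; exact hk.symm)
  rw [hxk, map_zpow, Subgroup.coe_zpow]
  exact Z0.zpow_mem hαc k

/-- the data of a `p`-group with an extraspecial-like subgroup `Q` of index `p` -/
structure XSData (S Q : Subgroup Ω) (p : ℕ) : Prop where
  hQS : Q ≤ S
  hZcard : Nat.card (centralizerIn Q Q) = p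
  hcomm : ∀ a ∈ Q, ∀ b ∈ Q, a * b * a⁻¹ * b⁻¹ ∈ centralizerIn Q Q
  hna : ¬ ∀ a ∈ Q, ∀ b ∈ Q, a * b = b * a
  hidx : (Q.subgroupOf S).index = p

theorem XSData.of_extraspecial {Q : Subgroup Ω} {p : ℕ} (hQS : Q ≤ S)
    (hQ : Cfsg.IsExtraspecial p ↥Q) (hQi : (Q.subgroupOf S).index = p) (hp1 : p ≠ 1) :
    XSData S Q p := by
  obtain ⟨⟨-, -, hcz⟩, hcard⟩ := hQ
  have hZ : Subgroup.center ↥Q = (centralizerIn Q Q).subgroupOf Q :=
    Cfsg.Agent.Lib.Helper03.UAI.center_eq_subgroupOf Q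
  have hZcard : Nat.card (centralizerIn Q Q) = p := by
    rw [← hcard, hZ]
    exact (Nat.card_congr (Subgroup.subgroupOfEquivOfLe (centralizerIn_le Q Q)).toEquiv).symm
  have hcomm : ∀ a ∈ Q, ∀ b ∈ Q, a * b * a⁻¹ * b⁻¹ ∈ centralizerIn Q Q := by
    intro a ha b hb
    have h1 : ⁅(⟨a, ha⟩ : Q), ⟨b, hb⟩⁆ ∈ commutator ↥Q :=
      Subgroup.commutator_mem_commutator (Subgroup.mem_top _) (Subgroup.mem_top _)
    rw [hcz, hZ, Subgroup.mem_subgroupOf] at h1
    exact h1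
  refine ⟨hQS, hZcard, hcomm, ?_, hQi⟩
  intro hab
  have h1 : commutator ↥Q = ⊥ := by
    rw [commutator_def, Subgroup.commutator_eq_bot_iff_le_centralizer]
    intro x _
    rw [Subgroup.mem_centralizer_iff]
    intro y _
    exact Subtype.ext (hab y y.2 x x.2)
  rw [hcz] at h1
  rw [h1, Subgroup.card_bot] at hcard
  exact hp1 hcard.symm

section XS

variable [Finite S] {p : ℕ} [Fact p.Prime] {Q : Subgroup Ω}

theorem XSData.Z0_le_Q (_h : XSData S Q p) : centralizerIn Q Q ≤ Q := centralizerIn_le Q Q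

theorem XSData.Z0_le_S (h : XSData S Q p) : centralizerIn Q Q ≤ S := (centralizerIn_le Q Q).trans h.hQS

theorem XSData.normalQ (h : XSData S Q p) (hS : IsPGroup p S) :
    ∀ s ∈ S, ∀ q ∈ Q, s * q * s⁻¹ ∈ Q := by
  intro s hs q hq
  exact Cfsg.Agent.Lib.Helper03.UAI.conj_mem_of_normal
    (Cfsg.Agent.Lib.Helper03.UAI.normal_of_index_prime hS h.hidx) h.hQS hs hq

theorem XSData.Z0_conj (h : XSData S Q p) (hS : IsPGroup p S) :
    ∀ s ∈ S, ∀ z ∈ centralizerIn Q Q, s * z * s⁻¹ ∈ centralizerIn Q Q := by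
  intro s hs z hz
  obtain ⟨hzQ, hzc⟩ := mem_centralizerIn.mp hz
  refine mem_centralizerIn.mpr ⟨h.normalQ hS s hs z hzQ, fun w hw => ?_⟩
  have hw' : s⁻¹ * w * s ∈ Q := by
    have := h.normalQ hS s⁻¹ (S.inv_mem hs) w hw
    rwa [inv_inv] at this
  have h1 := hzc _ hw'
  calc w * (s * z * s⁻¹) = s * ((s⁻¹ * w * s) * z) * s⁻¹ := by group
    _ = s * (z * (s⁻¹ * w * s)) * s⁻¹ := by rw [h1]
    _ = s * z * s⁻¹ * w := by group

/-- `Z(Q)` is central in `S` -/
theorem XSData.Z0_central (h : XSData S Q p) (hS : IsPGroup p S) :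
    ∀ s ∈ S, ∀ z ∈ centralizerIn Q Q, s * z = z * s := by
  have hn : ((centralizerIn Q Q).subgroupOf S).Normal := by
    constructor
    intro n hn g
    rw [Subgroup.mem_subgroupOf] at hn ⊢
    exact h.Z0_conj hS g g.2 n hn
  have hcard : Nat.card ((centralizerIn Q Q).subgroupOf S) = p := by
    rw [← h.hZcard]
    exact Nat.card_congr (Subgroup.subgroupOfEquivOfLe h.Z0_le_S).toEquiv
  have hle := Cfsg.Agent.Lib.Helper80.le_center_of_normal_of_card_prime hS
    ((centralizerIn Q Q).subgroupOf S) hcard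
  intro s hs z hz
  have h1 : (⟨z, h.Z0_le_S hz⟩ : S) ∈ Subgroup.center ↥S := hle (Subgroup.mem_subgroupOf.mpr hz)
  have h2 := Subgroup.mem_center_iff.mp h1 ⟨s, hs⟩
  exact congrArg Subtype.val h2

theorem XSData.Z0_le_zS (h : XSData S Q p) (hS : IsPGroup p S) : centralizerIn Q Q ≤ zS S :=
  fun z hz => mem_centralizerIn.mpr ⟨h.Z0_le_S hz, fun s hs => h.Z0_central hS s hs z hz⟩

theorem XSData.exists_gen (h : XSData S Q p) :
    ∃ l ∈ centralizerIn Q Q, l ≠ 1 ∧ l ^ p = 1 ∧ ∀ ζ ∈ centralizerIn Q Q, ζ ∈ Subgroup.zpowers l := by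
  have hp : p.Prime := Fact.out
  have : Finite Q := finite_of_le h.hQS
  have : Finite (centralizerIn Q Q) := finite_of_le h.Z0_le_S
  have hnt : Nontrivial (centralizerIn Q Q) := by
    rw [← Finite.one_lt_card_iff_nontrivial, h.hZcard]
    exact hp.one_lt
  obtain ⟨⟨l, hl⟩, hl1⟩ := exists_ne (1 : centralizerIn Q Q)
  have hl1' : l ≠ 1 := fun hh => hl1 (Subtype.ext hh)
  exact ⟨l, hl, hl1', pow_eq_one_of_card_prime _ h.hZcard hl,
    mem_zpowers_of_card_prime _ h.hZcard hl hl1'⟩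

/-- the order of `Q` is at least `p ^ 3` -/
theorem XSData.card_Q_ge (h : XSData S Q p) (hS : IsPGroup p S) : p ^ 3 ≤ Nat.card Q := by
  have hp : p.Prime := Fact.out
  have : Finite Q := finite_of_le h.hQS
  have hQp : IsPGroup p Q := hS.to_le h.hQS
  obtain ⟨k, hk⟩ := hQp.exists_card_eq
  have hk3 : 3 ≤ k := by
    by_contra hlt
    apply h.hna
    have hcomm : ∀ a b : Q, a * b = b * a := by
      have hk' : k = 0 ∨ k = 1 ∨ k = 2 := by omega
      rcases hk' with h0 | h1 | h2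
      · rw [h0, pow_zero] at hk
        have : Subsingleton Q := (Nat.card_eq_one_iff_unique.mp hk).1
        intro a b
        rw [Subsingleton.elim a b]
      · rw [h1, pow_one] at hk
        have : IsCyclic Q := isCyclic_of_prime_card hk
        intro a b
        exact (IsCyclic.commGroup).mul_comm a b
      · rw [h2] at hk
        exact (IsPGroup.isMulCommutative_of_card_eq_prime_sq hk).is_comm.comm
    intro a ha b hb
    exact congrArg Subtype.val (hcomm ⟨a, ha⟩ ⟨b, hb⟩)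
  rw [hk]
  exact Nat.pow_le_pow_right hp.pos hk3

theorem XSData.card_S (h : XSData S Q p) : Nat.card S = Nat.card Q * p := by
  have h1 := Subgroup.card_mul_index (Q.subgroupOf S)
  rw [h.hidx] at h1
  rw [← h1]
  congr 1
  exact Nat.card_congr (Subgroup.subgroupOfEquivOfLe h.hQS).toEquiv

end XS

end Cfsg.Agent.Lib.Helper89
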