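import Cfsg.Agent.Lib.Helper89.ExtraIdxP
import Cfsg.Agent.Lib.Helper89.MaxClassFus
import Cfsg.Agent.Lib.Helper89.NormalCrit

set_option autoImplicit false

/-!
Fusion systems over a `p`-group with an extraspecial subgroup of index `p`: the two main results.
-/

namespace Cfsg.Agent.Lib.Helper89

open Cfsg Cfsg.FusionSystem Cfsg.Agent.Lib.Helper87 Cfsg.Agent.Lib.Helper03.UAI
open scoped commutatorElement

variable {Ω : Type*} [Group Ω] {S : Subgroup Ω}

/-- an abelian subgroup `A` of prime index in a nonabelian `p`-group `S` all of whose commutators with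
`S` lie in a subgroup of order `p` has `|A : Z(S)| = p`. -/
theorem relIndex_zS_of_abelian_index_prime [Finite S] {p : ℕ} [Fact p.Prime] (hS : IsPGroup p S)
    {A : Subgroup Ω} (hAS : A ≤ S) (hcomm : ∀ a ∈ A, ∀ b ∈ A, a * b = b * a)
    (hidx : (A.subgroupOf S).index = p) (hna : ¬ ∀ s ∈ S, ∀ t ∈ S, s * t = t * s)
    (Z0 : Subgroup Ω) (hZ0 : Nat.card Z0 = p)
    (hc : ∀ a ∈ A, ∀ s ∈ S, a * s * a⁻¹ * s⁻¹ ∈ Z0) : (zS S).relIndex A = p := by
  have hp : p.Prime := Fact.out
  have hex : ∃ y ∈ S, y ∉ A := by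
    by_contra hcon
    apply hna
    intro s hs t ht
    have hsA : s ∈ A := by
      by_contra hh
      exact hcon ⟨s, hs, hh⟩
    have htA : t ∈ A := by
      by_contra hh
      exact hcon ⟨t, ht, hh⟩
    exact hcomm s hsA t htA
  obtain ⟨y, hyS, hyA⟩ := hex
  have hset : Setting S A y := setting_of_index_prime hS hAS hcomm hidx hna hyS hyA
  have hker := hset.kappa_ker
  have hrange : hset.kappa.range.map A.subtype ≤ Z0 := by
    rintro _ ⟨_, ⟨a, rfl⟩, rfl⟩
    show ((hset.kappa a : A) : Ω) ∈ Z0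
    rw [hset.kappa_coe]
    exact hc a a.2 y hyS
  have : Finite A := finite_of_le hAS
  have hcard : Nat.card hset.kappa.range ∣ p := by
    rw [← hZ0, ← Subgroup.card_map_of_injective A.subtype_injective]
    exact Subgroup.card_dvd_of_le hrange
  have hidx2 : hset.kappa.ker.index = Nat.card hset.kappa.range := Subgroup.index_ker _
  have hrel : (zS S).relIndex A = Nat.card hset.kappa.range := by
    rw [← hidx2, hker]
    rfl
  rcases (Nat.dvd_prime hp).mp hcard with h1 | h1
  · exfalso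
    rw [h1] at hrel
    have hle : A ≤ zS S := Subgroup.relIndex_eq_one.mp hrel
    apply hna
    intro s hs t ht
    exact comm_of_eq_mul_pow y (A : Set Ω) hcomm
      (fun b hb => (mem_zS_comm (hle hb) hyS).symm) (hset.gen s hs) (hset.gen t ht)
  · rw [hrel, h1]

theorem relIndex_eq_prime_of_le [Finite S] {p : ℕ} [Fact p.Prime] (hS : IsPGroup p S)
    {P : Subgroup Ω} (hPS : P ≤ S) (hne : P ≠ S) (hle : P.relIndex S ≤ p) : P.relIndex S = p := by
  have hp : p.Prime := Fact.out
  obtain ⟨n, hn⟩ := hS.exists_card_eq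
  have h1 : P.relIndex S ∣ p ^ n := by
    rw [← hn]
    exact Subgroup.relIndex_dvd_card P S
  obtain ⟨j, -, hj2⟩ := (Nat.dvd_prime_pow hp).mp h1
  rcases Nat.eq_zero_or_pos j with h0 | hpos
  · exfalso
    rw [h0, pow_zero] at hj2
    exact hne (le_antisymm hPS (Subgroup.relIndex_eq_one.mp hj2))
  · have h2 : p ≤ P.relIndex S := by
      rw [hj2]
      calc p = p ^ 1 := (pow_one p).symm
        _ ≤ p ^ j := Nat.pow_le_pow_right hp.pos hpos
    omega

section Main

variable [Finite S] {p : ℕ} [Fact p.Prime] {Q : Subgroup Ω}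

/-- an essential subgroup inside `Q` is `Q` itself when `|S| ≥ p ^ 6` -/
theorem XSData.eq_of_isEssential_le (h : XSData S Q p) (hS : IsPGroup p S)
    (h6 : p ^ 6 ≤ Nat.card S) (F : FusionSystem S) (E : Subgroup Ω) (hEQ : E ≤ Q)
    (hE : F.IsEssential p E) : E = Q := by
  have hp : p.Prime := Fact.out
  have hES : E ≤ S := hEQ.trans h.hQS
  have : Finite Q := finite_of_le h.hQS
  have hZE : centralizerIn Q Q ≤ E := by
    intro z hz
    apply hE.1.2 E (isConj_refl F hES)
    obtain ⟨hzQ, hzc⟩ := mem_centralizerIn.mp hz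
    exact mem_centralizerIn.mpr ⟨h.hQS hzQ, fun x hx => hzc x (hEQ hx)⟩
  have hconj : ∀ q ∈ Q, ∀ x ∈ E, q * x * q⁻¹ ∈ E := by
    intro q hq x hx
    have h1 := hZE (h.hcomm q hq x (hEQ hx))
    have h2 : q * x * q⁻¹ = (q * x * q⁻¹ * x⁻¹) * x := by group
    rw [h2]
    exact E.mul_mem h1 hx
  have hQN : Q ≤ normalizerIn S E := by
    intro q hq
    refine mem_normalizerIn.mpr ⟨h.hQS hq, fun x => ⟨fun hx => hconj q hq x hx, fun hx => ?_⟩⟩
    have h1 := hconj q⁻¹ (Q.inv_mem hq) _ hx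
    have h2 : q⁻¹ * (q * x * q⁻¹) * q⁻¹⁻¹ = x := by group
    rwa [h2] at h1
  obtain ⟨l, hl, hl1, hlp, hgen⟩ := h.exists_gen
  have hfix : ∀ g ∈ Q, g * l * g⁻¹ = l := by
    intro g hg
    have h1 := (mem_centralizerIn.mp hl).2 g hg
    rw [h1, mul_inv_cancel_right]
  have hquotZ : ∀ g ∈ Q, ∀ u ∈ E, u⁻¹ * (g * u * g⁻¹) ∈ centralizerIn Q Q := by
    intro g hg u hu
    have h1 := h.hcomm u⁻¹ (Q.inv_mem (hEQ hu)) g hg
    have h2 : u⁻¹ * g * u⁻¹⁻¹ * g⁻¹ = u⁻¹ * (g * u * g⁻¹) := by group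
    rwa [h2] at h1
  by_cases hab : ∀ u ∈ E, ∀ v ∈ E, u * v = v * u
  · exfalso
    have hrel : E.relIndex Q ≤ p :=
      relIndex_le_of_common_center hS F hE hab l (hZE hl) hlp Q hQN hfix
        (fun g hg u hu => hgen _ (hquotZ g hg u hu))
    have hQp : IsPGroup p Q := hS.to_le h.hQS
    have hEne : E ≠ Q := by
      intro hh
      apply h.hna
      rw [← hh]
      exact hab
    have hrel' : E.relIndex Q = p := relIndex_eq_prime_of_le hQp hEQ hEne hrel
    have hZrel : (zS Q).relIndex E = p :=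
      relIndex_zS_of_abelian_index_prime hQp hEQ hab hrel' h.hna (centralizerIn Q Q) h.hZcard
        (fun a ha s hs => h.hcomm a (hEQ ha) s hs)
    -- orders
    have : Finite E := finite_of_le hES
    have h1 := Subgroup.card_mul_index ((zS Q).subgroupOf E)
    have h2 : Nat.card ((zS Q).subgroupOf E) = Nat.card (zS Q) :=
      Nat.card_congr (Subgroup.subgroupOfEquivOfLe hZE).toEquiv
    have h3 : ((zS Q).subgroupOf E).index = p := hZrel
    rw [h2, h3] at h1
    have h4 : Nat.card (zS Q) = p := h.hZcard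
    rw [h4] at h1
    have h5 := Subgroup.card_mul_index (E.subgroupOf Q)
    have h6' : Nat.card (E.subgroupOf Q) = Nat.card E :=
      Nat.card_congr (Subgroup.subgroupOfEquivOfLe hEQ).toEquiv
    have h7 : (E.subgroupOf Q).index = p := hrel'
    rw [h6', h7, ← h1] at h5
    have h8 := h.card_S
    rw [← h5] at h8
    have h9 : Nat.card S = p ^ 4 := by rw [h8]; ring
    rw [h9] at h6
    exact absurd h6 (not_le.mpr (Nat.pow_lt_pow_right hp.one_lt (by norm_num)))
  · -- nonabelian case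
    apply le_antisymm hEQ
    intro g hg
    have hgN := (mem_normalizerIn.mp (hQN hg))
    have hgN' : g ∈ Subgroup.normalizer (E : Set Ω) := (Subgroup.mem_inf.mp (hQN hg)).2
    refine Cfsg.Agent.Lib.Helper03.FusEss.mem_of_stab_two hS F hE (centralizerIn Q Q) ?_
      (h.hQS hg) hgN' ?_ ?_
    · intro α _ y hy
      exact aut_mem_of_comm_mem _ h.hZcard
        (fun a ha b hb => h.hcomm a (hEQ ha) b (hEQ hb)) hab α y hy
    · intro y hy _
      have h1 := (mem_centralizerIn.mp hy).2 g hg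
      rw [h1, mul_inv_cancel_right]
    · intro u hu
      exact hquotZ g hg u hu

/-- the centre of `S` is the centre of `Q` when `O_p(F) = 1` and `p` is odd -/
theorem XSData.zS_eq (h : XSData S Q p) (hS : IsPGroup p S) (hp2 : p ≠ 2)
    (F : FusionSystem S) (hF : F.IsSaturated p) (hO : F.core = ⊥) :
    zS S = centralizerIn Q Q := by
  have hp : p.Prime := Fact.out
  by_contra hne
  have hZ0le : centralizerIn Q Q ≤ zS S := h.Z0_le_zS hS
  have hex : ∃ z ∈ zS S, z ∉ Q := by
    by_contra hcon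
    apply hne
    apply le_antisymm _ hZ0le
    intro z hz
    have hzQ : z ∈ Q := by
      by_contra hh
      exact hcon ⟨z, hz, hh⟩
    exact mem_centralizerIn.mpr ⟨hzQ, fun q hq => (mem_centralizerIn.mp hz).2 q (h.hQS hq)⟩
  obtain ⟨z, hz, hzQ⟩ := hex
  have hzS : z ∈ S := zS_le S hz
  have hzpow : ∀ (k : ℕ), z ^ k ∈ zS S := fun k => (zS S).pow_mem hz k
  have hn := normal_of_index_prime hS h.hidx
  -- all commutators of `S` lie in `Z(Q)`
  have hcomS : ∀ s ∈ S, ∀ t ∈ S, s * t * s⁻¹ * t⁻¹ ∈ centralizerIn Q Q := by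
    intro s hs t ht
    obtain ⟨a, ha, i, rfl⟩ := gen_of_index_prime hp hn h.hidx hzS hzQ hs
    obtain ⟨b, hb, j, rfl⟩ := gen_of_index_prime hp hn h.hidx hzS hzQ ht
    have haS := h.hQS ha
    have hbS := h.hQS hb
    have hu : (b * z ^ j) * z ^ i = z ^ i * (b * z ^ j) :=
      mem_zS_comm (hzpow i) (S.mul_mem hbS (S.pow_mem hzS j))
    have hv : a⁻¹ * z ^ j = z ^ j * a⁻¹ := mem_zS_comm (hzpow j) (S.inv_mem haS)
    have h1 : (a * z ^ i) * (b * z ^ j) * (a * z ^ i)⁻¹ * (b * z ^ j)⁻¹ = a * b * a⁻¹ * b⁻¹ := by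
      calc (a * z ^ i) * (b * z ^ j) * (a * z ^ i)⁻¹ * (b * z ^ j)⁻¹
          = a * (z ^ i * (b * z ^ j)) * (z ^ i)⁻¹ * a⁻¹ * (z ^ j)⁻¹ * b⁻¹ := by group
        _ = a * ((b * z ^ j) * z ^ i) * (z ^ i)⁻¹ * a⁻¹ * (z ^ j)⁻¹ * b⁻¹ := by rw [hu]
        _ = a * b * (z ^ j * a⁻¹) * (z ^ j)⁻¹ * b⁻¹ := by group
        _ = a * b * (a⁻¹ * z ^ j) * (z ^ j)⁻¹ * b⁻¹ := by rw [hv]
        _ = a * b * a⁻¹ * b⁻¹ := by group
    rw [h1]
    exact h.hcomm a ha b hb
  have hnaS : ¬ ∀ s ∈ S, ∀ t ∈ S, s * t = t * s :=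
    fun hh => h.hna (fun a ha b hb => hh a (h.hQS ha) b (h.hQS hb))
  -- `S' ≤ Z(Q)`
  have hdle : dS S ≤ centralizerIn Q Q := by
    unfold dS
    rw [Subgroup.map_le_iff_le_comap, commutator_def, Subgroup.commutator_le]
    intro s _ t _
    rw [Subgroup.mem_comap]
    exact hcomS s s.2 t t.2
  have hdcard : Nat.card (dS S) = p := by
    have : Finite (centralizerIn Q Q) := finite_of_le h.Z0_le_S
    have h1 : Nat.card (dS S) ∣ p := by
      rw [← h.hZcard]
      exact Subgroup.card_dvd_of_le hdle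
    rcases (Nat.dvd_prime hp).mp h1 with h2 | h2
    · exfalso
      have h3 : dS S = ⊥ := Subgroup.card_eq_one.mp h2
      apply hnaS
      intro s hs t ht
      have h4 : ⁅(⟨s, hs⟩ : S), ⟨t, ht⟩⁆ ∈ commutator ↥S :=
        Subgroup.commutator_mem_commutator (Subgroup.mem_top _) (Subgroup.mem_top _)
      have h5 : ((⁅(⟨s, hs⟩ : S), ⟨t, ht⟩⁆ : S) : Ω) ∈ dS S := ⟨_, h4, rfl⟩
      rw [h3, Subgroup.mem_bot] at h5
      have h6 : s * t * s⁻¹ * t⁻¹ = 1 := h5
      calc s * t = (s * t * s⁻¹ * t⁻¹) * (t * s) := by group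
        _ = t * s := by rw [h6, one_mul]
    · exact h2
  have hcardS : p ^ 4 ≤ Nat.card S := by
    rw [h.card_S]
    calc p ^ 4 = p ^ 3 * p := by ring
      _ ≤ Nat.card Q * p := Nat.mul_le_mul_right p (h.card_Q_ge hS)
  have hnormal : F.IsNormal (centralizerIn Q Q) := by
    rw [Cfsg.Agent.S5087.result p hS F hF]
    intro P hP
    have hPS : P ≤ S := by
      rcases hP with hPeq | hPe
      · exact hPeq.le
      · exact hPe.1.1
    have hzP : zS S ≤ P := by
      rcases hP with hPeq | hPe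
      · rw [hPeq]
        exact zS_le S
      · intro x hx
        apply hPe.1.2 P (isConj_refl F hPS)
        exact mem_centralizerIn.mpr ⟨zS_le S hx, fun y hy => mem_zS_comm hx (hPS hy)⟩
    have hZ0P : centralizerIn Q Q ≤ P := hZ0le.trans hzP
    refine ⟨hZ0P, fun α hα => map_eq_of_forall_le (F.autGroup P) _ (fun β _ => ?_) α hα⟩
    rintro _ ⟨x, hx, rfl⟩
    have hx' : (x : Ω) ∈ centralizerIn Q Q := Subgroup.mem_subgroupOf.mp hx
    show β x ∈ (centralizerIn Q Q).subgroupOf P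
    rw [Subgroup.mem_subgroupOf]
    by_cases hPab : ∀ a ∈ P, ∀ b ∈ P, a * b = b * a
    · exfalso
      have hPe : F.IsEssential p P := by
        rcases hP with hPeq | hPe
        · rw [hPeq] at hPab
          exact absurd hPab hnaS
        · exact hPe
      have hPne : P ≠ S := Cfsg.Agent.Lib.Helper91.ne_top_of_isEssential p F hF hPe
      have hPn : normalizerIn S P = S := by
        apply normalizerIn_eq_of_conj_mem
        intro g hg c hc
        have h1 := hZ0P (hcomS g hg c (hPS hc))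
        have h2 : g * c * g⁻¹ = (g * c * g⁻¹ * c⁻¹) * c := by group
        rw [h2]
        exact P.mul_mem h1 hc
      obtain ⟨l, hl, hl1, hlp, hgen⟩ := h.exists_gen
      have hrel : P.relIndex S ≤ p :=
        relIndex_le_of_common_center hS F hPe hPab l (hZ0P hl) hlp S (by rw [hPn])
          (fun g hg => by
            have h1 := h.Z0_central hS g hg l hl
            rw [h1, mul_inv_cancel_right])
          (fun g hg u hu => hgen _ (by
            have h1 := hcomS u⁻¹ (S.inv_mem (hPS hu)) g hg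
            have h2 : u⁻¹ * g * u⁻¹⁻¹ * g⁻¹ = u⁻¹ * (g * u * g⁻¹) := by group
            rwa [h2] at h1))
      have hrel' : P.relIndex S = p := relIndex_eq_prime_of_le hS hPS hPne hrel
      have hZrel : (zS S).relIndex P = p :=
        relIndex_zS_of_abelian_index_prime hS hPS hPab hrel' hnaS (centralizerIn Q Q) h.hZcard
          (fun a ha s hs => hcomS a (hPS ha) s hs)
      have hZS : (zS S).relIndex S = p ^ 2 := by
        rw [← Subgroup.relIndex_mul_relIndex (zS S) P S hzP hPS, hZrel, hrel', sq]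
      have c : Ctx p F := ⟨hS, hF, hO, hdle.trans hZ0le, hdcard, hZS⟩
      have h3 := (c.result_odd hp2 hPe).1
      rw [h3] at hcardS
      exact absurd hcardS (not_le.mpr (Nat.pow_lt_pow_right hp.one_lt (by norm_num)))
    · exact aut_mem_of_comm_mem _ h.hZcard
        (fun a ha b hb => hcomS a (hPS ha) b (hPS hb)) hPab β x hx'
  have hle : centralizerIn Q Q ≤ F.core := le_sSup hnormal
  rw [hO] at hle
  have h1 : centralizerIn Q Q = ⊥ := le_bot_iff.mp hle
  have h2 := h.hZcard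
  rw [h1, Subgroup.card_bot] at h2
  exact hp.one_lt.ne h2

end Main

end Cfsg.Agent.Lib.Helper89
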