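import Mathlib
import Cfsg.Prelude.Def_FusionSystem
import Cfsg.Agent.Lib.Helper87.FusionBasic
import Cfsg.Agent.Lib.Helper87.FusionSaturated
import Cfsg.Agent.Lib.Helper89.FusionAut
import Cfsg.Agent.Lib.Helper89.FusionConj
import Cfsg.Agent.Lib.Helper89.ExtraIdxP

set_option autoImplicit false

/-!
Strongly closed "generalized extraspecial" subgroups of a saturated fusion system, part A:
the data, and the consequence of receptivity of the (central) derived subgroup `Z0`: if an element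
`u ∈ P ∖ Z0` is `F`-conjugate to a generator `z` of `Z0`, then `C_P(u)` is elementary abelian.
-/

namespace Cfsg.Agent.Lib.Helper89

open Cfsg Cfsg.FusionSystem

variable {Ω : Type*} [Group Ω] {S : Subgroup Ω}

/-- the data of a strongly closed subgroup `P` all of whose commutators and `p`-th powers lie in a
subgroup `Z0` of order `p` which is central in `S`; `P` is not abelian. -/
structure GXData (F : FusionSystem S) (p : ℕ) (P Z0 : Subgroup Ω) : Prop where
  hcl : F.StronglyClosed P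
  hZ0card : Nat.card Z0 = p
  hZ0P : Z0 ≤ P
  hZ0c : ∀ s ∈ S, ∀ w ∈ Z0, s * w = w * s
  hcomm : ∀ a ∈ P, ∀ b ∈ P, a * b * a⁻¹ * b⁻¹ ∈ Z0
  hpow : ∀ a ∈ P, a ^ p ∈ Z0
  hnc : ¬ ∀ a ∈ P, ∀ b ∈ P, a * b = b * a

namespace GXData

variable {F : FusionSystem S} {p : ℕ} {P Z0 : Subgroup Ω}

theorem hPS (D : GXData F p P Z0) : P ≤ S := D.hcl.1

theorem hZ0S (D : GXData F p P Z0) : Z0 ≤ S := D.hZ0P.trans D.hPS

/-- `P` is normalized by `S`. -/
theorem conj_mem (D : GXData F p P Z0) {s : Ω} (hs : s ∈ S) {a : Ω} (ha : a ∈ P) :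
    s * a * s⁻¹ ∈ P := by
  have h1 : conjHom P s ∈ F.Hom P := F.conj_mem D.hPS hs
  have h2 := D.hcl.2 P le_rfl (conjHom P s) h1 ⟨a, ha⟩
  simpa [conjHom] using h2

theorem conj_mem' (D : GXData F p P Z0) {s : Ω} (hs : s ∈ S) {a : Ω} (ha : a ∈ P) :
    s⁻¹ * a * s ∈ P := by
  have := D.conj_mem (S.inv_mem hs) ha
  simpa using this

theorem centralizerIn_Z0 (D : GXData F p P Z0) : centralizerIn S Z0 = S := by
  apply le_antisymm (Helper87.centralizerIn_le S Z0)
  intro s hs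
  rw [Helper87.mem_centralizerIn]
  exact ⟨hs, fun x hx => (D.hZ0c s hs x hx).symm⟩

theorem isFullyCentralized_Z0 [Finite S] (D : GXData F p P Z0) : F.IsFullyCentralized Z0 := by
  refine ⟨D.hZ0S, fun Q _ => ?_⟩
  rw [D.centralizerIn_Z0]
  exact Helper87.card_le_of_le (Helper87.centralizerIn_le S Q)

/-- elements of `Z0` have `p`-th power one -/
theorem pow_Z0 (D : GXData F p P Z0) {w : Ω} (hw : w ∈ Z0) : w ^ p = 1 :=
  pow_eq_one_of_card_prime Z0 D.hZ0card hw

/-- The key consequence of receptivity of `Z0`. -/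
theorem centralizer_elementary [Finite S] [Fact p.Prime] (hS : IsPGroup p S)
    (hF : F.IsSaturated p) (D : GXData F p P Z0)
    {z u : Ω} (hz : z ∈ Z0) (hz1 : z ≠ 1) (hu : u ∈ P) (huZ : u ∉ Z0)
    (ψ : Subgroup.zpowers u →* Ω) (hψ : ψ ∈ F.Hom (Subgroup.zpowers u))
    (hψu : ψ ⟨u, Subgroup.mem_zpowers u⟩ = z) :
    (∀ g ∈ P, ∀ h ∈ P, g * u = u * g → h * u = u * h → g * h = h * g) ∧
      (∀ g ∈ P, g * u = u * g → g ^ p = 1) := by
  have hPS := D.hPS
  have hrec : F.IsReceptive Z0 :=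
    Helper87.isReceptive_of_isFullyCentralized p hS F hF Z0 D.isFullyCentralized_Z0
  -- values of `ψ`
  have hval : ∀ (k : ℤ) (hk : u ^ k ∈ Subgroup.zpowers u), ψ ⟨u ^ k, hk⟩ = z ^ k := by
    intro k hk
    have h1 : (⟨u ^ k, hk⟩ : Subgroup.zpowers u) = (⟨u, Subgroup.mem_zpowers u⟩ : Subgroup.zpowers u) ^ k := by
      apply Subtype.ext
      rw [Subgroup.coe_zpow]
    rw [h1, map_zpow, hψu]
  have hrange : ψ.range = Z0 := by
    ext y
    constructor
    · rintro ⟨x, rfl⟩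
      obtain ⟨k, hk⟩ := Subgroup.mem_zpowers_iff.mp x.2
      have h1 : x = ⟨u ^ k, hk ▸ x.2⟩ := Subtype.ext hk.symm
      rw [h1, hval]
      exact Z0.zpow_mem hz k
    · intro hy
      have h1 := mem_zpowers_of_card_prime Z0 D.hZ0card hz hz1 y hy
      obtain ⟨k, hk⟩ := Subgroup.mem_zpowers_iff.mp h1
      exact ⟨⟨u ^ k, Subgroup.zpow_mem_zpowers u k⟩, by rw [hval, hk]⟩
  set N := extender S (Subgroup.zpowers u) ψ with hN
  obtain ⟨ψ', hψ', hext⟩ := hrec.2 (Subgroup.zpowers u) ψ hψ hrange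
  have hmemN : ∀ g ∈ P, g * u = u * g → g ∈ N := by
    intro g hg hgu
    apply Helper87.centralizerIn_le_extender S (Subgroup.zpowers u) ψ
    rw [Helper87.mem_centralizerIn]
    refine ⟨hPS hg, fun x hx => ?_⟩
    obtain ⟨k, rfl⟩ := Subgroup.mem_zpowers_iff.mp hx
    have hc : Commute u g := hgu.symm
    exact (hc.zpow_left k).eq
  have huN : u ∈ N := hmemN u hu rfl
  -- the restriction to `P ⊓ N`
  set R := P ⊓ N with hR
  set φ : R →* Ω := ψ'.comp (Subgroup.inclusion (inf_le_right : R ≤ N)) with hφdef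
  have hφ : φ ∈ F.Hom R := Helper87.restrict_mem F inf_le_right hψ'
  have hφP : ∀ x : R, φ x ∈ P := fun x => D.hcl.2 R inf_le_left φ hφ x
  have hφinj : Function.Injective φ := F.injective_of_mem hφ
  have huR : u ∈ R := ⟨hu, huN⟩
  have hφu : φ ⟨u, huR⟩ = z := by
    have := hext u (Subgroup.mem_zpowers u) huN
    rw [hψu] at this
    exact this
  -- the main claim: an element `w ∈ Z0 ⊓ R` whose image lies in `Z0` is trivial
  have hkey : ∀ w : R, (w : Ω) ∈ Z0 → φ w ∈ Z0 → w = 1 := by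
    intro w hwZ hφw
    by_contra hw1
    have hφw1 : φ w ≠ 1 := by
      intro h
      apply hw1
      apply hφinj
      rw [h, map_one]
    have h1 := mem_zpowers_of_card_prime Z0 D.hZ0card hφw hφw1 z hz
    obtain ⟨k, hk⟩ := Subgroup.mem_zpowers_iff.mp h1
    have h2 : φ (w ^ k) = φ ⟨u, huR⟩ := by rw [map_zpow, hk, hφu]
    have h3 := hφinj h2
    apply huZ
    have h4 : (w : Ω) ^ k = u := by
      have := congrArg Subtype.val h3
      rwa [Subgroup.coe_zpow] at this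
    rw [← h4]
    exact Z0.zpow_mem hwZ k
  constructor
  · intro g hg h hh hgu hhu
    have hgR : g ∈ R := ⟨hg, hmemN g hg hgu⟩
    have hhR : h ∈ R := ⟨hh, hmemN h hh hhu⟩
    set w : R := ⟨g, hgR⟩ * ⟨h, hhR⟩ * ⟨g, hgR⟩⁻¹ * ⟨h, hhR⟩⁻¹ with hw
    have hwZ : (w : Ω) ∈ Z0 := by
      have := D.hcomm g hg h hh
      simpa [hw] using this
    have hφw : φ w ∈ Z0 := by
      have h1 : φ w = φ ⟨g, hgR⟩ * φ ⟨h, hhR⟩ * (φ ⟨g, hgR⟩)⁻¹ * (φ ⟨h, hhR⟩)⁻¹ := by
        rw [hw, map_mul, map_mul, map_mul, map_inv, map_inv]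
      rw [h1]
      exact D.hcomm _ (hφP _) _ (hφP _)
    have h1 := hkey w hwZ hφw
    have h2 := congrArg Subtype.val h1
    simp only [hw, Subgroup.coe_mul, Subgroup.coe_inv, Subgroup.coe_one] at h2
    -- g h g⁻¹ h⁻¹ = 1
    have h3 : g * h = (g * h * g⁻¹ * h⁻¹) * (h * g) := by group
    rw [h3, h2, one_mul]
  · intro g hg hgu
    have hgR : g ∈ R := ⟨hg, hmemN g hg hgu⟩
    set w : R := ⟨g, hgR⟩ ^ p with hw
    have hwZ : (w : Ω) ∈ Z0 := by
      have := D.hpow g hg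
      simpa [hw] using this
    have hφw : φ w ∈ Z0 := by
      rw [hw, map_pow]
      exact D.hpow _ (hφP _)
    have h1 := hkey w hwZ hφw
    have h2 := congrArg Subtype.val h1
    simpa [hw] using h2

end GXData

end Cfsg.Agent.Lib.Helper89
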