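import Mathlib

set_option autoImplicit false

/-!
An abstract computation with two "transvections" `τ`, `τ'` of an abelian group: the product
`g = τ' τ^r τ'` (with `a b r ≡ -2` modulo `p`) inverts `z` and commutes with `τ`.
-/

namespace Cfsg.Agent.Lib.Helper89

section additive

variable {V : Type*} [AddCommGroup V]

theorem torus_additive (p : ℤ) (z u : V) (hz : p • z = 0) (hu : p • u = 0)
    (τ σ τ' g : V →+ V)
    (hτ : ∀ m, ∃ k : ℤ, τ m = m + k • z) (hτz : τ z = z) (a : ℤ) (hτu : τ u = u + a • z)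
    (hτ' : ∀ m, ∃ k : ℤ, τ' m = m + k • u) (hτ'u : τ' u = u) (b : ℤ) (hτ'z : τ' z = z + b • u)
    (r : ℤ) (hσ : ∀ m (k : ℤ), τ m = m + k • z → σ m = m + (r * k) • z)
    (q : ℤ) (hr : a * b * r + 2 = p * q)
    (hg : ∀ m, g m = τ' (σ (τ' m))) :
    g z = -z ∧ ∀ m, g (τ m) = τ (g m) := by
  have hz2 : ∀ c : ℤ, (c * (a * b * r + 2)) • z = 0 := by
    intro c
    rw [hr, ← mul_assoc, mul_comm c p, mul_assoc, mul_smul, smul_comm, hz, smul_zero]
  have hu2 : ∀ c : ℤ, (c * (a * b * r + 2)) • u = 0 := by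
    intro c
    rw [hr, ← mul_assoc, mul_comm c p, mul_assoc, mul_smul, smul_comm, hu, smul_zero]
  -- the general formula for `g`
  have hform : ∀ m (k k' : ℤ), τ m = m + k • z → τ' m = m + k' • u →
      g m = m + (r * (k + a * k')) • z + (r * b * k) • u := by
    intro m k k' hk hk'
    have h1 : τ (τ' m) = τ' m + (k + a * k') • z := by
      rw [hk', map_add, map_zsmul, hk, hτu]
      module
    have h2 := hσ (τ' m) (k + a * k') h1
    have e1 : τ' (τ' m) = m + k' • u + k' • u := by
      have : τ' (τ' m) = τ' (m + k' • u) := by rw [hk']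
      rw [this, map_add, map_zsmul, hτ'u, hk']
    rw [hg, h2, map_add, map_zsmul, hτ'z, e1]
    have h3 := hu2 k'
    have h4 : m + k' • u + k' • u + (r * (k + a * k')) • (z + b • u) =
        m + (r * (k + a * k')) • z + (r * b * k) • u + (k' * (a * b * r + 2)) • u := by
      module
    rw [h4, h3, add_zero]
  have hgz : g z = -z := by
    have h1 : τ z = z + (0 : ℤ) • z := by rw [hτz, zero_smul, add_zero]
    have h2 := hform z 0 b h1 hτ'z
    rw [h2]
    have h3 := hz2 1
    have h4 : z + (r * (0 + a * b)) • z + (r * b * 0) • u = -z + (1 * (a * b * r + 2)) • z := by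
      module
    rw [h4, h3, add_zero]
  refine ⟨hgz, fun m => ?_⟩
  obtain ⟨k, hk⟩ := hτ m
  obtain ⟨k', hk'⟩ := hτ' m
  have h1 := hform m k k' hk hk'
  have e2 : g (τ m) = m + (r * (k + a * k')) • z + (r * b * k) • u + k • -z := by
    rw [hk, map_add, map_zsmul, hgz, h1]
  have e3 : τ (g m) = m + k • z + (r * (k + a * k')) • z + (r * b * k) • (u + a • z) := by
    rw [h1, map_add, map_add, map_zsmul, map_zsmul, hk, hτz, hτu]
  rw [e2, e3]
  have h3 := hz2 k
  have h4 : m + k • z + (r * (k + a * k')) • z + (r * b * k) • (u + a • z) =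
      m + (r * (k + a * k')) • z + (r * b * k) • u + k • -z + (k * (a * b * r + 2)) • z := by
    module
  rw [h4, h3, add_zero]

end additive

section multiplicative

variable {M : Type*} [CommGroup M]

theorem torus_mul (p : ℕ) (z u : M) (hz : z ^ p = 1) (hu : u ^ p = 1)
    (τ σ τ' g : M →* M)
    (hτ : ∀ m, ∃ k : ℤ, τ m = m * z ^ k) (hτz : τ z = z) (a : ℤ) (hτu : τ u = u * z ^ a)
    (hτ' : ∀ m, ∃ k : ℤ, τ' m = m * u ^ k) (hτ'u : τ' u = u) (b : ℤ) (hτ'z : τ' z = z * u ^ b)
    (r : ℤ) (hσ : ∀ m (k : ℤ), τ m = m * z ^ k → σ m = m * z ^ (r * k))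
    (q : ℤ) (hr : a * b * r + 2 = p * q)
    (hg : ∀ m, g m = τ' (σ (τ' m))) :
    g z = z⁻¹ ∧ ∀ m, g (τ m) = τ (g m) := by
  have key := torus_additive (V := Additive M) (p : ℤ) (Additive.ofMul z) (Additive.ofMul u)
    (by
      rw [← ofMul_zpow, zpow_natCast, hz]; rfl)
    (by
      rw [← ofMul_zpow, zpow_natCast, hu]; rfl)
    (MonoidHom.toAdditive τ) (MonoidHom.toAdditive σ) (MonoidHom.toAdditive τ')
    (MonoidHom.toAdditive g)
    (by
      intro m
      obtain ⟨k, hk⟩ := hτ (Additive.toMul m)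
      refine ⟨k, ?_⟩
      show Additive.ofMul (τ (Additive.toMul m)) = _
      rw [hk, ofMul_mul, ofMul_zpow]; rfl)
    (by
      show Additive.ofMul (τ z) = _
      rw [hτz])
    a
    (by
      show Additive.ofMul (τ u) = _
      rw [hτu, ofMul_mul, ofMul_zpow])
    (by
      intro m
      obtain ⟨k, hk⟩ := hτ' (Additive.toMul m)
      refine ⟨k, ?_⟩
      show Additive.ofMul (τ' (Additive.toMul m)) = _
      rw [hk, ofMul_mul, ofMul_zpow]; rfl)
    (by
      show Additive.ofMul (τ' u) = _
      rw [hτ'u])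
    b
    (by
      show Additive.ofMul (τ' z) = _
      rw [hτ'z, ofMul_mul, ofMul_zpow])
    r
    (by
      intro m k hk
      have h1 : τ (Additive.toMul m) = Additive.toMul m * z ^ k := by
        have h2 : Additive.ofMul (τ (Additive.toMul m)) = m + k • Additive.ofMul z := hk
        have h3 := congrArg Additive.toMul h2
        rw [toMul_add, toMul_zsmul] at h3
        exact h3
      have h4 := hσ _ k h1
      show Additive.ofMul (σ (Additive.toMul m)) = _
      rw [h4, ofMul_mul, ofMul_zpow]; rfl)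
    q hr
    (by
      intro m
      show Additive.ofMul (g (Additive.toMul m)) = _
      rw [hg]; rfl)
  constructor
  · have h1 : Additive.ofMul (g z) = -Additive.ofMul z := key.1
    have h2 := congrArg Additive.toMul h1
    rw [toMul_neg] at h2
    exact h2
  · intro m
    have h1 : Additive.ofMul (g (τ m)) = Additive.ofMul (τ (g m)) := key.2 (Additive.ofMul m)
    exact Additive.ofMul.injective h1

end multiplicative

end Cfsg.Agent.Lib.Helper89
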