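import Mathlib
import Cfsg.Agent.Lib.Helper01.Basic
import Cfsg.Agent.Lib.Helper87.FusionSaturated
import Cfsg.Agent.Lib.Helper89.OrderPFour
import Cfsg.Agent.Lib.Helper89.ExtraIdxP
import Cfsg.Agent.Lib.Helper89.FusionConj
import Cfsg.Agent.Lib.Helper08.PgoModInn
import Cfsg.Prelude.Def_Transfer

set_option autoImplicit false

/-!
Structure of a finite group `G` all of whose commutators and `p`-th powers lie in a central
subgroup `Z` of order `p`, and which has an element `u` with elementary abelian centralizer, and an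
element `a` of order `p` not commuting with `u`: `G = E × A` with `E` nonabelian of order `p ^ 3`
containing `a` and `u`, and `A` central of exponent `p`.
-/

namespace Cfsg.Agent.Lib.Helper89

open scoped commutatorElement

variable {G : Type*} [Group G]

theorem gx_mem_sup_iff {H N : Subgroup G} (h : H ≤ Subgroup.normalizer (N : Set G))
    {x : G} : x ∈ H ⊔ N ↔ ∃ a ∈ H, ∃ b ∈ N, x = a * b := by
  have h1 := Subgroup.coe_mul_of_left_le_normalizer_right H N h
  have h2 : x ∈ H ⊔ N ↔ x ∈ ((H ⊔ N : Subgroup G) : Set G) := Iff.rfl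
  rw [h2, h1, Set.mem_mul]
  constructor
  · rintro ⟨a, ha, b, hb, rfl⟩
    exact ⟨a, ha, b, hb, rfl⟩
  · rintro ⟨a, ha, b, hb, rfl⟩
    exact ⟨a, ha, b, hb, rfl⟩

/-- subgroups consisting of central elements are normalized by everything -/
theorem gx_le_normalizer_of_central (H N : Subgroup G) (hN : N ≤ Subgroup.center G) :
    H ≤ Subgroup.normalizer (N : Set G) := by
  intro x _
  rw [Subgroup.mem_normalizer_iff]
  intro n
  constructor
  · intro hn
    have h1 : x * n * x⁻¹ = n := by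
      rw [Subgroup.mem_center_iff.mp (hN hn) x, mul_assoc, mul_inv_cancel, mul_one]
    rw [h1]; exact hn
  · intro hn
    have h2 := Subgroup.mem_center_iff.mp (hN hn) x⁻¹
    have h3 : n = x * n * x⁻¹ := by
      calc n = x⁻¹ * (x * n * x⁻¹) * x := by group
        _ = x * n * x⁻¹ * x⁻¹ * x := by rw [h2]
        _ = x * n * x⁻¹ := by group
    rw [h3]; exact hn

/-- the hypotheses of the structure lemma -/
structure GXS (p : ℕ) (Z : Subgroup G) (u a : G) : Prop where
  hZcard : Nat.card Z = p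
  hZc : ∀ w ∈ Z, ∀ g : G, g * w = w * g
  hcomm : ∀ x y : G, ⁅x, y⁆ ∈ Z
  hpow : ∀ g : G, g ^ p ∈ Z
  hM1 : ∀ g h : G, g * u = u * g → h * u = u * h → g * h = h * g
  hM2 : ∀ g : G, g * u = u * g → g ^ p = 1
  ha : a * u ≠ u * a
  hap : a ^ p = 1

namespace GXS

variable {p : ℕ} {Z : Subgroup G} {u a : G}

theorem Z_le_center (h : GXS p Z u a) : Z ≤ Subgroup.center G := by
  intro w hw
  rw [Subgroup.mem_center_iff]
  exact fun g => h.hZc w hw g

theorem comm_center (h : GXS p Z u a) (x y : G) : ⁅x, y⁆ ∈ Subgroup.center G :=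
  h.Z_le_center (h.hcomm x y)

theorem comm_mul (h : GXS p Z u a) (x y₁ y₂ : G) : ⁅x, y₁ * y₂⁆ = ⁅x, y₁⁆ * ⁅x, y₂⁆ :=
  map_mul (commHom x (h.comm_center x)) y₁ y₂

theorem comm_zpow (h : GXS p Z u a) (x y : G) (k : ℤ) : ⁅x, y ^ k⁆ = ⁅x, y⁆ ^ k :=
  map_zpow (commHom x (h.comm_center x)) y k

theorem c_ne_one (h : GXS p Z u a) : ⁅a, u⁆ ≠ 1 := by
  intro hc
  rw [commutatorElement_eq_one_iff_commute] at hc
  exact h.ha hc.eq

theorem comm_ua (_h : GXS p Z u a) : ⁅u, a⁆ = ⁅a, u⁆⁻¹ := (commutatorElement_inv a u).symm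

theorem mem_zpowers_c [Fact p.Prime] (h : GXS p Z u a) {w : G} (hw : w ∈ Z) :
    w ∈ Subgroup.zpowers ⁅a, u⁆ :=
  mem_zpowers_of_card_prime Z h.hZcard (h.hcomm a u) h.c_ne_one w hw

theorem u_pow (h : GXS p Z u a) : u ^ p = 1 := h.hM2 u rfl

/-- every element is `u ^ i * a ^ j * y` with `y` commuting with `u` and `a` and everything commuting with `u` -/
theorem decomp_aux [Fact p.Prime] (h : GXS p Z u a) (g : G) :
    ∃ (y : G) (i j : ℤ), g = y * u ^ i * a ^ j ∧ y * u = u * y ∧ y * a = a * y := by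
  obtain ⟨k, hk⟩ := Subgroup.mem_zpowers_iff.mp (h.mem_zpowers_c (h.hcomm u g))
  -- m := g * a ^ k commutes with u
  have hm : ⁅u, g * a ^ k⁆ = 1 := by
    rw [h.comm_mul, h.comm_zpow, h.comm_ua, ← hk, inv_zpow, mul_inv_cancel]
  obtain ⟨i, hi⟩ := Subgroup.mem_zpowers_iff.mp (h.mem_zpowers_c (h.hcomm a (g * a ^ k)))
  have hy : ⁅a, g * a ^ k * u ^ (-i)⁆ = 1 := by
    rw [h.comm_mul, h.comm_zpow, ← hi, zpow_neg, mul_inv_cancel]
  refine ⟨g * a ^ k * u ^ (-i), i, -k, ?_, ?_, ?_⟩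
  · have hmu : Commute u (g * a ^ k) := commutatorElement_eq_one_iff_commute.mp hm
    have h1 : Commute (u ^ (-i)) (u ^ i) := (Commute.refl u).zpow_zpow _ _
    group
  · have hmu : Commute u (g * a ^ k) := commutatorElement_eq_one_iff_commute.mp hm
    have h2 : Commute u (u ^ (-i)) := (Commute.refl u).zpow_right _
    exact ((hmu.mul_right h2).eq).symm
  · have hya : Commute a (g * a ^ k * u ^ (-i)) := commutatorElement_eq_one_iff_commute.mp hy
    exact hya.eq.symm

/-- an element commuting with `u` and `a` is central -/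
theorem central_of_comm [Fact p.Prime] (h : GXS p Z u a) {y : G} (hyu : y * u = u * y)
    (hya : y * a = a * y) : y ∈ Subgroup.center G := by
  rw [Subgroup.mem_center_iff]
  intro g
  obtain ⟨y', i, j, hg, hy'u, -⟩ := h.decomp_aux g
  have h1 : Commute y y' := h.hM1 y y' hyu hy'u
  have h2 : Commute y (u ^ i) := (show Commute y u from hyu).zpow_right i
  have h3 : Commute y (a ^ j) := (show Commute y a from hya).zpow_right j
  rw [hg]
  exact (((h1.mul_right h2).mul_right h3).eq).symm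

/-- the decomposition `g = y * u ^ i * a ^ j` with `y` central -/
theorem decomp [Fact p.Prime] (h : GXS p Z u a) (g : G) :
    ∃ y ∈ Subgroup.center G, ∃ i j : ℤ, g = y * u ^ i * a ^ j := by
  obtain ⟨y, i, j, hg, hyu, hya⟩ := h.decomp_aux g
  exact ⟨y, h.central_of_comm hyu hya, i, j, hg⟩

theorem center_pow (h : GXS p Z u a) {y : G} (hy : y ∈ Subgroup.center G) : y ^ p = 1 :=
  h.hM2 y ((Subgroup.mem_center_iff.mp hy u).symm)

/-- `G` is a `p`-group -/
theorem isPGroup [Fact p.Prime] (h : GXS p Z u a) : IsPGroup p G := by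
  intro g
  refine ⟨2, ?_⟩
  rw [pow_two, pow_mul]
  exact pow_eq_one_of_card_prime Z h.hZcard (h.hpow g)

/-- subgroups containing `Z` are normal -/
theorem normal_of_le (h : GXS p Z u a) (N : Subgroup G) (hZN : Z ≤ N) : N.Normal := by
  constructor
  intro n hn g
  have h1 : g * n * g⁻¹ = ⁅g, n⁆ * n := by
    rw [commutatorElement_def]; group
  rw [h1]
  exact N.mul_mem (hZN (h.hcomm g n)) hn

/-- the subgroup `E` -/
def E (_h : GXS p Z u a) : Subgroup G := Subgroup.zpowers a ⊔ (Subgroup.zpowers u ⊔ Z)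

theorem a_mem_E (h : GXS p Z u a) : a ∈ h.E :=
  (le_sup_left : Subgroup.zpowers a ≤ h.E) (Subgroup.mem_zpowers a)

theorem u_mem_E (h : GXS p Z u a) : u ∈ h.E :=
  (le_sup_right : Subgroup.zpowers u ⊔ Z ≤ h.E)
    ((le_sup_left : Subgroup.zpowers u ≤ _) (Subgroup.mem_zpowers u))

theorem card_zpowers_le [Fact p.Prime] {x : G} (hx : x ^ p = 1) :
    Nat.card (Subgroup.zpowers x) ≤ p := by
  rw [Nat.card_zpowers]
  exact Nat.le_of_dvd (Nat.Prime.pos Fact.out) (orderOf_dvd_of_pow_eq_one hx)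

theorem card_E_le [Finite G] [Fact p.Prime] (h : GXS p Z u a) : Nat.card h.E ≤ p ^ 3 := by
  have hp : p.Prime := Fact.out
  have hZn : Z.Normal := h.normal_of_le Z le_rfl
  have hUn : (Subgroup.zpowers u ⊔ Z).Normal := h.normal_of_le _ le_sup_right
  have h1 := Helper01.card_sup_mul_card_inf Z (Subgroup.zpowers u)
  have h2 := Helper01.card_sup_mul_card_inf (Subgroup.zpowers u ⊔ Z) (Subgroup.zpowers a)
  have h3 : Nat.card (Subgroup.zpowers u ⊔ Z : Subgroup G) ≤ p * p := by
    have h4 : 1 ≤ Nat.card (Z ⊓ Subgroup.zpowers u : Subgroup G) := Nat.card_pos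
    calc Nat.card (Subgroup.zpowers u ⊔ Z : Subgroup G)
        ≤ Nat.card (Subgroup.zpowers u ⊔ Z : Subgroup G) * Nat.card (Z ⊓ Subgroup.zpowers u : Subgroup G) :=
          Nat.le_mul_of_pos_right _ h4
      _ = Nat.card Z * Nat.card (Subgroup.zpowers u) := h1
      _ ≤ p * p := by
          rw [h.hZcard]
          exact Nat.mul_le_mul_left _ (card_zpowers_le h.u_pow)
  have h5 : 1 ≤ Nat.card ((Subgroup.zpowers u ⊔ Z) ⊓ Subgroup.zpowers a : Subgroup G) := Nat.card_pos
  calc Nat.card h.E ≤ Nat.card h.E * Nat.card ((Subgroup.zpowers u ⊔ Z) ⊓ Subgroup.zpowers a : Subgroup G) :=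
        Nat.le_mul_of_pos_right _ h5
    _ = Nat.card (Subgroup.zpowers u ⊔ Z : Subgroup G) * Nat.card (Subgroup.zpowers a) := h2
    _ ≤ p * p * p := Nat.mul_le_mul h3 (card_zpowers_le h.hap)
    _ = p ^ 3 := by ring

theorem E_not_comm (h : GXS p Z u a) : ¬ ∀ x y : h.E, x * y = y * x := by
  intro hc
  have := hc ⟨a, h.a_mem_E⟩ ⟨u, h.u_mem_E⟩
  exact h.ha (congrArg Subtype.val this)

theorem card_E [Finite G] [Fact p.Prime] (h : GXS p Z u a) : Nat.card h.E = p ^ 3 := by
  have hp : p.Prime := Fact.out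
  have hEp : IsPGroup p h.E := h.isPGroup.to_subgroup _
  obtain ⟨k, hk⟩ := (IsPGroup.iff_card.mp hEp)
  have hle := h.card_E_le
  rw [hk] at hle ⊢
  have hk3 : k ≤ 3 := (Nat.pow_le_pow_iff_right hp.one_lt).mp hle
  have hk2 : 3 ≤ k := by
    by_contra hlt
    apply h.E_not_comm
    have hk' : k = 0 ∨ k = 1 ∨ k = 2 := by omega
    rcases hk' with rfl | rfl | rfl
    · intro x y
      have : Subsingleton h.E := (Nat.card_eq_one_iff_unique.mp (by rw [hk, pow_zero])).1
      exact Subsingleton.elim _ _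
    · intro x y
      have hc : IsCyclic h.E := isCyclic_of_prime_card (by rw [hk, pow_one])
      obtain ⟨g, hg⟩ := IsCyclic.exists_generator (α := h.E)
      obtain ⟨i, rfl⟩ := Subgroup.mem_zpowers_iff.mp (hg x)
      obtain ⟨j, rfl⟩ := Subgroup.mem_zpowers_iff.mp (hg y)
      exact ((Commute.refl g).zpow_zpow i j).eq
    · intro x y
      have hc := IsPGroup.isMulCommutative_of_card_eq_prime_sq hk
      exact hc.is_comm.comm x y
  have : k = 3 := le_antisymm hk3 hk2
  rw [this]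

/-- a central complement to `E` -/
theorem exists_A [Finite G] [Fact p.Prime] (h : GXS p Z u a) :
    ∃ A : Subgroup G, A ≤ Subgroup.center G ∧ A ⊓ h.E = ⊥ ∧ h.E ⊔ A = ⊤ := by
  have hp : p.Prime := Fact.out
  obtain ⟨A, ⟨hAc, hAE⟩, hmax⟩ := Helper87.exists_max_nat
    (fun A : Subgroup G => A ≤ Subgroup.center G ∧ A ⊓ h.E = ⊥) (fun A => Nat.card A) (Nat.card G)
    ⟨⊥, bot_le, bot_inf_eq _⟩ (fun A _ => Subgroup.card_le_card_group A)
  refine ⟨A, hAc, hAE, ?_⟩
  -- the centre lies in `E ⊔ A`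
  have hcen : Subgroup.center G ≤ h.E ⊔ A := by
    intro y hy
    by_contra hyn
    have hyp : y ^ p = 1 := h.center_pow hy
    have hA'c : A ⊔ Subgroup.zpowers y ≤ Subgroup.center G :=
      sup_le hAc (by rw [Subgroup.zpowers_le]; exact hy)
    have hA'E : (A ⊔ Subgroup.zpowers y) ⊓ h.E = ⊥ := by
      rw [eq_bot_iff]
      rintro e ⟨he1, he2⟩
      rw [Subgroup.mem_bot]
      have hn : A ≤ Subgroup.normalizer ((Subgroup.zpowers y : Subgroup G) : Set G) :=
        gx_le_normalizer_of_central A _ (by rw [Subgroup.zpowers_le]; exact hy)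
      obtain ⟨a₀, ha₀, b, hb, rfl⟩ := (gx_mem_sup_iff hn).mp he1
      obtain ⟨i, rfl⟩ := Subgroup.mem_zpowers_iff.mp hb
      by_cases hdiv : (p : ℤ) ∣ i
      · obtain ⟨j, rfl⟩ := hdiv
        have h1 : y ^ ((p : ℤ) * j) = 1 := by
          rw [zpow_mul, zpow_natCast, hyp, one_zpow]
        rw [h1, mul_one] at he2 ⊢
        have : a₀ ∈ A ⊓ h.E := ⟨ha₀, he2⟩
        rw [hAE, Subgroup.mem_bot] at this
        exact this
      · exfalso
        have hcop : IsCoprime (p : ℤ) i :=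
          (Nat.prime_iff_prime_int.mp hp).coprime_iff_not_dvd.mpr hdiv
        obtain ⟨s, t, hst⟩ := hcop
        have hyi : y ^ i ∈ h.E ⊔ A := by
          have h2 : y ^ i = a₀⁻¹ * (a₀ * y ^ i) := by group
          rw [h2]
          exact Subgroup.mul_mem _ (Subgroup.inv_mem _ ((le_sup_right : A ≤ h.E ⊔ A) ha₀))
            ((le_sup_left : h.E ≤ h.E ⊔ A) he2)
        apply hyn
        have h3 : y = (y ^ i) ^ t := by
          rw [← zpow_mul]
          have h4 : i * t = 1 - (p : ℤ) * s := by linarith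
          rw [h4, zpow_sub, zpow_one, zpow_mul, zpow_natCast, hyp, one_zpow, inv_one, mul_one]
        rw [h3]
        exact Subgroup.zpow_mem _ hyi t
    have hlt : Nat.card A < Nat.card (A ⊔ Subgroup.zpowers y : Subgroup G) :=
      card_lt_of_mem_not_mem le_sup_left
        ((le_sup_right : Subgroup.zpowers y ≤ A ⊔ Subgroup.zpowers y) (Subgroup.mem_zpowers y))
        (fun hyA => hyn ((le_sup_right : A ≤ h.E ⊔ A) hyA))
    have := hmax _ ⟨hA'c, hA'E⟩
    omega
  rw [eq_top_iff]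
  intro g _
  obtain ⟨y, hy, i, j, rfl⟩ := h.decomp g
  have hu : u ^ i ∈ h.E ⊔ A := (le_sup_left : h.E ≤ h.E ⊔ A) (Subgroup.zpow_mem _ h.u_mem_E i)
  have ha : a ^ j ∈ h.E ⊔ A := (le_sup_left : h.E ≤ h.E ⊔ A) (Subgroup.zpow_mem _ h.a_mem_E j)
  exact Subgroup.mul_mem _ (Subgroup.mul_mem _ (hcen hy) hu) ha

/-- the direct product decomposition -/
theorem exists_decomp [Finite G] [Fact p.Prime] (h : GXS p Z u a) :
    ∃ A : Subgroup G, (∀ x ∈ A, ∀ g : G, g * x = x * g) ∧ (∀ x ∈ A, x ^ p = 1) ∧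
      Nonempty (G ≃* h.E × A) := by
  obtain ⟨A, hAc, hAE, hEA⟩ := h.exists_A
  have hcent : ∀ x ∈ A, ∀ g : G, g * x = x * g := fun x hx g =>
    Subgroup.mem_center_iff.mp (hAc hx) g
  refine ⟨A, hcent, fun x hx => h.center_pow (hAc hx), ?_⟩
  have hcomm : ∀ (e : h.E) (x : A), Commute (h.E.subtype e) (A.subtype x) :=
    fun e x => hcent x x.2 e
  let ψ : h.E × A →* G := MonoidHom.noncommCoprod h.E.subtype A.subtype hcomm
  have hψapp : ∀ w : h.E × A, ψ w = (w.1 : G) * (w.2 : G) := fun w => rfl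
  have hdisj : Disjoint h.E A := by
    rw [disjoint_iff, inf_comm]; exact hAE
  have hψinj : Function.Injective ψ := by
    have := Subgroup.mul_injective_of_disjoint hdisj
    intro v w hvw
    apply this
    simpa [hψapp] using hvw
  have hψsurj : Function.Surjective ψ := by
    intro g
    have hg : g ∈ h.E ⊔ A := by rw [hEA]; exact Subgroup.mem_top g
    obtain ⟨e, he, x, hx, rfl⟩ := (gx_mem_sup_iff (gx_le_normalizer_of_central h.E A hAc)).mp hg
    exact ⟨(⟨e, he⟩, ⟨x, hx⟩), rfl⟩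
  exact ⟨(MulEquiv.ofBijective ψ ⟨hψinj, hψsurj⟩).symm⟩

end GXS

/-- a type-zero commutative copy of a finite commutative group -/
theorem exists_small_commGroup {H : Type*} [Group H] [Finite H] (hc : ∀ x y : H, x * y = y * x) :
    ∃ (A : Type) (_ : CommGroup A), Nonempty (A ≃* H) := by
  let e : Shrink.{0} H ≃* H := Shrink.mulEquiv
  let inst : CommGroup (Shrink.{0} H) :=
    { (inferInstance : Group (Shrink.{0} H)) with
      mul_comm := fun x y => e.injective (by rw [map_mul, map_mul, hc]) }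
  exact ⟨Shrink.{0} H, inst, ⟨e⟩⟩

namespace GXS

variable {p : ℕ} {Z : Subgroup G} {u a : G}

/-- the case `p = 2`: `G ≅ D₈ × A` -/
theorem dihedral_decomp [Finite G] [Fact (Nat.Prime 2)] (h : GXS 2 Z u a) :
    ∃ (A : Type) (_ : CommGroup A), (∀ x : A, x ^ 2 = 1) ∧
      Nonempty (G ≃* DihedralGroup 4 × A) := by
  obtain ⟨A, hAc, hAp, ⟨e⟩⟩ := h.exists_decomp
  obtain ⟨A', instA', ⟨eA⟩⟩ := exists_small_commGroup (H := A)
    (fun x y => Subtype.ext (hAc y y.2 x))
  -- `E` is dihedral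
  have hEcard : Nat.card h.E = 2 ^ 3 := h.card_E
  have hidx : (⊥ : Subgroup h.E).index = 8 := by
    rw [Subgroup.index_bot, hEcard]; norm_num
  have ha2 : a * a = 1 := by rw [← pow_two]; exact h.hap
  have hu2 : u * u = 1 := by rw [← pow_two]; exact h.u_pow
  have hainv : a⁻¹ = a := inv_eq_of_mul_eq_one_left ha2
  have huinv : u⁻¹ = u := inv_eq_of_mul_eq_one_left hu2
  obtain ⟨ψ, hsurj, hker⟩ := Cfsg.Agent.Lib.Helper08.exists_hom_dihedral_four (⊥ : Subgroup h.E)
    hidx ⟨a, h.a_mem_E⟩ ⟨u, h.u_mem_E⟩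
    (by
      rw [Subgroup.mem_bot]; exact Subtype.ext ha2)
    (by
      rw [Subgroup.mem_bot]; exact Subtype.ext hu2)
    (by
      rw [Subgroup.mem_bot]
      intro h1
      have h2 : a = 1 := congrArg Subtype.val h1
      apply h.ha
      rw [h2, one_mul, mul_one])
    (by
      rw [Subgroup.mem_bot]
      intro h1
      have h2 : u = 1 := congrArg Subtype.val h1
      apply h.ha
      rw [h2, one_mul, mul_one])
    (by
      rw [Subgroup.mem_bot]
      intro h1
      have h2 : a * u * (a * u) = 1 := congrArg Subtype.val h1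
      apply h.c_ne_one
      rw [commutatorElement_def, hainv, huinv]
      rw [← h2]; group)
  have hinj : Function.Injective ψ := (MonoidHom.ker_eq_bot_iff ψ).mp hker
  let eE : h.E ≃* DihedralGroup 4 := MulEquiv.ofBijective ψ ⟨hinj, hsurj⟩
  refine ⟨A', instA', ?_, ⟨e.trans (MulEquiv.prodCongr eE eA.symm)⟩⟩
  intro x
  apply eA.injective
  rw [map_pow, map_one]
  exact Subtype.ext (hAp _ (eA x).2)

/-- the case of exponent `p`: `G ≅ E × A` with `E` extraspecial of order `p ^ 3`, exponent `p` -/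
theorem extraspecial_decomp [Finite G] [Fact p.Prime] (h : GXS p Z u a) (hexp : ∀ g : G, g ^ p = 1) :
    ∃ (E : Type) (_ : Group E) (A : Type) (_ : CommGroup A), Cfsg.IsExtraspecial p E ∧
      Nat.card E = p ^ 3 ∧ Monoid.exponent E = p ∧ (∀ x : A, x ^ p = 1) ∧
      Nonempty (G ≃* E × A) := by
  have hp : p.Prime := Fact.out
  obtain ⟨A, hAc, hAp, ⟨e⟩⟩ := h.exists_decomp
  obtain ⟨A', instA', ⟨eA⟩⟩ := exists_small_commGroup (H := A)
    (fun x y => Subtype.ext (hAc y y.2 x))
  let eE : Shrink.{0} h.E ≃* h.E := Shrink.mulEquiv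
  have hfinE : Finite (Shrink.{0} h.E) := Finite.of_equiv h.E eE.symm.toEquiv
  have hEcard : Nat.card (Shrink.{0} h.E) = p ^ 3 := by
    rw [Nat.card_congr eE.toEquiv, h.card_E]
  have hEnc : ¬ ∀ x y : Shrink.{0} h.E, x * y = y * x := by
    intro hc
    apply h.E_not_comm
    intro x y
    have := hc (eE.symm x) (eE.symm y)
    have h2 := congrArg eE this
    simpa using h2
  have hEexp : ∀ x : Shrink.{0} h.E, x ^ p = 1 := by
    intro x
    apply eE.injective
    rw [map_pow, map_one]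
    apply Subtype.ext
    rw [Subgroup.coe_pow]
    exact hexp _
  obtain ⟨hEZ, hEcomm, -, hEfr⟩ := nonabelian_cube_basic hEcard hEnc
  have hexpE : Monoid.exponent (Shrink.{0} h.E) = p := by
    have h1 : Monoid.exponent (Shrink.{0} h.E) ∣ p := Monoid.exponent_dvd_of_forall_pow_eq_one hEexp
    rcases (Nat.dvd_prime hp).mp h1 with h2 | h2
    · exfalso
      rw [Monoid.exp_eq_one_iff] at h2
      apply hEnc
      intro x y
      rw [Subsingleton.elim x y]
    · exact h2
  refine ⟨Shrink.{0} h.E, inferInstance, A', instA',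
    ⟨⟨IsPGroup.of_card hEcard, hEfr, hEcomm⟩, hEZ⟩, hEcard, hexpE, ?_,
    ⟨e.trans (MulEquiv.prodCongr eE.symm eA.symm)⟩⟩
  intro x
  apply eA.injective
  rw [map_pow, map_one]
  exact Subtype.ext (hAp _ (eA x).2)

end GXS

end Cfsg.Agent.Lib.Helper89
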