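import Mathlib
import Cfsg.Agent.Lib.Helper89.GenExtraC
import Cfsg.Agent.Lib.Helper26.NormalPP

set_option autoImplicit false

/-!
More on the groups of `GenExtraC`: the case `p = 2` without a chosen involution, and for odd `p`
the description of the elements of order dividing `p` when the exponent is `p ^ 2`.
-/

namespace Cfsg.Agent.Lib.Helper89

open scoped commutatorElement

variable {G : Type*} [Group G]

/-- the hypotheses without the element `a` -/
structure GXS0 (p : ℕ) (Z : Subgroup G) (u : G) : Prop where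
  hZcard : Nat.card Z = p
  hZc : ∀ w ∈ Z, ∀ g : G, g * w = w * g
  hcomm : ∀ x y : G, ⁅x, y⁆ ∈ Z
  hpow : ∀ g : G, g ^ p ∈ Z
  hM1 : ∀ g h : G, g * u = u * g → h * u = u * h → g * h = h * g
  hM2 : ∀ g : G, g * u = u * g → g ^ p = 1

namespace GXS0

variable {p : ℕ} {Z : Subgroup G} {u : G}

theorem toGXS (h : GXS0 p Z u) {a : G} (ha : a * u ≠ u * a) (hap : a ^ p = 1) : GXS p Z u a :=
  ⟨h.hZcard, h.hZc, h.hcomm, h.hpow, h.hM1, h.hM2, ha, hap⟩

theorem Z_le_center (h : GXS0 p Z u) : Z ≤ Subgroup.center G := by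
  intro w hw
  rw [Subgroup.mem_center_iff]
  exact fun g => h.hZc w hw g

theorem comm_center (h : GXS0 p Z u) (x y : G) : ⁅x, y⁆ ∈ Subgroup.center G :=
  h.Z_le_center (h.hcomm x y)

theorem comm_mul (h : GXS0 p Z u) (x y₁ y₂ : G) : ⁅x, y₁ * y₂⁆ = ⁅x, y₁⁆ * ⁅x, y₂⁆ :=
  map_mul (commHom x (h.comm_center x)) y₁ y₂

theorem comm_zpow (h : GXS0 p Z u) (x y : G) (k : ℤ) : ⁅x, y ^ k⁆ = ⁅x, y⁆ ^ k :=
  map_zpow (commHom x (h.comm_center x)) y k

theorem pow_Z (h : GXS0 p Z u) {w : G} (hw : w ∈ Z) : w ^ p = 1 :=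
  pow_eq_one_of_card_prime Z h.hZcard hw

/-- the case `p = 2` -/
theorem dihedral_of_two [Finite G] [Fact (Nat.Prime 2)] (h : GXS0 2 Z u) {a₀ : G}
    (ha₀ : a₀ * u ≠ u * a₀) :
    ∃ (A : Type) (_ : CommGroup A), (∀ x : A, x ^ 2 = 1) ∧
      Nonempty (G ≃* DihedralGroup 4 × A) := by
  by_cases hsq : a₀ ^ 2 = 1
  · exact (h.toGXS ha₀ hsq).dihedral_decomp
  · -- replace `a₀` by `a₀ * u`
    set c := ⁅a₀, u⁆ with hc
    have hcZ : c ∈ Z := h.hcomm a₀ u
    have hc1 : c ≠ 1 := by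
      intro h1
      rw [hc, commutatorElement_eq_one_iff_commute] at h1
      exact ha₀ h1.eq
    have hc2 : c * c = 1 := by rw [← pow_two]; exact h.pow_Z hcZ
    have hsqc : a₀ ^ 2 = c := by
      have h1 := mem_zpowers_of_card_prime Z h.hZcard hcZ hc1 _ (h.hpow a₀)
      obtain ⟨k, hk⟩ := Subgroup.mem_zpowers_iff.mp h1
      have h2 : c ^ (2 : ℤ) = 1 := by rw [zpow_two]; exact hc2
      rcases Int.even_or_odd' k with ⟨m, rfl | rfl⟩
      · exfalso
        apply hsq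
        rw [← hk, zpow_mul, h2, one_zpow]
      · rw [← hk, zpow_add_one, zpow_mul, h2, one_zpow, one_mul]
    have hu2 : u ^ 2 = 1 := h.hM2 u rfl
    have hcc : ∀ g : G, g * c = c * g := h.hZc c hcZ
    have hnew : (a₀ * u) ^ 2 = 1 := by
      have h1 : u * a₀ = c⁻¹ * (a₀ * u) := by
        rw [hc, commutatorElement_def]; group
      have hcinv : c⁻¹ = c := inv_eq_of_mul_eq_one_left hc2
      rw [hcinv] at h1
      calc (a₀ * u) ^ 2 = a₀ * (u * a₀) * u := by rw [pow_two]; group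
        _ = a₀ * (c * (a₀ * u)) * u := by rw [h1]
        _ = (a₀ * c) * a₀ * u * u := by group
        _ = (c * a₀) * a₀ * u * u := by rw [hcc a₀]
        _ = c * a₀ ^ 2 * u ^ 2 := by rw [pow_two, pow_two]; group
        _ = 1 := by rw [hsqc, hu2, mul_one, hc2]
    have hnc : a₀ * u * u ≠ u * (a₀ * u) := by
      intro h1
      apply ha₀
      have h2 : a₀ * u * u = u * a₀ * u := by rw [h1, mul_assoc]
      exact mul_right_cancel h2
    exact (h.toGXS hnc hnew).dihedral_decomp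

/-- for odd `p`: if some element has `p`-th power `≠ 1`, the elements of order dividing `p` are
exactly those commuting with `u` -/
theorem comm_of_pow_eq_one [Fact p.Prime] (hp2 : p ≠ 2) (h : GXS0 p Z u) {x : G} (hx : x ^ p ≠ 1)
    {g : G} (hg : g ^ p = 1) : g * u = u * g := by
  have hp : p.Prime := Fact.out
  have hxu : ⁅x, u⁆ ≠ 1 := by
    intro h1
    rw [commutatorElement_eq_one_iff_commute] at h1
    exact hx (h.hM2 x h1.eq)
  have hcZ : ⁅x, u⁆ ∈ Z := h.hcomm x u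
  -- ⁅u, g⁆ = ⁅u, x⁆ ^ i
  have hux : ⁅u, x⁆ = ⁅x, u⁆⁻¹ := (commutatorElement_inv x u).symm
  obtain ⟨i, hi⟩ := Subgroup.mem_zpowers_iff.mp
    (mem_zpowers_of_card_prime Z h.hZcard hcZ hxu _ (h.hcomm u g))
  -- m := g * x ^ i commutes with u
  have hm : ⁅u, g * x ^ i⁆ = 1 := by
    rw [h.comm_mul, h.comm_zpow, hux, ← hi, inv_zpow, mul_inv_cancel]
  have hmu : Commute u (g * x ^ i) := commutatorElement_eq_one_iff_commute.mp hm
  have hmp : (g * x ^ i) ^ p = 1 := h.hM2 _ hmu.eq.symm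
  -- power formula
  set c := ⁅x ^ i, g⁆ with hc
  have hcc : ∀ y : G, y * c = c * y := h.hZc c (h.hcomm _ _)
  have hrel : x ^ i * g = g * x ^ i * c := by
    rw [hcc (g * x ^ i), hc, commutatorElement_def]; group
  have hpw := Helper26.mul_pow_prime_comm_central (p := p) hp2 g (x ^ i) c hrel
    (show Commute c g from (hcc g).symm) (show Commute c (x ^ i) from (hcc _).symm)
    (h.pow_Z (h.hcomm _ _))
  rw [hmp, hg, one_mul] at hpw
  -- (x ^ p) ^ i = 1
  have h3 : (x ^ p) ^ i = 1 := by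
    rw [← zpow_natCast x p, ← zpow_mul, mul_comm, zpow_mul, zpow_natCast]
    exact hpw.symm
  -- so p ∣ i
  have hord : orderOf (x ^ p) = p := orderOf_eq_prime (h.pow_Z (h.hpow x)) hx
  have hdiv : (p : ℤ) ∣ i := by
    rw [← hord]
    exact orderOf_dvd_iff_zpow_eq_one.mpr h3
  obtain ⟨j, rfl⟩ := hdiv
  have h4 : ⁅x, u⁆ ^ ((p : ℤ) * j) = 1 := by
    rw [zpow_mul, zpow_natCast, h.pow_Z hcZ, one_zpow]
  rw [h4] at hi
  exact (commutatorElement_eq_one_iff_commute.mp hi.symm).eq.symm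

/-- decomposition relative to an element not commuting with `u` -/
theorem exists_zpow_mul [Fact p.Prime] (h : GXS0 p Z u) {x : G} (hx : x * u ≠ u * x) (g : G) :
    ∃ (i : ℤ) (m : G), g = x ^ i * m ∧ m * u = u * m := by
  have hxu : ⁅x, u⁆ ≠ 1 := by
    intro h1
    rw [commutatorElement_eq_one_iff_commute] at h1
    exact hx h1.eq
  have hcZ : ⁅x, u⁆ ∈ Z := h.hcomm x u
  have hux : ⁅u, x⁆ = ⁅x, u⁆⁻¹ := (commutatorElement_inv x u).symm
  obtain ⟨i, hi⟩ := Subgroup.mem_zpowers_iff.mp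
    (mem_zpowers_of_card_prime Z h.hZcard hcZ hxu _ (h.hcomm u g))
  have hm : ⁅u, x ^ i * g⁆ = 1 := by
    rw [h.comm_mul, h.comm_zpow, hux, ← hi, inv_zpow, inv_mul_cancel]
  have hmu : Commute u (x ^ i * g) := commutatorElement_eq_one_iff_commute.mp hm
  refine ⟨-i, x ^ i * g, by group, hmu.eq.symm⟩

/-- the power formula `(x * m) ^ p = x ^ p` for `m` commuting with `u` -/
theorem mul_pow_of_comm [Fact p.Prime] (hp2 : p ≠ 2) (h : GXS0 p Z u) (x : G) {m : G}
    (hm : m * u = u * m) : (x * m) ^ p = x ^ p := by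
  set c := ⁅m, x⁆ with hc
  have hcc : ∀ y : G, y * c = c * y := h.hZc c (h.hcomm _ _)
  have hrel : m * x = x * m * c := by
    rw [hcc (x * m), hc, commutatorElement_def]; group
  have hpw := Helper26.mul_pow_prime_comm_central (p := p) hp2 x m c hrel
    (show Commute c x from (hcc x).symm) (show Commute c m from (hcc _).symm)
    (h.pow_Z (h.hcomm _ _))
  rw [hpw, h.hM2 m hm, mul_one]

end GXS0

end Cfsg.Agent.Lib.Helper89
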