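import Mathlib
import Cfsg.Agent.Lib.Helper89.GenExtraA
import Cfsg.Agent.Lib.Helper89.GenExtraC
import Cfsg.Agent.Lib.Helper89.ChainNormal
import Cfsg.Agent.Lib.Helper03.FusEss

set_option autoImplicit false

/-!
Strongly closed generalized extraspecial subgroups, part D: an essential subgroup `Q` not containing `P`
yields an `F`-automorphism of `Q` moving `Z0`, hence an element `u ∈ P ∖ Z0` with `C_P(u)` elementary
abelian.
-/

namespace Cfsg.Agent.Lib.Helper89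

open Cfsg Cfsg.FusionSystem Cfsg.Agent.Lib.Helper90

variable {Ω : Type*} [Group Ω] {S : Subgroup Ω}

section Chains

variable {Q : Subgroup Ω}

/-- the chain `⊥ ≤ A ≤ B ≤ ⊤ ≤ ⊤ ≤ …` -/
def chain3 (A B : Subgroup Q) : ℕ → Subgroup Q
  | 0 => ⊥
  | 1 => A
  | 2 => B
  | _ + 3 => ⊤

theorem chain3_mono {A B : Subgroup Q} (hAB : A ≤ B) : Monotone (chain3 A B) :=
  monotone_nat_of_le_succ (fun n => by
    match n with
    | 0 => exact bot_le
    | 1 => exact hAB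
    | 2 => exact le_top
    | n + 3 => exact le_rfl)

/-- membership in the stability group of a three step chain -/
theorem mem_stabChain3 {A B : Subgroup Q} (hAB : A ≤ B) (β : MulAut Q)
    (h1 : ∀ y ∈ A, β y = y) (h2 : ∀ y ∈ B, y⁻¹ * β y ∈ A) (h3 : ∀ y : Q, y⁻¹ * β y ∈ B)
    (h1' : ∀ y ∈ A, β⁻¹ y = y) (h2' : ∀ y ∈ B, y⁻¹ * β⁻¹ y ∈ A) (h3' : ∀ y : Q, y⁻¹ * β⁻¹ y ∈ B) :
    β ∈ stabChain (chain3 A B) (chain3_mono hAB) := by
  rw [mem_stabChain]
  intro i y hy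
  match i with
  | 0 =>
    have hyA : y ∈ A := hy
    refine ⟨?_, ?_⟩
    · show y⁻¹ * β y ∈ (⊥ : Subgroup Q)
      rw [h1 y hyA, inv_mul_cancel]; exact Subgroup.one_mem _
    · show y⁻¹ * β⁻¹ y ∈ (⊥ : Subgroup Q)
      rw [h1' y hyA, inv_mul_cancel]; exact Subgroup.one_mem _
  | 1 => exact ⟨h2 y hy, h2' y hy⟩
  | 2 => exact ⟨h3 y, h3' y⟩
  | n + 3 => exact ⟨Subgroup.mem_top _, Subgroup.mem_top _⟩

end Chains

/-- Lemma R for automorphisms: an `F`-automorphism of an essential subgroup `P` which stabilizes a chain of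
`Aut_F(P)`-invariant subgroups is inner. -/
theorem aut_mem_inn_of_stabChain [Finite S] {p : ℕ} [Fact p.Prime] (hS : IsPGroup p S)
    (F : FusionSystem S) {P : Subgroup Ω} (hP : F.IsEssential p P)
    (c : ℕ → Subgroup P) (hmono : Monotone c) (hc0 : c 0 = ⊥) (n : ℕ) (hcn : c n = ⊤)
    (hinv : ∀ α ∈ F.autGroup P, ∀ i, ∀ x ∈ c i, α x ∈ c i)
    {β : MulAut P} (hβΓ : β ∈ F.autGroup P) (hβ : β ∈ stabChain c hmono) :
    ∃ u : P, MulAut.conj u = β := by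
  have hPS : P ≤ S := hP.1.1
  have : Finite P := Helper87.finite_of_le hPS
  have hPp : IsPGroup p P := hS.to_le hPS
  obtain ⟨hcen, -, hnorm, E, hE⟩ := hP
  set Γ := F.autGroup P with hΓ
  set N : Subgroup Γ := (stabChain c hmono).subgroupOf Γ with hNdef
  have hNn : N.Normal := by
    constructor
    intro γ hγ a
    rw [hNdef, Subgroup.mem_subgroupOf] at hγ ⊢
    have h1 := stabChain_conj_mem c hmono (a : MulAut P) (fun j x hx => hinv a a.2 j x hx)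
      (fun j x hx => hinv _ (Γ.inv_mem a.2) j x hx) hγ
    simpa using h1
  have hNp : IsPGroup p N := (stabChain_isPGroup hPp c hc0 hmono n hcn).comap_subtype
  have hsurj := QuotientGroup.mk'_surjective ((Inn P).subgroupOf Γ)
  have hbar : N.map (QuotientGroup.mk' ((Inn P).subgroupOf Γ)) = ⊥ :=
    Helper03.FusEss.normal_pSubgroup_eq_bot E hE _ (hNn.map _ hsurj) (hNp.map _)
  have hmem : (⟨β, hβΓ⟩ : Γ) ∈ N := by
    rw [hNdef, Subgroup.mem_subgroupOf]; exact hβ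
  have h1 : QuotientGroup.mk' ((Inn P).subgroupOf Γ) ⟨β, hβΓ⟩ ∈
      N.map (QuotientGroup.mk' ((Inn P).subgroupOf Γ)) := Subgroup.mem_map_of_mem _ hmem
  rw [hbar, Subgroup.mem_bot, QuotientGroup.mk'_apply, QuotientGroup.eq_one_iff,
    Subgroup.mem_subgroupOf] at h1
  obtain ⟨u, hu⟩ := h1
  exact ⟨u, hu⟩

namespace GXData

variable {F : FusionSystem S} {p : ℕ} {P Z0 : Subgroup Ω}

theorem le_normalizer (D : GXData F p P Z0) : S ≤ Subgroup.normalizer (P : Set Ω) := by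
  intro s hs
  rw [Subgroup.mem_normalizer_iff]
  intro n
  constructor
  · intro hn; exact D.conj_mem hs hn
  · intro hn
    have := D.conj_mem' hs hn
    have h2 : s⁻¹ * (s * n * s⁻¹) * s = n := by group
    rwa [h2] at this

/-- `F`-automorphisms of `Q` preserve `P ⊓ Q` -/
theorem aut_mem (D : GXData F p P Z0) {Q : Subgroup Ω} (hQS : Q ≤ S) {α : MulAut Q}
    (hα : α ∈ F.autGroup Q) {y : Q} (hy : (y : Ω) ∈ P) : ((α y : Q) : Ω) ∈ P := by
  have h1 := (mem_autGroup_iff F hQS α).mp hα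
  have h2 := Helper87.restrict_mem F (inf_le_right : P ⊓ Q ≤ Q) h1
  exact D.hcl.2 (P ⊓ Q) inf_le_left _ h2 ⟨y, hy, y.2⟩

theorem Z0_le_of_isEssential (D : GXData F p P Z0) {Q : Subgroup Ω} (hQ : F.IsEssential p Q) :
    Z0 ≤ Q := by
  intro w hw
  apply Helper03.FusEss.centralizerIn_le_of_isEssential F hQ
  rw [Helper87.mem_centralizerIn]
  exact ⟨D.hZ0S hw, fun x hx => D.hZ0c x (hQ.1.1 hx) w hw⟩

/-- an element of `P` normalizing `Q` but outside `Q` -/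
theorem exists_normalizing [Finite S] [Fact p.Prime] (hS : IsPGroup p S) (D : GXData F p P Z0)
    {Q : Subgroup Ω} (hQS : Q ≤ S) (hPQ : ¬ P ≤ Q) :
    ∃ x ∈ P, x ∈ Subgroup.normalizer (Q : Set Ω) ∧ x ∉ Q := by
  have hTS : Q ⊔ P ≤ S := sup_le hQS D.hPS
  have : Finite (Q ⊔ P : Subgroup Ω) := Helper87.finite_of_le hTS
  have hne : Q ≠ Q ⊔ P := by
    intro h
    apply hPQ
    rw [h]; exact le_sup_right
  obtain ⟨g, hg, hgQ⟩ := exists_mem_normalizerIn_not_mem (S := Q ⊔ P) (hS.to_le hTS) le_sup_left hne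
  have hgT : g ∈ Q ⊔ P := hg.1
  have hgN : g ∈ Subgroup.normalizer (Q : Set Ω) := hg.2
  obtain ⟨q, hq, a, ha, rfl⟩ := (gx_mem_sup_iff (hQS.trans D.le_normalizer)).mp hgT
  refine ⟨a, ha, ?_, ?_⟩
  · have h1 : a = q⁻¹ * (q * a) := by group
    rw [h1]
    exact Subgroup.mul_mem _ (Subgroup.inv_mem _ (Subgroup.le_normalizer hq)) hgN
  · intro haQ
    exact hgQ (Q.mul_mem hq haQ)

/-- the stability conditions satisfied by an element of `P` normalizing `Q` -/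
theorem stab_conditions (D : GXData F p P Z0) {Q : Subgroup Ω} (hQS : Q ≤ S) {x : Ω} (hxP : x ∈ P)
    (hxN : x ∈ Subgroup.normalizer (Q : Set Ω)) :
    (∀ y ∈ Z0.subgroupOf Q, conjAut Q x hxN y = y) ∧
    (∀ y ∈ P.subgroupOf Q, y⁻¹ * conjAut Q x hxN y ∈ Z0.subgroupOf Q) ∧
    (∀ y : Q, y⁻¹ * conjAut Q x hxN y ∈ P.subgroupOf Q) := by
  refine ⟨?_, ?_, ?_⟩
  · intro y hy
    rw [Subgroup.mem_subgroupOf] at hy
    apply Subtype.ext
    rw [conjAut_apply, D.hZ0c x (D.hPS hxP) y hy, mul_assoc, mul_inv_cancel, mul_one]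
  · intro y hy
    rw [Subgroup.mem_subgroupOf] at hy ⊢
    have h1 := D.hcomm (y : Ω)⁻¹ (P.inv_mem hy) x hxP
    rw [inv_inv] at h1
    simp only [Subgroup.coe_mul, Subgroup.coe_inv, conjAut_apply]
    have h2 : (y : Ω)⁻¹ * (x * (y : Ω) * x⁻¹) = (y : Ω)⁻¹ * x * (y : Ω) * x⁻¹ := by group
    rw [h2]; exact h1
  · intro y
    rw [Subgroup.mem_subgroupOf]
    simp only [Subgroup.coe_mul, Subgroup.coe_inv, conjAut_apply]
    have h2 : (y : Ω)⁻¹ * (x * (y : Ω) * x⁻¹) = ((y : Ω)⁻¹ * x * (y : Ω)) * x⁻¹ := by group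
    rw [h2]
    exact P.mul_mem (D.conj_mem' (hQS y.2) hxP) (P.inv_mem hxP)

/-- the three step chain through `Z0` and `P ⊓ Q` is stabilized by `N_P(Q)` -/
theorem conjAut_mem_stabChain3 (D : GXData F p P Z0) {Q : Subgroup Ω} (hQS : Q ≤ S) {x : Ω}
    (hxP : x ∈ P) (hxN : x ∈ Subgroup.normalizer (Q : Set Ω))
    (hAB : Z0.subgroupOf Q ≤ P.subgroupOf Q) :
    conjAut Q x hxN ∈ stabChain (chain3 (Z0.subgroupOf Q) (P.subgroupOf Q)) (chain3_mono hAB) := by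
  obtain ⟨h1, h2, h3⟩ := D.stab_conditions hQS hxP hxN
  have hxN' : x⁻¹ ∈ Subgroup.normalizer (Q : Set Ω) := Subgroup.inv_mem _ hxN
  obtain ⟨h1', h2', h3'⟩ := D.stab_conditions hQS (P.inv_mem hxP) hxN'
  have hinv : (conjAut Q x hxN)⁻¹ = conjAut Q x⁻¹ hxN' := conjAut_inv Q x hxN
  apply mem_stabChain3 hAB _ h1 h2 h3
  · rw [hinv]; exact h1'
  · rw [hinv]; exact h2'
  · rw [hinv]; exact h3'

theorem subgroupOf_le (D : GXData F p P Z0) (Q : Subgroup Ω) :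
    Z0.subgroupOf Q ≤ P.subgroupOf Q := by
  intro y hy
  rw [Subgroup.mem_subgroupOf] at hy ⊢
  exact D.hZ0P hy

/-- some `F`-automorphism of an essential subgroup not containing `P` moves `Z0` -/
theorem exists_moved [Finite S] [Fact p.Prime] (hS : IsPGroup p S) (D : GXData F p P Z0)
    {Q : Subgroup Ω} (hQ : F.IsEssential p Q) (hPQ : ¬ P ≤ Q) :
    ∃ α ∈ F.autGroup Q, ∃ w : Q, (w : Ω) ∈ Z0 ∧ ((α w : Q) : Ω) ∉ Z0 := by
  by_contra hcon
  have hall : ∀ α ∈ F.autGroup Q, ∀ w : Q, (w : Ω) ∈ Z0 → ((α w : Q) : Ω) ∈ Z0 := by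
    intro α hα w hw
    by_contra h
    exact hcon ⟨α, hα, w, hw, h⟩
  have hQS : Q ≤ S := hQ.1.1
  obtain ⟨x, hxP, hxN, hxQ⟩ := D.exists_normalizing hS hQS hPQ
  have hAB := D.subgroupOf_le Q
  apply hxQ
  refine Helper03.FusEss.mem_of_stabChain hS F hQ (chain3 (Z0.subgroupOf Q) (P.subgroupOf Q))
    (chain3_mono hAB) rfl 3 rfl ?_ (D.hPS hxP) hxN (D.conjAut_mem_stabChain3 hQS hxP hxN hAB)
  intro α hα i y hy
  match i with
  | 0 =>
    have : y = 1 := by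
      have h0 : y ∈ (⊥ : Subgroup Q) := hy
      rwa [Subgroup.mem_bot] at h0
    rw [this, map_one]; exact Subgroup.one_mem _
  | 1 =>
    have h0 : y ∈ Z0.subgroupOf Q := hy
    show α y ∈ Z0.subgroupOf Q
    rw [Subgroup.mem_subgroupOf] at h0 ⊢
    exact hall α hα y h0
  | 2 =>
    have h0 : y ∈ P.subgroupOf Q := hy
    show α y ∈ P.subgroupOf Q
    rw [Subgroup.mem_subgroupOf] at h0 ⊢
    exact D.aut_mem hQS hα h0
  | n + 3 => exact Subgroup.mem_top _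

/-- the map of the system from `⟨α w⟩` sending `α w` back to `w` -/
theorem exists_hom_zpowers {Q : Subgroup Ω} (hQS : Q ≤ S) {α : MulAut Q} (hα : α ∈ F.autGroup Q)
    (w : Q) :
    ∃ ψ ∈ F.Hom (Subgroup.zpowers ((α w : Q) : Ω)),
      ψ ⟨((α w : Q) : Ω), Subgroup.mem_zpowers _⟩ = (w : Ω) := by
  have hα' : α⁻¹ ∈ F.autGroup Q := Subgroup.inv_mem _ hα
  have h1 := (mem_autGroup_iff F hQS α⁻¹).mp hα'
  have hle : Subgroup.zpowers ((α w : Q) : Ω) ≤ Q := by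
    rw [Subgroup.zpowers_le]; exact (α w).2
  refine ⟨_, Helper87.restrict_mem F hle h1, ?_⟩
  show ((α⁻¹ (⟨((α w : Q) : Ω), _⟩ : Q) : Q) : Ω) = w
  have : (⟨((α w : Q) : Ω), hle (Subgroup.mem_zpowers _)⟩ : Q) = α w := Subtype.ext rfl
  rw [this, MulAut.inv_apply_self]

/-- summary: the conjugate `u` of `z` and the structure of its centralizer -/
theorem exists_conj [Finite S] [Fact p.Prime] (hS : IsPGroup p S) (hF : F.IsSaturated p)
    (D : GXData F p P Z0) {Q : Subgroup Ω} (hQ : F.IsEssential p Q) (hPQ : ¬ P ≤ Q) :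
    ∃ α ∈ F.autGroup Q, ∃ w : Q, (w : Ω) ∈ Z0 ∧ (w : Ω) ≠ 1 ∧ ((α w : Q) : Ω) ∈ P ∧
      ((α w : Q) : Ω) ∉ Z0 ∧
      (∀ g ∈ P, ∀ h ∈ P, g * (α w : Q) = (α w : Q) * g → h * (α w : Q) = (α w : Q) * h →
        g * h = h * g) ∧
      (∀ g ∈ P, g * (α w : Q) = (α w : Q) * g → g ^ p = 1) := by
  have hQS : Q ≤ S := hQ.1.1
  obtain ⟨α, hα, w, hwZ, hαw⟩ := D.exists_moved hS hQ hPQ
  have hw1 : (w : Ω) ≠ 1 := by
    intro h
    apply hαw
    have : w = 1 := Subtype.ext h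
    rw [this, map_one]
    exact Subgroup.one_mem _
  have huP : ((α w : Q) : Ω) ∈ P := D.aut_mem hQS hα (D.hZ0P hwZ)
  obtain ⟨ψ, hψ, hψu⟩ := exists_hom_zpowers (F := F) hQS hα w
  obtain ⟨h1, h2⟩ := D.centralizer_elementary hS hF hwZ hw1 huP hαw ψ hψ hψu
  exact ⟨α, hα, w, hwZ, hw1, huP, hαw, h1, h2⟩

end GXData

end Cfsg.Agent.Lib.Helper89
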