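import Mathlib
import Cfsg.Agent.Lib.Helper89.GenExtraD
import Cfsg.Agent.Lib.Helper89.GenExtraC2
import Cfsg.Agent.Lib.Helper89.GenExtraB

set_option autoImplicit false

/-!
Strongly closed generalized extraspecial subgroups, part E: bridge to the abstract structure lemmas, and the
facts about `Ω₁(P)` in the case `p` odd, exponent `p ^ 2`.
-/

namespace Cfsg.Agent.Lib.Helper89

open Cfsg Cfsg.FusionSystem Cfsg.Agent.Lib.Helper90
open scoped commutatorElement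

variable {Ω : Type*} [Group Ω] {S : Subgroup Ω}

/-- an element of a subgroup `M` normalized by `S`, normalizing `Q` but outside `Q` -/
theorem exists_normalizing_of_not_le [Finite S] {p : ℕ} [Fact p.Prime] (hS : IsPGroup p S)
    {M Q : Subgroup Ω} (hMS : M ≤ S) (hMn : S ≤ Subgroup.normalizer (M : Set Ω)) (hQS : Q ≤ S)
    (hMQ : ¬ M ≤ Q) :
    ∃ x ∈ M, x ∈ Subgroup.normalizer (Q : Set Ω) ∧ x ∉ Q := by
  have hTS : Q ⊔ M ≤ S := sup_le hQS hMS
  have : Finite (Q ⊔ M : Subgroup Ω) := Helper87.finite_of_le hTS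
  have hne : Q ≠ Q ⊔ M := by
    intro h
    apply hMQ
    rw [h]; exact le_sup_right
  obtain ⟨g, hg, hgQ⟩ := exists_mem_normalizerIn_not_mem (S := Q ⊔ M) (hS.to_le hTS) le_sup_left hne
  have hgT : g ∈ Q ⊔ M := hg.1
  have hgN : g ∈ Subgroup.normalizer (Q : Set Ω) := hg.2
  obtain ⟨q, hq, a, ha, rfl⟩ := (gx_mem_sup_iff (hQS.trans hMn)).mp hgT
  refine ⟨a, ha, ?_, ?_⟩
  · have h1 : a = q⁻¹ * (q * a) := by group
    rw [h1]
    exact Subgroup.mul_mem _ (Subgroup.inv_mem _ (Subgroup.le_normalizer hq)) hgN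
  · intro haQ
    exact hgQ (Q.mul_mem hq haQ)

namespace GXData

variable {F : FusionSystem S} {p : ℕ} {P Z0 : Subgroup Ω}

/-- the abstract structure hypotheses for the group `P` -/
theorem toGXS0 (D : GXData F p P Z0) {u : Ω} (hu : u ∈ P)
    (hM1 : ∀ g ∈ P, ∀ h ∈ P, g * u = u * g → h * u = u * h → g * h = h * g)
    (hM2 : ∀ g ∈ P, g * u = u * g → g ^ p = 1) :
    GXS0 p (Z0.subgroupOf P) (⟨u, hu⟩ : P) := by
  refine ⟨?_, ?_, ?_, ?_, ?_, ?_⟩
  · rw [Helper01.card_subgroupOf_of_le D.hZ0P, D.hZ0card]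
  · intro w hw g
    rw [Subgroup.mem_subgroupOf] at hw
    exact Subtype.ext (D.hZ0c g (D.hPS g.2) w hw)
  · intro x y
    rw [Subgroup.mem_subgroupOf, commutatorElement_def]
    simp only [Subgroup.coe_mul, Subgroup.coe_inv]
    exact D.hcomm x x.2 y y.2
  · intro g
    rw [Subgroup.mem_subgroupOf, Subgroup.coe_pow]
    exact D.hpow g g.2
  · intro g h hg hh
    apply Subtype.ext
    rw [Subgroup.coe_mul, Subgroup.coe_mul]
    exact hM1 g g.2 h h.2 (congrArg Subtype.val hg) (congrArg Subtype.val hh)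
  · intro g hg
    apply Subtype.ext
    rw [Subgroup.coe_pow, Subgroup.coe_one]
    exact hM2 g g.2 (congrArg Subtype.val hg)

/-- some element of `P` does not commute with `u` -/
theorem exists_not_comm (D : GXData F p P Z0) {u : Ω}
    (hM1 : ∀ g ∈ P, ∀ h ∈ P, g * u = u * g → h * u = u * h → g * h = h * g) :
    ∃ a ∈ P, a * u ≠ u * a := by
  by_contra hcon
  apply D.hnc
  intro a ha b hb
  have h1 : ∀ a ∈ P, a * u = u * a := by
    intro a ha
    by_contra h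
    exact hcon ⟨a, ha, h⟩
  exact hM1 a ha b hb (h1 a ha) (h1 b hb)

section Odd

variable [Fact p.Prime] (D : GXData F p P Z0) {u : Ω} (hu : u ∈ P)
  (hM1 : ∀ g ∈ P, ∀ h ∈ P, g * u = u * g → h * u = u * h → g * h = h * g)
  (hM2 : ∀ g ∈ P, g * u = u * g → g ^ p = 1)

include D hu hM1 hM2

theorem comm_of_pow (hp2 : p ≠ 2) {x₁ : Ω} (hx₁P : x₁ ∈ P) (hx₁ : x₁ ^ p ≠ 1) {g : Ω} (hg : g ∈ P)
    (hgp : g ^ p = 1) : g * u = u * g := by
  have h0 := D.toGXS0 hu hM1 hM2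
  have hx : (⟨x₁, hx₁P⟩ : P) ^ p ≠ 1 := by
    intro h
    apply hx₁
    have := congrArg Subtype.val h
    simpa using this
  have hg' : (⟨g, hg⟩ : P) ^ p = 1 := Subtype.ext (by simpa using hgp)
  have := h0.comm_of_pow_eq_one hp2 hx hg'
  exact congrArg Subtype.val this

theorem exists_zpow_mul' {x : Ω} (hxP : x ∈ P) (hxu : x * u ≠ u * x) {g : Ω} (hg : g ∈ P) :
    ∃ (i : ℤ), ∃ m ∈ P, g = x ^ i * m ∧ m * u = u * m := by
  have h0 := D.toGXS0 hu hM1 hM2
  have hx : (⟨x, hxP⟩ : P) * ⟨u, hu⟩ ≠ ⟨u, hu⟩ * ⟨x, hxP⟩ := by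
    intro h
    exact hxu (congrArg Subtype.val h)
  obtain ⟨i, m, hgm, hm⟩ := h0.exists_zpow_mul hx ⟨g, hg⟩
  refine ⟨i, m, m.2, ?_, congrArg Subtype.val hm⟩
  have := congrArg Subtype.val hgm
  simpa using this

theorem mul_pow' (hp2 : p ≠ 2) {x m : Ω} (hxP : x ∈ P) (hmP : m ∈ P) (hm : m * u = u * m) :
    (x * m) ^ p = x ^ p := by
  have h0 := D.toGXS0 hu hM1 hM2
  have hm' : (⟨m, hmP⟩ : P) * ⟨u, hu⟩ = ⟨u, hu⟩ * ⟨m, hmP⟩ := Subtype.ext hm
  have := h0.mul_pow_of_comm hp2 ⟨x, hxP⟩ hm'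
  have := congrArg Subtype.val this
  simpa using this

end Odd

end GXData

end Cfsg.Agent.Lib.Helper89
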