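import Mathlib
import Cfsg.Agent.Lib.Helper89.GenExtraE

set_option autoImplicit false

/-!
Strongly closed generalized extraspecial subgroups, part F: for `p` odd and exponent `p ^ 2`, the subgroup
`M0 = Ω₁(P)` lies in every essential subgroup `Q`, and if `P ≰ Q` then `P ⊓ Q = M0` and `P` normalizes `Q`.
-/

namespace Cfsg.Agent.Lib.Helper89

open Cfsg Cfsg.FusionSystem Cfsg.Agent.Lib.Helper90

variable {Ω : Type*} [Group Ω] {S : Subgroup Ω}

/-- the configuration reached after the first phase -/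
structure TCfg (F : FusionSystem S) (p : ℕ) (P Z0 Q M0 : Subgroup Ω) (x : Ω) : Prop where
  D : GXData F p P Z0
  hQ : F.IsEssential p Q
  hM0P : M0 ≤ P
  hM0Q : M0 ≤ Q
  hM0iff : ∀ g ∈ P, g ∈ M0 ↔ g ^ p = 1
  hM0comm : ∀ g ∈ M0, ∀ h ∈ M0, g * h = h * g
  hPQ : P ⊓ Q ≤ M0
  hxP : x ∈ P
  hxN : x ∈ Subgroup.normalizer (Q : Set Ω)
  hxQ : x ∉ Q
  hmulpow : ∀ m ∈ M0, (x * m) ^ p = x ^ p

namespace GXData

variable {F : FusionSystem S} {p : ℕ} {P Z0 : Subgroup Ω}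

theorem phase1 [Finite S] [Fact p.Prime] (hS : IsPGroup p S) (D : GXData F p P Z0) (hp2 : p ≠ 2)
    {Q : Subgroup Ω} (hQ : F.IsEssential p Q) (hPQ : ¬ P ≤ Q) {u : Ω} (hu : u ∈ P)
    (hM1 : ∀ g ∈ P, ∀ h ∈ P, g * u = u * g → h * u = u * h → g * h = h * g)
    (hM2 : ∀ g ∈ P, g * u = u * g → g ^ p = 1)
    {x₁ : Ω} (hx₁P : x₁ ∈ P) (hx₁ : x₁ ^ p ≠ 1) :
    ∃ (M0 : Subgroup Ω) (x : Ω), TCfg F p P Z0 Q M0 x := by
  have hp : p.Prime := Fact.out
  have hQS : Q ≤ S := hQ.1.1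
  have hPS := D.hPS
  set M0 : Subgroup Ω := P ⊓ Subgroup.centralizer {u} with hM0
  have hmemM0 : ∀ g, g ∈ M0 ↔ g ∈ P ∧ g * u = u * g := by
    intro g
    rw [hM0, Subgroup.mem_inf, Subgroup.mem_centralizer_singleton_iff]
  have hM0P : M0 ≤ P := inf_le_left
  have hM0iff : ∀ g ∈ P, g ∈ M0 ↔ g ^ p = 1 := by
    intro g hg
    rw [hmemM0]
    constructor
    · rintro ⟨-, h⟩; exact hM2 g hg h
    · intro h; exact ⟨hg, D.comm_of_pow hu hM1 hM2 hp2 hx₁P hx₁ hg h⟩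
  have hM0comm : ∀ g ∈ M0, ∀ h ∈ M0, g * h = h * g := by
    intro g hg h hh
    rw [hmemM0] at hg hh
    exact hM1 g hg.1 h hh.1 hg.2 hh.2
  have hZ0M0 : Z0 ≤ M0 := by
    intro w hw
    rw [hM0iff w (D.hZ0P hw)]
    exact D.pow_Z0 hw
  -- `M0` is normalized by `S`
  have hM0n : S ≤ Subgroup.normalizer (M0 : Set Ω) := by
    have hconj : ∀ s ∈ S, ∀ g ∈ M0, s * g * s⁻¹ ∈ M0 := by
      intro s hs g hg
      have hgP := hM0P hg
      rw [hM0iff _ (D.conj_mem hs hgP), conj_pow, (hM0iff g hgP).mp hg, mul_one, mul_inv_cancel]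
    intro s hs
    rw [Subgroup.mem_normalizer_iff]
    intro n
    constructor
    · exact hconj s hs n
    · intro hn
      have := hconj s⁻¹ (S.inv_mem hs) _ hn
      have h2 : s⁻¹ * (s * n * s⁻¹) * s⁻¹⁻¹ = n := by group
      rwa [h2] at this
  -- `F`-automorphisms of `Q` preserve `M0`
  have hM0inv : ∀ α ∈ F.autGroup Q, ∀ y : Q, (y : Ω) ∈ M0 → ((α y : Q) : Ω) ∈ M0 := by
    intro α hα y hy
    have h1 : ((α y : Q) : Ω) ∈ P := D.aut_mem hQS hα (hM0P hy)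
    rw [hM0iff _ h1]
    have h2 : y ^ p = 1 := Subtype.ext (by
      rw [Subgroup.coe_pow, Subgroup.coe_one]; exact (hM0iff _ (hM0P hy)).mp hy)
    have h3 : (α y) ^ p = 1 := by rw [← map_pow, h2, map_one]
    have := congrArg Subtype.val h3
    simpa using this
  -- `M0 ≤ Q`
  have hM0Q : M0 ≤ Q := by
    by_contra hnot
    obtain ⟨y, hyM, hyN, hyQ⟩ := exists_normalizing_of_not_le hS (hM0P.trans hPS) hM0n hQS hnot
    have hAB : M0.subgroupOf Q ≤ P.subgroupOf Q := by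
      intro v hv
      rw [Subgroup.mem_subgroupOf] at hv ⊢
      exact hM0P hv
    have hcond : ∀ y ∈ M0, ∀ (hyN : y ∈ Subgroup.normalizer (Q : Set Ω)),
        (∀ v ∈ M0.subgroupOf Q, conjAut Q y hyN v = v) ∧
        (∀ v ∈ P.subgroupOf Q, v⁻¹ * conjAut Q y hyN v ∈ M0.subgroupOf Q) ∧
        (∀ v : Q, v⁻¹ * conjAut Q y hyN v ∈ P.subgroupOf Q) := by
      intro y hyM hyN
      obtain ⟨-, h2, h3⟩ := D.stab_conditions hQS (hM0P hyM) hyN
      refine ⟨?_, ?_, h3⟩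
      · intro v hv
        rw [Subgroup.mem_subgroupOf] at hv
        apply Subtype.ext
        rw [conjAut_apply, hM0comm y hyM v hv, mul_assoc, mul_inv_cancel, mul_one]
      · intro v hv
        have := h2 v hv
        rw [Subgroup.mem_subgroupOf] at this ⊢
        exact hZ0M0 this
    apply hyQ
    obtain ⟨h1, h2, h3⟩ := hcond y hyM hyN
    have hyN' : y⁻¹ ∈ Subgroup.normalizer (Q : Set Ω) := Subgroup.inv_mem _ hyN
    obtain ⟨h1', h2', h3'⟩ := hcond y⁻¹ (M0.inv_mem hyM) hyN'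
    have hinv : (conjAut Q y hyN)⁻¹ = conjAut Q y⁻¹ hyN' := conjAut_inv Q y hyN
    have hstab : conjAut Q y hyN ∈ stabChain (chain3 (M0.subgroupOf Q) (P.subgroupOf Q))
        (chain3_mono hAB) := by
      apply mem_stabChain3 hAB _ h1 h2 h3
      · rw [hinv]; exact h1'
      · rw [hinv]; exact h2'
      · rw [hinv]; exact h3'
    refine Helper03.FusEss.mem_of_stabChain hS F hQ (chain3 (M0.subgroupOf Q) (P.subgroupOf Q))
      (chain3_mono hAB) rfl 3 rfl ?_ (hPS (hM0P hyM)) hyN hstab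
    intro α hα i v hv
    match i with
    | 0 =>
      have : v = 1 := by
        have h0 : v ∈ (⊥ : Subgroup Q) := hv
        rwa [Subgroup.mem_bot] at h0
      rw [this, map_one]; exact Subgroup.one_mem _
    | 1 =>
      have h0 : v ∈ M0.subgroupOf Q := hv
      show α v ∈ M0.subgroupOf Q
      rw [Subgroup.mem_subgroupOf] at h0 ⊢
      exact hM0inv α hα v h0
    | 2 =>
      have h0 : v ∈ P.subgroupOf Q := hv
      show α v ∈ P.subgroupOf Q
      rw [Subgroup.mem_subgroupOf] at h0 ⊢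
      exact D.aut_mem hQS hα h0
    | n + 3 => exact Subgroup.mem_top _
  -- the element `x`
  obtain ⟨x, hxP, hxN, hxQ⟩ := D.exists_normalizing hS hQS hPQ
  have hxM0 : x ∉ M0 := fun h => hxQ (hM0Q h)
  have hxu : x * u ≠ u * x := fun h => hxM0 ((hmemM0 x).mpr ⟨hxP, h⟩)
  have hxp : x ^ p ≠ 1 := fun h => hxM0 ((hM0iff x hxP).mpr h)
  have hxpZ : x ^ p ∈ Z0 := D.hpow x hxP
  refine ⟨M0, x, ⟨D, hQ, hM0P, hM0Q, hM0iff, hM0comm, ?_, hxP, hxN, hxQ, ?_⟩⟩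
  · -- `P ⊓ Q ≤ M0`
    rintro g ⟨hgP, hgQ⟩
    obtain ⟨i, m, hmP, hgm, hmu⟩ := D.exists_zpow_mul' hu hM1 hM2 hxP hxu hgP
    have hmM0 : m ∈ M0 := (hmemM0 m).mpr ⟨hmP, hmu⟩
    have hxi : x ^ i ∈ Q := by
      have h1 : x ^ i = g * m⁻¹ := by rw [hgm]; group
      rw [h1]
      exact Q.mul_mem hgQ (Q.inv_mem (hM0Q hmM0))
    by_cases hdiv : (p : ℤ) ∣ i
    · obtain ⟨j, rfl⟩ := hdiv
      have h2 : x ^ ((p : ℤ) * j) ∈ M0 := by
        rw [zpow_mul, zpow_natCast]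
        exact M0.zpow_mem (hZ0M0 hxpZ) j
      rw [hgm]
      exact M0.mul_mem h2 hmM0
    · exfalso
      have hcop : IsCoprime (p : ℤ) i :=
        (Nat.prime_iff_prime_int.mp hp).coprime_iff_not_dvd.mpr hdiv
      obtain ⟨s, t, hst⟩ := hcop
      apply hxQ
      have h3 : x = (x ^ p) ^ s * (x ^ i) ^ t := by
        rw [← zpow_natCast x p, ← zpow_mul, ← zpow_mul, ← zpow_add]
        have h4 : (p : ℤ) * s + i * t = 1 := by linarith
        rw [h4, zpow_one]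
      rw [h3]
      exact Q.mul_mem (Q.zpow_mem (hM0Q (hZ0M0 hxpZ)) s) (Q.zpow_mem hxi t)
  · intro m hm
    have hm' := (hmemM0 m).mp hm
    exact D.mul_pow' hu hM1 hM2 hp2 hxP hm'.1 hm'.2

end GXData

end Cfsg.Agent.Lib.Helper89
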