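import Mathlib
import Cfsg.Agent.Lib.Helper89.GenExtraF

set_option autoImplicit false

/-!
Strongly closed generalized extraspecial subgroups, part G: the torus element. In the configuration `TCfg`,
an `F`-automorphism `α` of `Q` moving `z = x ^ p` out of `Z0` yields an `F`-automorphism `g` of `Q` which acts
trivially on `Q / M0`, commutes with conjugation by `x` on `M0` and inverts `z`.
-/

namespace Cfsg.Agent.Lib.Helper89

open Cfsg Cfsg.FusionSystem Cfsg.Agent.Lib.Helper90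

variable {Ω : Type*} [Group Ω] {S : Subgroup Ω}

/-- the chain `M ≤ ⊤ ≤ ⊤ ≤ …`, whose stability group consists of the automorphisms acting trivially
modulo `M` -/
def chainK {Q : Subgroup Ω} (M : Subgroup Q) : ℕ → Subgroup Q
  | 0 => M
  | _ + 1 => ⊤

theorem chainK_mono {Q : Subgroup Ω} (M : Subgroup Q) : Monotone (chainK M) :=
  monotone_nat_of_le_succ (fun n => by
    match n with
    | 0 => exact le_top
    | n + 1 => exact le_rfl)

theorem mem_stabChainK {Q : Subgroup Ω} {M : Subgroup Q} {β : MulAut Q} :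
    β ∈ stabChain (chainK M) (chainK_mono M) ↔ ∀ y : Q, y⁻¹ * β y ∈ M ∧ y⁻¹ * β⁻¹ y ∈ M := by
  rw [mem_stabChain]
  constructor
  · intro h y
    exact h 0 y (Subgroup.mem_top y)
  · intro h i y _
    match i with
    | 0 => exact h y
    | n + 1 => exact ⟨Subgroup.mem_top _, Subgroup.mem_top _⟩

/-- restriction of an automorphism preserving a subgroup -/
def resHom {Q : Type*} [Group Q] (M : Subgroup Q) (β : MulAut Q) (hβ : ∀ y ∈ M, β y ∈ M) :
    M →* M where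
  toFun m := ⟨β m, hβ m m.2⟩
  map_one' := Subtype.ext (map_one β)
  map_mul' a b := Subtype.ext (map_mul β (a : Q) (b : Q))

theorem resHom_apply {Q : Type*} [Group Q] (M : Subgroup Q) (β : MulAut Q)
    (hβ : ∀ y ∈ M, β y ∈ M) (m : M) : ((resHom M β hβ m : M) : Q) = β m := rfl

namespace TCfg

variable {F : FusionSystem S} {p : ℕ} {P Z0 Q M0 : Subgroup Ω} {x : Ω}

theorem hQS (c : TCfg F p P Z0 Q M0 x) : Q ≤ S := c.hQ.1.1

theorem hxS (c : TCfg F p P Z0 Q M0 x) : x ∈ S := c.D.hPS c.hxP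

theorem Z0_le_M0 (c : TCfg F p P Z0 Q M0 x) : Z0 ≤ M0 := by
  intro w hw
  rw [c.hM0iff w (c.D.hZ0P hw)]
  exact c.D.pow_Z0 hw

theorem x_not_mem (c : TCfg F p P Z0 Q M0 x) : x ∉ M0 := fun h => c.hxQ (c.hM0Q h)

theorem z_mem (c : TCfg F p P Z0 Q M0 x) : x ^ p ∈ Z0 := c.D.hpow x c.hxP

theorem z_ne_one (c : TCfg F p P Z0 Q M0 x) : x ^ p ≠ 1 :=
  fun h => c.x_not_mem ((c.hM0iff x c.hxP).mpr h)

theorem z_memQ (c : TCfg F p P Z0 Q M0 x) : x ^ p ∈ Q := c.hM0Q (c.Z0_le_M0 c.z_mem)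

/-- `z` as an element of `Q` -/
def zQ (c : TCfg F p P Z0 Q M0 x) : Q := ⟨x ^ p, c.z_memQ⟩

theorem zQ_pow (c : TCfg F p P Z0 Q M0 x) : c.zQ ^ p = 1 :=
  Subtype.ext (by rw [Subgroup.coe_pow, Subgroup.coe_one]; exact c.D.pow_Z0 c.z_mem)

/-- `F`-automorphisms of `Q` preserve `M0` -/
theorem aut_mem (c : TCfg F p P Z0 Q M0 x) {α : MulAut Q} (hα : α ∈ F.autGroup Q) {y : Q}
    (hy : (y : Ω) ∈ M0) : ((α y : Q) : Ω) ∈ M0 := by
  have h1 : ((α y : Q) : Ω) ∈ P := c.D.aut_mem c.hQS hα (c.hM0P hy)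
  rw [c.hM0iff _ h1]
  have h2 : y ^ p = 1 := Subtype.ext (by
    rw [Subgroup.coe_pow, Subgroup.coe_one]; exact (c.hM0iff _ (c.hM0P hy)).mp hy)
  have h3 : (α y) ^ p = 1 := by rw [← map_pow, h2, map_one]
  have := congrArg Subtype.val h3
  simpa using this

/-- elements of `Z0 ∩ Q` are powers of `zQ` -/
theorem mem_zpowers_zQ [Fact p.Prime] (c : TCfg F p P Z0 Q M0 x) {w : Q} (hw : (w : Ω) ∈ Z0) :
    ∃ k : ℤ, w = c.zQ ^ k := by
  obtain ⟨k, hk⟩ := Subgroup.mem_zpowers_iff.mp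
    (mem_zpowers_of_card_prime Z0 c.D.hZ0card c.z_mem c.z_ne_one _ hw)
  exact ⟨k, Subtype.ext (by rw [Subgroup.coe_zpow]; exact hk.symm)⟩

/-- an `F`-conjugate of `z` outside `Z0` does not commute with `x` -/
theorem not_comm_of_conj [Finite S] [Fact p.Prime] (hS : IsPGroup p S) (hF : F.IsSaturated p)
    (c : TCfg F p P Z0 Q M0 x) {γ : MulAut Q} (hγ : γ ∈ F.autGroup Q)
    (hv : ((γ c.zQ : Q) : Ω) ∉ Z0) : x * ((γ c.zQ : Q) : Ω) ≠ ((γ c.zQ : Q) : Ω) * x := by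
  intro hcomm
  have hvP : ((γ c.zQ : Q) : Ω) ∈ P := c.D.aut_mem c.hQS hγ (c.D.hZ0P c.z_mem)
  obtain ⟨ψ, hψ, hψu⟩ := GXData.exists_hom_zpowers (F := F) c.hQS hγ c.zQ
  obtain ⟨-, h2⟩ := c.D.centralizer_elementary hS hF c.z_mem c.z_ne_one hvP hv ψ hψ hψu
  exact c.z_ne_one (h2 x c.hxP hcomm)

/-- the conjugation automorphism -/
noncomputable def t (c : TCfg F p P Z0 Q M0 x) : MulAut Q := conjAut Q x c.hxN

theorem t_mem (c : TCfg F p P Z0 Q M0 x) : c.t ∈ F.autGroup Q :=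
  autInducedBy_le_autGroup F c.hQS (conjAut_mem_autInducedBy c.hxS c.hxN)

theorem t_apply (c : TCfg F p P Z0 Q M0 x) (y : Q) : ((c.t y : Q) : Ω) = x * y * x⁻¹ :=
  conjAut_apply Q x c.hxN y

theorem t_zQ (c : TCfg F p P Z0 Q M0 x) : c.t c.zQ = c.zQ := by
  apply Subtype.ext
  rw [c.t_apply]
  show x * x ^ p * x⁻¹ = x ^ p
  rw [← pow_succ', pow_succ, mul_assoc, mul_inv_cancel, mul_one]

/-- `t` moves elements of `M0` by powers of `z` -/
theorem t_form [Fact p.Prime] (c : TCfg F p P Z0 Q M0 x) {m : Q} (hm : (m : Ω) ∈ M0) :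
    ∃ k : ℤ, c.t m = m * c.zQ ^ k := by
  have h1 := c.D.hcomm (m : Ω)⁻¹ (P.inv_mem (c.hM0P hm)) x c.hxP
  rw [inv_inv] at h1
  have h2 : ((m⁻¹ * c.t m : Q) : Ω) ∈ Z0 := by
    rw [Subgroup.coe_mul, Subgroup.coe_inv, c.t_apply]
    have : (m : Ω)⁻¹ * (x * (m : Ω) * x⁻¹) = (m : Ω)⁻¹ * x * (m : Ω) * x⁻¹ := by group
    rw [this]; exact h1
  obtain ⟨k, hk⟩ := c.mem_zpowers_zQ h2
  exact ⟨k, by rw [← hk]; group⟩

/-- powers of `t` -/
theorem t_pow (c : TCfg F p P Z0 Q M0 x) {m : Q} {k : ℤ} (hk : c.t m = m * c.zQ ^ k) (r : ℕ) :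
    (c.t ^ r) m = m * c.zQ ^ ((r : ℤ) * k) := by
  induction r with
  | zero => simp
  | succ n ih =>
    rw [pow_succ, MulAut.mul_apply, hk, map_mul, map_zpow, ih]
    have h1 : (c.t ^ n) c.zQ = c.zQ := by
      clear ih
      induction n with
      | zero => simp
      | succ j ihj => rw [pow_succ, MulAut.mul_apply, c.t_zQ, ihj]
    rw [h1, mul_assoc, ← zpow_add]
    congr 2
    push_cast
    ring

/-- `t` acts trivially modulo `M0` -/
theorem t_mem_K (c : TCfg F p P Z0 Q M0 x) :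
    c.t ∈ stabChain (chainK (M0.subgroupOf Q)) (chainK_mono _) := by
  rw [mem_stabChainK]
  have hx' : x⁻¹ ∈ Subgroup.normalizer (Q : Set Ω) := Subgroup.inv_mem _ c.hxN
  have hinv : (c.t)⁻¹ = conjAut Q x⁻¹ hx' := conjAut_inv Q x c.hxN
  intro y
  obtain ⟨-, -, h3⟩ := c.D.stab_conditions c.hQS c.hxP c.hxN
  obtain ⟨-, -, h3'⟩ := c.D.stab_conditions c.hQS (P.inv_mem c.hxP) hx'
  constructor
  · have := h3 y
    rw [Subgroup.mem_subgroupOf] at this ⊢
    exact c.hPQ ⟨this, (y⁻¹ * conjAut Q x c.hxN y).2⟩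
  · rw [hinv]
    have := h3' y
    rw [Subgroup.mem_subgroupOf] at this ⊢
    exact c.hPQ ⟨this, (y⁻¹ * conjAut Q x⁻¹ hx' y).2⟩

/-- `F`-automorphisms preserve the chain `chainK` -/
theorem chainK_inv (c : TCfg F p P Z0 Q M0 x) {α : MulAut Q} (hα : α ∈ F.autGroup Q) :
    ∀ j, ∀ y ∈ chainK (M0.subgroupOf Q) j, α y ∈ chainK (M0.subgroupOf Q) j := by
  intro j y hy
  match j with
  | 0 =>
    have h0 : y ∈ M0.subgroupOf Q := hy
    show α y ∈ M0.subgroupOf Q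
    rw [Subgroup.mem_subgroupOf] at h0 ⊢
    exact c.aut_mem hα h0
  | n + 1 => exact Subgroup.mem_top _

/-- the torus element -/
theorem exists_torus [Finite S] [Fact p.Prime] (hS : IsPGroup p S) (hF : F.IsSaturated p)
    (c : TCfg F p P Z0 Q M0 x) {α : MulAut Q} (hα : α ∈ F.autGroup Q)
    (hαz : ((α c.zQ : Q) : Ω) ∉ Z0) :
    ∃ g ∈ F.autGroup Q, g ∈ stabChain (chainK (M0.subgroupOf Q)) (chainK_mono _) ∧
      (∀ y : Q, (y : Ω) ∈ M0 → g (c.t y) = c.t (g y)) ∧ g c.zQ = c.zQ⁻¹ := by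
  have hp : p.Prime := Fact.out
  have hα' : α⁻¹ ∈ F.autGroup Q := Subgroup.inv_mem _ hα
  have hzM : ((c.zQ : Q) : Ω) ∈ M0 := c.Z0_le_M0 c.z_mem
  have hzQ1 : c.zQ ≠ 1 := fun h => c.z_ne_one (congrArg Subtype.val h)
  -- the elements `u = α z` and `v = α⁻¹ z`
  have huM : ((α c.zQ : Q) : Ω) ∈ M0 := c.aut_mem hα hzM
  have hvM : ((α⁻¹ c.zQ : Q) : Ω) ∈ M0 := c.aut_mem hα' hzM
  have hvZ : ((α⁻¹ c.zQ : Q) : Ω) ∉ Z0 := by
    intro hv
    have hv1 : ((α⁻¹ c.zQ : Q) : Ω) ≠ 1 := by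
      intro h
      apply hzQ1
      have h2 : α⁻¹ c.zQ = 1 := Subtype.ext h
      have h3 := congrArg α h2
      rwa [MulAut.apply_inv_self, map_one] at h3
    obtain ⟨j, hj⟩ := Subgroup.mem_zpowers_iff.mp
      (mem_zpowers_of_card_prime Z0 c.D.hZ0card hv hv1 _ c.z_mem)
    have hj' : c.zQ = (α⁻¹ c.zQ) ^ j := Subtype.ext (by rw [Subgroup.coe_zpow]; exact hj.symm)
    apply hαz
    have h4 : α c.zQ = c.zQ ^ j := by
      conv_lhs => rw [hj']
      rw [map_zpow, MulAut.apply_inv_self]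
    rw [h4, Subgroup.coe_zpow]
    exact Z0.zpow_mem c.z_mem j
  obtain ⟨a, ha⟩ := c.t_form huM
  obtain ⟨b, hb⟩ := c.t_form hvM
  have hzpow_p : ∀ j : ℤ, c.zQ ^ ((p : ℤ) * j) = 1 := by
    intro j
    rw [zpow_mul, zpow_natCast, c.zQ_pow, one_zpow]
  have hpa : ¬ (p : ℤ) ∣ a := by
    rintro ⟨j, rfl⟩
    rw [hzpow_p, mul_one] at ha
    apply c.not_comm_of_conj hS hF hα hαz
    have h1 := congrArg Subtype.val ha
    rw [c.t_apply] at h1
    calc x * ((α c.zQ : Q) : Ω) = x * ((α c.zQ : Q) : Ω) * x⁻¹ * x := by group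
      _ = ((α c.zQ : Q) : Ω) * x := by rw [h1]
  have hpb : ¬ (p : ℤ) ∣ b := by
    rintro ⟨j, rfl⟩
    rw [hzpow_p, mul_one] at hb
    apply c.not_comm_of_conj hS hF hα' hvZ
    have h1 := congrArg Subtype.val hb
    rw [c.t_apply] at h1
    calc x * ((α⁻¹ c.zQ : Q) : Ω) = x * ((α⁻¹ c.zQ : Q) : Ω) * x⁻¹ * x := by group
      _ = ((α⁻¹ c.zQ : Q) : Ω) * x := by rw [h1]
  -- the exponent `r`
  obtain ⟨r, q, hrq⟩ : ∃ (r : ℕ) (q : ℤ), a * b * (r : ℤ) + 2 = (p : ℤ) * q := by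
    have hpp : Prime (p : ℤ) := Nat.prime_iff_prime_int.mp hp
    have hab : ¬ (p : ℤ) ∣ a * b := by
      intro h
      rcases hpp.dvd_or_dvd h with h | h
      · exact hpa h
      · exact hpb h
    obtain ⟨s, t', hst⟩ := hpp.coprime_iff_not_dvd.mpr hab
    have hp0 : (p : ℤ) ≠ 0 := by exact_mod_cast hp.ne_zero
    set r₀ : ℤ := -2 * t' with hr₀
    have hnn : 0 ≤ r₀ % (p : ℤ) := Int.emod_nonneg _ hp0
    refine ⟨(r₀ % (p : ℤ)).toNat, 2 * s - a * b * (r₀ / (p : ℤ)), ?_⟩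
    rw [Int.toNat_of_nonneg hnn, Int.emod_def, hr₀]
    linear_combination (-2 : ℤ) * hst
  -- the second transvection
  set t' : MulAut Q := α * c.t * α⁻¹ with ht'
  have ht'mem : t' ∈ F.autGroup Q := Subgroup.mul_mem _ (Subgroup.mul_mem _ hα c.t_mem) hα'
  have ht'app : ∀ y : Q, t' y = α (c.t (α⁻¹ y)) := fun y => rfl
  have ht'form : ∀ m : Q, (m : Ω) ∈ M0 → ∃ k : ℤ, t' m = m * (α c.zQ) ^ k := by
    intro m hm
    obtain ⟨k, hk⟩ := c.t_form (c.aut_mem hα' hm)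
    refine ⟨k, ?_⟩
    rw [ht'app, hk, map_mul, map_zpow, MulAut.apply_inv_self]
  have ht'u : t' (α c.zQ) = α c.zQ := by
    rw [ht'app, MulAut.inv_apply_self, c.t_zQ]
  have ht'z : t' c.zQ = c.zQ * (α c.zQ) ^ b := by
    rw [ht'app, hb, map_mul, map_zpow, MulAut.apply_inv_self]
  -- membership in the stability group
  have ht'K : t' ∈ stabChain (chainK (M0.subgroupOf Q)) (chainK_mono _) :=
    stabChain_conj_mem _ _ α (c.chainK_inv hα) (c.chainK_inv hα') c.t_mem_K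
  set g : MulAut Q := t' * c.t ^ r * t' with hg
  have hgmem : g ∈ F.autGroup Q :=
    Subgroup.mul_mem _ (Subgroup.mul_mem _ ht'mem (Subgroup.pow_mem _ c.t_mem r)) ht'mem
  have hgK : g ∈ stabChain (chainK (M0.subgroupOf Q)) (chainK_mono _) :=
    Subgroup.mul_mem _ (Subgroup.mul_mem _ ht'K (Subgroup.pow_mem _ c.t_mem_K r)) ht'K
  have hgapp : ∀ y : Q, g y = t' ((c.t ^ r) (t' y)) := fun y => rfl
  refine ⟨g, hgmem, hgK, ?_⟩
  -- apply the abstract computation to `Mq`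
  set Mq : Subgroup Q := M0.subgroupOf Q with hMq
  have hMqcomm : ∀ m₁ m₂ : Mq, m₁ * m₂ = m₂ * m₁ := by
    intro m₁ m₂
    apply Subtype.ext
    apply Subtype.ext
    have h1 : ((m₁ : Q) : Ω) ∈ M0 := Subgroup.mem_subgroupOf.mp m₁.2
    have h2 : ((m₂ : Q) : Ω) ∈ M0 := Subgroup.mem_subgroupOf.mp m₂.2
    exact c.hM0comm _ h1 _ h2
  let instC : CommGroup Mq := { (inferInstance : Group Mq) with mul_comm := hMqcomm }
  have hpres : ∀ β ∈ F.autGroup Q, ∀ y ∈ Mq, β y ∈ Mq := by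
    intro β hβ y hy
    rw [hMq, Subgroup.mem_subgroupOf] at hy ⊢
    exact c.aut_mem hβ hy
  let zq : Mq := ⟨c.zQ, Subgroup.mem_subgroupOf.mpr hzM⟩
  let uq : Mq := ⟨α c.zQ, Subgroup.mem_subgroupOf.mpr huM⟩
  have key := torus_mul (M := Mq) p zq uq
    (Subtype.ext (by rw [Subgroup.coe_pow]; exact c.zQ_pow))
    (Subtype.ext (by
      rw [Subgroup.coe_pow]
      show (α c.zQ) ^ p = 1
      rw [← map_pow, c.zQ_pow, map_one]))
    (resHom Mq c.t (hpres _ c.t_mem)) (resHom Mq (c.t ^ r) (hpres _ (Subgroup.pow_mem _ c.t_mem r)))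
    (resHom Mq t' (hpres _ ht'mem)) (resHom Mq g (hpres _ hgmem))
    (by
      intro m
      obtain ⟨k, hk⟩ := c.t_form (Subgroup.mem_subgroupOf.mp m.2)
      exact ⟨k, Subtype.ext (by
        rw [resHom_apply, hk]; rfl)⟩)
    (Subtype.ext (by rw [resHom_apply]; exact c.t_zQ))
    a
    (Subtype.ext (by rw [resHom_apply]; exact ha))
    (by
      intro m
      obtain ⟨k, hk⟩ := ht'form m (Subgroup.mem_subgroupOf.mp m.2)
      exact ⟨k, Subtype.ext (by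
        rw [resHom_apply, hk]; rfl)⟩)
    (Subtype.ext (by rw [resHom_apply]; exact ht'u))
    b
    (Subtype.ext (by rw [resHom_apply]; exact ht'z))
    (r : ℤ)
    (by
      intro m k hk
      have hk' : c.t m = m * c.zQ ^ k := by
        have := congrArg Subtype.val hk
        rw [resHom_apply] at this
        exact this
      exact Subtype.ext (by
        rw [resHom_apply, c.t_pow hk' r]; rfl))
    q hrq
    (by
      intro m
      exact Subtype.ext (by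
        rw [resHom_apply, hgapp]; rfl))
  constructor
  · intro y hy
    have := key.2 ⟨y, Subgroup.mem_subgroupOf.mpr hy⟩
    exact congrArg Subtype.val this
  · have := key.1
    exact congrArg Subtype.val this

end TCfg

end Cfsg.Agent.Lib.Helper89
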