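import Mathlib
import Cfsg.Agent.Lib.Helper89.GenExtraG

set_option autoImplicit false

/-!
Strongly closed generalized extraspecial subgroups, part H: the final contradiction in the case `p` odd,
exponent `p ^ 2`: the torus element extends to `⟨x⟩ Q` and forces `z = z⁻¹`.
-/

namespace Cfsg.Agent.Lib.Helper89

open Cfsg Cfsg.FusionSystem Cfsg.Agent.Lib.Helper90

variable {Ω : Type*} [Group Ω] {S : Subgroup Ω}

namespace TCfg

variable {F : FusionSystem S} {p : ℕ} {P Z0 Q M0 : Subgroup Ω} {x : Ω}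

theorem false_of_moved [Finite S] [Fact p.Prime] (hS : IsPGroup p S) (hF : F.IsSaturated p)
    (c : TCfg F p P Z0 Q M0 x) (hp2 : p ≠ 2) {α : MulAut Q} (hα : α ∈ F.autGroup Q)
    (hαz : ((α c.zQ : Q) : Ω) ∉ Z0) : False := by
  have hp : p.Prime := Fact.out
  have hQS := c.hQS
  obtain ⟨g, hgmem, hgK, hgt, hgz⟩ := c.exists_torus hS hF hα hαz
  set Mq : Subgroup Q := M0.subgroupOf Q with hMq
  have hpres : ∀ β ∈ F.autGroup Q, ∀ y ∈ Mq, β y ∈ Mq := by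
    intro β hβ y hy
    rw [hMq, Subgroup.mem_subgroupOf] at hy ⊢
    exact c.aut_mem hβ hy
  have hginv : g⁻¹ ∈ F.autGroup Q := Subgroup.inv_mem _ hgmem
  have htinv : (c.t)⁻¹ ∈ F.autGroup Q := Subgroup.inv_mem _ c.t_mem
  -- the commutator `β`
  set β : MulAut Q := g * c.t * g⁻¹ * (c.t)⁻¹ with hβ
  have hβmem : β ∈ F.autGroup Q :=
    Subgroup.mul_mem _ (Subgroup.mul_mem _ (Subgroup.mul_mem _ hgmem c.t_mem) hginv) htinv
  have hβK : β ∈ stabChain (chainK Mq) (chainK_mono _) :=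
    Subgroup.mul_mem _ (Subgroup.mul_mem _ (Subgroup.mul_mem _ hgK c.t_mem_K)
      (Subgroup.inv_mem _ hgK)) (Subgroup.inv_mem _ c.t_mem_K)
  have hβapp : ∀ y : Q, β y = g (c.t (g⁻¹ ((c.t)⁻¹ y))) := fun y => rfl
  have hβfix : ∀ y ∈ Mq, β y = y := by
    intro y hy
    have h1 : (c.t)⁻¹ y ∈ Mq := hpres _ htinv y hy
    have h2 : g⁻¹ ((c.t)⁻¹ y) ∈ Mq := hpres _ hginv _ h1
    rw [hβapp, hgt _ (Subgroup.mem_subgroupOf.mp h2), MulAut.apply_inv_self,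
      MulAut.apply_inv_self]
  have hβfix' : ∀ y ∈ Mq, β⁻¹ y = y := by
    intro y hy
    have := hβfix y hy
    conv_lhs => rw [← this]
    rw [MulAut.inv_apply_self]
  have hβK' := mem_stabChainK.mp hβK
  have hbot : (⊥ : Subgroup Q) ≤ Mq := bot_le
  have hβstab : β ∈ stabChain (chain3 (⊥ : Subgroup Q) Mq) (chain3_mono hbot) := by
    apply mem_stabChain3 hbot
    · intro y hy
      rw [Subgroup.mem_bot] at hy
      rw [hy, map_one]
    · intro y hy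
      rw [hβfix y hy, inv_mul_cancel]; exact Subgroup.one_mem _
    · intro y; exact (hβK' y).1
    · intro y hy
      rw [Subgroup.mem_bot] at hy
      rw [hy, map_one]
    · intro y hy
      rw [hβfix' y hy, inv_mul_cancel]; exact Subgroup.one_mem _
    · intro y; exact (hβK' y).2
  obtain ⟨q₀, hq₀⟩ := aut_mem_inn_of_stabChain hS F c.hQ (chain3 (⊥ : Subgroup Q) Mq)
    (chain3_mono hbot) rfl 3 rfl (by
      intro γ hγ i y hy
      match i with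
      | 0 =>
        have h0 : y ∈ (⊥ : Subgroup Q) := hy
        rw [Subgroup.mem_bot] at h0
        rw [h0, map_one]; exact Subgroup.one_mem _
      | 1 =>
        have h0 : y ∈ (⊥ : Subgroup Q) := hy
        rw [Subgroup.mem_bot] at h0
        rw [h0, map_one]; exact Subgroup.one_mem _
      | 2 =>
        have h0 : y ∈ Mq := hy
        exact hpres γ hγ y h0
      | n + 3 => exact Subgroup.mem_top _) hβmem hβstab
  -- `g t y = (q₀ x) (g y) (q₀ x)⁻¹`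
  have hconj : ∀ y : Q, ((g (c.t y) : Q) : Ω) =
      ((q₀ : Ω) * x) * ((g y : Q) : Ω) * ((q₀ : Ω) * x)⁻¹ := by
    intro y
    have h1 : β (c.t (g y)) = g (c.t y) := by
      rw [hβapp, MulAut.inv_apply_self, MulAut.inv_apply_self]
    rw [← h1, ← hq₀, MulAut.conj_apply]
    simp only [Subgroup.coe_mul, Subgroup.coe_inv, c.t_apply]
    group
  -- the extension
  set φ : Q →* Ω := Q.subtype.comp g.toMonoidHom with hφdef
  have hφ : φ ∈ F.Hom Q := (mem_autGroup_iff F hQS g).mp hgmem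
  have hφapp : ∀ y : Q, φ y = ((g y : Q) : Ω) := fun y => rfl
  have hrange : φ.range = Q := by
    ext y
    constructor
    · rintro ⟨v, rfl⟩
      exact (g v).2
    · intro hy
      exact ⟨g⁻¹ ⟨y, hy⟩, by rw [hφapp, MulAut.apply_inv_self]⟩
  have hrec : F.IsReceptive Q :=
    Helper87.isReceptive_of_isFullyCentralized p hS F hF Q
      (Helper87.fullyNormalized_props p hS F hF Q c.hQ.2.1).1
  set N := extender S Q φ with hN
  obtain ⟨ψ, hψ, hext⟩ := hrec.2 Q φ hφ hrange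
  have hQN : Q ≤ N := Helper87.le_extender hQS (fun y => hQS (g y).2)
  have hxN : x ∈ N := by
    rw [hN, Helper87.mem_extender_iff]
    refine ⟨c.hxS, c.hxN, (q₀ : Ω) * x, S.mul_mem (hQS q₀.2) c.hxS, ?_⟩
    intro y hy
    have h1 : (⟨x * (y : Ω) * x⁻¹, hy⟩ : Q) = c.t y := Subtype.ext (c.t_apply y).symm
    rw [h1, hφapp, hφapp]
    exact hconj y
  set x₂ : Ω := ψ ⟨x, hxN⟩ with hx₂
  have hx₂S : x₂ ∈ S := Helper87.hom_mem F hψ _
  have hx₂P : x₂ ∈ P := by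
    have h1 := Helper87.restrict_mem F (inf_le_right : P ⊓ N ≤ N) hψ
    exact c.D.hcl.2 (P ⊓ N) inf_le_left _ h1 ⟨x, c.hxP, hxN⟩
  have hψQ : ∀ y : Q, ψ ⟨(y : Ω), hQN y.2⟩ = ((g y : Q) : Ω) := by
    intro y
    rw [hext (y : Ω) y.2 (hQN y.2)]
    rfl
  -- conjugation by `x₂`
  have hconj₂ : ∀ y : Q, ((g (c.t y) : Q) : Ω) = x₂ * ((g y : Q) : Ω) * x₂⁻¹ := by
    intro y
    have h1 : (⟨((c.t y : Q) : Ω), hQN (c.t y).2⟩ : N) =
        ⟨x, hxN⟩ * ⟨(y : Ω), hQN y.2⟩ * (⟨x, hxN⟩ : N)⁻¹ := by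
      apply Subtype.ext
      rw [c.t_apply]
      rfl
    rw [← hψQ (c.t y), h1, map_mul, map_mul, map_inv, hψQ]
  -- `c₀ = (q₀ x)⁻¹ x₂` centralizes `Q`
  have hc₀ : ((q₀ : Ω) * x)⁻¹ * x₂ ∈ centralizerIn S Q := by
    rw [Helper87.mem_centralizerIn]
    refine ⟨S.mul_mem (S.inv_mem (S.mul_mem (hQS q₀.2) c.hxS)) hx₂S, ?_⟩
    intro v hv
    have h1 := hconj (g⁻¹ ⟨v, hv⟩)
    have h2 := hconj₂ (g⁻¹ ⟨v, hv⟩)
    rw [MulAut.apply_inv_self] at h1 h2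
    rw [h1] at h2
    -- h2 : (q₀ x) v (q₀ x)⁻¹ = x₂ v x₂⁻¹
    have h3 : ((q₀ : Ω) * x) * v * ((q₀ : Ω) * x)⁻¹ = x₂ * v * x₂⁻¹ := h2
    have h4 : v * (((q₀ : Ω) * x)⁻¹ * x₂) =
        ((q₀ : Ω) * x)⁻¹ * (((q₀ : Ω) * x) * v * ((q₀ : Ω) * x)⁻¹) * x₂ := by group
    rw [h4, h3]; group
  have hc₀Q : ((q₀ : Ω) * x)⁻¹ * x₂ ∈ Q := Helper03.FusEss.centralizerIn_le_of_isEssential F c.hQ hc₀
  -- `q₁ = x⁻¹ x₂ ∈ P ⊓ Q`
  have hq₁Q : x⁻¹ * x₂ ∈ Q := by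
    have h1 : x⁻¹ * x₂ = (x⁻¹ * (q₀ : Ω) * x⁻¹⁻¹) * (((q₀ : Ω) * x)⁻¹ * x₂) := by group
    rw [h1]
    refine Q.mul_mem ?_ hc₀Q
    have hx' : x⁻¹ ∈ Subgroup.normalizer (Q : Set Ω) := Subgroup.inv_mem _ c.hxN
    exact (Subgroup.mem_normalizer_iff.mp hx' _).mp q₀.2
  have hq₁P : x⁻¹ * x₂ ∈ P := P.mul_mem (P.inv_mem c.hxP) hx₂P
  have hq₁M : x⁻¹ * x₂ ∈ M0 := c.hPQ ⟨hq₁P, hq₁Q⟩
  -- the `p`-th power of `x₂`
  have hpow₁ : x₂ ^ p = x ^ p := by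
    have h1 : x₂ = x * (x⁻¹ * x₂) := by group
    rw [h1]
    exact c.hmulpow _ hq₁M
  have hpow₂ : x₂ ^ p = (x ^ p)⁻¹ := by
    have h1 : (⟨x, hxN⟩ : N) ^ p = ⟨((c.zQ : Q) : Ω), hQN c.zQ.2⟩ := Subtype.ext (by
      rw [Subgroup.coe_pow]; rfl)
    rw [hx₂, ← map_pow, h1, hψQ, hgz]
    rfl
  -- conclusion
  have hz2 : (x ^ p) * (x ^ p) = 1 := by
    have : x ^ p = (x ^ p)⁻¹ := hpow₁.symm.trans hpow₂
    calc (x ^ p) * (x ^ p) = (x ^ p) * (x ^ p)⁻¹ := by rw [← this]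
      _ = 1 := mul_inv_cancel _
  have hzp : (x ^ p) ^ p = 1 := c.D.pow_Z0 c.z_mem
  have hord : orderOf (x ^ p) ∣ 2 := orderOf_dvd_of_pow_eq_one (by rw [pow_two]; exact hz2)
  have hord' : orderOf (x ^ p) ∣ p := orderOf_dvd_of_pow_eq_one hzp
  have hcop : Nat.Coprime 2 p := by
    rw [Nat.coprime_primes Nat.prime_two hp]
    exact fun h => hp2 h.symm
  have h1 : orderOf (x ^ p) = 1 := Nat.eq_one_of_dvd_coprimes hcop hord hord'
  exact c.z_ne_one (orderOf_eq_one_iff.mp h1)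

end TCfg

end Cfsg.Agent.Lib.Helper89
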