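import Mathlib
import Cfsg.Agent.Lib.Helper94.LCDefs

/-!
# K-LC-B3 (keystone 640603, architect helper94): `coordLattice_of_frame`
-/

set_option autoImplicit false
open Matrix

namespace Cfsg.Agent.Lib.Helper89.LC

open Cfsg.Agent.Lib.Helper94.LC

variable (B : Matrix (Fin 24) (Fin 24) ℤ)

lemma bf_add_left (x y z : Fin 24 → ℤ) : bf B (x + y) z = bf B x z + bf B y z := by
  simp [bf, add_dotProduct]

lemma bf_sub_left (x y z : Fin 24 → ℤ) : bf B (x - y) z = bf B x z - bf B y z := by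
  simp [bf, sub_dotProduct]

lemma bf_sub_right (x y z : Fin 24 → ℤ) : bf B x (y - z) = bf B x y - bf B x z := by
  simp [bf, mulVec_sub, dotProduct_sub]

lemma bf_smul_left (c : ℤ) (x z : Fin 24 → ℤ) : bf B (c • x) z = c * bf B x z := by
  unfold bf
  rw [smul_dotProduct, smul_eq_mul]

lemma bf_smul_right (c : ℤ) (x z : Fin 24 → ℤ) : bf B x (c • z) = c * bf B x z := by
  unfold bf
  rw [mulVec_smul, dotProduct_smul, smul_eq_mul]

variable {B}

lemma bf_frame {e : Fin 24 → (Fin 24 → ℤ)} (he : IsFrame B e) (i l : Fin 24) :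
    bf B (e i) (e l) = if l = i then 8 else 0 := by
  split_ifs with h
  · subst h; exact he.norm l
  · exact he.orth i l (fun h' => h h'.symm)

lemma exists_half {e : Fin 24 → (Fin 24 → ℤ)} (he : IsFrame B e) (i j : Fin 24) :
    ∃ w : Fin 24 → ℤ, e i - e j = (2 : ℤ) • w := by
  choose w hw using fun k => he.cong i j k
  exact ⟨w, funext fun k => by rw [hw k]; simp⟩

lemma coord_frame {e : Fin 24 → (Fin 24 → ℤ)} (he : IsFrame B e) (i : Fin 24) :
    coord B e (e i) = Pi.single i (8 : ℤ) := by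
  funext l
  show bf B (e i) (e l) = _
  rw [bf_frame he, Pi.single_apply]

theorem coordLattice_of_frame (B : Matrix (Fin 24) (Fin 24) ℤ) (h : Hyp B) (e : Fin 24 → (Fin 24 → ℤ))
    (he : IsFrame B e) (hP : ∀ x : Fin 24 → ℤ, ssq (coord B e x) = 8 * bf B x x) :
    CoordLattice (coord B e).range := by
  have hssq0 : ssq (0 : Fin 24 → ℤ) = 0 := by simp [ssq]
  have hinj : Function.Injective (coord B e) := by
    rw [injective_iff_map_eq_zero]
    intro x hx
    by_contra hne
    have h1 := hP x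
    rw [hx, hssq0] at h1
    have h2 : 0 < bf B x x := h.hpos x hne
    omega
  have hhalf : ∀ i j, ∃ w : Fin 24 → ℤ,
      coord B e w = Pi.single i (4 : ℤ) - Pi.single j (4 : ℤ) ∧ e i - e j = (2 : ℤ) • w := by
    intro i j
    obtain ⟨w, hw⟩ := exists_half he i j
    refine ⟨w, ?_, hw⟩
    funext l
    have h1 : 2 * bf B w (e l) = bf B (e i) (e l) - bf B (e j) (e l) := by
      rw [← bf_smul_left, ← hw, bf_sub_left]
    rw [bf_frame he, bf_frame he] at h1
    show bf B w (e l) = _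
    simp only [Pi.sub_apply, Pi.single_apply]
    split_ifs at h1 ⊢ <;> omega
  refine ⟨?_, ?_, ?_, ?_, ?_, ?_, ?_⟩
  · intro i
    exact ⟨e i, coord_frame he i⟩
  · intro i j _
    obtain ⟨w, hw, -⟩ := hhalf i j
    refine ⟨w + e j, ?_⟩
    rw [map_add, hw, coord_frame he]
    funext l
    simp only [Pi.add_apply, Pi.sub_apply, Pi.single_apply]
    split_ifs <;> norm_num
  · intro i j _
    obtain ⟨w, hw, -⟩ := hhalf i j
    exact ⟨w, hw⟩
  · rintro v ⟨x, rfl⟩ i j
    obtain ⟨w, -, hw⟩ := hhalf i j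
    show (2 : ℤ) ∣ bf B x (e i) - bf B x (e j)
    rw [← bf_sub_right, hw, bf_smul_right]
    exact dvd_mul_right _ _
  · rintro v ⟨x, rfl⟩
    rw [hP]
    obtain ⟨c, hc⟩ := h.heven x
    have hc' : bf B x x = 2 * c := hc
    rw [hc']
    exact ⟨c, by ring⟩
  · rintro v ⟨x, rfl⟩ hv
    have hx : x ≠ 0 := by
      rintro rfl
      exact hv (map_zero _)
    rw [hP]
    have h1 : 0 < bf B x x := h.hpos x hx
    have h2 : (2 : ℤ) ∣ bf B x x := h.heven x
    have h3 : bf B x x ≠ 2 := h.h2 x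
    omega
  · have hset : {v : Fin 24 → ℤ | v ∈ (coord B e).range ∧ ssq v = 32} =
        coord B e '' {x | x ⬝ᵥ (B *ᵥ x) = 4} := by
      ext v
      constructor
      · rintro ⟨⟨x, rfl⟩, hv⟩
        refine ⟨x, ?_, rfl⟩
        rw [hP] at hv
        show bf B x x = 4
        omega
      · rintro ⟨x, hx, rfl⟩
        refine ⟨⟨x, rfl⟩, ?_⟩
        rw [hP]
        have hx' : bf B x x = 4 := hx
        omega
    rw [hset, Set.ncard_image_of_injective _ hinj, h.h4]

end Cfsg.Agent.Lib.Helper89.LC
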