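import Mathlib
import Cfsg.Agent.Lib.Helper23.PGroupLCS

set_option autoImplicit false

/-!
The centre and the second centre of a `p`-group of maximal class.
-/

namespace Cfsg.Agent.Lib.Helper89

open Subgroup
open Cfsg.Agent.Lib.Helper23.PGroupLCS

section MaxClassZ

variable {G : Type*} [Group G]

/-- the lower central series of a quotient -/
theorem lcs_quotient_eq (N : Subgroup G) [N.Normal] (i : ℕ) :
    (M G i).map (QuotientGroup.mk' N) = M (G ⧸ N) i := by
  show ((⊤ : Subgroup G).lowerCentralSeries i).map (QuotientGroup.mk' N) =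
    (⊤ : Subgroup (G ⧸ N)).lowerCentralSeries i
  rw [Subgroup.map_lowerCentralSeries, ← MonoidHom.range_eq_map,
    MonoidHom.range_eq_top.mpr (QuotientGroup.mk'_surjective N)]

/-- if the quotient by a central subgroup has class at most `i`, the group has class at most `i + 1` -/
theorem lcs_succ_eq_bot_of_quotient (N : Subgroup G) [N.Normal] (hN : N ≤ center G) (i : ℕ)
    (h : M (G ⧸ N) i = ⊥) : M G (i + 1) = ⊥ := by
  rw [← lcs_quotient_eq N i] at h
  have h1 : M G i ≤ (QuotientGroup.mk' N).ker := (Subgroup.map_eq_bot_iff _).mp h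
  rw [QuotientGroup.ker_mk'] at h1
  exact Subgroup.lowerCentralSeries_succ_eq_bot _ (h1.trans hN)

theorem lcs_one_eq_bot_of_comm (h : ∀ a b : G, a * b = b * a) : M G 1 = ⊥ := by
  apply Subgroup.lowerCentralSeries_succ_eq_bot
  intro x _
  rw [Subgroup.mem_center_iff]
  intro g
  exact h g x

theorem card_comap_mk_eq [Finite G] (N : Subgroup G) [N.Normal] (K : Subgroup (G ⧸ N)) :
    Nat.card (K.comap (QuotientGroup.mk' N)) = Nat.card N * Nat.card K := by
  have h1 : (K.comap (QuotientGroup.mk' N)).index = K.index :=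
    Subgroup.index_comap_of_surjective K (QuotientGroup.mk'_surjective N)
  have h2 := Subgroup.card_mul_index (K.comap (QuotientGroup.mk' N))
  have h3 := Subgroup.card_mul_index K
  have h4 := Subgroup.card_eq_card_quotient_mul_card_subgroup N
  rw [h1] at h2
  have hpos : 0 < K.index := Nat.pos_of_ne_zero Subgroup.index_ne_zero_of_finite
  have h5 : Nat.card (K.comap (QuotientGroup.mk' N)) * K.index =
      (Nat.card N * Nat.card K) * K.index := by
    rw [h2, h4, ← h3]
    ring
  exact Nat.eq_of_mul_eq_mul_right hpos h5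

variable [Finite G] {p : ℕ} [Fact p.Prime]

/-- the centre of a `p`-group of maximal class has order `p` -/
theorem card_center_of_maxclass (hG : IsPGroup p G) (n : ℕ) (hn : 3 ≤ n)
    (hcard : Nat.card G = p ^ n) (hmax : M G (n - 2) ≠ ⊥) : Nat.card (center G) = p := by
  have hp : p.Prime := Fact.out
  obtain ⟨k, hk⟩ := (hG.to_subgroup (center G)).exists_card_eq
  have hq : Nat.card (G ⧸ center G) * p ^ k = p ^ n := by
    rw [← hk, ← hcard]
    exact (Subgroup.card_eq_card_quotient_mul_card_subgroup _).symm
  have hkn : k ≤ n := by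
    have : p ^ k ∣ p ^ n := Dvd.intro_left _ hq
    exact (Nat.pow_dvd_pow_iff_le_right hp.one_lt).mp this
  have hqc : Nat.card (G ⧸ center G) = p ^ (n - k) := by
    apply Nat.eq_of_mul_eq_mul_right (pow_pos hp.pos k)
    rw [hq, ← pow_add, Nat.sub_add_cancel hkn]
  have hnt : Nontrivial G := by
    rw [← Finite.one_lt_card_iff_nontrivial, hcard]
    exact Nat.one_lt_pow (by omega) hp.one_lt
  have hk0 : k ≠ 0 := by
    intro h0
    rw [h0, pow_zero] at hk
    have : Nontrivial (center G) := hG.center_nontrivial
    have h1 := Finite.one_lt_card_iff_nontrivial.mpr this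
    omega
  have hk1 : k = 1 := by
    by_contra hne
    have hk2 : 2 ≤ k := by omega
    apply hmax
    by_cases hr : 2 ≤ n - k
    · have h1 : M (G ⧸ center G) (n - k - 1) = ⊥ :=
        M_eq_bot_of_card (hG.to_quotient (center G)) (n - k) hr hqc
      have h2 : M G (n - k - 1 + 1) = ⊥ :=
        lcs_succ_eq_bot_of_quotient (center G) le_rfl _ h1
      have h3 : M G (n - 2) ≤ M G (n - k - 1 + 1) :=
        Subgroup.lowerCentralSeries_antitone _ (by omega)
      rw [h2] at h3
      exact le_bot_iff.mp h3
    · have hr1 : n - k = 0 ∨ n - k = 1 := by omega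
      have hcyc : IsCyclic (G ⧸ center G) := by
        rcases hr1 with h0 | h1
        · rw [h0, pow_zero] at hqc
          have : Subsingleton (G ⧸ center G) := (Nat.card_eq_one_iff_unique.mp hqc).1
          infer_instance
        · rw [h1, pow_one] at hqc
          exact isCyclic_of_prime_card hqc
      have hcomm : ∀ a b : G, a * b = b * a :=
        (MonoidHom.isMulCommutative_of_isCyclic_of_ker_le_center (QuotientGroup.mk' (center G))
          (by rw [QuotientGroup.ker_mk'])).is_comm.comm
      have h2 : M G 1 = ⊥ := lcs_one_eq_bot_of_comm hcomm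
      have h3 : M G (n - 2) ≤ M G 1 := Subgroup.lowerCentralSeries_antitone _ (by omega)
      rw [h2] at h3
      exact le_bot_iff.mp h3
  rw [hk, hk1, pow_one]

/-- the second centre of a `p`-group of maximal class of order at least `p ^ 4` has order `p ^ 2` -/
theorem card_ucs_two_of_maxclass (hG : IsPGroup p G) (n : ℕ) (hn : 4 ≤ n)
    (hcard : Nat.card G = p ^ n) (hmax : M G (n - 2) ≠ ⊥) :
    Nat.card (Subgroup.upperCentralSeries G 2) = p ^ 2 := by
  have hp : p.Prime := Fact.out
  have hZ : Nat.card (center G) = p := card_center_of_maxclass hG n (by omega) hcard hmax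
  have hQ : Nat.card (G ⧸ center G) = p ^ (n - 1) := by
    have h1 := Subgroup.card_eq_card_quotient_mul_card_subgroup (center G)
    rw [hcard, hZ] at h1
    apply Nat.eq_of_mul_eq_mul_right hp.pos
    rw [← h1, ← pow_succ]
    congr 1
    omega
  have hmaxQ : M (G ⧸ center G) (n - 1 - 2) ≠ ⊥ := by
    intro h
    apply hmax
    have h2 := lcs_succ_eq_bot_of_quotient (center G) le_rfl _ h
    have h3 : n - 1 - 2 + 1 = n - 2 := by omega
    rw [h3] at h2
    exact h2
  have hZQ : Nat.card (center (G ⧸ center G)) = p :=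
    card_center_of_maxclass (hG.to_quotient (center G)) (n - 1) (by omega) hQ hmaxQ
  have h1 : Subgroup.upperCentralSeries G 2 =
      (center (G ⧸ center G)).comap (QuotientGroup.mk' (center G)) := by
    rw [← Subgroup.comap_upperCentralSeries_quotient_center 1, Subgroup.upperCentralSeries_one]
  rw [h1, card_comap_mk_eq, hZ, hZQ, sq]

end MaxClassZ

end Cfsg.Agent.Lib.Helper89
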