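import Mathlib
import Cfsg.Agent.Lib.Helper89.FusionAut
import Cfsg.Agent.Lib.Helper89.ChainNormal
import Cfsg.Agent.Lib.Helper89.OrderPFour
import Cfsg.Agent.Lib.Helper03.FusEss
import Cfsg.Agent.Lib.Helper16.QdFrattini
import Cfsg.Agent.Lib.Helper90.StabChain
import Cfsg.Agent.Lib.Helper90.FusionNormal

set_option autoImplicit false

/-!
Strongly closed subgroups and essential subgroups: if `P` is strongly closed in `F` and `Q` is an
essential subgroup, then an element of `N_P(Q)` acting trivially on the Frattini quotient of `P ⊓ Q`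
lies in `Q`; and if `N_P(Q)` is not contained in `Q`, the automorphism group of `P ⊓ Q` is not a
`p`-group.
-/

namespace Cfsg.Agent.Lib.Helper89

open Cfsg Cfsg.FusionSystem Cfsg.Agent.Lib.Helper90

variable {Ω : Type*} [Group Ω] {S : Subgroup Ω}

/-- restriction to `P ⊓ Q` of an automorphism of `Q` preserving `P` -/
def resInf (P Q : Subgroup Ω) (β : MulAut Q)
    (h1 : ∀ y : Q, (y : Ω) ∈ P → ((β y : Q) : Ω) ∈ P)
    (h2 : ∀ y : Q, (y : Ω) ∈ P → ((β⁻¹ y : Q) : Ω) ∈ P) : MulAut ↥(P ⊓ Q) where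
  toFun x := ⟨((β ⟨x, x.2.2⟩ : Q) : Ω), h1 _ x.2.1, (β ⟨x, x.2.2⟩).2⟩
  invFun x := ⟨((β⁻¹ ⟨x, x.2.2⟩ : Q) : Ω), h2 _ x.2.1, (β⁻¹ ⟨x, x.2.2⟩).2⟩
  left_inv x := by
    apply Subtype.ext
    show ((β⁻¹ (β ⟨x, x.2.2⟩) : Q) : Ω) = x
    rw [MulAut.inv_apply_self]
  right_inv x := by
    apply Subtype.ext
    show ((β (β⁻¹ ⟨x, x.2.2⟩) : Q) : Ω) = x
    rw [MulAut.apply_inv_self]
  map_mul' a b := by
    apply Subtype.ext
    have h3 : (⟨((a * b : ↥(P ⊓ Q)) : Ω), (a * b).2.2⟩ : Q) = ⟨a, a.2.2⟩ * ⟨b, b.2.2⟩ :=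
      Subtype.ext rfl
    show ((β ⟨((a * b : ↥(P ⊓ Q)) : Ω), (a * b).2.2⟩ : Q) : Ω) =
      ((β ⟨a, a.2.2⟩ : Q) : Ω) * ((β ⟨b, b.2.2⟩ : Q) : Ω)
    rw [h3, map_mul]
    rfl

theorem resInf_apply (P Q : Subgroup Ω) (β : MulAut Q)
    (h1 : ∀ y : Q, (y : Ω) ∈ P → ((β y : Q) : Ω) ∈ P)
    (h2 : ∀ y : Q, (y : Ω) ∈ P → ((β⁻¹ y : Q) : Ω) ∈ P) (x : ↥(P ⊓ Q)) :
    ((resInf P Q β h1 h2 x : ↥(P ⊓ Q)) : Ω) = ((β ⟨x, x.2.2⟩ : Q) : Ω) := rfl

/-- powers of the restriction -/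
theorem resInf_pow_apply (P Q : Subgroup Ω) (β : MulAut Q)
    (h1 : ∀ y : Q, (y : Ω) ∈ P → ((β y : Q) : Ω) ∈ P)
    (h2 : ∀ y : Q, (y : Ω) ∈ P → ((β⁻¹ y : Q) : Ω) ∈ P) (m : ℕ) (x : ↥(P ⊓ Q)) :
    (((resInf P Q β h1 h2) ^ m) x : Ω) = (((β ^ m) ⟨x, x.2.2⟩ : Q) : Ω) := by
  induction m with
  | zero => simp
  | succ m ih =>
    rw [pow_succ', MulAut.mul_apply, resInf_apply, pow_succ', MulAut.mul_apply]
    congr 2
    exact Subtype.ext ih

/-- an automorphism acting trivially on `Q / R` with a `p`-power fixing `R` pointwise has `p`-power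
order -/
theorem pow_eq_one_of_fix {Q : Type*} [Group Q] [Finite Q] {p : ℕ} [Fact p.Prime]
    (hQ : IsPGroup p Q)
    (β : MulAut Q) (R : Subgroup Q) (h1 : ∀ y : Q, y⁻¹ * β y ∈ R) (k : ℕ)
    (h2 : ∀ y ∈ R, (β ^ (p ^ k)) y = y) : ∃ j : ℕ, β ^ (p ^ j) = 1 := by
  have hall : ∀ m : ℕ, ∀ y : Q, y⁻¹ * (β ^ m) y ∈ R := by
    intro m
    induction m with
    | zero => intro y; simp
    | succ m ih =>
      intro y
      have e : y⁻¹ * (β ^ (m + 1)) y = (y⁻¹ * (β ^ m) y) * (((β ^ m) y)⁻¹ * β ((β ^ m) y)) := by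
        rw [pow_succ', MulAut.mul_apply]; group
      rw [e]
      exact R.mul_mem (ih y) (h1 _)
  obtain ⟨e, he⟩ := hQ.exists_card_eq
  refine ⟨k + e, ?_⟩
  ext y
  have h3 := stab_pow_apply (β ^ (p ^ k)) R h2 y (hall _ y) (p ^ e)
  have h4 : (y⁻¹ * (β ^ p ^ k) y) ^ (p ^ e) = 1 := by rw [← he]; exact pow_card_eq_one'
  rw [h4, mul_one, ← pow_mul, ← pow_add] at h3
  rw [h3, MulAut.one_apply]

/-- An element of `N_S(Q)`, `Q` essential, whose conjugation lies in a subgroup `𝔑` of `Aut(Q)`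
normalized by `Aut_F(Q)` and meeting it in a `p`-group, lies in `Q`. -/
theorem mem_of_normal_pSubgroup [Finite S] {p : ℕ} [Fact p.Prime] (_hS : IsPGroup p S)
    (F : FusionSystem S) {Q : Subgroup Ω} (hQ : F.IsEssential p Q) (𝔑 : Subgroup (MulAut Q))
    (hnorm : ∀ γ ∈ F.autGroup Q, ∀ β ∈ 𝔑, γ * β * γ⁻¹ ∈ 𝔑)
    (hpg : ∀ β ∈ 𝔑, β ∈ F.autGroup Q → ∃ k : ℕ, β ^ (p ^ k) = 1)
    {g : Ω} (hgS : g ∈ S) (hgN : g ∈ Subgroup.normalizer (Q : Set Ω))
    (hg : conjAut Q g hgN ∈ 𝔑) : g ∈ Q := by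
  have hQS : Q ≤ S := hQ.1.1
  have : Finite Q := Helper87.finite_of_le hQS
  obtain ⟨hcen, -, hnormal, E, hE⟩ := hQ
  set Γ := F.autGroup Q with hΓ
  set N : Subgroup Γ := 𝔑.subgroupOf Γ with hNdef
  have hNn : N.Normal := by
    constructor
    intro β hβ a
    rw [hNdef, Subgroup.mem_subgroupOf] at hβ ⊢
    have h1 := hnorm (a : MulAut Q) a.2 _ hβ
    simpa using h1
  have hNp : IsPGroup p N := by
    intro β
    have hβ : ((β : Γ) : MulAut Q) ∈ 𝔑 := Subgroup.mem_subgroupOf.mp β.2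
    obtain ⟨k, hk⟩ := hpg _ hβ (β : Γ).2
    refine ⟨k, ?_⟩
    apply Subtype.ext
    apply Subtype.ext
    rw [Subgroup.coe_pow, Subgroup.coe_pow, Subgroup.coe_one, Subgroup.coe_one]
    exact hk
  have hsurj := QuotientGroup.mk'_surjective ((Inn Q).subgroupOf Γ)
  have hbar : N.map (QuotientGroup.mk' ((Inn Q).subgroupOf Γ)) = ⊥ :=
    Helper03.FusEss.normal_pSubgroup_eq_bot E hE _ (hNn.map _ hsurj) (hNp.map _)
  have hgΓ : conjAut Q g hgN ∈ Γ :=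
    autInducedBy_le_autGroup F hQS (conjAut_mem_autInducedBy hgS hgN)
  have hmem : (⟨conjAut Q g hgN, hgΓ⟩ : Γ) ∈ N := by
    rw [hNdef, Subgroup.mem_subgroupOf]; exact hg
  have h1 : QuotientGroup.mk' ((Inn Q).subgroupOf Γ) ⟨conjAut Q g hgN, hgΓ⟩ ∈
      N.map (QuotientGroup.mk' ((Inn Q).subgroupOf Γ)) := Subgroup.mem_map_of_mem _ hmem
  rw [hbar, Subgroup.mem_bot, QuotientGroup.mk'_apply, QuotientGroup.eq_one_iff,
    Subgroup.mem_subgroupOf] at h1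
  obtain ⟨u, hu⟩ := h1
  have hcent : (u : Ω)⁻¹ * g ∈ centralizerIn S Q := by
    rw [Helper87.mem_centralizerIn]
    refine ⟨S.mul_mem (S.inv_mem (hQS u.2)) hgS, fun x hx => ?_⟩
    have h2 := congrArg (fun α : MulAut Q => ((α ⟨x, hx⟩ : Q) : Ω)) hu
    simp only [MulAut.conj_apply, conjAut_apply, Subgroup.coe_mul, Subgroup.coe_inv] at h2
    have h3 : (u : Ω)⁻¹ * g * x = (u : Ω)⁻¹ * (g * x * g⁻¹) * g := by group
    rw [h3, ← h2]; group
  have h4 := hcen.2 Q (Helper87.isConj_refl F hQS) hcent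
  have h5 : g = (u : Ω) * ((u : Ω)⁻¹ * g) := by group
  rw [h5]
  exact Q.mul_mem u.2 h4

section Closed

variable [Finite S] {p : ℕ} [Fact p.Prime] {F : FusionSystem S} {P Q : Subgroup Ω}

/-- the image in `Ω` of the Frattini subgroup of `P ⊓ Q` -/
def frattInf (P Q : Subgroup Ω) : Subgroup Ω := (frattini ↥(P ⊓ Q)).map (P ⊓ Q).subtype

theorem frattInf_le (P Q : Subgroup Ω) : frattInf P Q ≤ P ⊓ Q := Subgroup.map_subtype_le _

theorem mem_frattInf_iff {x : Ω} (hx : x ∈ P ⊓ Q) :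
    x ∈ frattInf P Q ↔ (⟨x, hx⟩ : ↥(P ⊓ Q)) ∈ frattini ↥(P ⊓ Q) := by
  unfold frattInf
  rw [Subgroup.mem_map]
  constructor
  · rintro ⟨y, hy, rfl⟩
    exact hy
  · intro h
    exact ⟨_, h, rfl⟩

/-- `Φ(P ⊓ Q)` is normalized by `P ⊓ Q` -/
theorem frattInf_conj_mem {g f : Ω} (hg : g ∈ P ⊓ Q) (hf : f ∈ frattInf P Q) :
    g * f * g⁻¹ ∈ frattInf P Q := by
  have hfR := frattInf_le P Q hf
  rw [mem_frattInf_iff hfR] at hf
  have hn : (frattini ↥(P ⊓ Q)).Normal := inferInstance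
  have h1 := hn.conj_mem _ hf ⟨g, hg⟩
  rw [mem_frattInf_iff ((P ⊓ Q).mul_mem ((P ⊓ Q).mul_mem hg hfR) ((P ⊓ Q).inv_mem hg))]
  exact h1

/-- restrictions of automorphisms preserve `Φ(P ⊓ Q)` -/
theorem frattInf_aut_mem (β : MulAut Q)
    (h1 : ∀ y : Q, (y : Ω) ∈ P → ((β y : Q) : Ω) ∈ P)
    (h2 : ∀ y : Q, (y : Ω) ∈ P → ((β⁻¹ y : Q) : Ω) ∈ P) {y : Q} (hy : (y : Ω) ∈ frattInf P Q) :
    ((β y : Q) : Ω) ∈ frattInf P Q := by
  have hyR : (y : Ω) ∈ P ⊓ Q := frattInf_le P Q hy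
  rw [mem_frattInf_iff hyR] at hy
  have h3 := char_invariant (frattini ↥(P ⊓ Q)) (resInf P Q β h1 h2) _ hy
  have hmem : ((β y : Q) : Ω) ∈ P ⊓ Q := ⟨h1 y hyR.1, (β y).2⟩
  rw [mem_frattInf_iff hmem]
  exact h3

/-- the chain `Φ(P ⊓ Q) ≤ P ⊓ Q ≤ Q` inside `Q` -/
def chainFr (P Q : Subgroup Ω) : ℕ → Subgroup Q
  | 0 => (frattInf P Q).subgroupOf Q
  | 1 => P.subgroupOf Q
  | _ + 2 => ⊤

theorem chainFr_mono (P Q : Subgroup Ω) : Monotone (chainFr P Q) :=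
  monotone_nat_of_le_succ (fun n => by
    match n with
    | 0 =>
      intro y hy
      have h0 : y ∈ (frattInf P Q).subgroupOf Q := hy
      show y ∈ P.subgroupOf Q
      rw [Subgroup.mem_subgroupOf] at h0 ⊢
      exact (frattInf_le P Q h0).1
    | 1 => exact le_top
    | n + 2 => exact le_rfl)

/-- the chain `P ⊓ Q ≤ Q` inside `Q` -/
def chainTop (P Q : Subgroup Ω) : ℕ → Subgroup Q
  | 0 => P.subgroupOf Q
  | _ + 1 => ⊤

theorem chainTop_mono (P Q : Subgroup Ω) : Monotone (chainTop P Q) :=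
  monotone_nat_of_le_succ (fun n => by
    match n with
    | 0 => exact le_top
    | n + 1 => exact le_rfl)

/-- conjugation by an element of `P` normalizing `Q` acts trivially on `Q / (P ⊓ Q)` -/
theorem conj_top_cond (hP : F.StronglyClosed P) (hQS : Q ≤ S) {t : Ω} (htP : t ∈ P)
    (htN : t ∈ Subgroup.normalizer (Q : Set Ω)) (y : Q) :
    y⁻¹ * conjAut Q t htN y ∈ P.subgroupOf Q := by
  rw [Subgroup.mem_subgroupOf]
  simp only [Subgroup.coe_mul, Subgroup.coe_inv, conjAut_apply]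
  have h2 : (y : Ω)⁻¹ * (t * (y : Ω) * t⁻¹) = ((y : Ω)⁻¹ * t * (y : Ω)⁻¹⁻¹) * t⁻¹ := by group
  rw [h2]
  exact P.mul_mem (StronglyClosed.conj_mem F hP _ (S.inv_mem (hQS y.2)) t htP) (P.inv_mem htP)

/-- **Key lemma 1.** An element of `N_P(Q)` acting trivially on `(P ⊓ Q) / Φ(P ⊓ Q)` lies in `Q`. -/
theorem mem_of_trivial_on_frattini (hS : IsPGroup p S) (hP : F.StronglyClosed P)
    (hQ : F.IsEssential p Q) {t : Ω} (htP : t ∈ P) (htN : t ∈ Subgroup.normalizer (Q : Set Ω))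
    (ht : ∀ r ∈ P ⊓ Q, t * r * t⁻¹ * r⁻¹ ∈ frattInf P Q) : t ∈ Q := by
  have hQS : Q ≤ S := hQ.1.1
  have hPS : P ≤ S := hP.1
  have : Finite Q := Helper87.finite_of_le hQS
  have : Finite ↥(P ⊓ Q) := Helper87.finite_of_le (inf_le_left.trans hPS)
  have hQp : IsPGroup p Q := hS.to_le hQS
  have hRp : IsPGroup p ↥(P ⊓ Q) := hS.to_le (inf_le_left.trans hPS)
  have hpres : ∀ γ ∈ F.autGroup Q, ∀ y : Q, (y : Ω) ∈ P → ((γ y : Q) : Ω) ∈ P :=
    fun γ hγ y hy => StronglyClosed.aut_mem F hP hQS hγ y hy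
  refine mem_of_normal_pSubgroup hS F hQ (stabChain (chainFr P Q) (chainFr_mono P Q)) ?_ ?_
    (hPS htP) htN ?_
  · -- normalized by `Aut_F(Q)`
    intro γ hγ β hβ
    have hγ' : γ⁻¹ ∈ F.autGroup Q := Subgroup.inv_mem _ hγ
    have hinvar : ∀ δ ∈ F.autGroup Q, ∀ j, ∀ x ∈ chainFr P Q j, δ x ∈ chainFr P Q j := by
      intro δ hδ j x hx
      have hδ' : δ⁻¹ ∈ F.autGroup Q := Subgroup.inv_mem _ hδ
      match j with
      | 0 =>
        have h0 : x ∈ (frattInf P Q).subgroupOf Q := hx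
        show δ x ∈ (frattInf P Q).subgroupOf Q
        rw [Subgroup.mem_subgroupOf] at h0 ⊢
        exact frattInf_aut_mem δ (hpres δ hδ) (hpres _ hδ') h0
      | 1 =>
        have h0 : x ∈ P.subgroupOf Q := hx
        show δ x ∈ P.subgroupOf Q
        rw [Subgroup.mem_subgroupOf] at h0 ⊢
        exact hpres δ hδ x h0
      | n + 2 => exact Subgroup.mem_top _
    exact stabChain_conj_mem _ _ γ (hinvar γ hγ) (hinvar _ hγ') hβ
  · -- a `p`-group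
    intro β hβ hβΓ
    have hβ' : β⁻¹ ∈ F.autGroup Q := Subgroup.inv_mem _ hβΓ
    rw [mem_stabChain] at hβ
    have h1 : ∀ y : Q, y⁻¹ * β y ∈ P.subgroupOf Q := fun y => (hβ 1 y (Subgroup.mem_top _)).1
    have h0 : ∀ y ∈ P.subgroupOf Q, y⁻¹ * β y ∈ (frattInf P Q).subgroupOf Q :=
      fun y hy => (hβ 0 y hy).1
    set ρ := resInf P Q β (hpres β hβΓ) (hpres _ hβ') with hρ
    have hρmem : ρ ∈ Helper16.QdFrattini.frattiniStab ↥(P ⊓ Q) := by
      intro x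
      have hxq : (⟨(x : Ω), x.2.2⟩ : Q) ∈ P.subgroupOf Q := Subgroup.mem_subgroupOf.mpr x.2.1
      have h2 := h0 _ hxq
      rw [Subgroup.mem_subgroupOf] at h2
      simp only [Subgroup.coe_mul, Subgroup.coe_inv] at h2
      -- conjugate by `x`
      have h3 := frattInf_conj_mem x.2 h2
      have h4 : (x : Ω) * ((x : Ω)⁻¹ * ((β ⟨x, x.2.2⟩ : Q) : Ω)) * (x : Ω)⁻¹ =
          ((β ⟨x, x.2.2⟩ : Q) : Ω) * (x : Ω)⁻¹ := by group
      rw [h4] at h3
      have hmem : ((β ⟨x, x.2.2⟩ : Q) : Ω) * (x : Ω)⁻¹ ∈ P ⊓ Q :=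
        (P ⊓ Q).mul_mem ⟨hpres β hβΓ _ x.2.1, (β _).2⟩ ((P ⊓ Q).inv_mem x.2)
      rw [mem_frattInf_iff hmem] at h3
      exact h3
    obtain ⟨k, hk⟩ := Helper16.QdFrattini.isPGroup_frattiniStab hRp ⟨ρ, hρmem⟩
    have hk' : ρ ^ (p ^ k) = 1 := by
      have := congrArg Subtype.val hk
      rwa [Subgroup.coe_pow] at this
    refine pow_eq_one_of_fix hQp β (P.subgroupOf Q) h1 k ?_
    intro y hy
    rw [Subgroup.mem_subgroupOf] at hy
    have h5 := resInf_pow_apply P Q β (hpres β hβΓ) (hpres _ hβ') (p ^ k) ⟨(y : Ω), hy, y.2⟩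
    rw [← hρ, hk', MulAut.one_apply] at h5
    exact Subtype.ext h5.symm
  · -- conjugation by `t` lies in the stability group
    have htN' : t⁻¹ ∈ Subgroup.normalizer (Q : Set Ω) := Subgroup.inv_mem _ htN
    have hinv : (conjAut Q t htN)⁻¹ = conjAut Q t⁻¹ htN' := conjAut_inv Q t htN
    rw [mem_stabChain]
    intro i x hx
    match i with
    | 0 =>
      have h0 : x ∈ P.subgroupOf Q := hx
      rw [Subgroup.mem_subgroupOf] at h0
      have hxR : (x : Ω) ∈ P ⊓ Q := ⟨h0, x.2⟩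
      constructor
      · show x⁻¹ * conjAut Q t htN x ∈ (frattInf P Q).subgroupOf Q
        rw [Subgroup.mem_subgroupOf]
        simp only [Subgroup.coe_mul, Subgroup.coe_inv, conjAut_apply]
        have h1 := frattInf_conj_mem ((P ⊓ Q).inv_mem hxR) (ht _ hxR)
        have h2 : (x : Ω)⁻¹ * (t * (x : Ω) * t⁻¹ * (x : Ω)⁻¹) * (x : Ω)⁻¹⁻¹ =
            (x : Ω)⁻¹ * (t * (x : Ω) * t⁻¹) := by group
        rw [h2] at h1
        exact h1
      · rw [hinv]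
        show x⁻¹ * conjAut Q t⁻¹ htN' x ∈ (frattInf P Q).subgroupOf Q
        rw [Subgroup.mem_subgroupOf]
        simp only [Subgroup.coe_mul, Subgroup.coe_inv, conjAut_apply, inv_inv]
        -- `r' = t⁻¹ x t`
        have hr'P : t⁻¹ * (x : Ω) * t ∈ P := P.mul_mem (P.mul_mem (P.inv_mem htP) h0) htP
        have hr'Q : t⁻¹ * (x : Ω) * t ∈ Q := by
          have := (Subgroup.mem_normalizer_iff.mp htN' (x : Ω)).mp x.2
          rwa [inv_inv] at this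
        have h1 := ht _ ⟨hr'P, hr'Q⟩
        have h2 : t * (t⁻¹ * (x : Ω) * t) * t⁻¹ * (t⁻¹ * (x : Ω) * t)⁻¹ =
            (x : Ω) * (t⁻¹ * (x : Ω) * t)⁻¹ := by group
        rw [h2] at h1
        have h3 := (frattInf P Q).inv_mem h1
        have h4 := frattInf_conj_mem ((P ⊓ Q).inv_mem hxR) h3
        have h5 : (x : Ω)⁻¹ * ((x : Ω) * (t⁻¹ * (x : Ω) * t)⁻¹)⁻¹ * (x : Ω)⁻¹⁻¹ =
            (x : Ω)⁻¹ * (t⁻¹ * (x : Ω) * t) := by group
        rw [h5] at h4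
        exact h4
    | 1 =>
      constructor
      · exact conj_top_cond hP hQS htP htN x
      · rw [hinv]
        exact conj_top_cond hP hQS (P.inv_mem htP) htN' x
    | n + 2 => exact ⟨Subgroup.mem_top _, Subgroup.mem_top _⟩

/-- **Key lemma 2.** If some element of `N_P(Q)` lies outside `Q`, the automorphism group of `P ⊓ Q`
is not a `p`-group. -/
theorem not_isPGroup_mulAut_inf (hS : IsPGroup p S) (hP : F.StronglyClosed P)
    (hQ : F.IsEssential p Q) {t : Ω} (htP : t ∈ P) (htN : t ∈ Subgroup.normalizer (Q : Set Ω))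
    (htQ : t ∉ Q) : ¬ IsPGroup p (MulAut ↥(P ⊓ Q)) := by
  intro hA
  apply htQ
  have hQS : Q ≤ S := hQ.1.1
  have hPS : P ≤ S := hP.1
  have : Finite Q := Helper87.finite_of_le hQS
  have hQp : IsPGroup p Q := hS.to_le hQS
  have hpres : ∀ γ ∈ F.autGroup Q, ∀ y : Q, (y : Ω) ∈ P → ((γ y : Q) : Ω) ∈ P :=
    fun γ hγ y hy => StronglyClosed.aut_mem F hP hQS hγ y hy
  refine mem_of_normal_pSubgroup hS F hQ (stabChain (chainTop P Q) (chainTop_mono P Q)) ?_ ?_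
    (hPS htP) htN ?_
  · intro γ hγ β hβ
    have hγ' : γ⁻¹ ∈ F.autGroup Q := Subgroup.inv_mem _ hγ
    have hinvar : ∀ δ ∈ F.autGroup Q, ∀ j, ∀ x ∈ chainTop P Q j, δ x ∈ chainTop P Q j := by
      intro δ hδ j x hx
      match j with
      | 0 =>
        have h0 : x ∈ P.subgroupOf Q := hx
        show δ x ∈ P.subgroupOf Q
        rw [Subgroup.mem_subgroupOf] at h0 ⊢
        exact hpres δ hδ x h0
      | n + 1 => exact Subgroup.mem_top _
    exact stabChain_conj_mem _ _ γ (hinvar γ hγ) (hinvar _ hγ') hβ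
  · intro β hβ hβΓ
    have hβ' : β⁻¹ ∈ F.autGroup Q := Subgroup.inv_mem _ hβΓ
    rw [mem_stabChain] at hβ
    have h1 : ∀ y : Q, y⁻¹ * β y ∈ P.subgroupOf Q := fun y => (hβ 0 y (Subgroup.mem_top _)).1
    obtain ⟨k, hk⟩ := hA (resInf P Q β (hpres β hβΓ) (hpres _ hβ'))
    refine pow_eq_one_of_fix hQp β (P.subgroupOf Q) h1 k ?_
    intro y hy
    rw [Subgroup.mem_subgroupOf] at hy
    have h5 := resInf_pow_apply P Q β (hpres β hβΓ) (hpres _ hβ') (p ^ k) ⟨(y : Ω), hy, y.2⟩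
    rw [hk, MulAut.one_apply] at h5
    exact Subtype.ext h5.symm
  · have htN' : t⁻¹ ∈ Subgroup.normalizer (Q : Set Ω) := Subgroup.inv_mem _ htN
    have hinv : (conjAut Q t htN)⁻¹ = conjAut Q t⁻¹ htN' := conjAut_inv Q t htN
    rw [mem_stabChain]
    intro i x hx
    match i with
    | 0 =>
      constructor
      · exact conj_top_cond hP hQS htP htN x
      · rw [hinv]
        exact conj_top_cond hP hQS (P.inv_mem htP) htN' x
    | n + 1 => exact ⟨Subgroup.mem_top _, Subgroup.mem_top _⟩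

end Closed

end Cfsg.Agent.Lib.Helper89
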