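import Mathlib
import Cfsg.Prelude.Def_CaseTheorems
import Cfsg.Agent.Lib.Helper89.MetaTwo

/-!
# Metacyclic 2-groups containing an elementary abelian subgroup normalized non-trivially

`G` is a finite 2-group with a cyclic normal subgroup `N` such that `G ⧸ N` is cyclic.  If an abelian
subgroup `R` of exponent two is normalized by an element `t` with `t² ∈ R` that does not centralize
`R`, then `G` is dihedral, generalized quaternion or quasi-dihedral.
-/

set_option autoImplicit false

namespace Cfsg.Agent.Lib.Helper89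

section moved

variable {G : Type*} [Group G] [Finite G]

/-- an element of a cyclic subgroup whose square is trivial is a power of any involution of it -/
theorem eq_one_or_eq_of_sq_of_isCyclic (N : Subgroup G) [IsCyclic N] {w x : G} (hw : w ∈ N)
    (hw1 : w ≠ 1) (hww : w * w = 1) (hx : x ∈ N) (hxx : x * x = 1) : x = 1 ∨ x = w := by
  have how : orderOf w = 2 := by
    have : Fact (Nat.Prime 2) := ⟨Nat.prime_two⟩
    exact orderOf_eq_prime (by rw [pow_two]; exact hww) hw1
  have hox : orderOf x ∣ orderOf w := by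
    rw [how]
    exact orderOf_dvd_of_pow_eq_one (by rw [pow_two]; exact hxx)
  obtain ⟨i, hi⟩ := Subgroup.mem_zpowers_iff.mp (mem_zpowers_of_orderOf_dvd' N hx hw hox)
  rcases zpow_of_sq_eq_one hww i with h | h
  · left; rw [← hi, h]
  · right; rw [← hi, h]

/-- A metacyclic 2-group with an abelian subgroup of exponent two normalized, but not centralized,
by an element whose square lies in it. -/
theorem four_case_moved (hG : IsPGroup 2 G) (N : Subgroup G) [hNn : N.Normal] [hNc : IsCyclic N]
    (hQ : IsCyclic (G ⧸ N)) (R : Subgroup G) (hexp : ∀ r ∈ R, r * r = 1)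
    (hab : ∀ a ∈ R, ∀ b ∈ R, a * b = b * a)
    (t : G) (htN : ∀ r ∈ R, t * r * t⁻¹ ∈ R) (ht2 : t * t ∈ R) (u : G) (hu : u ∈ R)
    (hmove : t * u * t⁻¹ ≠ u) :
    (∃ m : ℕ, Nonempty (G ≃* DihedralGroup m)) ∨ (∃ m : ℕ, Nonempty (G ≃* QuaternionGroup m)) ∨
      Cfsg.IsQuasiDihedral G := by
  have huu : u * u = 1 := hexp u hu
  have huinv : u⁻¹ = u := inv_eq_of_mul_eq_one_right huu
  have hu1 : u ≠ 1 := by
    rintro rfl
    apply hmove
    group
  -- `v = t u t⁻¹` and `w = v u`
  obtain ⟨v, hvdef⟩ : ∃ v : G, v = t * u * t⁻¹ := ⟨_, rfl⟩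
  have hvR : v ∈ R := hvdef ▸ htN u hu
  have hvv : v * v = 1 := hexp v hvR
  have hvinv : v⁻¹ = v := inv_eq_of_mul_eq_one_right hvv
  have hvu : v ≠ u := hvdef ▸ hmove
  obtain ⟨w, hwdef⟩ : ∃ w : G, w = v * u := ⟨_, rfl⟩
  have hwR : w ∈ R := hwdef ▸ R.mul_mem hvR hu
  have hww : w * w = 1 := hexp w hwR
  have hw1 : w ≠ 1 := by
    intro h
    apply hvu
    rw [hwdef] at h
    have := eq_inv_of_mul_eq_one_left h
    rw [this, huinv]
  -- `t² ` commutes with `u`, so `t v t⁻¹ = u`
  have htvu : t * v * t⁻¹ = u := by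
    have h1 : (t * t) * u = u * (t * t) := hab _ ht2 u hu
    calc t * v * t⁻¹ = (t * t) * u * (t * t)⁻¹ := by rw [hvdef]; group
      _ = u * (t * t) * (t * t)⁻¹ := by rw [h1]
      _ = u := by group
  -- `u ∉ N`
  have huN : u ∉ N := by
    intro huN
    have hvN : v ∈ N := hvdef ▸ hNn.conj_mem u huN t
    rcases eq_one_or_eq_of_sq_of_isCyclic N huN hu1 huu hvN hvv with h | h
    · apply hu1
      rw [hvdef] at h
      have : u = t⁻¹ * (t * u * t⁻¹) * t := by group
      rw [this, h]; group
    · exact hvu h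
  have hvN : v ∉ N := by
    intro hvN
    apply huN
    rw [← htvu]
    exact hNn.conj_mem v hvN t
  -- uniqueness of the involution of `G ⧸ N`
  have h2 : orderOf (QuotientGroup.mk u : G ⧸ N) = 2 := by
    have : Fact (Nat.Prime 2) := ⟨Nat.prime_two⟩
    apply orderOf_eq_prime
    · rw [← QuotientGroup.mk_pow, pow_two, huu]; rfl
    · intro hc; exact huN ((QuotientGroup.eq_one_iff _).mp hc)
  have huu' : (QuotientGroup.mk u : G ⧸ N) * QuotientGroup.mk u = 1 := by
    rw [← QuotientGroup.mk_mul, huu]; rfl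
  have huniq : ∀ g : G, g * g ∈ N → g ∉ N → u⁻¹ * g ∈ N := by
    intro g hgg hgN
    have h1 : orderOf (QuotientGroup.mk g : G ⧸ N) = 2 := by
      have : Fact (Nat.Prime 2) := ⟨Nat.prime_two⟩
      apply orderOf_eq_prime
      · rw [← QuotientGroup.mk_pow, pow_two]
        exact (QuotientGroup.eq_one_iff _).mpr hgg
      · intro hc; exact hgN ((QuotientGroup.eq_one_iff _).mp hc)
    have h3 : (QuotientGroup.mk g : G ⧸ N) ∈ Subgroup.zpowers (QuotientGroup.mk u : G ⧸ N) :=
      mem_zpowers_of_orderOf_dvd (by rw [h1, h2])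
    obtain ⟨i, hi⟩ := Subgroup.mem_zpowers_iff.mp h3
    rcases zpow_of_sq_eq_one huu' i with h | h
    · exfalso
      rw [h] at hi
      exact hgN ((QuotientGroup.eq_one_iff _).mp hi.symm)
    · rw [h] at hi
      exact QuotientGroup.eq.mp hi
  -- `w ∈ N`
  have hwN : w ∈ N := by
    have h1 := huniq v (by rw [hvv]; exact N.one_mem) hvN
    rw [huinv, hab u hu v hvR, ← hwdef] at h1
    exact h1
  -- `t` fixes `w`
  have htw : t * w * t⁻¹ = w := by
    calc t * w * t⁻¹ = (t * v * t⁻¹) * (t * u * t⁻¹) := by rw [hwdef]; group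
      _ = u * v := by rw [htvu, ← hvdef]
      _ = w := by rw [hwdef, hab u hu v hvR]
  -- every element of `R ⊓ N` is `1` or `w`
  have hRN : ∀ x ∈ R, x ∈ N → x = 1 ∨ x = w := fun x hxR hxN =>
    eq_one_or_eq_of_sq_of_isCyclic N hwN hw1 hww hxN (hexp x hxR)
  -- `t² ∈ N`
  have httN : t * t ∈ N := by
    by_contra hnot
    have hsq : (t * t) * (t * t) ∈ N := by rw [hexp _ ht2]; exact N.one_mem
    have h1 := huniq (t * t) hsq hnot
    rw [huinv] at h1
    -- `n₀ = u t²` lies in `R ⊓ N`
    have hn0R : u * (t * t) ∈ R := R.mul_mem hu ht2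
    have hfix : t * (u * (t * t)) * t⁻¹ = u * (t * t) := by
      rcases hRN _ hn0R h1 with h | h
      · rw [h]; group
      · rw [h]; exact htw
    have h3 : t * (u * (t * t)) * t⁻¹ = v * (t * t) := by
      rw [hvdef]; group
    rw [h3] at hfix
    exact hvu (mul_right_cancel hfix)
  have htt2 : (t * t) * (t * t) = 1 := hexp _ ht2
  -- `t` does not commute with `u`
  have htu : t * u ≠ u * t := by
    intro h
    apply hmove
    rw [h]; group
  have hRcomm : ∀ x ∈ R, x * u = u * x := fun x hx => hab x hx u hu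
  rcases Classical.em (t ∈ N) with htN' | htN'
  · -- `c = t`
    have ht2ne : t * t ≠ 1 := by
      intro h
      rcases eq_one_or_eq_of_sq_of_isCyclic N hwN hw1 hww htN' h with h' | h'
      · apply htu; rw [h']; group
      · apply htu; rw [h']; exact hRcomm w hwR
    have hc4 : orderOf t = 4 := by
      have : Fact (Nat.Prime 2) := ⟨Nat.prime_two⟩
      have h1 : ¬ t ^ 2 ^ 1 = 1 := by
        rw [pow_one, pow_two]; exact ht2ne
      have h2' : t ^ 2 ^ (1 + 1) = 1 := by
        have : t ^ 2 ^ (1 + 1) = (t * t) * (t * t) := by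
          norm_num [pow_succ]
          group
        rw [this]; exact htt2
      have := orderOf_eq_prime_pow h1 h2'
      rw [this]; norm_num
    refine meta_struct hG N hQ huN (by rw [huu]; exact N.one_mem) htN' hc4 ?_
    intro h
    apply htu
    calc t * u = (u * t * u⁻¹) * u := by rw [h]
      _ = u * t := by group
  · -- `c = u t`
    have hcN : u * t ∈ N := by
      have := huniq t httN htN'
      rwa [huinv] at this
    have hcc : (u * t) * (u * t) = w * (t * t) := by
      calc (u * t) * (u * t) = u * (t * u * t⁻¹) * (t * t) := by group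
        _ = u * v * (t * t) := by rw [← hvdef]
        _ = w * (t * t) := by rw [hwdef, hab u hu v hvR]
    have hccR : (u * t) * (u * t) ∈ R := by rw [hcc]; exact R.mul_mem hwR ht2
    have hc2ne : (u * t) * (u * t) ≠ 1 := by
      intro h
      have htR : t ∈ R := by
        rcases eq_one_or_eq_of_sq_of_isCyclic N hwN hw1 hww hcN h with h' | h'
        · have : t = u⁻¹ * (u * t) := by group
          rw [this, h', mul_one]
          exact R.inv_mem hu
        · have : t = u⁻¹ * (u * t) := by group
          rw [this, h']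
          exact R.mul_mem (R.inv_mem hu) hwR
      exact htu (hRcomm t htR)
    have hc4 : orderOf (u * t) = 4 := by
      have : Fact (Nat.Prime 2) := ⟨Nat.prime_two⟩
      have h1 : ¬ (u * t) ^ 2 ^ 1 = 1 := by
        rw [pow_one, pow_two]; exact hc2ne
      have h2' : (u * t) ^ 2 ^ (1 + 1) = 1 := by
        have : (u * t) ^ 2 ^ (1 + 1) = ((u * t) * (u * t)) * ((u * t) * (u * t)) := by
          norm_num [pow_succ]
          group
        rw [this]; exact hexp _ hccR
      have := orderOf_eq_prime_pow h1 h2'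
      rw [this]; norm_num
    refine meta_struct hG N hQ huN (by rw [huu]; exact N.one_mem) hcN hc4 ?_
    intro h
    apply htu
    have h1 : u * (u * t) * u⁻¹ = t * u := by
      rw [huinv]
      calc u * (u * t) * u = (u * u) * t * u := by group
        _ = t * u := by rw [huu, one_mul]
    rw [h1] at h
    exact h

end moved

end Cfsg.Agent.Lib.Helper89
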