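import Mathlib
import Cfsg.Prelude.Def_FusionSystem
import Cfsg.Agent.Lib.Helper89.FusionAut

set_option autoImplicit false

namespace Cfsg.Agent.Lib.Helper89

open Cfsg Cfsg.FusionSystem

/-- the isomorphism `A × A ≃ (Fin 2 → A)` on the multiplicative side -/
def prodFinTwo (A : Type*) [AddGroup A] :
    Multiplicative A × Multiplicative A ≃* Multiplicative (Fin 2 → A) where
  toFun x := Multiplicative.ofAdd ![Multiplicative.toAdd x.1, Multiplicative.toAdd x.2]
  invFun f := (Multiplicative.ofAdd (Multiplicative.toAdd f 0),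
    Multiplicative.ofAdd (Multiplicative.toAdd f 1))
  left_inv x := by
    apply Prod.ext <;> rfl
  right_inv f := by
    apply Multiplicative.toAdd.injective
    funext i
    fin_cases i <;> rfl
  map_mul' x y := by
    apply Multiplicative.toAdd.injective
    funext i
    fin_cases i <;> rfl

theorem zmod_two_pow_add_self {n : ℕ} (hn : n = 1) (a : ZMod (2 ^ n)) : a + a = 0 := by
  subst hn
  have h : ((2 ^ 1 : ℕ) : ZMod (2 ^ 1)) = 0 := ZMod.natCast_self _
  have h2 : a + a = ((2 ^ 1 : ℕ) : ZMod (2 ^ 1)) * a := by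
    push_cast
    ring
  rw [h2, h, zero_mul]

theorem zmod_two_pow_exists_half {n : ℕ} (hn : 2 ≤ n) (a : ZMod (2 ^ n)) (ha : a + a = 0) :
    ∃ c : ZMod (2 ^ n), c + c = a := by
  have : NeZero (2 ^ n) := ⟨by positivity⟩
  have h1 : ((2 * a.val : ℕ) : ZMod (2 ^ n)) = 0 := by
    push_cast
    rw [ZMod.natCast_zmod_val, two_mul]
    exact ha
  have h2 : 2 ^ n ∣ 2 * a.val := (ZMod.natCast_eq_zero_iff _ _).mp h1
  have h3 : 2 ^ (n - 1) ∣ a.val := by
    have : (2 ^ n : ℕ) = 2 * 2 ^ (n - 1) := by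
      rw [← pow_succ']; congr 1; omega
    have h2' : 2 * 2 ^ (n - 1) ∣ 2 * a.val := (dvd_of_eq this.symm).trans h2
    exact Nat.dvd_of_mul_dvd_mul_left (by norm_num) h2'
  obtain ⟨k, hk⟩ := h3
  have h4 : (2 ^ (n - 1) : ℕ) = 2 * 2 ^ (n - 2) := by
    rw [← pow_succ']; congr 1; omega
  refine ⟨((2 ^ (n - 2) * k : ℕ) : ZMod (2 ^ n)), ?_⟩
  have h5 : a = ((a.val : ℕ) : ZMod (2 ^ n)) := (ZMod.natCast_zmod_val a).symm
  rw [h5, hk, h4]
  push_cast
  ring

section fusion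

variable {Ω : Type*} [Group Ω] {S : Subgroup Ω}

theorem exists_normalizer_sq_mem [Finite S] (hS : IsPGroup 2 S) {P : Subgroup Ω} (hP : P ≤ S)
    (hne : P ≠ S) : ∃ t ∈ normalizerIn S P, t ∉ P ∧ t * t ∈ P := by
  have : Fact (Nat.Prime 2) := ⟨Nat.prime_two⟩
  obtain ⟨g, hgN, hgP⟩ := exists_mem_normalizerIn_not_mem hS hP hne
  have hgS : g ∈ S := hgN.1
  obtain ⟨k, hk⟩ := hS ⟨g, hgS⟩
  have hex : ∃ j, g ^ (2 ^ j) ∈ P := by
    refine ⟨k, ?_⟩
    have := congrArg Subtype.val hk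
    simp only [Subgroup.coe_pow, Subgroup.coe_one] at this
    rw [this]
    exact P.one_mem
  classical
  have hj : g ^ (2 ^ (Nat.find hex)) ∈ P := Nat.find_spec hex
  have hj0 : Nat.find hex ≠ 0 := by
    intro h
    rw [h] at hj
    simp only [pow_zero, pow_one] at hj
    exact hgP hj
  obtain ⟨j', hj'⟩ := Nat.exists_eq_succ_of_ne_zero hj0
  refine ⟨g ^ (2 ^ j'), (normalizerIn S P).pow_mem hgN _, ?_, ?_⟩
  · exact Nat.find_min hex (by omega : j' < Nat.find hex)
  · rw [← pow_add, ← two_mul, ← pow_succ']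
    rw [hj'] at hj
    exact hj

end fusion

end Cfsg.Agent.Lib.Helper89
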