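import Mathlib
import Cfsg.Agent.Lib.Helper05.N3Defs
import Cfsg.Agent.Lib.Helper74.EqualOrder

/-!
# K-N3-C4b (keystone 400412, architect helper5): `sylow_card_prime`

Instead of the norm trick we use `Cfsg.Agent.Lib.Helper74.cyclic_or_quaternion_of_fpf` (a form of `S0040`):
a Sylow `r'`-subgroup acts fixed point freely on `V`, so it is cyclic or generalized quaternion; all its
nonidentity elements have order `r'`.
-/

set_option autoImplicit false

namespace Cfsg.Agent.Lib.Helper89.N3

theorem sylow_card_prime {G : Type*} [Group G] [Finite G] (r r' : ℕ) (hr : r.Prime) [Fact r'.Prime] (hrr : r ≠ r')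
    (hord : ∀ g : G, orderOf g = 1 ∨ orderOf g = r ∨ orderOf g = r')
    (V : Subgroup G) (hVn : V.Normal) (hV : V ≠ ⊥) (hVr : IsPGroup r V) (hVc : ∀ a ∈ V, ∀ b ∈ V, a * b = b * a)
    (hr' : r' ∣ Nat.card G) (Q : Sylow r' G) : Nat.card Q = r' := by
  haveI : Fact r.Prime := ⟨hr⟩
  haveI := hVn
  have hr'p : r'.Prime := Fact.out
  have hr2 : 2 ≤ r := hr.two_le
  have hr'2 : 2 ≤ r' := hr'p.two_le
  -- a prime power `p ^ k` that is `1`, `r` or `r'`
  have hpow : ∀ (p p' : ℕ), p.Prime → p'.Prime → p ≠ p' → ∀ k : ℕ, p ^ k ≠ 1 →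
      (p ^ k = 1 ∨ p ^ k = p' ∨ p ^ k = p) → p ^ k = p := by
    intro p p' hp hp' hne k hk1 h
    rcases h with h | h | h
    · exact absurd h hk1
    · exfalso
      have hk0 : k ≠ 0 := by
        rintro rfl
        exact hk1 (pow_zero p)
      have : p ∣ p' := by
        rw [← h]
        exact dvd_pow_self p hk0
      exact hne ((Nat.prime_dvd_prime_iff_eq hp hp').mp this)
    · exact h
  -- orders of the nonidentity elements of `Q` and of `V`
  have hQord : ∀ h ∈ (Q : Subgroup G), h ≠ 1 → orderOf h = r' := by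
    intro h hh h1
    obtain ⟨k, hk⟩ := (IsPGroup.iff_orderOf.mp Q.isPGroup') ⟨h, hh⟩
    have hk' : orderOf h = r' ^ k := by
      rw [← hk]
      exact (Subgroup.orderOf_mk h hh).symm
    have hne1 : r' ^ k ≠ 1 := by
      rw [← hk']
      exact fun h0 => h1 (orderOf_eq_one_iff.mp h0)
    have := hpow r' r hr'p hr (Ne.symm hrr) k hne1 (by
      rw [← hk']
      rcases hord h with h0 | h0 | h0
      · exact Or.inl h0
      · exact Or.inr (Or.inl h0)
      · exact Or.inr (Or.inr h0))
    rw [hk', this]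
  have hVord : ∀ v ∈ V, v ≠ 1 → orderOf v = r := by
    intro v hv v1
    obtain ⟨k, hk⟩ := (IsPGroup.iff_orderOf.mp hVr) ⟨v, hv⟩
    have hk' : orderOf v = r ^ k := by
      rw [← hk]
      exact (Subgroup.orderOf_mk v hv).symm
    have hne1 : r ^ k ≠ 1 := by
      rw [← hk']
      exact fun h0 => v1 (orderOf_eq_one_iff.mp h0)
    have := hpow r r' hr hr'p hrr k hne1 (by
      rw [← hk']
      rcases hord v with h0 | h0 | h0
      · exact Or.inl h0
      · exact Or.inr (Or.inr h0)
      · exact Or.inr (Or.inl h0))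
    rw [hk', this]
  -- fixed point freeness
  have hfpf : ∀ h ∈ (Q : Subgroup G), h ≠ 1 → V ⊓ Subgroup.centralizer {h} = ⊥ := by
    intro h hh h1
    rw [eq_bot_iff]
    rintro v ⟨hvV, hvC⟩
    rw [Subgroup.mem_bot]
    by_contra v1
    have hov := hVord v hvV v1
    have hoh := hQord h hh h1
    have hcomm : Commute h v := by
      have := (Subgroup.mem_centralizer_iff.mp hvC) h (Set.mem_singleton h)
      exact this
    have hcop : (orderOf h).Coprime (orderOf v) := by
      rw [hov, hoh]
      exact (Nat.coprime_primes hr'p hr).mpr (Ne.symm hrr)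
    have hmul := hcomm.orderOf_mul_eq_mul_orderOf_of_coprime hcop
    rw [hov, hoh] at hmul
    rcases hord (h * v) with h0 | h0 | h0 <;> rw [hmul] at h0 <;> nlinarith
  have hQne : (Q : Subgroup G) ≠ ⊥ := Q.ne_bot_of_dvd_card hr'
  have hcard1 : Nat.card (Q : Subgroup G) ≠ 1 := fun h => hQne (Subgroup.card_eq_one.mp h)
  rcases Cfsg.Agent.Lib.Helper74.cyclic_or_quaternion_of_fpf V (Q : Subgroup G) hV r r' hrr hVr
    Q.isPGroup' hfpf with hcyc | ⟨n, ⟨e⟩⟩
  · -- cyclic
    obtain ⟨g, hg⟩ := hcyc.exists_generator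
    have hog : orderOf g = Nat.card (Q : Subgroup G) := orderOf_eq_card_of_forall_mem_zpowers hg
    have hg1 : (g : G) ≠ 1 := by
      intro h
      have : g = 1 := Subtype.ext h
      rw [this, orderOf_one] at hog
      exact hcard1 hog.symm
    have := hQord (g : G) g.2 hg1
    rw [Subgroup.orderOf_coe, hog] at this
    exact this
  · -- generalized quaternion: an element of order `4`
    exfalso
    haveI : NeZero (2 ^ n) := ⟨pow_ne_zero n two_ne_zero⟩
    set x : (Q : Subgroup G) := e.symm (QuaternionGroup.xa 0) with hx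
    have hox : orderOf x = 4 := by
      rw [hx, MulEquiv.orderOf_eq, QuaternionGroup.orderOf_xa]
    have hx1 : (x : G) ≠ 1 := by
      intro h
      have : x = 1 := Subtype.ext h
      rw [this, orderOf_one] at hox
      omega
    have h4 := hQord (x : G) x.2 hx1
    rw [Subgroup.orderOf_coe, hox] at h4
    rw [← h4] at hr'p
    exact absurd hr'p (by decide)

end Cfsg.Agent.Lib.Helper89.N3
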