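import Mathlib
import Cfsg.Agent.Lib.Helper22.NseDefs

/-!
# K-NSE-C5a (keystone 343107, architect helper22): `a5_basic` (parallel hand)
-/

set_option autoImplicit false

namespace Cfsg.Agent.Lib.Helper89.Nse

open Cfsg.Agent.Lib.Helper22.Nse

/-- values at `m ≥ 3` are even, hence `0`, `20` or `24` -/
theorem c5a_val {N : ℕ} {S : ℕ → ℕ} (H : NseHyp N S {1, 15, 20, 24}) (m : ℕ) (hm : 3 ≤ m) :
    S m = 0 ∨ S m = 20 ∨ S m = 24 := by
  by_cases h0 : S m = 0
  · exact Or.inl h0
  have hmem := H.mem m h0
  have hev : Even (Nat.totient m) := Nat.totient_even (by omega)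
  have h2 : 2 ∣ S m := dvd_trans (even_iff_two_dvd.mp hev) (H.phi m)
  simp only [Finset.mem_insert, Finset.mem_singleton] at hmem
  rcases hmem with h | h | h | h
  · rw [h] at h2; omega
  · rw [h] at h2; omega
  · exact Or.inr (Or.inl h)
  · exact Or.inr (Or.inr h)

/-- Frobenius at a prime -/
theorem c5a_frob_prime {N : ℕ} {S : ℕ → ℕ} {V : Finset ℕ} (H : NseHyp N S V) (p : ℕ) (hp : p.Prime)
    (hpN : p ∣ N) : p ∣ 1 + S p := by
  have h := H.frob p hpN
  rw [Nat.Prime.sum_divisors hp, H.one] at h
  rw [add_comm]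
  exact h

theorem a5_basic {N : ℕ} {S : ℕ → ℕ} (H : NseHyp N S {1, 15, 20, 24}) : A5Basic N S := by
  have hval := c5a_val H
  have h3 : 3 ∣ N → S 3 = 20 := by
    intro h
    have hne : S 3 ≠ 0 := H.cauchy 3 (by norm_num) h
    have hf := c5a_frob_prime H 3 (by norm_num) h
    rcases hval 3 le_rfl with h0 | h0 | h0
    · exact absurd h0 hne
    · exact h0
    · rw [h0] at hf; omega
  have h5 : 5 ∣ N → S 5 = 24 := by
    intro h
    have hne : S 5 ≠ 0 := H.cauchy 5 (by norm_num) h
    have hf := c5a_frob_prime H 5 (by norm_num) h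
    rcases hval 5 (by norm_num) with h0 | h0 | h0
    · exact absurd h0 hne
    · rw [h0] at hf; omega
    · exact h0
  refine ⟨?_, hval, h3, h5, ?_⟩
  · -- `S 2 = 15`
    obtain ⟨m, hm⟩ := H.attained 15 (by decide)
    have hm0 : m ≠ 0 := by
      rintro rfl
      have := H.dvd 0 (by omega)
      have hpos := H.pos
      rw [Nat.zero_dvd] at this
      omega
    have hm1 : m ≠ 1 := by
      rintro rfl
      have := H.one
      omega
    have hm3 : ¬ 3 ≤ m := by
      intro h3m
      rcases hval m h3m with h0 | h0 | h0 <;> omega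
    have : m = 2 := by omega
    rw [← this]
    exact hm
  · -- primes
    intro p hp hpN
    by_cases hp2 : p = 2
    · exact Or.inl hp2
    have hp3 : 3 ≤ p := by
      have := hp.two_le
      omega
    have hne : S p ≠ 0 := H.cauchy p hp hpN
    have hf := c5a_frob_prime H p hp hpN
    have hphi : p - 1 ∣ S p := by
      have := H.phi p
      rwa [Nat.totient_prime hp] at this
    rcases hval p hp3 with h0 | h0 | h0
    · exact absurd h0 hne
    · -- `p ∣ 21`, `p - 1 ∣ 20`
      rw [h0] at hf hphi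
      have h21 : p ∣ 3 * 7 := by simpa using hf
      rcases (Nat.Prime.dvd_mul hp).mp h21 with h | h
      · exact Or.inr (Or.inl ((Nat.prime_dvd_prime_iff_eq hp (by norm_num)).mp h))
      · have : p = 7 := (Nat.prime_dvd_prime_iff_eq hp (by norm_num)).mp h
        subst this
        omega
    · -- `p ∣ 25`
      rw [h0] at hf
      have h25 : p ∣ 5 * 5 := by simpa using hf
      rcases (Nat.Prime.dvd_mul hp).mp h25 with h | h
      · exact Or.inr (Or.inr ((Nat.prime_dvd_prime_iff_eq hp (by norm_num)).mp h))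
      · exact Or.inr (Or.inr ((Nat.prime_dvd_prime_iff_eq hp (by norm_num)).mp h))

end Cfsg.Agent.Lib.Helper89.Nse
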