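import Mathlib
import Cfsg.Agent.Lib.Helper22.NseDefs

/-!
# K-NSE-C6c (keystone 343111, architect helper22): `a6_five`
-/

set_option autoImplicit false

namespace Cfsg.Agent.Lib.Helper89.Nse

open Cfsg.Agent.Lib.Helper22.Nse

/-- a number all of whose prime divisors are 2 or 3 is `2 ^ a * 3 ^ b` -/
theorem eq_two_pow_mul_three_pow {N : ℕ} (hN : 0 < N)
    (hp : ∀ p, p.Prime → p ∣ N → p = 2 ∨ p = 3) : ∃ a b : ℕ, N = 2 ^ a * 3 ^ b := by
  obtain ⟨a, m, hm, rfl⟩ := Nat.exists_eq_two_pow_mul_odd hN.ne'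
  have hm0 : m ≠ 0 := by
    rintro rfl
    simp at hN
  obtain ⟨b, r, hr, rfl⟩ := Nat.exists_eq_pow_mul_and_not_dvd hm0 3 (by norm_num)
  refine ⟨a, b, ?_⟩
  have hr1 : r = 1 := by
    by_contra hne
    obtain ⟨q, hq, hqr⟩ := Nat.exists_prime_and_dvd hne
    have hqN : q ∣ 2 ^ a * (3 ^ b * r) :=
      Dvd.dvd.mul_left (Dvd.dvd.mul_left hqr _) _
    rcases hp q hq hqN with rfl | rfl
    · have : 2 ∣ 3 ^ b * r := Dvd.dvd.mul_left hqr _
      exact (Nat.not_even_iff_odd.mpr hm) (even_iff_two_dvd.mpr this)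
    · exact hr hqr
  rw [hr1, mul_one]

theorem a6_five {N : ℕ} {S : ℕ → ℕ} (H : NseHyp N S {1, 45, 80, 90, 144}) (B : A6Basic N S)
    (P : A6Parts N S) : 5 ∣ N := by
  by_contra h5
  -- `N = 2 ^ a * 3 ^ b`
  obtain ⟨a, b, hab⟩ := eq_two_pow_mul_three_pow H.pos (fun p hp hpN => by
    rcases B.primes p hp hpN with rfl | rfl | rfl | rfl
    · exact Or.inl rfl
    · exact Or.inr rfl
    · exact absurd hpN h5
    · exact absurd hpN P.not7)
  have ha : a ≤ 3 := by
    by_contra hlt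
    have hlt := Nat.lt_of_not_le hlt
    apply P.not16
    rw [hab]
    exact Dvd.dvd.mul_right (pow_dvd_pow 2 hlt) _
  have hb : b ≤ 4 := by
    by_contra hlt
    have hlt := Nat.lt_of_not_le hlt
    apply P.not243
    rw [hab]
    exact Dvd.dvd.mul_left (pow_dvd_pow 3 hlt) _
  -- `360 ≤ N`
  obtain ⟨m3, hm3⟩ := H.attained 80 (by decide)
  obtain ⟨m4, hm4⟩ := H.attained 90 (by decide)
  obtain ⟨m5, hm5⟩ := H.attained 144 (by decide)
  have h1 : S 1 = 1 := H.one
  have h2 : S 2 = 45 := B.two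
  have hN360 : 360 ≤ N := by
    have hsub : ({1, 2, m3, m4, m5} : Finset ℕ) ⊆ N.divisors := by
      intro x hx
      simp only [Finset.mem_insert, Finset.mem_singleton] at hx
      rw [Nat.mem_divisors]
      refine ⟨?_, H.pos.ne'⟩
      apply H.dvd
      rcases hx with rfl | rfl | rfl | rfl | rfl <;> omega
    have hle := Finset.sum_le_sum_of_subset (f := S) hsub
    rw [← H.total] at hle
    have hne12 : (1 : ℕ) ≠ 2 := by decide
    have h13 : (1 : ℕ) ≠ m3 := by rintro rfl; omega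
    have h14 : (1 : ℕ) ≠ m4 := by rintro rfl; omega
    have h15 : (1 : ℕ) ≠ m5 := by rintro rfl; omega
    have h23 : (2 : ℕ) ≠ m3 := by rintro rfl; omega
    have h24 : (2 : ℕ) ≠ m4 := by rintro rfl; omega
    have h25 : (2 : ℕ) ≠ m5 := by rintro rfl; omega
    have h34 : m3 ≠ m4 := by rintro rfl; omega
    have h35 : m3 ≠ m5 := by rintro rfl; omega
    have h45 : m4 ≠ m5 := by rintro rfl; omega
    rw [Finset.sum_insert (by simp [hne12, h13, h14, h15]),
      Finset.sum_insert (by simp [h23, h24, h25]),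
      Finset.sum_insert (by simp [h34, h35]),
      Finset.sum_insert (by simp [h45]), Finset.sum_singleton] at hle
    omega
  -- `N = 648`
  have hN : N = 648 := by
    interval_cases a <;> interval_cases b <;> omega
  have h27 : 27 ∣ N := by rw [hN]; norm_num
  have h3 : S 3 = 80 := B.three (by rw [hN]; norm_num)
  have h9 : S 9 = 0 := P.nine h27
  have hz : ∀ m, 9 ∣ m → S m = 0 := by
    intro m hm
    by_contra hne
    exact H.closed m 9 hne hm h9
  have h18 : S 18 = 0 := hz 18 (by norm_num)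
  have h27' : S 27 = 0 := hz 27 (by norm_num)
  have h54 : S 54 = 0 := hz 54 (by norm_num)
  have h81 : S 81 = 0 := hz 81 (by norm_num)
  have h162 : S 162 = 0 := hz 162 (by norm_num)
  have hd54 : Nat.divisors 54 = {1, 2, 3, 6, 9, 18, 27, 54} := by decide
  have hd162 : Nat.divisors 162 = {1, 2, 3, 6, 9, 18, 27, 54, 81, 162} := by decide
  have hf54 := H.frob 54 (by rw [hN]; norm_num)
  have hf162 := H.frob 162 (by rw [hN]; norm_num)
  rw [hd54] at hf54
  rw [hd162] at hf162
  simp [Finset.sum_insert, h1, h2, h3, h9, h18, h27', h54, h81, h162] at hf54 hf162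
  rcases B.val 6 (by norm_num) with h6 | h6 | h6 | h6 <;> rw [h6] at hf54 hf162 <;> omega

end Cfsg.Agent.Lib.Helper89.Nse
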