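import Mathlib
import Cfsg.Agent.Lib.Helper22.NseDefs
import Cfsg.Agent.Lib.Helper89.NseC6c

/-!
# K-NSE-C5b (keystone 343108, architect helper22): `arith_A5` (parallel hand, structured route)
-/

set_option autoImplicit false

namespace Cfsg.Agent.Lib.Helper89.Nse

open Cfsg.Agent.Lib.Helper22.Nse

section
variable {N : ℕ} {S : ℕ → ℕ}

theorem c5b_frob {V : Finset ℕ} (H : NseHyp N S V) (m : ℕ) (l : List ℕ)
    (hl : Nat.divisors m = l.toFinset) (hnd : l.Nodup) (hm : m ∣ N) : m ∣ (l.map S).sum := by
  have h := H.frob m hm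
  rwa [hl, List.sum_toFinset S hnd] at h

theorem c5b_total {V : Finset ℕ} (H : NseHyp N S V) (l : List ℕ)
    (hl : Nat.divisors N = l.toFinset) (hnd : l.Nodup) : N = (l.map S).sum := by
  have h := H.total
  rwa [hl, List.sum_toFinset S hnd] at h

theorem c5b_zero_of_dvd {V : Finset ℕ} (H : NseHyp N S V) {d m : ℕ} (hd : S d = 0) (hdm : d ∣ m) :
    S m = 0 := by
  by_contra h
  exact H.closed m d h hdm hd

theorem c5b_le (B : A5Basic N S) (m : ℕ) (hm : 3 ≤ m) : S m ≤ 24 := by
  rcases B.val m hm with h | h | h <;> omega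

theorem c5b_phi_zero {V : Finset ℕ} (H : NseHyp N S V) (B : A5Basic N S) (m : ℕ) (hm : 3 ≤ m)
    (h20 : ¬ Nat.totient m ∣ 20) (h24 : ¬ Nat.totient m ∣ 24) : S m = 0 := by
  have hphi := H.phi m
  rcases B.val m hm with h | h | h
  · exact h
  · rw [h] at hphi; exact absurd hphi h20
  · rw [h] at hphi; exact absurd hphi h24

/-- the spectrum is inside `{1, 2, 3, 5}` once the six "products of two primes" are excluded -/
theorem c5b_spec {V : Finset ℕ} (H : NseHyp N S V) (B : A5Basic N S) (h4 : S 4 = 0) (h6 : S 6 = 0)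
    (h10 : S 10 = 0) (h15 : S 15 = 0) (h9 : S 9 = 0) (h25 : S 25 = 0) (d : ℕ) (hd : S d ≠ 0) :
    d = 1 ∨ d = 2 ∨ d = 3 ∨ d = 5 := by
  have hdN : d ∣ N := H.dvd d hd
  by_cases hd1 : d = 1
  · exact Or.inl hd1
  obtain ⟨p, hp, hpd⟩ := Nat.exists_prime_and_dvd hd1
  have hp' := B.primes p hp (dvd_trans hpd hdN)
  obtain ⟨e, rfl⟩ := hpd
  by_cases he1 : e = 1
  · subst he1
    rw [mul_one]
    exact Or.inr hp'
  exfalso
  obtain ⟨q, hq, hqe⟩ := Nat.exists_prime_and_dvd he1
  have hq' := B.primes q hq (dvd_trans (Dvd.dvd.mul_left hqe p) hdN)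
  have hpq : S (p * q) ≠ 0 := H.closed _ _ hd (mul_dvd_mul_left p hqe)
  rcases hp' with rfl | rfl | rfl <;> rcases hq' with rfl | rfl | rfl <;> norm_num at hpq <;>
    contradiction

end

theorem arith_A5 {N : ℕ} {S : ℕ → ℕ} (H : NseHyp N S {1, 15, 20, 24}) (hs : SylowHyp N S)
    (B : A5Basic N S) : N = 60 ∧ S 3 = 20 ∧ S 5 = 24 ∧ ∀ m, S m ≠ 0 → m ≤ 5 := by
  have h1 : S 1 = 1 := H.one
  have h2 : S 2 = 15 := B.two
  have hN2 : 2 ∣ N := H.dvd 2 (by omega)
  have hNpos : 0 < N := H.pos
  -- Step 1: `¬ 25 ∣ N`
  have hn25 : ¬ 25 ∣ N := by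
    intro h25
    have h5N : 5 ∣ N := by omega
    have h5 := B.five h5N
    have hf := c5b_frob H 25 [1, 5, 25] (by decide) (by decide) h25
    simp only [List.map, List.sum_cons, List.sum_nil] at hf
    have h25z : S 25 = 0 := by
      rcases B.val 25 (by norm_num) with h | h | h <;> omega
    have h50z : S 50 = 0 := c5b_zero_of_dvd H h25z (by norm_num)
    have hf50 := c5b_frob H 50 [1, 2, 5, 10, 25, 50] (by decide) (by decide) (by omega)
    simp only [List.map, List.sum_cons, List.sum_nil] at hf50
    rcases B.val 10 (by norm_num) with h | h | h <;> omega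
  -- Step 2: `¬ 27 ∣ N`
  have hn27 : ¬ 27 ∣ N := by
    intro h27
    have h3 := B.three (by omega)
    have h27z : S 27 = 0 := c5b_phi_zero H B 27 (by norm_num) (by decide) (by decide)
    have hf := c5b_frob H 27 [1, 3, 9, 27] (by decide) (by decide) h27
    simp only [List.map, List.sum_cons, List.sum_nil] at hf
    rcases B.val 9 (by norm_num) with h | h | h <;> omega
  -- Step 3: Sylow consequences
  have key5 : 5 ∣ N → 3 ∣ N := by
    intro h5N
    have h5 := B.five h5N
    obtain ⟨n, hn1, -, hn3⟩ := hs 5 1 (by norm_num) (by norm_num) (by rw [pow_one]; exact h5N)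
      (by norm_num; exact hn25) (by rw [pow_one]; omega)
    rw [pow_one, Nat.totient_prime (by norm_num)] at hn1
    norm_num at hn1
    have : n = 6 := by omega
    subst this
    omega
  have key3 : 3 ∣ N → ¬ 9 ∣ N → 5 ∣ N := by
    intro h3N h9N
    have h3 := B.three h3N
    obtain ⟨n, hn1, -, hn3⟩ := hs 3 1 (by norm_num) (by norm_num) (by rw [pow_one]; exact h3N)
      (by norm_num; exact h9N) (by rw [pow_one]; omega)
    rw [pow_one, Nat.totient_prime (by norm_num)] at hn1
    norm_num at hn1
    have : n = 10 := by omega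
    subst this
    omega
  -- Step 4: the case `9 ∣ N`
  have key9 : 9 ∣ N → S 3 = 20 ∧ S 9 = 24 ∧ S 6 = 24 ∧ S 18 = 24 := by
    intro h9N
    have h3 := B.three (by omega)
    have hf := c5b_frob H 9 [1, 3, 9] (by decide) (by decide) h9N
    simp only [List.map, List.sum_cons, List.sum_nil] at hf
    have h9 : S 9 = 24 := by
      rcases B.val 9 (by norm_num) with h | h | h <;> omega
    have hf18 := c5b_frob H 18 [1, 2, 3, 6, 9, 18] (by decide) (by decide) (by omega)
    simp only [List.map, List.sum_cons, List.sum_nil] at hf18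
    have h6v := B.val 6 (by norm_num)
    have h18v := B.val 18 (by norm_num)
    refine ⟨h3, h9, ?_, ?_⟩ <;> omega
  have hn9_of5 : 5 ∣ N → ¬ 9 ∣ N := by
    intro h5N h9N
    obtain ⟨h3, h9, -, -⟩ := key9 h9N
    have h5 := B.five h5N
    have hf15 := c5b_frob H 15 [1, 3, 5, 15] (by decide) (by decide) (by omega)
    simp only [List.map, List.sum_cons, List.sum_nil] at hf15
    have h15 : S 15 = 0 := by
      rcases B.val 15 (by norm_num) with h | h | h <;> omega
    have h45 : S 45 = 0 := c5b_zero_of_dvd H h15 (by norm_num)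
    have hf45 := c5b_frob H 45 [1, 3, 5, 9, 15, 45] (by decide) (by decide) (by omega)
    simp only [List.map, List.sum_cons, List.sum_nil] at hf45
    omega
  -- `60 ≤ N`
  obtain ⟨m3, hm3⟩ := H.attained 20 (by decide)
  obtain ⟨m5, hm5⟩ := H.attained 24 (by decide)
  have hN60 : 60 ≤ N := by
    have hsub : ({1, 2, m3, m5} : Finset ℕ) ⊆ N.divisors := by
      intro x hx
      simp only [Finset.mem_insert, Finset.mem_singleton] at hx
      rw [Nat.mem_divisors]
      refine ⟨?_, hNpos.ne'⟩
      apply H.dvd
      rcases hx with rfl | rfl | rfl | rfl <;> omega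
    have hle := Finset.sum_le_sum_of_subset (f := S) hsub
    rw [← H.total] at hle
    have h12 : (1 : ℕ) ≠ 2 := by decide
    have h13 : (1 : ℕ) ≠ m3 := by rintro rfl; omega
    have h15 : (1 : ℕ) ≠ m5 := by rintro rfl; omega
    have h23 : (2 : ℕ) ≠ m3 := by rintro rfl; omega
    have h25 : (2 : ℕ) ≠ m5 := by rintro rfl; omega
    have h35 : m3 ≠ m5 := by rintro rfl; omega
    rw [Finset.sum_insert (by simp [h12, h13, h15]), Finset.sum_insert (by simp [h23, h25]),
      Finset.sum_insert (by simp [h35]), Finset.sum_singleton] at hle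
    omega
  -- Step 5: `5 ∣ N`
  have h5N : 5 ∣ N := by
    by_contra h5
    obtain ⟨a, b, hab⟩ := eq_two_pow_mul_three_pow hNpos (fun p hp hpN => by
      rcases B.primes p hp hpN with rfl | rfl | rfl
      · exact Or.inl rfl
      · exact Or.inr rfl
      · exact absurd hpN h5)
    have h32z : S 32 = 0 := c5b_phi_zero H B 32 (by norm_num) (by decide) (by decide)
    have h48z : S 48 = 0 := c5b_phi_zero H B 48 (by norm_num) (by decide) (by decide)
    have h64z : S 64 = 0 := c5b_zero_of_dvd H h32z (by norm_num)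
    have h96z : S 96 = 0 := c5b_zero_of_dvd H h32z (by norm_num)
    have h128z : S 128 = 0 := c5b_zero_of_dvd H h32z (by norm_num)
    have h192z : S 192 = 0 := c5b_zero_of_dvd H h32z (by norm_num)
    have h288z : S 288 = 0 := c5b_zero_of_dvd H h32z (by norm_num)
    have h576z : S 576 = 0 := c5b_zero_of_dvd H h32z (by norm_num)
    have h144z : S 144 = 0 := c5b_zero_of_dvd H h48z (by norm_num)
    have l4 := c5b_le B 4 (by norm_num)
    have l8 := c5b_le B 8 (by norm_num)
    have l16 := c5b_le B 16 (by norm_num)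
    have l12 := c5b_le B 12 (by norm_num)
    have l24 := c5b_le B 24 (by norm_num)
    have l36 := c5b_le B 36 (by norm_num)
    have l72 := c5b_le B 72 (by norm_num)
    have hn128 : ¬ 128 ∣ N := by
      intro h128
      have hf := c5b_frob H 128 [1, 2, 4, 8, 16, 32, 64, 128] (by decide) (by decide) h128
      simp only [List.map, List.sum_cons, List.sum_nil] at hf
      omega
    have ha : a ≤ 6 := by
      by_contra hlt
      have hlt := Nat.lt_of_not_le hlt
      apply hn128
      rw [hab]
      exact Dvd.dvd.mul_right (pow_dvd_pow 2 hlt) _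
    have hb : b ≤ 2 := by
      by_contra hlt
      have hlt := Nat.lt_of_not_le hlt
      apply hn27
      rw [hab]
      exact Dvd.dvd.mul_left (pow_dvd_pow 3 hlt) _
    have hb1 : b ≠ 1 := by
      rintro rfl
      interval_cases a <;> exact h5 (key3 (by omega) (by omega))
    have h64 : N ≠ 64 := by
      intro hN
      have ht := H.total
      have hm3N : m3 ∣ N := H.dvd m3 (by omega)
      rw [hN] at ht hm3N
      have hmem : m3 ∈ Nat.divisors 64 := Nat.mem_divisors.mpr ⟨hm3N, by norm_num⟩
      have hd64 : Nat.divisors 64 = [1, 2, 4, 8, 16, 32, 64].toFinset := by decide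
      rw [hd64, List.sum_toFinset S (by decide)] at ht
      simp only [List.map, List.sum_cons, List.sum_nil] at ht
      rw [hd64] at hmem
      simp only [List.toFinset_cons, List.toFinset_nil, Finset.mem_insert, Finset.mem_singleton,
        insert_empty_eq] at hmem
      have v4 := B.val 4 (by norm_num)
      have v8 := B.val 8 (by norm_num)
      have v16 := B.val 16 (by norm_num)
      rcases hmem with rfl | rfl | rfl | rfl | rfl | rfl | rfl <;> omega
    have h9tot : ∀ l : List ℕ, Nat.divisors N = l.toFinset → l.Nodup → N = (l.map S).sum :=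
      fun l hl hnd => c5b_total H l hl hnd
    have h72 : N ≠ 72 := by
      intro hN
      obtain ⟨h3, h9, h6, h18⟩ := key9 (by omega)
      have ht := h9tot [1, 2, 3, 4, 6, 8, 9, 12, 18, 24, 36, 72] (by rw [hN]; decide) (by decide)
      simp only [List.map, List.sum_cons, List.sum_nil] at ht
      omega
    have h144 : N ≠ 144 := by
      intro hN
      obtain ⟨h3, h9, h6, h18⟩ := key9 (by omega)
      have ht := h9tot [1, 2, 3, 4, 6, 8, 9, 12, 16, 18, 24, 36, 48, 72, 144] (by rw [hN]; decide)
        (by decide)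
      simp only [List.map, List.sum_cons, List.sum_nil] at ht
      have v4 := B.val 4 (by norm_num)
      have v8 := B.val 8 (by norm_num)
      have v16 := B.val 16 (by norm_num)
      have v12 := B.val 12 (by norm_num)
      have v24 := B.val 24 (by norm_num)
      have v36 := B.val 36 (by norm_num)
      have v72 := B.val 72 (by norm_num)
      omega
    have h288 : N ≠ 288 := by
      intro hN
      obtain ⟨h3, h9, h6, h18⟩ := key9 (by omega)
      have ht := h9tot [1, 2, 3, 4, 6, 8, 9, 12, 16, 18, 24, 32, 36, 48, 72, 96, 144, 288]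
        (by rw [hN]; decide) (by decide)
      simp only [List.map, List.sum_cons, List.sum_nil] at ht
      omega
    have h576 : N ≠ 576 := by
      intro hN
      obtain ⟨h3, h9, h6, h18⟩ := key9 (by omega)
      have ht := h9tot [1, 2, 3, 4, 6, 8, 9, 12, 16, 18, 24, 32, 36, 48, 64, 72, 96, 144, 192, 288, 576]
        (by rw [hN]; decide) (by decide)
      simp only [List.map, List.sum_cons, List.sum_nil] at ht
      omega
    interval_cases a <;> interval_cases b <;> omega
  -- Step 6: the main branch
  have h3N : 3 ∣ N := key5 h5N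
  have hn9 : ¬ 9 ∣ N := hn9_of5 h5N
  have h3 : S 3 = 20 := B.three h3N
  have h5 : S 5 = 24 := B.five h5N
  have h9 : S 9 = 0 := by
    by_contra h
    exact hn9 (H.dvd 9 h)
  have h25 : S 25 = 0 := by
    by_contra h
    exact hn25 (H.dvd 25 h)
  have hf15 := c5b_frob H 15 [1, 3, 5, 15] (by decide) (by decide) (by omega)
  simp only [List.map, List.sum_cons, List.sum_nil] at hf15
  have h15 : S 15 = 0 := by
    rcases B.val 15 (by norm_num) with h | h | h <;> omega
  have h30 : S 30 = 0 := c5b_zero_of_dvd H h15 (by norm_num)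
  have hf30 := c5b_frob H 30 [1, 2, 3, 5, 6, 10, 15, 30] (by decide) (by decide) (by omega)
  simp only [List.map, List.sum_cons, List.sum_nil] at hf30
  have v6 := B.val 6 (by norm_num)
  have v10 := B.val 10 (by norm_num)
  have h6 : S 6 = 0 := by omega
  have h10 : S 10 = 0 := by omega
  have h12 : S 12 = 0 := c5b_zero_of_dvd H h6 (by norm_num)
  have h20 : S 20 = 0 := c5b_zero_of_dvd H h10 (by norm_num)
  have h4 : S 4 = 0 := by
    by_contra h4
    have h4N : 4 ∣ N := H.dvd 4 h4
    have hf12 := c5b_frob H 12 [1, 2, 3, 4, 6, 12] (by decide) (by decide) (by omega)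
    simp only [List.map, List.sum_cons, List.sum_nil] at hf12
    have hf20 := c5b_frob H 20 [1, 2, 4, 5, 10, 20] (by decide) (by decide) (by omega)
    simp only [List.map, List.sum_cons, List.sum_nil] at hf20
    rcases B.val 4 (by norm_num) with h | h | h <;> omega
  have hspec := c5b_spec H B h4 h6 h10 h15 h9 h25
  refine ⟨?_, h3, h5, ?_⟩
  · have hsub : ({1, 2, 3, 5} : Finset ℕ) ⊆ N.divisors := by
      intro x hx
      simp only [Finset.mem_insert, Finset.mem_singleton] at hx
      rw [Nat.mem_divisors]
      refine ⟨?_, hNpos.ne'⟩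
      rcases hx with rfl | rfl | rfl | rfl
      · exact one_dvd _
      · exact hN2
      · exact h3N
      · exact h5N
    have hsum := Finset.sum_subset (f := S) hsub (fun x _ hx => by
      by_contra hne
      apply hx
      simp only [Finset.mem_insert, Finset.mem_singleton]
      exact hspec x hne)
    rw [← H.total] at hsum
    rw [← hsum]
    simp [Finset.sum_insert, h1, h2, h3, h5]
  · intro m hm
    rcases hspec m hm with rfl | rfl | rfl | rfl <;> norm_num

end Cfsg.Agent.Lib.Helper89.Nse
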