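import Cfsg.Agent.Lib.Helper89.ChainNormal
import Cfsg.Agent.Lib.Helper89.OmegaFix

set_option autoImplicit false

namespace Cfsg.Agent.Lib.Helper89

open Cfsg Cfsg.FusionSystem Cfsg.Agent.Lib.Helper87
open scoped commutatorElement

variable {Ω : Type*} [Group Ω] {S : Subgroup Ω}

/-- The `Ω₁`-chain criterion for odd `p`: let `P` be strongly closed in `F` and `c` a chain of subgroups of `P`
starting at `⊥`, with `[c (k+1), P] ≤ c k`, each term being `S`-invariant and invariant under the `F`-automorphisms of the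
subgroups containing it, and such that some term contains all elements `x ∈ P` with `x ^ p = 1`.
Then `P` lies in every centric radical subgroup. -/
theorem le_of_centric_radical_of_omega_chain [Finite S] {p : ℕ} [Fact p.Prime] (hodd : p ≠ 2)
    (hS : IsPGroup p S) (F : FusionSystem S) {P : Subgroup Ω} (hP : F.StronglyClosed P)
    (c : ℕ → Subgroup Ω) (hc0 : c 0 = ⊥) (hmono : Monotone c) (hcP : ∀ k, c k ≤ P)
    (hcomm : ∀ k, ⁅c (k + 1), P⁆ ≤ c k) (hinv : ∀ k, ChainInv F (c k))
    (n : ℕ) (hom : ∀ x ∈ P, x ^ p = 1 → x ∈ c n)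
    {R : Subgroup Ω} (hcen : F.IsCentric R) (hrad : F.IsRadical p R) : P ≤ R := by
  have hRS : R ≤ S := hcen.1
  have : Finite R := finite_of_le hRS
  have hRp : IsPGroup p R := hS.to_le hRS
  have hPconj := Helper90.StronglyClosed.conj_mem F hP
  have hcR : ∀ k, c k ≤ R :=
    chain_le_of_centric_radical hS F hP c hc0 hmono hcP hcomm hinv hcen hrad
  by_contra hnot
  obtain ⟨d, hdP, hdN, hdR⟩ := Helper90.exists_normalizer_not_mem hS hP.1 hRS hPconj hnot
  have hdS : d ∈ S := hP.1 hdP
  -- the two chains in `R`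
  let ch1 : ℕ → Subgroup R := fun m => (c m).subgroupOf R
  have hch1mono : Monotone ch1 := fun a b hab => Subgroup.comap_mono (hmono hab)
  let ch2 : ℕ → Subgroup R := fun m => if m = 0 then P.subgroupOf R else ⊤
  have hch2zero : ch2 0 = P.subgroupOf R := by simp only [ch2, if_true]
  have hch2succ : ∀ m, ch2 (m + 1) = ⊤ := fun m => by
    have : ¬ (m + 1 = 0) := by omega
    simp only [ch2, if_neg this]
  have hch2mono : Monotone ch2 := by
    apply monotone_nat_of_le_succ
    intro m
    rw [hch2succ]; exact le_top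
  let X : Subgroup (MulAut R) := Helper90.stabChain ch1 hch1mono ⊓ Helper90.stabChain ch2 hch2mono
  -- `X` is a `p`-group
  have hXp : IsPGroup p X := by
    have : Finite (MulAut R) := inferInstance
    apply isPGroup_of_coprime_trivial
    rintro ⟨γ, hγ1, hγ2⟩ hco
    have hord : orderOf (⟨γ, hγ1, hγ2⟩ : X) = orderOf γ := Subgroup.orderOf_mk γ _
    rw [hord] at hco
    have hγm : γ ^ orderOf γ = 1 := pow_orderOf_eq_one γ
    have hinv1 : ∀ k, ∀ x ∈ ch1 k, γ x ∈ ch1 k := by
      intro k x hx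
      cases k with
      | zero =>
        have hx0 : x ∈ (⊥ : Subgroup R) := by
          have : ch1 0 = ⊥ := by
            show (c 0).subgroupOf R = ⊥
            rw [hc0, Subgroup.bot_subgroupOf]
          rw [← this]; exact hx
        rw [Subgroup.mem_bot] at hx0
        rw [hx0, map_one]; exact Subgroup.one_mem _
      | succ j =>
        have h1 := (hγ1 j x hx).1
        have : γ x = x * (x⁻¹ * γ x) := by group
        rw [this]
        exact (ch1 (j + 1)).mul_mem hx (hch1mono (Nat.le_succ j) h1)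
    have hA : ∀ k, ∀ x ∈ ch1 k, γ x = x := by
      intro k
      induction k with
      | zero =>
        intro x hx
        have hx0 : x ∈ (⊥ : Subgroup R) := by
          have : ch1 0 = ⊥ := by
            show (c 0).subgroupOf R = ⊥
            rw [hc0, Subgroup.bot_subgroupOf]
          rw [← this]; exact hx
        rw [Subgroup.mem_bot] at hx0
        rw [hx0, map_one]
      | succ k ih =>
        intro x hx
        apply fixed_of_iterate_comm γ (orderOf γ) hco hγm (ch1 (k + 1)) (hRp.to_subgroup _)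
          (hinv1 (k + 1)) 1 x hx
        have h1 := (hγ1 k x hx).1
        have h2 := ih _ h1
        show (x⁻¹ * γ x)⁻¹ * γ (x⁻¹ * γ x) = 1
        rw [h2]; group
    have hinv2 : ∀ x ∈ P.subgroupOf R, γ x ∈ P.subgroupOf R := by
      intro x hx
      have h1 := (hγ2 0 x (by rw [hch2succ]; trivial)).1
      rw [hch2zero] at h1
      have : γ x = x * (x⁻¹ * γ x) := by group
      rw [this]
      exact (P.subgroupOf R).mul_mem hx h1
    have hB : ∀ x ∈ P.subgroupOf R, γ x = x := by
      apply omega_fix hodd γ (orderOf γ) hco hγm (P.subgroupOf R) (hRp.to_subgroup _) hinv2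
      intro x hx hxp
      apply hA n
      show (x : Ω) ∈ c n
      apply hom _ (Subgroup.mem_subgroupOf.mp hx)
      have := congrArg Subtype.val hxp
      simpa using this
    have hC : ∀ x : R, γ x = x := by
      intro x
      apply fixed_of_iterate_comm γ (orderOf γ) hco hγm ⊤ (hRp.to_subgroup _)
        (fun _ _ => Subgroup.mem_top _) 1 x (Subgroup.mem_top _)
      have h1 := (hγ2 0 x (by rw [hch2succ]; trivial)).1
      rw [hch2zero] at h1
      have h2 := hB _ h1
      show (x⁻¹ * γ x)⁻¹ * γ (x⁻¹ * γ x) = 1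
      rw [h2]; group
    apply Subtype.ext
    ext x
    rw [hC x]; rfl
  -- conjugation by an element of `P` normalizing `R` lies in `X`
  have hstab : ∀ (g : Ω) (hg : g ∈ Subgroup.normalizer (R : Set Ω)), g ∈ P →
      (∀ i, ∀ x ∈ ch1 (i + 1), x⁻¹ * conjAut R g hg x ∈ ch1 i) ∧
      (∀ i, ∀ x ∈ ch2 (i + 1), x⁻¹ * conjAut R g hg x ∈ ch2 i) := by
    intro g hg hgP
    constructor
    · intro i x hx
      show ((x⁻¹ * conjAut R g hg x : R) : Ω) ∈ c i
      have hval : ((x⁻¹ * conjAut R g hg x : R) : Ω) = (x : Ω)⁻¹ * (g * x * g⁻¹) := rfl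
      rw [hval]
      have hx' : (x : Ω) ∈ c (i + 1) := hx
      apply hcomm i
      have h1 : ⁅(x : Ω)⁻¹, g⁆ ∈ ⁅c (i + 1), P⁆ :=
        Subgroup.commutator_mem_commutator (Subgroup.inv_mem _ hx') hgP
      have h2 : ⁅(x : Ω)⁻¹, g⁆ = (x : Ω)⁻¹ * (g * x * g⁻¹) := by
        rw [commutatorElement_def]; group
      rw [← h2]; exact h1
    · intro i x _
      cases i with
      | zero =>
        rw [hch2zero]
        show ((x⁻¹ * conjAut R g hg x : R) : Ω) ∈ P
        have hval : ((x⁻¹ * conjAut R g hg x : R) : Ω) = (x : Ω)⁻¹ * (g * x * g⁻¹) := rfl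
        rw [hval]
        have h1 : (x : Ω)⁻¹ * g * (x : Ω)⁻¹⁻¹ ∈ P := hPconj _ (S.inv_mem (hRS x.2)) g hgP
        have h2 : (x : Ω)⁻¹ * (g * x * g⁻¹) = ((x : Ω)⁻¹ * g * (x : Ω)⁻¹⁻¹) * g⁻¹ := by group
        rw [h2]
        exact P.mul_mem h1 (P.inv_mem hgP)
      | succ j => rw [hch2succ]; trivial
  have hβmem : ∀ (g : Ω) (hg : g ∈ Subgroup.normalizer (R : Set Ω)), g ∈ P → conjAut R g hg ∈ X := by
    intro g hg hgP
    have h1 := hstab g hg hgP
    have h2 := hstab g⁻¹ (Subgroup.inv_mem _ hg) (P.inv_mem hgP)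
    constructor
    · intro i x hx
      refine ⟨h1.1 i x hx, ?_⟩
      rw [conjAut_inv]; exact h2.1 i x hx
    · intro i x hx
      refine ⟨h1.2 i x hx, ?_⟩
      rw [conjAut_inv]; exact h2.2 i x hx
  -- `F`-automorphisms of `R` preserve both chains
  have hpres1 : ∀ α ∈ F.autGroup R, ∀ j, ∀ x ∈ ch1 j, α x ∈ ch1 j := by
    intro α hα j x hx
    exact (hinv j).2 R hRS (hcR j) α hα x hx
  have hpres2 : ∀ α ∈ F.autGroup R, ∀ j, ∀ x ∈ ch2 j, α x ∈ ch2 j := by
    intro α hα j x hx
    cases j with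
    | zero =>
      rw [hch2zero] at hx ⊢
      exact Helper90.StronglyClosed.aut_mem F hP hRS hα x hx
    | succ j => rw [hch2succ]; trivial
  let A := F.autGroup R
  have hXnorm : (X.subgroupOf A).Normal := by
    constructor
    intro g hg a
    have hgX : (g : MulAut R) ∈ X := Subgroup.mem_subgroupOf.mp hg
    refine Subgroup.mem_subgroupOf.mpr ?_
    show (a : MulAut R) * (g : MulAut R) * (a : MulAut R)⁻¹ ∈ X
    exact ⟨Helper90.stabChain_conj_mem ch1 hch1mono (a : MulAut R) (hpres1 _ a.2)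
        (hpres1 _ (A.inv_mem a.2)) hgX.1,
      Helper90.stabChain_conj_mem ch2 hch2mono (a : MulAut R) (hpres2 _ a.2)
        (hpres2 _ (A.inv_mem a.2)) hgX.2⟩
  have hXcore : X.subgroupOf A ≤ pCore p A :=
    Cfsg.Agent.Lib.Helper52.le_pCore hXnorm (hXp.comap_subtype)
  have hβA : conjAut R d hdN ∈ A :=
    autInducedBy_le_autGroup F hRS (conjAut_mem_autInducedBy hdS hdN)
  have hβInn : conjAut R d hdN ∈ Inn R := by
    have h1 : (⟨conjAut R d hdN, hβA⟩ : A) ∈ pCore p A :=
      hXcore (Subgroup.mem_subgroupOf.mpr (hβmem d hdN hdP))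
    rw [← hrad.2]
    exact ⟨⟨_, hβA⟩, h1, rfl⟩
  exact hdR (mem_of_conjAut_mem_inn F hcen hdS hdN hβInn)

end Cfsg.Agent.Lib.Helper89
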