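import Cfsg.Agent.Lib.Helper89.RkTwoLeaves
import Cfsg.Agent.Lib.Helper89.ExtraIdxP
import Cfsg.Agent.Lib.Helper03.FusEss2
import Cfsg.Agent.Lib.Helper27.MetaSCV
import Cfsg.Agent.Lib.Helper91.FusionEssentialClass
import Cfsg.Agent.Lib.Helper68.Rank2Crit

set_option autoImplicit false

/-!
Essential subgroups of a saturated fusion system over `G(p, n; s)`: the uniform chain argument, leaving two
candidates.
-/

namespace Cfsg.Agent.Lib.Helper89

open Cfsg Cfsg.FusionSystem Cfsg.Agent.Lib.Helper03.FusEss Cfsg.Agent.Lib.Helper90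
  Cfsg.Agent.Lib.Helper03.SL2Inv

section chain
variable {P : Type*} [Group P]

/-- The chain `⊥ ≤ K₁ ≤ K₂ ≤ ⊤ ≤ ⊤ ≤ …`. -/
def threeChain (K₁ K₂ : Subgroup P) : ℕ → Subgroup P
  | 0 => ⊥
  | 1 => K₁
  | 2 => K₂
  | _ + 3 => ⊤

theorem threeChain_mono {K₁ K₂ : Subgroup P} (h : K₁ ≤ K₂) : Monotone (threeChain K₁ K₂) := by
  apply monotone_nat_of_le_succ
  intro n
  match n with
  | 0 => exact bot_le
  | 1 => exact h
  | 2 => exact le_top
  | _ + 3 => exact le_rfl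

end chain

variable {Ω : Type*} [Group Ω] {S : Subgroup Ω}

/-- Lemma R for a three-step chain `1 ≤ K₁ ≤ K₂ ≤ P`. -/
theorem mem_of_stab_three [Finite S] {p : ℕ} [Fact p.Prime] (hS : IsPGroup p S) (F : FusionSystem S)
    {P : Subgroup Ω} (hP : F.IsEssential p P) (K₁ K₂ : Subgroup Ω) (hK : K₁ ≤ K₂)
    (hinv₁ : ∀ α ∈ F.autGroup P, ∀ y : P, (y : Ω) ∈ K₁ → ((α y : P) : Ω) ∈ K₁)
    (hinv₂ : ∀ α ∈ F.autGroup P, ∀ y : P, (y : Ω) ∈ K₂ → ((α y : P) : Ω) ∈ K₂)
    {g : Ω} (hgS : g ∈ S) (hgN : g ∈ Subgroup.normalizer (P : Set Ω))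
    (hg₁ : ∀ y ∈ K₁, y ∈ P → g * y * g⁻¹ = y)
    (hK₂n : ∀ y ∈ K₂, y ∈ P → g⁻¹ * y * g ∈ K₂)
    (hg₂ : ∀ y ∈ K₂, y ∈ P → y⁻¹ * (g * y * g⁻¹) ∈ K₁)
    (hg₃ : ∀ u ∈ P, u⁻¹ * (g * u * g⁻¹) ∈ K₂) : g ∈ P := by
  have hKs : K₁.subgroupOf P ≤ K₂.subgroupOf P := fun x hx => by
    rw [Subgroup.mem_subgroupOf] at hx ⊢
    exact hK hx
  refine mem_of_stabChain hS F hP (threeChain (K₁.subgroupOf P) (K₂.subgroupOf P))
    (threeChain_mono hKs) rfl 3 rfl ?_ hgS hgN ?_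
  · intro α hα i x hx
    match i with
    | 0 =>
      have : x ∈ (⊥ : Subgroup P) := hx
      rw [Subgroup.mem_bot] at this
      rw [this, map_one]; exact Subgroup.one_mem _
    | 1 =>
      have hx' : x ∈ K₁.subgroupOf P := hx
      show α x ∈ K₁.subgroupOf P
      rw [Subgroup.mem_subgroupOf] at hx' ⊢
      exact hinv₁ α hα x hx'
    | 2 =>
      have hx' : x ∈ K₂.subgroupOf P := hx
      show α x ∈ K₂.subgroupOf P
      rw [Subgroup.mem_subgroupOf] at hx' ⊢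
      exact hinv₂ α hα x hx'
    | _ + 3 => exact Subgroup.mem_top _
  · rw [mem_stabChain]
    intro i x hx
    have hginv : g⁻¹ ∈ Subgroup.normalizer (P : Set Ω) := Subgroup.inv_mem _ hgN
    have hcoe2 : (((conjAut P g hgN)⁻¹ x : P) : Ω) = g⁻¹ * x * g := rfl
    have hw : g⁻¹ * (x : Ω) * g ∈ P := by
      have := (Subgroup.mem_normalizer_iff.mp hginv x).mp x.2
      simpa using this
    have h4 : (g⁻¹ * (x : Ω) * g)⁻¹ * (g * (g⁻¹ * (x : Ω) * g) * g⁻¹) =
        ((x : Ω)⁻¹ * (g⁻¹ * x * g))⁻¹ := by group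
    match i with
    | 0 =>
      have hx' : x ∈ K₁.subgroupOf P := hx
      rw [Subgroup.mem_subgroupOf] at hx'
      have h1 := hg₁ x hx' x.2
      constructor
      · show x⁻¹ * conjAut P g hgN x ∈ (⊥ : Subgroup P)
        rw [Subgroup.mem_bot]
        apply Subtype.ext
        rw [Subgroup.coe_mul, Subgroup.coe_inv, conjAut_apply, h1]
        simp
      · show x⁻¹ * (conjAut P g hgN)⁻¹ x ∈ (⊥ : Subgroup P)
        rw [Subgroup.mem_bot]
        apply Subtype.ext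
        rw [Subgroup.coe_mul, Subgroup.coe_inv, hcoe2]
        have h2 : g⁻¹ * (x : Ω) * g = g⁻¹ * (g * x * g⁻¹) * g := by rw [h1]
        rw [h2]
        simp [mul_assoc]
    | 1 =>
      have hx' : x ∈ K₂.subgroupOf P := hx
      rw [Subgroup.mem_subgroupOf] at hx'
      constructor
      · show x⁻¹ * conjAut P g hgN x ∈ K₁.subgroupOf P
        rw [Subgroup.mem_subgroupOf, Subgroup.coe_mul, Subgroup.coe_inv, conjAut_apply]
        exact hg₂ x hx' x.2
      · show x⁻¹ * (conjAut P g hgN)⁻¹ x ∈ K₁.subgroupOf P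
        rw [Subgroup.mem_subgroupOf, Subgroup.coe_mul, Subgroup.coe_inv, hcoe2]
        have h3 := hg₂ _ (hK₂n x hx' x.2) hw
        rw [h4] at h3
        exact (Subgroup.inv_mem_iff K₁).mp h3
    | 2 =>
      constructor
      · show x⁻¹ * conjAut P g hgN x ∈ K₂.subgroupOf P
        rw [Subgroup.mem_subgroupOf, Subgroup.coe_mul, Subgroup.coe_inv, conjAut_apply]
        exact hg₃ x x.2
      · show x⁻¹ * (conjAut P g hgN)⁻¹ x ∈ K₂.subgroupOf P
        rw [Subgroup.mem_subgroupOf, Subgroup.coe_mul, Subgroup.coe_inv, hcoe2]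
        have h3 := hg₃ _ hw
        rw [h4] at h3
        exact (Subgroup.inv_mem_iff K₂).mp h3
    | _ + 3 => exact ⟨Subgroup.mem_top _, Subgroup.mem_top _⟩

/-- A `p`-element normalizing an elementary abelian subgroup `Q` of order `p²` and centralizing `c ∈ Q`, `c ≠ 1`,
moves every element of `Q` inside its coset of `⟨c⟩`. -/
theorem comm_mem_zpowers_of_card_sq {G : Type*} [Group G] {p : ℕ} [Fact p.Prime] (Q : Subgroup G)
    (hQ : Nat.card Q = p ^ 2) (hexp : ∀ q ∈ Q, q ^ p = 1) (c : G) (hcQ : c ∈ Q) (hc1 : c ≠ 1)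
    (t : G) (htn : t ∈ Subgroup.normalizer (Q : Set G)) (htc : t * c = c * t)
    (j : ℕ) (htp : t ^ p ^ j = 1) : ∀ q ∈ Q, q⁻¹ * (t * q * t⁻¹) ∈ Subgroup.zpowers c := by
  have hp : p.Prime := Fact.out
  have hfin : Finite Q := Nat.finite_of_card_ne_zero (by rw [hQ]; exact pow_ne_zero _ hp.ne_zero)
  have hQp : IsPGroup p Q := IsPGroup.of_card hQ
  have hcomm : ∀ a b : Q, a * b = b * a :=
    Cfsg.Agent.Lib.Helper68.R2.comm_of_card_le_sq hQp hQ.le
  have hexp' : ∀ v : Q, v ^ p = 1 := fun v => Subtype.ext (by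
    rw [Subgroup.coe_pow]; exact hexp v v.2)
  set τ : MulAut Q := conjAut Q t htn with hτ
  have hτpow : ∀ m : ℕ, ∀ v : Q, (((τ ^ m) v : Q) : G) = t ^ m * v * (t ^ m)⁻¹ := by
    intro m
    induction m with
    | zero => intro v; simp
    | succ m ih =>
      intro v
      rw [pow_succ', MulAut.mul_apply, hτ, conjAut_apply, ← hτ, ih, pow_succ']
      group
  have hτp : τ ^ p ^ j = 1 := by
    ext v
    rw [hτpow, htp]
    simp
  intro q hq
  by_cases hτ1 : τ = 1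
  · have : t * q * t⁻¹ = q := by
      have := congrArg (fun f : MulAut Q => ((f ⟨q, hq⟩ : Q) : G)) hτ1
      simpa [hτ, conjAut_apply] using this
    rw [this, inv_mul_cancel]
    exact Subgroup.one_mem _
  · obtain ⟨hker, hrange⟩ :=
      Cfsg.Agent.Lib.Helper27.MetaSCV.line_of_pElement hcomm hexp' hQ τ j hτp hτ1
    -- `c` lies in the kernel, which has order `p`
    have hck : (⟨c, hcQ⟩ : Q) ∈ (dsp hcomm τ).ker := by
      rw [MonoidHom.mem_ker, dsp_apply]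
      apply Subtype.ext
      rw [Subgroup.coe_mul, Subgroup.coe_inv, hτ, conjAut_apply]
      show c⁻¹ * (t * c * t⁻¹) = 1
      rw [htc]; group
    have hmem : dsp hcomm τ ⟨q, hq⟩ ∈ (dsp hcomm τ).ker := by
      rw [← hrange]; exact ⟨_, rfl⟩
    have hc1' : (⟨c, hcQ⟩ : Q) ≠ 1 := fun h => hc1 (congrArg Subtype.val h)
    have := mem_zpowers_of_card_prime (Ω := Q) (dsp hcomm τ).ker hker hck hc1' _ hmem
    obtain ⟨k, hk⟩ := Subgroup.mem_zpowers_iff.mp this
    refine Subgroup.mem_zpowers_iff.mpr ⟨k, ?_⟩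
    have h2 := congrArg Subtype.val hk
    rw [dsp_apply] at h2
    simpa [hτ, conjAut_apply] using h2

end Cfsg.Agent.Lib.Helper89
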