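import Cfsg.Agent.Lib.Helper89.RkTwoChain
import Cfsg.Agent.Lib.Helper89.FusionAut
import Cfsg.Agent.Lib.Helper87.FusionBasic

set_option autoImplicit false

/-!
Essential subgroups of a saturated fusion system over `G(p, n; s)`: they contain `Ω₁(S)`, or `n = 4` and they are
elementary abelian of order `p²`.
-/

namespace Cfsg.Agent.Lib.Helper89

open Cfsg Cfsg.FusionSystem Cfsg.Agent.Lib.Helper03.FusEss Cfsg.Agent.Lib.Helper87

variable {Ω : Type*} [Group Ω] {S : Subgroup Ω} {p n s : ℕ} {x y z : Ω}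

namespace DData

theorem finite [Fact p.Prime] (D : DData S p n s x y z) : Finite S :=
  Nat.finite_of_card_ne_zero (by rw [D.card]; exact pow_ne_zero _ (Fact.out : p.Prime).ne_zero)

theorem c_eq (D : DData S p n s x y z) : z ^ p ^ (n - 3) = (z ^ p) ^ p ^ (n - 4) := by
  have h : n - 3 = (n - 4) + 1 := by have := D.hn; omega
  rw [← pow_mul, h, pow_succ']

theorem c_mem (D : DData S p n s x y z) : z ^ p ^ (n - 3) ∈ S := S.pow_mem D.hzS _

theorem c_central [Fact p.Prime] (D : DData S p n s x y z) :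
    ∀ g ∈ S, g * z ^ p ^ (n - 3) = z ^ p ^ (n - 3) * g := by
  intro g hg
  rw [D.c_eq]
  exact ((Commute.pow_right (D.zp_central g hg) _)).eq

theorem orderOf_zp [Fact p.Prime] (D : DData S p n s x y z) : orderOf (z ^ p) = p ^ (n - 4 + 1) := by
  have hp : p.Prime := Fact.out
  have h2 : n - 2 = (n - 4 + 1) + 1 := by have := D.hn; omega
  have hz := D.orderOf_z
  rw [orderOf_pow_of_dvd hp.ne_zero (by rw [hz, h2, pow_succ]; exact dvd_mul_left _ _), hz, h2,
    pow_succ, Nat.mul_div_cancel _ hp.pos]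

theorem c_pow [Fact p.Prime] (D : DData S p n s x y z) : (z ^ p ^ (n - 3)) ^ p = 1 := by
  rw [← pow_mul, ← pow_succ]
  have h : n - 3 + 1 = n - 2 := by have := D.hn; omega
  rw [h]; exact D.zp

theorem c_ne_one [Fact p.Prime] (D : DData S p n s x y z) : z ^ p ^ (n - 3) ≠ 1 := by
  have hp : p.Prime := Fact.out
  intro h
  have h1 := orderOf_dvd_of_pow_eq_one h
  rw [D.orderOf_z] at h1
  have h2 := (Nat.pow_dvd_pow_iff_le_right hp.one_lt).mp h1
  have := D.hn
  omega

theorem mem_zpowers_c_of_pow [Fact p.Prime] (D : DData S p n s x y z) :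
    ∀ a ∈ S, (a ^ p) ^ p = 1 → a ^ p ∈ Subgroup.zpowers (z ^ p ^ (n - 3)) := by
  intro a ha h
  rw [D.c_eq]
  exact (zpowers_prime_pow_facts (z ^ p) D.orderOf_zp).1 _ (D.pow_mem_zpowers a ha) h

theorem c_mem_zpowers_pow [Fact p.Prime] (D : DData S p n s x y z) :
    ∀ a ∈ S, a ^ p ≠ 1 → z ^ p ^ (n - 3) ∈ Subgroup.zpowers (a ^ p) := by
  intro a ha h
  rw [D.c_eq]
  exact (zpowers_prime_pow_facts (z ^ p) D.orderOf_zp).2 _ (D.pow_mem_zpowers a ha) h

theorem omSub_le [Fact p.Prime] (D : DData S p n s x y z) : omSub S p ≤ S :=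
  fun _ hu => (D.mem_omSub.mp hu).1

theorem omSub_conj [Fact p.Prime] (D : DData S p n s x y z) :
    ∀ g ∈ S, ∀ r ∈ omSub S p, g * r * g⁻¹ ∈ omSub S p := by
  intro g hg r hr
  obtain ⟨hrS, hrp⟩ := D.mem_omSub.mp hr
  refine D.mem_omSub.mpr ⟨S.mul_mem (S.mul_mem hg hrS) (S.inv_mem hg), ?_⟩
  rw [conj_pow, hrp]; group

theorem c_mem_omSub [Fact p.Prime] (D : DData S p n s x y z) : z ^ p ^ (n - 3) ∈ omSub S p :=
  D.mem_omSub.mpr ⟨D.c_mem, D.c_pow⟩

/-- automorphisms of a subgroup preserve the elements of order dividing `p` -/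
theorem aut_mem_omSub [Fact p.Prime] (D : DData S p n s x y z) {E : Subgroup Ω} (hES : E ≤ S)
    (α : MulAut E) (e : E) (he : (e : Ω) ∈ omSub S p) : ((α e : E) : Ω) ∈ omSub S p := by
  obtain ⟨-, hep⟩ := D.mem_omSub.mp he
  refine D.mem_omSub.mpr ⟨hES (α e).2, ?_⟩
  have h1 : e ^ p = 1 := Subtype.ext (by rw [Subgroup.coe_pow]; exact hep)
  have h2 : (α e) ^ p = 1 := by rw [← map_pow, h1, map_one]
  have := congrArg Subtype.val h2
  rwa [Subgroup.coe_pow] at this

/-- **The chain argument.** -/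
theorem essential_cases [Fact p.Prime] (D : DData S p n s x y z) (hS : IsPGroup p S)
    (F : FusionSystem S) (hF : F.IsSaturated p) {E : Subgroup Ω} (hE : F.IsEssential p E) :
    omSub S p ≤ E ∨ (n = 4 ∧ Nat.card E = p ^ 2 ∧ ∀ e ∈ E, e ^ p = 1) := by
  classical
  have hp : p.Prime := Fact.out
  have := D.finite
  have hES : E ≤ S := hE.1.1
  have hcen : centralizerIn S E ≤ E := centralizerIn_le_of_isEssential F hE
  have hne : E ≠ S := Cfsg.Agent.Lib.Helper91.ne_top_of_isEssential p F hF hE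
  obtain ⟨t, htN, htE⟩ := exists_mem_normalizerIn_not_mem hS hES hne
  obtain ⟨htS, htn⟩ := mem_normalizerIn.mp htN
  set c := z ^ p ^ (n - 3) with hc
  have hcE : c ∈ E := hcen (mem_centralizerIn.mpr ⟨D.c_mem, fun e he => D.c_central e (hES he)⟩)
  have hzpE : z ^ p ∈ E :=
    hcen (mem_centralizerIn.mpr ⟨S.pow_mem D.hzS _, fun e he => D.zp_central e (hES he)⟩)
  have hRfin : Finite (omSub S p) := Finite.of_injective
    (fun u : omSub S p => (⟨u, D.omSub_le u.2⟩ : S)) (fun a b h => Subtype.ext (by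
      have := congrArg Subtype.val h; exact this))
  -- the order of `E ⊓ R`
  have hdvd : Nat.card (E ⊓ omSub S p : Subgroup Ω) ∣ p ^ 3 := by
    rw [← D.card_omSub]
    exact Subgroup.card_dvd_of_le inf_le_right
  obtain ⟨k, hk3, hk⟩ := (Nat.dvd_prime_pow hp).mp hdvd
  have hcI : c ∈ E ⊓ omSub S p := ⟨hcE, D.c_mem_omSub⟩
  -- common facts
  have hcommR : ∀ u ∈ E, u⁻¹ * (t * u * t⁻¹) ∈ omSub S p := by
    intro u hu
    have h1 := D.comm_pow u⁻¹ (S.inv_mem (hES hu)) t htS
    rw [inv_inv] at h1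
    refine D.mem_omSub.mpr ⟨?_, ?_⟩
    · exact S.mul_mem (S.inv_mem (hES hu)) (S.mul_mem (S.mul_mem htS (hES hu)) (S.inv_mem htS))
    · have : u⁻¹ * (t * u * t⁻¹) = u⁻¹ * t * u * t⁻¹ := by group
      rw [this]; exact h1
  have hconjE : ∀ u ∈ E, t * u * t⁻¹ ∈ E := fun u hu =>
    (Subgroup.mem_normalizer_iff.mp htn u).mp hu
  have hcentral_c : ∀ v ∈ Subgroup.zpowers c, t * v * t⁻¹ = v := by
    intro v hv
    obtain ⟨i, rfl⟩ := Subgroup.mem_zpowers_iff.mp hv
    have h1 : t * c = c * t := D.c_central t htS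
    have h2 : Commute t (c ^ i) := (Commute.zpow_right h1 i)
    rw [h2.eq, mul_inv_cancel_right]
  have hinvR : ∀ α ∈ F.autGroup E, ∀ u : E, (u : Ω) ∈ omSub S p → ((α u : E) : Ω) ∈ omSub S p :=
    fun α _ u hu => D.aut_mem_omSub hES α u hu
  rcases Nat.lt_or_ge k 2 with hk2 | hk2
  · -- `E ⊓ R` has order `p`
    exfalso
    have hk1 : k = 1 := by
      rcases Nat.eq_zero_or_pos k with h0 | h0
      · exfalso
        rw [h0, pow_zero] at hk
        have hb := Subgroup.card_eq_one.mp hk
        rw [hb] at hcI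
        exact D.c_ne_one (Subgroup.mem_bot.mp hcI)
      · omega
    rw [hk1, pow_one] at hk
    have hzp := mem_zpowers_of_card_prime (E ⊓ omSub S p) hk hcI D.c_ne_one
    apply htE
    refine mem_of_stab_two hS F hE (omSub S p) hinvR htS htn ?_ hcommR
    intro v hvR hvE
    exact hcentral_c v (hzp v ⟨hvE, hvR⟩)
  · rcases Nat.lt_or_ge k 3 with hk3' | hk3'
    · have hk2' : k = 2 := by omega
      rw [hk2'] at hk
      by_cases hex : ∃ e ∈ E, e ^ p ≠ 1
      · exfalso
        obtain ⟨e, heE, hep⟩ := hex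
        -- `⟨c⟩` is invariant
        have hinvc : ∀ α ∈ F.autGroup E, ∀ u : E, (u : Ω) ∈ Subgroup.zpowers c →
            ((α u : E) : Ω) ∈ Subgroup.zpowers c := by
          intro α _ u hu
          obtain ⟨m, hm⟩ := Subgroup.mem_zpowers_iff.mp (D.c_mem_zpowers_pow e (hES heE) hep)
          -- `c = (e ^ m) ^ p`
          have hce : c = ((⟨e, heE⟩ : E) ^ m : E) ^ p := by
            rw [hc, ← hm]
            simp only [Subgroup.coe_zpow]
            rw [← zpow_natCast, ← zpow_natCast, ← zpow_mul, ← zpow_mul, mul_comm]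
          have hαc : ((α ⟨c, hcE⟩ : E) : Ω) ∈ Subgroup.zpowers c := by
            have h1 : (⟨c, hcE⟩ : E) = ((⟨e, heE⟩ : E) ^ m) ^ p := Subtype.ext hce
            rw [h1, map_pow, Subgroup.coe_pow]
            apply D.mem_zpowers_c_of_pow _ (hES (α _).2)
            rw [← Subgroup.coe_pow, ← Subgroup.coe_pow, ← map_pow, ← map_pow, ← h1]
            have h2 : (⟨c, hcE⟩ : E) ^ p = 1 := Subtype.ext (by
              rw [Subgroup.coe_pow]; exact D.c_pow)
            rw [h2, map_one]; rfl
          obtain ⟨i, hi⟩ := Subgroup.mem_zpowers_iff.mp hu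
          have h3 : u = (⟨c, hcE⟩ : E) ^ i := Subtype.ext (by
            rw [Subgroup.coe_zpow]; exact hi.symm)
          rw [h3, map_zpow, Subgroup.coe_zpow]
          exact Subgroup.zpow_mem _ hαc i
        apply htE
        refine mem_of_stab_three hS F hE (Subgroup.zpowers c) (omSub S p)
          ((Subgroup.zpowers_le).mpr D.c_mem_omSub) hinvc hinvR htS htn ?_ ?_ ?_ hcommR
        · intro v hv _
          exact hcentral_c v hv
        · intro v hvR hvE
          have := D.omSub_conj t⁻¹ (S.inv_mem htS) v hvR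
          rwa [inv_inv] at this
        · intro v hvR hvE
          have hexpQ : ∀ q ∈ (E ⊓ omSub S p : Subgroup Ω), q ^ p = 1 := fun q hq =>
            (D.mem_omSub.mp hq.2).2
          have htnQ : t ∈ Subgroup.normalizer ((E ⊓ omSub S p : Subgroup Ω) : Set Ω) := by
            rw [Subgroup.mem_normalizer_iff]
            intro q
            constructor
            · rintro ⟨h1, h2⟩
              exact ⟨hconjE q h1, D.omSub_conj t htS q h2⟩
            · rintro ⟨h1, h2⟩
              constructor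
              · exact (Subgroup.mem_normalizer_iff.mp htn q).mpr h1
              · have := D.omSub_conj t⁻¹ (S.inv_mem htS) _ h2
                have e1 : t⁻¹ * (t * q * t⁻¹) * t⁻¹⁻¹ = q := by group
                rwa [e1] at this
          obtain ⟨j, hj⟩ := hS ⟨t, htS⟩
          have htp : t ^ p ^ j = 1 := by
            have := congrArg Subtype.val hj
            rwa [Subgroup.coe_pow] at this
          exact comm_mem_zpowers_of_card_sq (E ⊓ omSub S p) hk hexpQ c hcI D.c_ne_one t htnQ
            (D.c_central t htS) j htp v ⟨hvE, hvR⟩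
      · right
        have hall : ∀ e ∈ E, e ^ p = 1 := by
          intro e he
          by_contra h
          exact hex ⟨e, he, h⟩
        have hER : E ≤ omSub S p := fun e he => D.mem_omSub.mpr ⟨hES he, hall e he⟩
        have hEq : E ⊓ omSub S p = E := inf_eq_left.mpr hER
        rw [hEq] at hk
        refine ⟨?_, hk, hall⟩
        have h1 := hall _ hzpE
        rw [← pow_mul, ← pow_two] at h1
        have h2 := orderOf_dvd_of_pow_eq_one h1
        rw [D.orderOf_z] at h2
        have h3 := (Nat.pow_dvd_pow_iff_le_right hp.one_lt).mp h2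
        have := D.hn
        omega
    · left
      have hk3'' : k = 3 := by omega
      rw [hk3'', ← D.card_omSub] at hk
      have : (E ⊓ omSub S p : Subgroup Ω) = omSub S p :=
        Subgroup.eq_of_le_of_card_ge inf_le_right hk.ge
      rw [← this]
      exact inf_le_left

end DData

end Cfsg.Agent.Lib.Helper89
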