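import Mathlib
import Cfsg.Agent.Lib.Helper89.RkTwoDefs
import Cfsg.Agent.Lib.Helper89.PairAut
import Cfsg.Agent.Lib.Helper89.GL2Essential
import Cfsg.Agent.Lib.Helper54.SL2Torus
import Cfsg.Agent.Lib.Helper70.S5289B
import Cfsg.Agent.Lib.Helper63.CycPow
import Cfsg.Agent.Lib.Helper67.RkTwoD1a
import Cfsg.Agent.Lib.Helper42.S5289D1bX
import Cfsg.Agent.Lib.Helper57.AutSq

/-! Glue: the keystone leaves of S5289, re-exported under one namespace. -/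

set_option autoImplicit false

namespace Cfsg.Agent.Lib.Helper89

theorem exists_normalizing_not_centralizing {X V : Type*} [Group X] [Group V] [Finite V]
    {p : ℕ} [Fact p.Prime] (hp5 : 5 ≤ p)
    (hcomm : ∀ a b : V, a * b = b * a) (hexp : ∀ a : V, a ^ p = 1) (hcard : Nat.card V = p ^ 2)
    (ρ : X →* MulAut V) (τ σ : X) (hτ1 : ρ τ ≠ 1) (hτp : ρ τ ^ p = 1) (hσp : ρ σ ^ p = 1)
    (hne : ρ σ ∉ Subgroup.zpowers (ρ τ)) :
    ∃ φ : X, φ ∈ Subgroup.closure {g : X | ρ g ^ p = 1} ∧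
      ρ φ * ρ τ * (ρ φ)⁻¹ ∈ Subgroup.zpowers (ρ τ) ∧ ρ φ * ρ τ * (ρ φ)⁻¹ ≠ ρ τ :=
  Cfsg.Agent.Lib.Helper54.exists_normalizing_not_centralizing hp5 hcomm hexp hcard ρ τ σ hτ1 hτp hσp hne

theorem exists_torus {E : Type*} [Group E] {hc : ∀ a b : E, a * b = b * a} {t t' : MulAut E} {d d' : E}
    {j : ℕ} (g : Gens hc t t' d d' j) {p : ℕ} (hdp : d ^ p = 1) (hd'p : d' ^ p = 1) (a a' : ℕ)
    (haa' : a * a' ≡ 1 [MOD p]) :
    ∃ h ∈ Subgroup.closure ({t, t'} : Set (MulAut E)), h d = d ^ a ∧ h d' = d' ^ a' :=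
  Cfsg.Agent.Lib.Helper70.S5289K.exists_torus g hdp hd'p a a' haa'

theorem zpowers_prime_pow_facts {G : Type*} [Group G] {p m : ℕ} [Fact p.Prime] (g : G)
    (hg : orderOf g = p ^ (m + 1)) :
    (∀ u ∈ Subgroup.zpowers g, u ^ p = 1 → u ∈ Subgroup.zpowers (g ^ p ^ m)) ∧
    (∀ u ∈ Subgroup.zpowers g, u ≠ 1 → g ^ p ^ m ∈ Subgroup.zpowers u) :=
  Cfsg.Agent.Lib.Helper63.zpowers_prime_pow_facts g hg

section D

variable {Ω : Type*} [Group Ω] {S : Subgroup Ω} {p n s : ℕ} {x y z : Ω}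

theorem DData.pabel [Fact p.Prime] (D : DData S p n s x y z) :
    ∀ a ∈ S, ∀ b ∈ S, (a * b) ^ p = a ^ p * b ^ p :=
  Cfsg.Agent.Lib.Helper67.DData.pabel D

theorem DData.pow_mem_zpowers [Fact p.Prime] (D : DData S p n s x y z) :
    ∀ a ∈ S, a ^ p ∈ Subgroup.zpowers (z ^ p) :=
  Cfsg.Agent.Lib.Helper67.DData.pow_mem_zpowers D

theorem DData.zp_central [Fact p.Prime] (D : DData S p n s x y z) :
    ∀ g ∈ S, g * z ^ p = z ^ p * g :=
  Cfsg.Agent.Lib.Helper67.DData.zp_central D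

theorem DData.comm_pow [Fact p.Prime] (D : DData S p n s x y z) :
    ∀ a ∈ S, ∀ b ∈ S, (a * b * a⁻¹ * b⁻¹) ^ p = 1 :=
  Cfsg.Agent.Lib.Helper67.DData.comm_pow D

theorem DData.orderOf_z [Fact p.Prime] (D : DData S p n s x y z) : orderOf z = p ^ (n - 2) :=
  Cfsg.Agent.Lib.Helper67.DData.orderOf_z D

theorem DData.mem_omSub [Fact p.Prime] (D : DData S p n s x y z) {u : Ω} :
    u ∈ omSub S p ↔ u ∈ S ∧ u ^ p = 1 :=
  Cfsg.Agent.Lib.Helper42.DData.mem_omSub D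

theorem DData.card_omSub [Fact p.Prime] (D : DData S p n s x y z) : Nat.card (omSub S p) = p ^ 3 :=
  Cfsg.Agent.Lib.Helper42.DData.card_omSub D

theorem DData.exists_decomp [Fact p.Prime] (D : DData S p n s x y z) :
    ∀ u ∈ S, ∃ r ∈ omSub S p, ∃ k : ℕ, u = r * z ^ k :=
  Cfsg.Agent.Lib.Helper42.DData.exists_decomp D

theorem DData.comm_omSub [Fact p.Prime] (D : DData S p n s x y z) :
    ∀ a ∈ omSub S p, ∀ b ∈ omSub S p, a * b * a⁻¹ * b⁻¹ ∈ Subgroup.zpowers (z ^ p ^ (n - 3)) :=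
  Cfsg.Agent.Lib.Helper42.DData.comm_omSub D

theorem DData.aut_sq [Fact p.Prime] (D : DData S p n s x y z) (φ : MulAut S) (r : Ω) (hrS : r ∈ S)
    (hr : r * y ≠ y * r) (l : ℕ) (a : Ω) (haS : a ∈ S) (hay : a * y = y * a)
    (hφ : ((φ ⟨r, hrS⟩ : S) : Ω) = r ^ l * a) : l * l ≡ 1 [MOD p] :=
  Cfsg.Agent.Lib.Helper57.DData.aut_sq D φ r hrS hr l a haS hay hφ

end D

end Cfsg.Agent.Lib.Helper89
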