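import Mathlib
import Cfsg.Agent.Lib.Helper89.RkTwoLeaves

set_option autoImplicit false

/-!
The Sylow trick: if the automorphisms normalizing a Sylow `p`-subgroup centralize its image, then the image of the
Sylow `p`-subgroup contains all `p`-elements of the image.
-/

namespace Cfsg.Agent.Lib.Helper89

theorem sylow_trick {X V : Type*} [Group X] [Finite X] [Group V] [Finite V] {p : ℕ} [Fact p.Prime]
    (hp5 : 5 ≤ p) (hcomm : ∀ a b : V, a * b = b * a) (hexp : ∀ a : V, a ^ p = 1)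
    (hcard : Nat.card V = p ^ 2) (ρ : X →* MulAut V) (τ : X) (hτ1 : ρ τ ≠ 1) (hτp : ρ τ ^ p = 1)
    (A : Sylow p X) (hτA : τ ∈ A) (hA : ∀ a ∈ A, ρ a ∈ Subgroup.zpowers (ρ τ))
    (Fix : Subgroup X) (hFix : ∀ g : X, ρ g ^ p = 1 → g ∈ Fix)
    (ha : ∀ ν ∈ Fix, ν * τ * ν⁻¹ ∈ A → ρ ν * ρ τ * (ρ ν)⁻¹ = ρ τ) :
    ∀ σ : X, ρ σ ^ p = 1 → ρ σ ∈ Subgroup.zpowers (ρ τ) := by
  intro σ hσp
  by_contra hne
  obtain ⟨φ, hφY, hφn, hφc⟩ :=
    exists_normalizing_not_centralizing hp5 hcomm hexp hcard ρ τ σ hτ1 hτp hσp hne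
  have hφFix : φ ∈ Fix := by
    have hle : Subgroup.closure {g : X | ρ g ^ p = 1} ≤ Fix :=
      (Subgroup.closure_le _).mpr (fun g hg => hFix g hg)
    exact hle hφY
  -- powers of `ρ τ` have `p`-th power one
  have hpowp : ∀ u ∈ Subgroup.zpowers (ρ τ), u ^ p = 1 := by
    intro u hu
    obtain ⟨k, rfl⟩ := Subgroup.mem_zpowers_iff.mp hu
    rw [← zpow_natCast, ← zpow_mul, mul_comm, zpow_mul, zpow_natCast, hτp, one_zpow]
  set B : Subgroup X := (Subgroup.zpowers (ρ τ)).comap ρ with hB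
  have hAB : (A : Subgroup X) ≤ B := fun a ha' => Subgroup.mem_comap.mpr (hA a ha')
  set w : X := φ * τ * φ⁻¹ with hw
  have hwB : w ∈ B := by
    rw [hB, Subgroup.mem_comap, hw, map_mul, map_mul, map_inv]
    exact hφn
  -- `w` is a `p`-element
  obtain ⟨k, hk⟩ := A.isPGroup' ⟨τ, hτA⟩
  have hτk : τ ^ p ^ k = 1 := by
    have := congrArg Subtype.val hk
    rwa [Subgroup.coe_pow] at this
  have hwk : w ^ p ^ k = 1 := by
    rw [hw, conj_pow, hτk, mul_one, mul_inv_cancel]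
  have hwp : IsPGroup p (Subgroup.zpowers (⟨w, hwB⟩ : B)) := by
    rintro ⟨u, hu⟩
    obtain ⟨i, rfl⟩ := Subgroup.mem_zpowers_iff.mp hu
    refine ⟨k, Subtype.ext ?_⟩
    have h1 : (⟨w, hwB⟩ : B) ^ p ^ k = 1 := Subtype.ext (by rw [Subgroup.coe_pow]; exact hwk)
    show ((⟨w, hwB⟩ : B) ^ i) ^ p ^ k = 1
    rw [← zpow_natCast, ← zpow_mul, mul_comm, zpow_mul, zpow_natCast, h1, one_zpow]
  obtain ⟨Q, hQ⟩ := hwp.exists_le_sylow
  obtain ⟨b₀, hb₀⟩ := MulAction.exists_smul_eq B (A.subtype hAB) Q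
  obtain ⟨b, hbdef⟩ : ∃ b : B, b = b₀⁻¹ := ⟨_, rfl⟩
  -- `b w b⁻¹ ∈ A`
  have hbw : (b : X) * w * (b : X)⁻¹ ∈ A := by
    have h1 : (⟨w, hwB⟩ : B) ∈ (Q : Subgroup B) := hQ (Subgroup.mem_zpowers _)
    rw [← hb₀, Sylow.coe_subgroup_smul, Subgroup.mem_pointwise_smul_iff_inv_smul_mem] at h1
    rw [MulAut.smul_def, MulAut.conj_inv_apply, Sylow.coe_subtype, Subgroup.mem_subgroupOf] at h1
    rw [hbdef]
    have h2 : ((b₀⁻¹ : B) : X) * w * ((b₀⁻¹ : B) : X)⁻¹ ∈ (A : Subgroup X) := by simpa using h1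
    exact h2
  set ν : X := (b : X) * φ with hν
  have hbFix : (b : X) ∈ Fix := by
    apply hFix
    exact hpowp _ (Subgroup.mem_comap.mp b.2)
  have hνFix : ν ∈ Fix := Fix.mul_mem hbFix hφFix
  have hντ : ν * τ * ν⁻¹ ∈ A := by
    have : ν * τ * ν⁻¹ = (b : X) * w * (b : X)⁻¹ := by rw [hν, hw]; group
    rw [this]; exact hbw
  have h4 := ha ν hνFix hντ
  apply hφc
  have hbz : ρ (b : X) ∈ Subgroup.zpowers (ρ τ) := Subgroup.mem_comap.mp b.2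
  obtain ⟨i, hi⟩ := Subgroup.mem_zpowers_iff.mp hbz
  obtain ⟨j, hj⟩ := Subgroup.mem_zpowers_iff.mp hφn
  rw [hν, map_mul] at h4
  have h5 : ρ (b : X) * ρ φ * ρ τ * (ρ (b : X) * ρ φ)⁻¹ =
      ρ (b : X) * (ρ φ * ρ τ * (ρ φ)⁻¹) * (ρ (b : X))⁻¹ := by group
  rw [h5, ← hj, ← hi] at h4
  have h6 : (ρ τ) ^ i * (ρ τ) ^ j * ((ρ τ) ^ i)⁻¹ = (ρ τ) ^ j := by
    rw [← zpow_add, ← zpow_neg, ← zpow_add]; congr 1; ring
  rw [h6] at h4
  rw [← hj]; exact h4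

end Cfsg.Agent.Lib.Helper89
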