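import Cfsg.Agent.Lib.Helper89.RkTwoD1
import Cfsg.Agent.Lib.Helper89.RkTwoSyl
import Cfsg.Agent.Lib.Helper89.MaxClassFus
import Cfsg.Agent.Lib.Helper89.OrderPCube

set_option autoImplicit false

/-!
Subgroups of `G(p, n; s)` containing `Ω₁(S)` are not essential.
-/

namespace Cfsg.Agent.Lib.Helper89

open Cfsg Cfsg.FusionSystem Cfsg.Agent.Lib.Helper03.FusEss Cfsg.Agent.Lib.Helper87

variable {Ω : Type*} [Group Ω] {S : Subgroup Ω} {p n s : ℕ} {x y z : Ω}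

/-- a subgroup containing `Ω₁(S)` but not `z` -/
structure ISetup (S : Subgroup Ω) (p n s : ℕ) (x y z : Ω) (E1 : Subgroup Ω) : Prop where
  D : DData S p n s x y z
  hR : omSub S p ≤ E1
  hES : E1 ≤ S
  hz : z ∉ E1

namespace ISetup

variable {E1 : Subgroup Ω}

theorem x_mem [Fact p.Prime] (h : ISetup S p n s x y z E1) : x ∈ E1 :=
  h.hR (h.D.mem_omSub.mpr ⟨h.D.hxS, h.D.xp⟩)

theorem y_mem [Fact p.Prime] (h : ISetup S p n s x y z E1) : y ∈ E1 :=
  h.hR (h.D.mem_omSub.mpr ⟨h.D.hyS, h.D.yp⟩)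

theorem c_mem [Fact p.Prime] (h : ISetup S p n s x y z E1) : z ^ p ^ (n - 3) ∈ E1 :=
  h.hR h.D.c_mem_omSub

theorem zp_pow_central [Fact p.Prime] (h : ISetup S p n s x y z E1) :
    ∀ w ∈ Subgroup.zpowers (z ^ p), ∀ g ∈ S, g * w = w * g := by
  intro w hw g hg
  obtain ⟨i, rfl⟩ := Subgroup.mem_zpowers_iff.mp hw
  exact (Commute.zpow_right (h.D.zp_central g hg) i).eq

theorem c_pow_central [Fact p.Prime] (h : ISetup S p n s x y z E1) :
    ∀ w ∈ Subgroup.zpowers (z ^ p ^ (n - 3)), ∀ g ∈ S, g * w = w * g := by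
  intro w hw g hg
  obtain ⟨i, rfl⟩ := Subgroup.mem_zpowers_iff.mp hw
  exact (Commute.zpow_right (h.D.c_central g hg) i).eq

theorem decomp [Fact p.Prime] (h : ISetup S p n s x y z E1) :
    ∀ e ∈ E1, ∃ r ∈ omSub S p, ∃ w ∈ Subgroup.zpowers (z ^ p), e = r * w := by
  have hp : p.Prime := Fact.out
  intro e he
  obtain ⟨r, hr, k, rfl⟩ := h.D.exists_decomp e (h.hES he)
  refine ⟨r, hr, z ^ k, ?_, rfl⟩
  have hzk : z ^ k ∈ E1 := by
    have : z ^ k = r⁻¹ * (r * z ^ k) := by group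
    rw [this]; exact E1.mul_mem (E1.inv_mem (h.hR hr)) he
  by_cases hpk : p ∣ k
  · obtain ⟨j, rfl⟩ := hpk
    rw [pow_mul]; exact Subgroup.pow_mem _ (Subgroup.mem_zpowers _) j
  · exfalso
    apply h.hz
    have hcop : Nat.Coprime k (orderOf z) := by
      rw [h.D.orderOf_z]
      exact Nat.Coprime.pow_right _ ((Nat.Prime.coprime_iff_not_dvd hp).mpr hpk).symm
    obtain ⟨m, hm⟩ := exists_pow_eq_self_of_coprime hcop
    rw [← hm]; exact E1.pow_mem hzk m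

theorem w_mem [Fact p.Prime] (h : ISetup S p n s x y z E1) {e r w : Ω} (he : e ∈ E1)
    (hr : r ∈ omSub S p) (hw : e = r * w) : w ∈ E1 := by
  have : w = r⁻¹ * e := by rw [hw]; group
  rw [this]; exact E1.mul_mem (E1.inv_mem (h.hR hr)) he

theorem comm_mem [Fact p.Prime] (h : ISetup S p n s x y z E1) :
    ∀ e ∈ E1, ∀ f ∈ E1, e * f * e⁻¹ * f⁻¹ ∈ Subgroup.zpowers (z ^ p ^ (n - 3)) := by
  intro e he f hf
  obtain ⟨r, hr, w, hw, rfl⟩ := h.decomp e he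
  obtain ⟨r', hr', w', hw', rfl⟩ := h.decomp f hf
  have hrS := h.D.omSub_le hr
  have hr'S := h.D.omSub_le hr'
  have hw'S : w' ∈ S := h.hES (h.w_mem hf hr' rfl)
  have h1 : w * r' = r' * w := (h.zp_pow_central w hw r' hr'S).symm
  have h2 : w * w' = w' * w := (h.zp_pow_central w hw w' hw'S).symm
  have h3 : w' * r⁻¹ = r⁻¹ * w' := (h.zp_pow_central w' hw' r⁻¹ (S.inv_mem hrS)).symm
  have : r * w * (r' * w') * (r * w)⁻¹ * (r' * w')⁻¹ = r * r' * r⁻¹ * r'⁻¹ := by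
    calc r * w * (r' * w') * (r * w)⁻¹ * (r' * w')⁻¹
        = r * (w * r') * w' * w⁻¹ * r⁻¹ * w'⁻¹ * r'⁻¹ := by group
      _ = r * r' * (w * w') * w⁻¹ * r⁻¹ * w'⁻¹ * r'⁻¹ := by rw [h1]; group
      _ = r * r' * (w' * r⁻¹) * w'⁻¹ * r'⁻¹ := by rw [h2]; group
      _ = r * r' * r⁻¹ * r'⁻¹ := by rw [h3]; group
  rw [this]
  exact h.D.comm_omSub r hr r' hr'

theorem conj_mem [Fact p.Prime] (h : ISetup S p n s x y z E1) :
    ∀ g ∈ S, ∀ e ∈ E1, g * e * g⁻¹ ∈ E1 := by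
  intro g hg e he
  have h1 := h.D.comm_pow g hg e (h.hES he)
  have h2 : g * e * g⁻¹ * e⁻¹ ∈ omSub S p :=
    h.D.mem_omSub.mpr ⟨S.mul_mem (S.mul_mem (S.mul_mem hg (h.hES he)) (S.inv_mem hg))
      (S.inv_mem (h.hES he)), h1⟩
  have : g * e * g⁻¹ = g * e * g⁻¹ * e⁻¹ * e := by group
  rw [this]
  exact E1.mul_mem (h.hR h2) he

theorem le_normalizer [Fact p.Prime] (h : ISetup S p n s x y z E1) :
    S ≤ Subgroup.normalizer (E1 : Set Ω) := by
  have h1 := normalizerIn_eq_of_conj_mem (S := S) (P := E1) h.conj_mem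
  intro g hg
  have : g ∈ normalizerIn S E1 := by rw [h1]; exact hg
  exact (mem_normalizerIn.mp this).2

theorem S_decomp [Fact p.Prime] (h : ISetup S p n s x y z E1) :
    ∀ g ∈ S, ∃ r ∈ E1, ∃ k : ℕ, g = r * z ^ k := by
  intro g hg
  obtain ⟨r, hr, k, hk⟩ := h.D.exists_decomp g hg
  exact ⟨r, h.hR hr, k, hk⟩

theorem zxz (h : ISetup S p n s x y z E1) : z * x * z⁻¹ = x * y := by
  have h1 := h.D.rel2
  have h2 : z * x = x * (x⁻¹ * z * x) := by group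
  rw [h1] at h2
  rw [h2]; group

theorem zyz (h : ISetup S p n s x y z E1) : z * y * z⁻¹ = y := by
  rw [← h.D.yz]; group

/-- `c` is a power of the commutator of `y` and `x` -/
theorem c_mem_zpowers_comm [Fact p.Prime] (h : ISetup S p n s x y z E1) :
    z ^ p ^ (n - 3) ∈ Subgroup.zpowers (y⁻¹ * x⁻¹ * y * x) := by
  have hp : p.Prime := Fact.out
  have h1 : y⁻¹ * x⁻¹ * y * x = (z ^ p ^ (n - 3)) ^ s := by
    have := h.D.rel1
    calc y⁻¹ * x⁻¹ * y * x = y⁻¹ * (x⁻¹ * y * x) := by group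
      _ = z ^ (s * p ^ (n - 3)) := by rw [this]; group
      _ = (z ^ p ^ (n - 3)) ^ s := by rw [mul_comm s, pow_mul]
  have hcp : (z ^ p ^ (n - 3)) ^ p = 1 := h.D.c_pow
  have hc1 : z ^ p ^ (n - 3) ≠ 1 := h.D.c_ne_one
  have ho : orderOf (z ^ p ^ (n - 3)) = p := orderOf_eq_prime hcp hc1
  have hcop : Nat.Coprime s (orderOf (z ^ p ^ (n - 3))) := by
    rw [ho]; exact ((Nat.Prime.coprime_iff_not_dvd hp).mpr h.D.hs).symm
  obtain ⟨m, hm⟩ := exists_pow_eq_self_of_coprime hcop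
  rw [h1]
  exact Subgroup.mem_zpowers_iff.mpr ⟨m, by rw [zpow_natCast]; exact hm⟩

theorem yx_ne [Fact p.Prime] (h : ISetup S p n s x y z E1) : y * x ≠ x * y := by
  intro hyx
  have h1 : y⁻¹ * x⁻¹ * y * x = 1 := by
    calc y⁻¹ * x⁻¹ * y * x = y⁻¹ * x⁻¹ * (y * x) := by group
      _ = 1 := by rw [hyx]; group
  have h2 := h.c_mem_zpowers_comm
  rw [h1] at h2
  have h3 : z ^ p ^ (n - 3) = 1 := by
    obtain ⟨i, hi⟩ := Subgroup.mem_zpowers_iff.mp h2
    rw [← hi, one_zpow]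
  exact h.D.c_ne_one h3

end ISetup

section rho

variable {P : Type*} [Group P]

/-- the conjugation action of `Aut(P)` on `Inn(P)` -/
noncomputable def rhoInn (P : Type*) [Group P] : MulAut P →* MulAut (Inn P) := MulAut.conjNormal

/-- the inner automorphism as an element of `Inn(P)` -/
def innMk (e : P) : Inn P := ⟨MulAut.conj e, ⟨e, rfl⟩⟩

theorem exists_innMk (a : Inn P) : ∃ e : P, a = innMk e := by
  obtain ⟨_, ⟨e, rfl⟩⟩ := a
  exact ⟨e, rfl⟩

theorem innMk_eq_iff (e f : P) : innMk e = innMk f ↔ MulAut.conj e = MulAut.conj f := by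
  constructor
  · intro h; exact congrArg Subtype.val h
  · intro h; exact Subtype.ext h

theorem innMk_mul (e f : P) : innMk (e * f) = innMk e * innMk f :=
  Subtype.ext (map_mul _ e f)

theorem innMk_pow (e : P) (k : ℕ) : innMk (e ^ k) = innMk e ^ k :=
  Subtype.ext (by rw [Subgroup.coe_pow]; exact map_pow _ e k)

theorem innMk_one : innMk (1 : P) = 1 := Subtype.ext (map_one _)

theorem innMk_inv (e : P) : innMk e⁻¹ = (innMk e)⁻¹ :=
  Subtype.ext (by rw [Subgroup.coe_inv]; exact map_inv _ e)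

theorem rhoInn_apply (φ : MulAut P) (e : P) : rhoInn P φ (innMk e) = innMk (φ e) := by
  apply Subtype.ext
  rw [rhoInn, MulAut.conjNormal_apply]
  ext w
  simp [innMk, MulAut.mul_apply, MulAut.conj_apply, map_mul]

theorem rhoInn_eq_one_iff (φ : MulAut P) :
    rhoInn P φ = 1 ↔ ∀ e : P, innMk (φ e) = innMk e := by
  constructor
  · intro h e
    rw [← rhoInn_apply, h]; rfl
  · intro h
    ext a
    obtain ⟨e, rfl⟩ := exists_innMk a
    rw [rhoInn_apply, h e]; rfl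

theorem rhoInn_conj_eq_one (hc : ∀ a b : Inn P, a * b = b * a) (e : P) :
    rhoInn P (MulAut.conj e) = 1 := by
  rw [rhoInn_eq_one_iff]
  intro f
  rw [MulAut.conj_apply, innMk_mul, innMk_mul, hc (innMk e) (innMk f), innMk_inv, mul_inv_cancel_right]

end rho

theorem conjAut_pow_apply {P : Subgroup Ω} {g : Ω} (hg : g ∈ Subgroup.normalizer (P : Set Ω)) (k : ℕ)
    (e : P) : ((((conjAut P g hg) ^ k) e : P) : Ω) = g ^ k * e * (g ^ k)⁻¹ := by
  induction k generalizing e with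
  | zero => simp
  | succ k ih =>
    rw [pow_succ, MulAut.mul_apply, ih, conjAut_apply, pow_succ]
    group

namespace ISetup

variable {E1 : Subgroup Ω}

theorem conj_eq_one_of_central (h : ISetup S p n s x y z E1) (ζ : E1)
    (hζ : ∀ g ∈ S, g * (ζ : Ω) = ζ * g) : MulAut.conj ζ = 1 := by
  ext v
  rw [MulAut.conj_apply, MulAut.one_apply]
  show (ζ : Ω) * v * (ζ : Ω)⁻¹ = v
  rw [← hζ v (h.hES v.2), mul_inv_cancel_right]

theorem innMk_eq_one_of_central (h : ISetup S p n s x y z E1) (ζ : E1)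
    (hζ : ∀ g ∈ S, g * (ζ : Ω) = ζ * g) : innMk ζ = 1 :=
  Subtype.ext (h.conj_eq_one_of_central ζ hζ)

theorem inn_comm [Fact p.Prime] (h : ISetup S p n s x y z E1) : ∀ a b : Inn E1, a * b = b * a := by
  intro a b
  obtain ⟨e, rfl⟩ := exists_innMk a
  obtain ⟨f, rfl⟩ := exists_innMk b
  have h1 : e * f = (e * f * e⁻¹ * f⁻¹) * (f * e) := by group
  have h2 : innMk (e * f * e⁻¹ * f⁻¹) = 1 := by
    apply h.innMk_eq_one_of_central
    intro g hg
    exact h.c_pow_central _ (h.comm_mem e e.2 f f.2) g hg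
  rw [← innMk_mul, ← innMk_mul, h1, innMk_mul, h2, one_mul]

theorem inn_exp [Fact p.Prime] (h : ISetup S p n s x y z E1) : ∀ a : Inn E1, a ^ p = 1 := by
  intro a
  obtain ⟨e, rfl⟩ := exists_innMk a
  rw [← innMk_pow]
  apply h.innMk_eq_one_of_central
  intro g hg
  exact h.zp_pow_central _ (h.D.pow_mem_zpowers e (h.hES e.2)) g hg

theorem card_inn [Fact p.Prime] [Finite S] (h : ISetup S p n s x y z E1) :
    Nat.card (Inn E1) = p ^ 2 := by
  have hp : p.Prime := Fact.out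
  have hRfin : Finite (omSub S p) := finite_of_le h.D.omSub_le
  let g : omSub S p →* MulAut E1 := (MulAut.conj).comp (Subgroup.inclusion h.hR)
  have hg : ∀ (r : omSub S p) (v : E1), ((g r v : E1) : Ω) = r * v * (r : Ω)⁻¹ := fun r v => rfl
  have hrange : g.range = Inn E1 := by
    apply le_antisymm
    · rintro _ ⟨r, rfl⟩
      exact ⟨_, rfl⟩
    · rintro _ ⟨e, rfl⟩
      obtain ⟨r, hr, w, hw, hrw⟩ := h.decomp e e.2
      refine ⟨⟨r, hr⟩, ?_⟩
      ext v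
      rw [hg, MulAut.conj_apply]
      show r * v * r⁻¹ = (e : Ω) * v * (e : Ω)⁻¹
      have hwc := h.zp_pow_central w hw v (h.hES v.2)
      rw [hrw]
      calc r * v * r⁻¹ = r * (v * w) * w⁻¹ * r⁻¹ := by group
        _ = r * w * v * (r * w)⁻¹ := by rw [hwc]; group
  have hmul : Nat.card g.ker * Nat.card g.range = p ^ 3 := by
    rw [← Subgroup.index_ker, Subgroup.card_mul_index, h.D.card_omSub]
  have hker_le : g.ker ≤ Subgroup.center (omSub S p) := by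
    intro r hr
    rw [Subgroup.mem_center_iff]
    intro r'
    have h1 : g r = 1 := MonoidHom.mem_ker.mp hr
    have h2 := hg r (Subgroup.inclusion h.hR r')
    rw [h1] at h2
    apply Subtype.ext
    have h3 : (r' : Ω) = r * r' * (r : Ω)⁻¹ := h2
    show (r' : Ω) * r = r * r'
    conv_lhs => rw [h3]
    group
  have hnc : ¬ ∀ a b : omSub S p, a * b = b * a := by
    intro hc
    have := hc ⟨y, h.D.mem_omSub.mpr ⟨h.D.hyS, h.D.yp⟩⟩ ⟨x, h.D.mem_omSub.mpr ⟨h.D.hxS, h.D.xp⟩⟩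
    exact h.yx_ne (congrArg Subtype.val this)
  obtain ⟨hcen, -, -, -⟩ := nonabelian_cube_basic h.D.card_omSub hnc
  have hker_ne : g.ker ≠ ⊥ := by
    intro hb
    have hc : (⟨z ^ p ^ (n - 3), h.D.c_mem_omSub⟩ : omSub S p) ∈ g.ker := by
      rw [MonoidHom.mem_ker]
      ext v
      rw [hg, MulAut.one_apply]
      show z ^ p ^ (n - 3) * v * (z ^ p ^ (n - 3))⁻¹ = v
      rw [← h.D.c_central v (h.hES v.2), mul_inv_cancel_right]
    rw [hb, Subgroup.mem_bot] at hc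
    exact h.D.c_ne_one (congrArg Subtype.val hc)
  have hkcard : Nat.card g.ker = p := by
    have hd : Nat.card g.ker ∣ p := by
      have := Subgroup.card_dvd_of_le hker_le
      rwa [hcen] at this
    rcases (Nat.dvd_prime hp).mp hd with h1 | h1
    · exact absurd (Subgroup.card_eq_one.mp h1) hker_ne
    · exact h1
  rw [hkcard] at hmul
  have h5 : Nat.card g.range = p ^ 2 :=
    Nat.eq_of_mul_eq_mul_left hp.pos (by rw [hmul]; ring)
  rw [← hrange]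
  exact h5

/-- conjugation by `z` -/
def t1 [Fact p.Prime] (h : ISetup S p n s x y z E1) : MulAut E1 :=
  conjAut E1 z (h.le_normalizer h.D.hzS)

theorem t1_apply [Fact p.Prime] (h : ISetup S p n s x y z E1) (e : E1) :
    ((h.t1 e : E1) : Ω) = z * e * z⁻¹ := rfl

theorem t1_pow_p [Fact p.Prime] (h : ISetup S p n s x y z E1) : h.t1 ^ p = 1 := by
  ext e
  rw [t1, conjAut_pow_apply, MulAut.one_apply]
  have := h.D.zp_central e (h.hES e.2)
  rw [← this, mul_inv_cancel_right]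

theorem rho_t1_pow [Fact p.Prime] (h : ISetup S p n s x y z E1) : rhoInn E1 h.t1 ^ p = 1 := by
  rw [← map_pow, h.t1_pow_p, map_one]

theorem rho_t1_ne_one [Fact p.Prime] (h : ISetup S p n s x y z E1) : rhoInn E1 h.t1 ≠ 1 := by
  intro h1
  rw [rhoInn_eq_one_iff] at h1
  have h2 := h1 ⟨x, h.x_mem⟩
  have h3 : h.t1 ⟨x, h.x_mem⟩ = ⟨x, h.x_mem⟩ * ⟨y, h.y_mem⟩ := Subtype.ext (by
    rw [t1_apply]; exact h.zxz)
  rw [h3, innMk_mul] at h2
  have h4 : innMk (⟨y, h.y_mem⟩ : E1) = 1 := by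
    have := congrArg (fun v => (innMk (⟨x, h.x_mem⟩ : E1))⁻¹ * v) h2
    simpa using this
  have h5 : MulAut.conj (⟨y, h.y_mem⟩ : E1) = 1 := congrArg Subtype.val h4
  have h6 := DFunLike.congr_fun h5 ⟨x, h.x_mem⟩
  rw [MulAut.conj_apply, MulAut.one_apply] at h6
  have h7 : y * x * y⁻¹ = x := congrArg Subtype.val h6
  apply h.yx_ne
  calc y * x = (y * x * y⁻¹) * y := by group
    _ = x * y := by rw [h7]

/-- automorphisms with the same inner action have the same commutators -/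
theorem comm_eq_of_conj_eq {P : Type*} [Group P] {a a' b b' : P}
    (ha : MulAut.conj a = MulAut.conj a') (hb : MulAut.conj b = MulAut.conj b') :
    a⁻¹ * b⁻¹ * a * b = a'⁻¹ * b'⁻¹ * a' * b' := by
  have h1 : b⁻¹ * a * b = b'⁻¹ * a * b' := by
    have := DFunLike.congr_fun (congrArg (fun f => f⁻¹) hb) a
    simpa [MulAut.conj_inv_apply] using this
  have h2 : a⁻¹ * b'⁻¹ * a = a'⁻¹ * b'⁻¹ * a' := by
    have := DFunLike.congr_fun (congrArg (fun f => f⁻¹) ha) b'⁻¹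
    simpa [MulAut.conj_inv_apply] using this
  calc a⁻¹ * b⁻¹ * a * b = a⁻¹ * (b⁻¹ * a * b) := by group
    _ = a⁻¹ * (b'⁻¹ * a * b') := by rw [h1]
    _ = (a⁻¹ * b'⁻¹ * a) * b' := by group
    _ = _ := by rw [h2]

/-- the element `c` of `E1` -/
def cE [Fact p.Prime] (h : ISetup S p n s x y z E1) : E1 := ⟨z ^ p ^ (n - 3), h.c_mem⟩

theorem cE_pow [Fact p.Prime] (h : ISetup S p n s x y z E1) : h.cE ^ p = 1 :=
  Subtype.ext (by rw [Subgroup.coe_pow]; exact h.D.c_pow)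

theorem cE_ne_one [Fact p.Prime] (h : ISetup S p n s x y z E1) : h.cE ≠ 1 :=
  fun hc => h.D.c_ne_one (congrArg Subtype.val hc)

theorem orderOf_cE [Fact p.Prime] (h : ISetup S p n s x y z E1) : orderOf h.cE = p :=
  orderOf_eq_prime h.cE_pow h.cE_ne_one

theorem cE_mem_zpowers [Fact p.Prime] (h : ISetup S p n s x y z E1) :
    h.cE ∈ Subgroup.zpowers ((⟨y, h.y_mem⟩ : E1)⁻¹ * (⟨x, h.x_mem⟩ : E1)⁻¹ * ⟨y, h.y_mem⟩ * ⟨x, h.x_mem⟩) := by
  obtain ⟨i, hi⟩ := Subgroup.mem_zpowers_iff.mp h.c_mem_zpowers_comm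
  refine Subgroup.mem_zpowers_iff.mpr ⟨i, Subtype.ext ?_⟩
  rw [Subgroup.coe_zpow]
  exact hi

/-- every automorphism of `E1` preserves `⟨c⟩` -/
theorem aut_cE_mem [Fact p.Prime] (h : ISetup S p n s x y z E1) (α : MulAut E1) :
    α h.cE ∈ Subgroup.zpowers h.cE := by
  obtain ⟨i, hi⟩ := Subgroup.mem_zpowers_iff.mp h.cE_mem_zpowers
  have e1 : α h.cE = (α ((⟨y, h.y_mem⟩ : E1)⁻¹ * (⟨x, h.x_mem⟩ : E1)⁻¹ * ⟨y, h.y_mem⟩ * ⟨x, h.x_mem⟩)) ^ i := by
    rw [← map_zpow, hi]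
  rw [e1]
  apply Subgroup.zpow_mem
  rw [map_mul, map_mul, map_mul, map_inv, map_inv]
  have h1 := h.comm_mem _ (α ⟨y, h.y_mem⟩)⁻¹.2 _ (α ⟨x, h.x_mem⟩)⁻¹.2
  obtain ⟨j, hj⟩ := Subgroup.mem_zpowers_iff.mp h1
  refine Subgroup.mem_zpowers_iff.mpr ⟨j, Subtype.ext ?_⟩
  rw [Subgroup.coe_zpow]
  show (z ^ p ^ (n - 3)) ^ j = _
  rw [hj]
  simp

/-- automorphisms acting trivially on `Inn(E1)` fix `c` -/
theorem fix_cE_of_rho_eq_one [Fact p.Prime] (h : ISetup S p n s x y z E1) (α : MulAut E1)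
    (hα : rhoInn E1 α = 1) : α h.cE = h.cE := by
  rw [rhoInn_eq_one_iff] at hα
  obtain ⟨i, hi⟩ := Subgroup.mem_zpowers_iff.mp h.cE_mem_zpowers
  have e1 : α h.cE = (α ((⟨y, h.y_mem⟩ : E1)⁻¹ * (⟨x, h.x_mem⟩ : E1)⁻¹ * ⟨y, h.y_mem⟩ * ⟨x, h.x_mem⟩)) ^ i := by
    rw [← map_zpow, hi]
  rw [e1, map_mul, map_mul, map_mul, map_inv, map_inv,
    comm_eq_of_conj_eq ((innMk_eq_iff _ _).mp (hα ⟨y, h.y_mem⟩)) ((innMk_eq_iff _ _).mp (hα ⟨x, h.x_mem⟩))]
  exact hi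

/-- automorphisms acting on `Inn(E1)` as `p`-elements fix `c` -/
theorem fix_cE_of_rho_pow [Fact p.Prime] (h : ISetup S p n s x y z E1) (g : MulAut E1)
    (hg : rhoInn E1 g ^ p = 1) : g h.cE = h.cE := by
  have hp : p.Prime := Fact.out
  have h1 := h.aut_cE_mem g
  have hfo : IsOfFinOrder h.cE := isOfFinOrder_iff_pow_eq_one.mpr ⟨p, hp.pos, h.cE_pow⟩
  rw [← hfo.mem_powers_iff_mem_zpowers] at h1
  obtain ⟨k, hk⟩ := h1
  have hk' : g h.cE = h.cE ^ k := hk.symm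
  have hpow : ∀ j : ℕ, (g ^ j) h.cE = h.cE ^ (k ^ j) := by
    intro j
    induction j with
    | zero => simp
    | succ j ih => rw [pow_succ', MulAut.mul_apply, ih, map_pow, hk', ← pow_mul, ← pow_succ']
  have h2 : (g ^ p) h.cE = h.cE := h.fix_cE_of_rho_eq_one _ (by rw [map_pow]; exact hg)
  rw [hpow p] at h2
  have h3 : k ^ p ≡ 1 [MOD p] := by
    have := (pow_eq_pow_iff_modEq (x := h.cE) (n := k ^ p) (m := 1)).mp (by rw [h2, pow_one])
    rwa [h.orderOf_cE] at this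
  have h4 : k ≡ 1 [MOD p] := by
    rw [← ZMod.natCast_eq_natCast_iff] at h3 ⊢
    rw [Nat.cast_pow, ZMod.pow_card] at h3
    exact h3
  rw [hk']
  have := (pow_eq_pow_iff_modEq (x := h.cE) (n := k) (m := 1)).mpr (by rw [h.orderOf_cE]; exact h4)
  rw [this, pow_one]

/-- the action on `Inn(E1)` of conjugation by `r z^k` -/
theorem rho_of_conj [Fact p.Prime] (h : ISetup S p n s x y z E1) (a : MulAut E1) (r : Ω) (hr : r ∈ E1)
    (k : ℕ) (ha : ∀ e : E1, ((a e : E1) : Ω) = (r * z ^ k) * e * (r * z ^ k)⁻¹) :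
    rhoInn E1 a = rhoInn E1 h.t1 ^ k := by
  have e1 : a = MulAut.conj (⟨r, hr⟩ : E1) * h.t1 ^ k := by
    ext e
    rw [ha, MulAut.mul_apply, MulAut.conj_apply]
    show _ = r * (((h.t1 ^ k) e : E1) : Ω) * r⁻¹
    rw [t1, conjAut_pow_apply]; group
  rw [e1, map_mul, map_pow, rhoInn_conj_eq_one h.inn_comm, one_mul]

theorem center_R [Fact p.Prime] [Finite S] (h : ISetup S p n s x y z E1) :
    ∀ r ∈ omSub S p, (∀ r' ∈ omSub S p, r' * r = r * r') → r ∈ Subgroup.zpowers (z ^ p ^ (n - 3)) := by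
  intro r hr hcomm
  have hRfin : Finite (omSub S p) := finite_of_le h.D.omSub_le
  have hnc : ¬ ∀ a b : omSub S p, a * b = b * a := by
    intro hc
    have := hc ⟨y, h.D.mem_omSub.mpr ⟨h.D.hyS, h.D.yp⟩⟩ ⟨x, h.D.mem_omSub.mpr ⟨h.D.hxS, h.D.xp⟩⟩
    exact h.yx_ne (congrArg Subtype.val this)
  obtain ⟨hcen, -, -, -⟩ := nonabelian_cube_basic h.D.card_omSub hnc
  have hc : (⟨z ^ p ^ (n - 3), h.D.c_mem_omSub⟩ : omSub S p) ∈ Subgroup.center (omSub S p) := by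
    rw [Subgroup.mem_center_iff]
    intro g
    exact Subtype.ext (h.D.c_central g (h.D.omSub_le g.2))
  have hc1 : (⟨z ^ p ^ (n - 3), h.D.c_mem_omSub⟩ : omSub S p) ≠ 1 :=
    fun hh => h.D.c_ne_one (congrArg Subtype.val hh)
  have hrc : (⟨r, hr⟩ : omSub S p) ∈ Subgroup.center (omSub S p) := by
    rw [Subgroup.mem_center_iff]
    intro g
    exact Subtype.ext (hcomm g g.2)
  obtain ⟨i, hi⟩ := Subgroup.mem_zpowers_iff.mp (mem_zpowers_of_card_prime _ hcen hc hc1 _ hrc)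
  refine Subgroup.mem_zpowers_iff.mpr ⟨i, ?_⟩
  have := congrArg Subtype.val hi
  rwa [Subgroup.coe_zpow] at this

/-- central elements of `E1` commute with `z` -/
theorem center_comm_z [Fact p.Prime] [Finite S] (h : ISetup S p n s x y z E1) (e : Ω) (he : e ∈ E1)
    (hc : ∀ f ∈ E1, f * e = e * f) : z * e * z⁻¹ = e := by
  obtain ⟨r, hr, w, hw, rfl⟩ := h.decomp e he
  have hwS : w ∈ S := h.hES (h.w_mem he hr rfl)
  have hrc : ∀ r' ∈ omSub S p, r' * r = r * r' := by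
    intro r' hr'
    have h1 := hc r' (h.hR hr')
    have h2 := h.zp_pow_central w hw r' (h.D.omSub_le hr')
    have h3 : r' * r = r' * (r * w) * w⁻¹ := by group
    rw [h3, h1, mul_assoc r w r', ← h2]; group
  have h4 := h.center_R r hr hrc
  have h5 := h.c_pow_central r h4 z h.D.hzS
  have h6 := h.zp_pow_central w hw z h.D.hzS
  calc z * (r * w) * z⁻¹ = (z * r) * w * z⁻¹ := by group
    _ = r * (z * w) * z⁻¹ := by rw [h5]; group
    _ = r * w := by rw [h6]; group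

/-- **The power trick.**  An `F`-automorphism of `E1` fixing `c` and conjugating `c_z` into `Aut_S(E1)`
centralizes the image of `c_z` on `Inn(E1)`. -/
theorem rho_comm_of_normalizes [Fact p.Prime] [Finite S] (h : ISetup S p n s x y z E1)
    (F : FusionSystem S) (hrec : F.IsReceptive E1) (ν : MulAut E1) (hν : ν ∈ F.autGroup E1)
    (hνc : ν h.cE = h.cE) (hnorm : ν * h.t1 * ν⁻¹ ∈ autInducedBy S E1) :
    rhoInn E1 ν * rhoInn E1 h.t1 * (rhoInn E1 ν)⁻¹ = rhoInn E1 h.t1 := by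
  have hp : p.Prime := Fact.out
  obtain ⟨g0, hg0S, hg0⟩ := (mem_autInducedBy_iff S E1 _).mp hnorm
  have hzext : z ∈ extender S E1 (E1.subtype.comp ν.toMonoidHom) := by
    rw [mem_extender_iff]
    refine ⟨h.D.hzS, h.le_normalizer h.D.hzS, g0, hg0S, ?_⟩
    intro e he
    show ((ν ⟨z * e * z⁻¹, he⟩ : E1) : Ω) = g0 * ((ν e : E1) : Ω) * g0⁻¹
    rw [← hg0 (ν e), MulAut.mul_apply, MulAut.mul_apply, MulAut.inv_apply_self]
    rfl
  have hEext : E1 ≤ extender S E1 (E1.subtype.comp ν.toMonoidHom) :=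
    le_extender h.hES (fun e => h.hES (ν e).2)
  have hSext : S ≤ extender S E1 (E1.subtype.comp ν.toMonoidHom) := by
    intro g hg
    obtain ⟨r, hr, k, rfl⟩ := h.S_decomp g hg
    exact Subgroup.mul_mem _ (hEext hr) (Subgroup.pow_mem _ hzext k)
  obtain ⟨μ, -, hμe⟩ := exists_extension_of_le_extender F h.hES hrec ν hν hSext
  -- the image of `z`
  obtain ⟨r, hr, k, hk⟩ := h.D.exists_decomp _ (μ ⟨z, h.D.hzS⟩).2
  -- `μ c = c ^ k`
  have e1 : p ^ (n - 3) = p * p ^ (n - 4) := by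
    rw [← pow_succ']; congr 1; have := h.D.hn; omega
  have hμc : ((μ ⟨z ^ p ^ (n - 3), h.D.c_mem⟩ : S) : Ω) = (z ^ p ^ (n - 3)) ^ k := by
    have h1 : (⟨z ^ p ^ (n - 3), h.D.c_mem⟩ : S) = (⟨z, h.D.hzS⟩ : S) ^ p ^ (n - 3) := Subtype.ext (by
      rw [Subgroup.coe_pow])
    rw [h1, map_pow, Subgroup.coe_pow, hk, e1, pow_mul,
      h.D.pabel r (h.D.omSub_le hr) (z ^ k) (S.pow_mem h.D.hzS k), (h.D.mem_omSub.mp hr).2, one_mul,
      ← pow_mul, ← pow_mul, ← pow_mul]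
    congr 1
    ring
  have hck : (z ^ p ^ (n - 3)) ^ k = z ^ p ^ (n - 3) := by
    rw [← hμc]
    have h2 := hμe h.cE
    rw [hνc] at h2
    exact h2
  have hk1 : k ≡ 1 [MOD p] := by
    have ho : orderOf (z ^ p ^ (n - 3)) = p := by
      have hcp : (z ^ p ^ (n - 3)) ^ p = 1 := h.D.c_pow
      have hc1 : z ^ p ^ (n - 3) ≠ 1 := h.D.c_ne_one
      exact orderOf_eq_prime hcp hc1
    have := (pow_eq_pow_iff_modEq (x := z ^ p ^ (n - 3)) (n := k) (m := 1)).mp (by rw [hck, pow_one])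
    rwa [ho] at this
  -- `ν t1 ν⁻¹` is conjugation by `μ z`
  have hconj : ∀ e : E1, (((ν * h.t1 * ν⁻¹) e : E1) : Ω) = (r * z ^ k) * e * (r * z ^ k)⁻¹ := by
    intro e
    rw [MulAut.mul_apply, MulAut.mul_apply, ← hμe]
    have h3 : (⟨((h.t1 (ν⁻¹ e) : E1) : Ω), h.hES (h.t1 (ν⁻¹ e)).2⟩ : S) =
        ⟨z, h.D.hzS⟩ * ⟨((ν⁻¹ e : E1) : Ω), h.hES (ν⁻¹ e).2⟩ * (⟨z, h.D.hzS⟩ : S)⁻¹ := Subtype.ext rfl
    rw [h3, map_mul, map_mul, map_inv]
    show ((μ ⟨z, h.D.hzS⟩ : S) : Ω) * ((μ ⟨((ν⁻¹ e : E1) : Ω), h.hES (ν⁻¹ e).2⟩ : S) : Ω) *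
      ((μ ⟨z, h.D.hzS⟩ : S) : Ω)⁻¹ = _
    rw [hμe (ν⁻¹ e), MulAut.apply_inv_self, hk]
  have h4 := h.rho_of_conj _ r (h.hR hr) k hconj
  rw [map_mul, map_mul, map_inv] at h4
  rw [h4]
  have ho' : orderOf (rhoInn E1 h.t1) ∣ p := orderOf_dvd_of_pow_eq_one h.rho_t1_pow
  have := (pow_eq_pow_iff_modEq (x := rhoInn E1 h.t1) (n := k) (m := 1)).mpr (hk1.of_dvd ho')
  rw [this, pow_one]

end ISetup

open Cfsg.Agent.Lib.Helper03.SL2Inv in
/-- **No essential subgroup contains `Ω₁(S)`.** -/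
theorem DData.not_isEssential_of_omSub_le [Fact p.Prime] [Finite S] (D : DData S p n s x y z)
    (hS : IsPGroup p S) (F : FusionSystem S) (hF : F.IsSaturated p) {E1 : Subgroup Ω}
    (hR : omSub S p ≤ E1) : ¬ F.IsEssential p E1 := by
  classical
  intro hE
  have hp : p.Prime := Fact.out
  have hES : E1 ≤ S := hE.1.1
  have hz : z ∉ E1 := by
    intro hz
    apply Cfsg.Agent.Lib.Helper91.ne_top_of_isEssential p F hF hE
    apply le_antisymm hES
    intro g hg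
    obtain ⟨r, hr, k, rfl⟩ := D.exists_decomp g hg
    exact E1.mul_mem (hR hr) (E1.pow_mem hz k)
  have h : ISetup S p n s x y z E1 := ⟨D, hR, hES, hz⟩
  have hfn := hE.2.1
  obtain ⟨hfc, hfa⟩ := fullyNormalized_props p hS F hF E1 hfn
  have hrec : F.IsReceptive E1 := ((Cfsg.Agent.S5077.result p hS F).mp hF).2 E1 hfc
  obtain ⟨-, A, hA⟩ := hfa
  have hfinE : Finite E1 := finite_of_le hES
  have hfinΓ : Finite (F.autGroup E1) := finite_autGroup F hES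
  have hfinI : Finite (Inn E1) := inferInstance
  set ρ : F.autGroup E1 →* MulAut (Inn E1) := (rhoInn E1).comp (F.autGroup E1).subtype with hρ
  have ht1S : h.t1 ∈ autInducedBy S E1 :=
    conjAut_mem_autInducedBy (K := S) D.hzS (h.le_normalizer D.hzS)
  have ht1Γ : h.t1 ∈ F.autGroup E1 := autInducedBy_le_autGroup F hES ht1S
  set τ : F.autGroup E1 := ⟨h.t1, ht1Γ⟩ with hτ
  have hρτ : ρ τ = rhoInn E1 h.t1 := rfl
  let Fix : Subgroup (F.autGroup E1) :=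
    (MulAction.stabilizer (MulAut E1) h.cE).subgroupOf (F.autGroup E1)
  have hFixmem : ∀ g : F.autGroup E1, g ∈ Fix ↔ (g : MulAut E1) h.cE = h.cE := by
    intro g
    rw [Subgroup.mem_subgroupOf, MulAction.mem_stabilizer_iff]
    rfl
  have hτA : τ ∈ A := by
    show τ ∈ (A : Subgroup (F.autGroup E1))
    rw [hA, Subgroup.mem_subgroupOf]
    exact ht1S
  -- the image of `Aut_S(E1)`
  have hAρ : ∀ a ∈ A, ρ a ∈ Subgroup.zpowers (ρ τ) := by
    intro a ha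
    have ha' : a ∈ (A : Subgroup (F.autGroup E1)) := ha
    rw [hA, Subgroup.mem_subgroupOf] at ha'
    obtain ⟨g, hgS, hg⟩ := (mem_autInducedBy_iff S E1 _).mp ha'
    obtain ⟨r, hr, k, rfl⟩ := h.S_decomp g hgS
    have := h.rho_of_conj (a : MulAut E1) r hr k hg
    rw [hρτ]
    show rhoInn E1 (a : MulAut E1) ∈ _
    rw [this]
    exact Subgroup.pow_mem _ (Subgroup.mem_zpowers _) k
  have hFix : ∀ g : F.autGroup E1, ρ g ^ p = 1 → g ∈ Fix := by
    intro g hg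
    rw [hFixmem]
    exact h.fix_cE_of_rho_pow _ hg
  have ha : ∀ ν ∈ Fix, ν * τ * ν⁻¹ ∈ A → ρ ν * ρ τ * (ρ ν)⁻¹ = ρ τ := by
    intro ν hνF hνA
    have hνA' : ν * τ * ν⁻¹ ∈ (A : Subgroup (F.autGroup E1)) := hνA
    rw [hA, Subgroup.mem_subgroupOf] at hνA'
    exact h.rho_comm_of_normalizes F hrec (ν : MulAut E1) ν.2 ((hFixmem ν).mp hνF) hνA'
  have key := sylow_trick D.hp5 h.inn_comm h.inn_exp h.card_inn ρ τ h.rho_t1_ne_one h.rho_t1_pow
    A hτA hAρ Fix hFix ha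
  -- the normalizer property
  have hnormρ : ∀ α : F.autGroup E1, ∃ i : ℤ, (ρ α)⁻¹ * ρ τ * ρ α = ρ τ ^ i := by
    intro α
    have h1 : ρ (α⁻¹ * τ * α) ^ p = 1 := by
      rw [map_mul, map_mul, map_inv]
      have : (ρ α)⁻¹ * ρ τ * ρ α = (ρ α)⁻¹ * ρ τ * ((ρ α)⁻¹)⁻¹ := by rw [inv_inv]
      rw [this, conj_pow, hρτ, h.rho_t1_pow, mul_one, mul_inv_cancel]
    obtain ⟨i, hi⟩ := Subgroup.mem_zpowers_iff.mp (key _ h1)
    refine ⟨i, ?_⟩
    rw [hi, map_mul, map_mul, map_inv]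
  -- the chain
  obtain ⟨-, hline⟩ := Cfsg.Agent.Lib.Helper27.MetaSCV.line_of_pElement h.inn_comm h.inn_exp h.card_inn
    (rhoInn E1 h.t1) 1 (by rw [pow_one]; exact h.rho_t1_pow) h.rho_t1_ne_one
  set K₁ : Subgroup Ω := (Subgroup.center E1).map E1.subtype with hK₁
  set L : Subgroup E1 :=
    (fixSub (rhoInn E1 h.t1)).comap ((MulAut.conj : E1 →* MulAut E1).rangeRestrict) with hL
  have hLmem : ∀ e : E1, e ∈ L ↔ rhoInn E1 h.t1 (innMk e) = innMk e := fun e => Iff.rfl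
  set K₂ : Subgroup Ω := L.map E1.subtype with hK₂
  have hK₁mem : ∀ e : E1, (e : Ω) ∈ K₁ ↔ e ∈ Subgroup.center E1 := by
    intro e
    rw [hK₁]
    constructor
    · rintro ⟨e', he', hee'⟩
      have : e' = e := Subtype.ext hee'
      rwa [← this]
    · intro he
      exact ⟨e, he, rfl⟩
  have hK₂mem : ∀ e : E1, (e : Ω) ∈ K₂ ↔ e ∈ L := by
    intro e
    rw [hK₂]
    constructor
    · rintro ⟨e', he', hee'⟩
      have : e' = e := Subtype.ext hee'
      rwa [← this]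
    · intro he
      exact ⟨e, he, rfl⟩
  have hcenter_inn : ∀ e : E1, e ∈ Subgroup.center E1 ↔ innMk e = 1 := by
    intro e
    rw [Subgroup.mem_center_iff]
    constructor
    · intro he
      apply Subtype.ext
      show MulAut.conj e = 1
      ext v
      rw [MulAut.conj_apply, MulAut.one_apply, ← he v, mul_inv_cancel_right]
    · intro he v
      have h1 : MulAut.conj e = 1 := congrArg Subtype.val he
      have h2 := DFunLike.congr_fun h1 v
      rw [MulAut.conj_apply, MulAut.one_apply] at h2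
      calc v * e = (e * v * e⁻¹) * e := by rw [h2]
        _ = e * v := by group
  apply hz
  refine mem_of_stab_three hS F hE K₁ K₂ ?_ ?_ ?_ D.hzS (h.le_normalizer D.hzS) ?_ ?_ ?_ ?_
  · -- K₁ ≤ K₂
    rintro _ ⟨e, he, rfl⟩
    refine ⟨e, ?_, rfl⟩
    show e ∈ L
    rw [hLmem, (hcenter_inn e).mp he, map_one]
  · -- invariance of the centre
    intro α _ e he
    rw [hK₁mem] at he ⊢
    rw [Subgroup.mem_center_iff] at he ⊢
    intro v
    have := he (α⁻¹ v)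
    have h2 := congrArg α this
    rw [map_mul, map_mul, MulAut.apply_inv_self] at h2
    exact h2
  · -- invariance of `L`
    intro α hα e he
    rw [hK₂mem] at he ⊢
    rw [hLmem] at he ⊢
    obtain ⟨i, hi⟩ := hnormρ ⟨α, hα⟩
    have h1 : ρ ⟨α, hα⟩ = rhoInn E1 α := rfl
    rw [h1, hρτ] at hi
    have h2 : (rhoInn E1 h.t1 ^ i) (innMk e) = innMk e := zpow_apply_fixed _ _ he i
    rw [← hi, MulAut.mul_apply, MulAut.mul_apply, rhoInn_apply] at h2
    have h3 := congrArg (rhoInn E1 α) h2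
    rw [MulAut.apply_inv_self] at h3
    rw [h3]
    exact rhoInn_apply α e
  · -- `z` centralizes the centre
    intro e he heE
    have he' : (⟨e, heE⟩ : E1) ∈ Subgroup.center E1 := (hK₁mem ⟨e, heE⟩).mp he
    rw [Subgroup.mem_center_iff] at he'
    exact h.center_comm_z e heE (fun f hf => congrArg Subtype.val (he' ⟨f, hf⟩))
  · -- `z⁻¹` normalizes `L`
    intro e he heE
    have he' : (⟨e, heE⟩ : E1) ∈ L := (hK₂mem ⟨e, heE⟩).mp he
    rw [hLmem] at he'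
    have h1 : (⟨z⁻¹ * e * z, (h.t1⁻¹ ⟨e, heE⟩).2⟩ : E1) = h.t1⁻¹ ⟨e, heE⟩ := rfl
    have h2 : (z⁻¹ * e * z) ∈ E1 := (h.t1⁻¹ ⟨e, heE⟩).2
    have h3 : ((⟨z⁻¹ * e * z, h2⟩ : E1) : Ω) ∈ K₂ := by
      rw [hK₂mem, hLmem, h1]
      have h4 : (rhoInn E1 h.t1)⁻¹ (innMk ⟨e, heE⟩) = innMk ⟨e, heE⟩ := by
        conv_lhs => rw [← he']
        exact MulAut.inv_apply_self _ _ _
      have h5 : innMk (h.t1⁻¹ ⟨e, heE⟩) = (rhoInn E1 h.t1)⁻¹ (innMk ⟨e, heE⟩) := by
        rw [← map_inv, rhoInn_apply]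
      rw [h5, h4]
      exact he'
    exact h3
  · -- `[L, z] ≤ Z(E1)`
    intro e he heE
    have he' : (⟨e, heE⟩ : E1) ∈ L := (hK₂mem ⟨e, heE⟩).mp he
    rw [hLmem, rhoInn_apply] at he'
    have h1 : (⟨e, heE⟩ : E1)⁻¹ * h.t1 ⟨e, heE⟩ ∈ Subgroup.center E1 := by
      rw [hcenter_inn, innMk_mul, innMk_inv, he', inv_mul_cancel]
    exact (hK₁mem _).mpr h1
  · -- `[E1, z] ≤ L`
    intro u hu
    have h1 : (⟨u, hu⟩ : E1)⁻¹ * h.t1 ⟨u, hu⟩ ∈ L := by
      rw [hLmem, innMk_mul, innMk_inv, ← rhoInn_apply]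
      have h2 : dsp h.inn_comm (rhoInn E1 h.t1) (innMk ⟨u, hu⟩) ∈ (dsp h.inn_comm (rhoInn E1 h.t1)).ker := by
        rw [← hline]
        exact ⟨_, rfl⟩
      rw [MonoidHom.mem_ker, dsp_apply, dsp_apply] at h2
      exact (inv_mul_eq_one.mp h2).symm
    exact (hK₂mem _).mpr h1

end Cfsg.Agent.Lib.Helper89
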