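import Mathlib
import Cfsg.Agent.S5077
import Cfsg.Agent.Lib.Helper89.MaxClassFus
import Cfsg.Agent.Lib.Helper89.Generation

set_option autoImplicit false

/-!
`F`-automorphisms of a maximal, centric, fully normalized, non-essential subgroup extend to `S`.
-/

namespace Cfsg.Agent.Lib.Helper89

open Cfsg Cfsg.FusionSystem Cfsg.Agent.Lib.Helper87

variable {Ω : Type*} [Group Ω] {S : Subgroup Ω}

theorem exists_extension_of_max_not_essential' [Finite S] {p : ℕ} [Fact p.Prime] (hS : IsPGroup p S)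
    (F : FusionSystem S) (hF : F.IsSaturated p) {N : Subgroup Ω} (hNS : N ≤ S)
    (hfn : F.IsFullyNormalized N) (hcen : F.IsCentric N) (hne : N ≠ S) (hess : ¬ F.IsEssential p N)
    (hmax : ∀ X : Subgroup Ω, N ≤ X → X ≤ S → X ≠ N → X = S)
    (γ₀ : MulAut N) (hγ₀ : γ₀ ∈ F.autGroup N) :
    ∃ μ ∈ F.autGroup S, ∀ u : N, ((μ ⟨u, hNS u.2⟩ : S) : Ω) = γ₀ u := by
  classical
  have hfinN : Finite N := finite_of_le hNS
  obtain ⟨hfc, hfa⟩ := fullyNormalized_props p hS F hF N hfn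
  have hrec : F.IsReceptive N := ((Cfsg.Agent.S5077.result p hS F).mp hF).2 N hfc
  let B' : Subgroup (MulAut N) :=
    { carrier := {α | ∃ μ ∈ F.autGroup S, ∀ u : N, ((μ ⟨u, hNS u.2⟩ : S) : Ω) = α u}
      one_mem' := ⟨1, one_mem _, fun u => rfl⟩
      mul_mem' := by
        rintro a b ⟨μ, hμ, ha⟩ ⟨ν, hν, hb⟩
        refine ⟨μ * ν, mul_mem hμ hν, fun u => ?_⟩
        rw [MulAut.mul_apply, MulAut.mul_apply]
        have h1 : ν ⟨u, hNS u.2⟩ = ⟨((b u : N) : Ω), hNS (b u).2⟩ := Subtype.ext (hb u)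
        rw [h1]
        exact ha (b u)
      inv_mem' := by
        rintro a ⟨μ, hμ, ha⟩
        refine ⟨μ⁻¹, inv_mem hμ, fun u => ?_⟩
        have h1 := ha (a⁻¹ u)
        rw [MulAut.apply_inv_self] at h1
        have h2 : μ ⟨((a⁻¹ u : N) : Ω), hNS (a⁻¹ u).2⟩ = ⟨u, hNS u.2⟩ := Subtype.ext h1
        rw [← h2, MulAut.inv_apply_self] }
  have hInn : Inn N ≤ B' := by
    rintro _ ⟨v, rfl⟩
    refine ⟨MulAut.conj (⟨v, hNS v.2⟩ : S), inn_le_autGroup F (le_refl S) ⟨_, rfl⟩, fun u => rfl⟩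
  have hext : ∀ α ∈ F.autGroup N, ∀ g ∈ extender S N (N.subtype.comp α.toMonoidHom), g ∉ N →
      α ∈ B' := by
    intro α hα g hg hgN
    have hNX : N ≤ extender S N (N.subtype.comp α.toMonoidHom) :=
      le_extender hNS (fun u => hNS (α u).2)
    have hXS : extender S N (N.subtype.comp α.toMonoidHom) ≤ S :=
      (extender_le S N _).trans (normalizerIn_le S N)
    have hXN : extender S N (N.subtype.comp α.toMonoidHom) ≠ N := fun h => hgN (h ▸ hg)
    have hX := hmax _ hNX hXS hXN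
    obtain ⟨μ, hμ, hμe⟩ := exists_extension_of_le_extender F hNS hrec α hα (by rw [hX])
    exact ⟨μ, hμ, hμe⟩
  have hle := autGroup_le_of_extender_of_not_essential hS hfn hfa hcen hne hess B' hInn hext
  obtain ⟨μ, hμ, h⟩ := hle hγ₀
  exact ⟨μ, hμ, h⟩

end Cfsg.Agent.Lib.Helper89
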