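import Mathlib
import Cfsg.Agent.S5077
import Cfsg.Agent.Lib.Helper89.MaxClassFus
import Cfsg.Agent.Lib.Helper89.Generation
import Cfsg.Agent.Lib.Helper60.S5289H
import Cfsg.Agent.Lib.Helper89.RkTwoJ

/-! Glue: the general fusion-system leaves of S5289, re-exported under one namespace. -/

set_option autoImplicit false

namespace Cfsg.Agent.Lib.Helper89

open Cfsg Cfsg.FusionSystem

variable {Ω : Type*} [Group Ω] {S : Subgroup Ω}

theorem exists_torus_of_essential_sq [Finite S] {p : ℕ} [Fact p.Prime] (hS : IsPGroup p S)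
    (F : FusionSystem S) (hF : F.IsSaturated p) (hp2 : p ≠ 2) {E : Subgroup Ω} (hE : F.IsEssential p E)
    (hcard : Nat.card E = p ^ 2) (hexp : ∀ e ∈ E, e ^ p = 1) :
    ∃ (d d' : Ω) (γ₀ : MulAut (normalizerIn S E)), d ∈ E ∧ d' ∈ E ∧ d ≠ 1 ∧ d' ∉ Subgroup.zpowers d ∧
      γ₀ ∈ F.autGroup (normalizerIn S E) ∧
      (∀ g ∈ normalizerIn S E, g * d = d * g) ∧
      (∀ hdN : d ∈ normalizerIn S E, ((γ₀ ⟨d, hdN⟩ : normalizerIn S E) : Ω) = d ^ 2) ∧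
      (∀ hd'N : d' ∈ normalizerIn S E, ((γ₀ ⟨d', hd'N⟩ : normalizerIn S E) : Ω) = d' ^ ((p + 1) / 2)) ∧
      (∀ g ∈ normalizerIn S E, g ∉ E → ∀ g' ∈ normalizerIn S E, ∃ k : ℕ, ∃ e ∈ E, g' = g ^ k * e) :=
  Cfsg.Agent.Lib.Helper60.S5289.exists_torus_of_essential_sq hS F hF hp2 hE hcard hexp

theorem exists_extension_of_max_not_essential [Finite S] {p : ℕ} [Fact p.Prime] (hS : IsPGroup p S)
    (F : FusionSystem S) (hF : F.IsSaturated p) {N : Subgroup Ω} (hNS : N ≤ S)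
    (hfn : F.IsFullyNormalized N) (hcen : F.IsCentric N) (hne : N ≠ S) (hess : ¬ F.IsEssential p N)
    (hchar : ∀ μ ∈ F.autGroup S, ∀ u : S, (u : Ω) ∈ N → ((μ u : S) : Ω) ∈ N)
    (hmax : ∀ X : Subgroup Ω, N ≤ X → X ≤ S → X ≠ N → X = S)
    (γ₀ : MulAut N) (hγ₀ : γ₀ ∈ F.autGroup N) :
    ∃ μ ∈ F.autGroup S, ∀ u : N, ((μ ⟨u, hNS u.2⟩ : S) : Ω) = γ₀ u :=
  exists_extension_of_max_not_essential' hS F hF hNS hfn hcen hne hess hmax γ₀ hγ₀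

end Cfsg.Agent.Lib.Helper89
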