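import Cfsg.Agent.Lib.Helper89.RkTwoI
import Cfsg.Agent.Lib.Helper89.RkTwoLeaves2
import Cfsg.Agent.Lib.Helper57.AutSqStruct2

set_option autoImplicit false

/-!
The elementary abelian subgroups of order `p²` of `G(p, 4; s)` are not essential.
-/

namespace Cfsg.Agent.Lib.Helper89

open Cfsg Cfsg.FusionSystem Cfsg.Agent.Lib.Helper03.FusEss Cfsg.Agent.Lib.Helper87

variable {Ω : Type*} [Group Ω] {S : Subgroup Ω} {p n s : ℕ} {x y z : Ω}

/-- a subgroup of order `p²` containing `d ≠ 1` and `d' ∉ ⟨d⟩` is the only subgroup of itself containing both -/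
theorem eq_of_card_sq_of_mem {G : Type*} [Group G] {p : ℕ} [Fact p.Prime] (E Y : Subgroup G)
    (hE : Nat.card E = p ^ 2) (hYE : Y ≤ E) {d d' : G} (hd : d ∈ Y) (hd' : d' ∈ Y) (hd1 : d ≠ 1)
    (hd'd : d' ∉ Subgroup.zpowers d) : Y = E := by
  have hp : p.Prime := Fact.out
  have hfin : Finite E := Nat.finite_of_card_ne_zero (by rw [hE]; exact pow_ne_zero _ hp.ne_zero)
  have hdvd : Nat.card Y ∣ p ^ 2 := hE ▸ Subgroup.card_dvd_of_le hYE
  obtain ⟨k, hk2, hk⟩ := (Nat.dvd_prime_pow hp).mp hdvd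
  interval_cases k
  · exfalso
    rw [pow_zero] at hk
    have := Subgroup.card_eq_one.mp hk
    rw [this, Subgroup.mem_bot] at hd
    exact hd1 hd
  · exfalso
    rw [pow_one] at hk
    exact hd'd (mem_zpowers_of_card_prime Y hk hd hd1 d' hd')
  · exact Subgroup.eq_of_le_of_card_ge hYE (by rw [hE, hk])

theorem DData.not_isEssential_of_sq [Fact p.Prime] [Finite S] (D : DData S p n s x y z)
    (hS : IsPGroup p S) (F : FusionSystem S) (hF : F.IsSaturated p) {E : Subgroup Ω} (hn4 : n = 4)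
    (hcard : Nat.card E = p ^ 2) (hexp : ∀ e ∈ E, e ^ p = 1) : ¬ F.IsEssential p E := by
  classical
  intro hE
  have hp : p.Prime := Fact.out
  have hp5 := D.hp5
  have hES : E ≤ S := hE.1.1
  have hcen : centralizerIn S E ≤ E := centralizerIn_le_of_isEssential F hE
  have hc_eq : z ^ p ^ (n - 3) = z ^ p := by rw [hn4]; norm_num
  have hzp1 : z ^ p ≠ 1 := by rw [← hc_eq]; exact D.c_ne_one
  have hcE : z ^ p ^ (n - 3) ∈ E :=
    hcen (mem_centralizerIn.mpr ⟨D.c_mem, fun e he => D.c_central e (hES he)⟩)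
  have hER : E ≤ omSub S p := fun e he => D.mem_omSub.mpr ⟨hES he, hexp e he⟩
  -- `Ω₁(S)` normalizes `E`
  have hRconj : ∀ r ∈ omSub S p, ∀ e ∈ E, r * e * r⁻¹ ∈ E := by
    intro r hr e he
    have h1 := D.comm_omSub r hr e (hER he)
    have h2 : r * e * r⁻¹ = (r * e * r⁻¹ * e⁻¹) * e := by group
    rw [h2]
    exact E.mul_mem ((Subgroup.zpowers_le.mpr hcE) h1) he
  have hRN : omSub S p ≤ normalizerIn S E := by
    intro r hr
    rw [mem_normalizerIn]
    refine ⟨D.omSub_le hr, ?_⟩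
    intro e
    constructor
    · exact hRconj r hr e
    · intro he
      have := hRconj r⁻¹ (Subgroup.inv_mem _ hr) _ he
      have e1 : r⁻¹ * (r * e * r⁻¹) * r⁻¹⁻¹ = e := by group
      rwa [e1] at this
  -- an element of `Ω₁(S)` outside `E`
  have hRfin : Finite (omSub S p) := finite_of_le D.omSub_le
  obtain ⟨y0, hy0R, hy0E⟩ : ∃ y0 ∈ omSub S p, y0 ∉ E := by
    by_contra hcon
    have hle : omSub S p ≤ E := fun r hr => by
      by_contra h
      exact hcon ⟨r, hr, h⟩
    have hEfin : Finite E := finite_of_le hES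
    have := Subgroup.card_le_of_le hle
    rw [D.card_omSub, hcard] at this
    have h2 : p ^ 2 < p ^ 3 := Nat.pow_lt_pow_right hp.one_lt (by norm_num)
    omega
  set N := normalizerIn S E with hN
  obtain ⟨d, d', γ₀, hdE, hd'E, hd1, hd'd, hγ₀, hdcen, hγd, hγd', hidx⟩ :=
    exists_torus_of_essential_sq hS F hF (by omega) hE hcard hexp
  have hNS : N ≤ S := normalizerIn_le S E
  have hEN : E ≤ N := le_normalizerIn hES
  have hNR : N ≤ omSub S p := by
    intro g hg
    obtain ⟨k, e, he, rfl⟩ := hidx y0 (hRN hy0R) hy0E g hg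
    exact Subgroup.mul_mem _ (Subgroup.pow_mem _ hy0R k) (hER he)
  have hzN : z ∉ N := by
    intro hz
    exact hzp1 (D.mem_omSub.mp (hNR hz)).2
  have hI : ISetup S p n s x y z N := ⟨D, hRN, hNS, hzN⟩
  have hess : ¬ F.IsEssential p N := D.not_isEssential_of_omSub_le hS F hF hRN
  have hfn : F.IsFullyNormalized N :=
    isFullyNormalized_of_normalizerIn_eq F hNS (normalizerIn_eq_of_conj_mem hI.conj_mem)
  have hfcN := (fullyNormalized_props p hS F hF N hfn).1
  have hcenN : F.IsCentric N := by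
    apply isCentric_of_fullyCentralized F hfcN
    intro g hg
    obtain ⟨hgS, hgc⟩ := mem_centralizerIn.mp hg
    exact hEN (hcen (mem_centralizerIn.mpr ⟨hgS, fun e he => hgc e (hEN he)⟩))
  have hneN : N ≠ S := fun h => hzN (h ▸ D.hzS)
  have hchar : ∀ μ ∈ F.autGroup S, ∀ u : S, (u : Ω) ∈ N → ((μ u : S) : Ω) ∈ N := by
    intro μ _ u hu
    apply hRN
    refine D.mem_omSub.mpr ⟨(μ u).2, ?_⟩
    have h1 : u ^ p = 1 := Subtype.ext (by
      rw [Subgroup.coe_pow]; exact (D.mem_omSub.mp (hNR hu)).2)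
    have h2 : (μ u) ^ p = 1 := by rw [← map_pow, h1, map_one]
    have := congrArg Subtype.val h2
    rwa [Subgroup.coe_pow] at this
  have hmax : ∀ X : Subgroup Ω, N ≤ X → X ≤ S → X ≠ N → X = S := by
    intro X hNX hXS hXN
    obtain ⟨g, hgX, hgN⟩ : ∃ g ∈ X, g ∉ N := by
      by_contra hcon
      apply hXN
      apply le_antisymm _ hNX
      intro g hg
      by_contra h
      exact hcon ⟨g, hg, h⟩
    obtain ⟨r, hr, k, rfl⟩ := D.exists_decomp g (hXS hgX)
    have hzkX : z ^ k ∈ X := by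
      have : z ^ k = r⁻¹ * (r * z ^ k) := by group
      rw [this]; exact X.mul_mem (X.inv_mem (hNX (hRN hr))) hgX
    have hzX : z ∈ X := by
      by_cases hpk : p ∣ k
      · exfalso
        apply hgN
        obtain ⟨j, rfl⟩ := hpk
        refine N.mul_mem (hRN hr) (hRN ?_)
        rw [pow_mul]
        refine D.mem_omSub.mpr ⟨S.pow_mem (S.pow_mem D.hzS _) _, ?_⟩
        rw [← pow_mul, mul_comm, pow_mul, ← hc_eq, D.c_pow, one_pow]
      · have hcop : Nat.Coprime k (orderOf z) := by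
          rw [D.orderOf_z]
          exact Nat.Coprime.pow_right _ ((Nat.Prime.coprime_iff_not_dvd hp).mpr hpk).symm
        obtain ⟨m, hm⟩ := exists_pow_eq_self_of_coprime hcop
        rw [← hm]; exact X.pow_mem hzkX m
    apply le_antisymm hXS
    intro g hg
    obtain ⟨r, hr, k, rfl⟩ := D.exists_decomp g hg
    exact X.mul_mem (hNX (hRN hr)) (X.pow_mem hzX k)
  obtain ⟨μ, hμ, hμe⟩ :=
    exists_extension_of_max_not_essential hS F hF hNS hfn hcenN hneN hess hchar hmax γ₀ hγ₀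
  have hd'S : d' ∈ S := hES hd'E
  have hμd' : ((μ ⟨d', hd'S⟩ : S) : Ω) = d' ^ ((p + 1) / 2) * 1 := by
    rw [mul_one, ← hγd' (hEN hd'E)]
    exact hμe ⟨d', hEN hd'E⟩
  -- `d'` does not commute with `y`
  have hyN : y ∈ N := hRN (D.mem_omSub.mpr ⟨D.hyS, D.yp⟩)
  have hr : d' * y ≠ y * d' := by
    intro hcomm
    -- all of `E` commutes with `y`
    have hY : E ⊓ Subgroup.centralizer {y} = E := by
      apply eq_of_card_sq_of_mem E _ hcard inf_le_left (d := d) (d' := d') _ _ hd1 hd'd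
      · exact ⟨hdE, Subgroup.mem_centralizer_iff.mpr (fun w hw => by
          rw [Set.mem_singleton_iff.mp hw]; exact hdcen y hyN)⟩
      · exact ⟨hd'E, Subgroup.mem_centralizer_iff.mpr (fun w hw => by
          rw [Set.mem_singleton_iff.mp hw]; exact hcomm.symm)⟩
    have hEy : ∀ e ∈ E, e * y = y * e := by
      intro e he
      have : e ∈ E ⊓ Subgroup.centralizer {y} := by rw [hY]; exact he
      exact (Subgroup.mem_centralizer_iff.mp this.2 y rfl).symm
    have hyE : y ∈ E := hcen (mem_centralizerIn.mpr ⟨D.hyS, hEy⟩)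
    -- so `E ≤ A`, which is abelian and contains `z`
    have hzE : z ∈ E := by
      apply hcen
      refine mem_centralizerIn.mpr ⟨D.hzS, fun e he => ?_⟩
      have heA := Cfsg.Agent.Lib.Helper57.AutSq.mem_A_of_comm D (hES he) (hEy e he)
      exact Cfsg.Agent.Lib.Helper57.AutSq.A_comm D e heA z Cfsg.Agent.Lib.Helper57.AutSq.z_mem_A
    exact hzN (hEN hzE)
  have hsq := D.aut_sq μ d' hd'S hr ((p + 1) / 2) 1 S.one_mem (by rw [one_mul, mul_one]) hμd'
  -- arithmetic
  have h2 : 2 * ((p + 1) / 2) = p + 1 := by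
    have hodd : Odd p := hp.odd_of_ne_two (by omega)
    obtain ⟨m, hm⟩ := hodd
    omega
  have h3 : ((((p + 1) / 2 : ℕ) : ZMod p)) * (((p + 1) / 2 : ℕ) : ZMod p) = 1 := by
    have := (ZMod.natCast_eq_natCast_iff _ _ _).mpr hsq
    simpa using this
  have h4 : (2 : ZMod p) * (((p + 1) / 2 : ℕ) : ZMod p) = 1 := by
    have : ((2 * ((p + 1) / 2) : ℕ) : ZMod p) = ((p + 1 : ℕ) : ZMod p) := by rw [h2]
    simpa using this
  have h5 : (4 : ZMod p) = 1 := by
    calc (4 : ZMod p) = 4 * ((((p + 1) / 2 : ℕ) : ZMod p) * (((p + 1) / 2 : ℕ) : ZMod p)) := by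
          rw [h3, mul_one]
      _ = (2 * (((p + 1) / 2 : ℕ) : ZMod p)) * (2 * (((p + 1) / 2 : ℕ) : ZMod p)) := by ring
      _ = 1 := by rw [h4, mul_one]
  have h6 : ((3 : ℕ) : ZMod p) = 0 := by
    have : (4 : ZMod p) - 1 = 0 := by rw [h5, sub_self]
    have e : ((3 : ℕ) : ZMod p) = 4 - 1 := by norm_num
    rw [e, this]
  have h7 := (ZMod.natCast_eq_zero_iff 3 p).mp h6
  have := Nat.le_of_dvd (by norm_num) h7
  omega

end Cfsg.Agent.Lib.Helper89
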