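import Mathlib

/-!
# Keystone 272011 K-S2720-P (architect helper7): the sign of a permutation all of whose non-fixed
points have the same even exact period.
-/

set_option autoImplicit false

namespace Cfsg.Agent.Lib.Helper89.S2720K

/-- every cycle of `π` has length `k` -/
theorem cycleType_eq_of_exact_period {α : Type*} [Fintype α] [DecidableEq α] (π : Equiv.Perm α)
    (k : ℕ) (hk0 : 0 < k)
    (hper : ∀ x, π x ≠ x → (π ^ k) x = x ∧ ∀ j : ℕ, 0 < j → j < k → (π ^ j) x ≠ x) :
    ∀ m ∈ π.cycleType, m = k := by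
  intro m hm
  rw [Equiv.Perm.cycleType_def, Multiset.mem_map] at hm
  obtain ⟨c, hc, rfl⟩ := hm
  have hc' : c ∈ π.cycleFactorsFinset := hc
  obtain ⟨hcyc, hcσ⟩ := Equiv.Perm.mem_cycleFactorsFinset_iff.mp hc'
  obtain ⟨x, hx⟩ := hcyc.nonempty_support
  have hxc : c x ≠ x := Equiv.Perm.mem_support.mp hx
  have hσx : π x ≠ x := by rw [← hcσ x hx]; exact hxc
  have hceq : c = π.cycleOf x := Equiv.Perm.cycle_is_cycleOf hx hc'
  have hpow : ∀ j : ℕ, (c ^ j) x = (π ^ j) x := fun j => by
    rw [hceq, Equiv.Perm.cycleOf_pow_apply_self]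
  show c.support.card = k
  rw [← hcyc.orderOf]
  have h1 : c ^ k = 1 := (hcyc.pow_eq_one_iff' hxc).mpr (by rw [hpow]; exact (hper x hσx).1)
  have hdvd : orderOf c ∣ k := orderOf_dvd_of_pow_eq_one h1
  have hle : orderOf c ≤ k := Nat.le_of_dvd hk0 hdvd
  have hpos : 0 < orderOf c := orderOf_pos c
  by_contra hne
  have hlt : orderOf c < k := lt_of_le_of_ne hle hne
  apply (hper x hσx).2 (orderOf c) hpos hlt
  rw [← hpow, pow_orderOf_eq_one]
  rfl

/-- KEYSTONE 272011  K-S2720-P. -/
theorem sign_of_exact_period {α : Type*} [Fintype α] [DecidableEq α] (π : Equiv.Perm α) (k : ℕ)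
    (hk : Even k) (hk0 : 0 < k)
    (hper : ∀ x, π x ≠ x → (π ^ k) x = x ∧ ∀ j : ℕ, 0 < j → j < k → (π ^ j) x ≠ x)
    (n : ℕ) (hn : Nat.card {x : α // π x ≠ x} = k * n) :
    Equiv.Perm.sign π = (-1) ^ n := by
  have hall := cycleType_eq_of_exact_period π k hk0 hper
  have hrep : π.cycleType = Multiset.replicate (Multiset.card π.cycleType) k :=
    Multiset.eq_replicate_card.mpr hall
  have hsum : π.cycleType.sum = Multiset.card π.cycleType * k := by
    conv_lhs => rw [hrep]
    rw [Multiset.sum_replicate, smul_eq_mul]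
  have hsupp : π.support.card = k * n := by
    rw [← hn, Nat.card_eq_fintype_card, Fintype.card_subtype]
    congr 1
  have hm : Multiset.card π.cycleType = n := by
    have h := Equiv.Perm.sum_cycleType π
    rw [hsum, hsupp, mul_comm] at h
    exact Nat.eq_of_mul_eq_mul_left hk0 h
  rw [Equiv.Perm.sign_of_cycleType, hsum, hm]
  obtain ⟨t, ht⟩ := hk
  rw [pow_add, ht, ← two_mul, mul_left_comm, pow_mul]
  simp

end Cfsg.Agent.Lib.Helper89.S2720K
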