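import Cfsg.Agent.Lib.Helper07.OrthTf
import Cfsg.Agent.Lib.Helper49.PrimeOrderOrth
import Cfsg.Agent.Lib.Helper50.SpinorIndex

/-!
# Keystone 272106 K-S2721-B (architect helper7): a class-preserving similarity with prescribed
multiplier in the centraliser of an isometry of odd order.
-/

set_option autoImplicit false

namespace Cfsg.Agent.Lib.Helper89.S2721K

open Module Matrix Cfsg.Agent.Lib.Helper08 Cfsg.Agent.Lib.Helper07.OG Cfsg.Agent.Lib.Helper49
  Cfsg.Agent.Lib.Helper50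

universe u

section gram

variable {F : Type u} [Field F] {ι : Type} [Fintype ι] [DecidableEq ι]
variable (Q : QuadraticForm F (ι → F))

/-- the Gram matrix of the polar form -/
noncomputable abbrev gramM : Matrix ι ι F :=
  LinearMap.BilinForm.toMatrix' (QuadraticMap.polarBilin Q)

theorem gramM_transpose : (gramM Q)ᵀ = gramM Q := by
  ext i j
  simp only [Matrix.transpose_apply, LinearMap.BilinForm.toMatrix'_apply,
    QuadraticMap.polarBilin_apply_apply]
  exact QuadraticMap.polar_comm _ _ _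

theorem gramM_isUnit_det (hQ : (QuadraticMap.polarBilin Q).Nondegenerate) :
    IsUnit (gramM Q).det := by
  have hMB : Matrix.toBilin' (gramM Q) = QuadraticMap.polarBilin Q := Matrix.toBilin'_toMatrix' _
  rw [isUnit_iff_ne_zero, ← Matrix.nondegenerate_iff_det_ne_zero,
    ← Matrix.nondegenerate_toBilin'_iff, hMB]
  exact hQ

/-- a similarity scales the Gram matrix -/
theorem gramM_similarity (g : ↥(Cfsg.Geo.quadSimilarityGroup (F := F) ⇑Q)) :
    (((g : GL ι F) : Matrix ι ι F))ᵀ * gramM Q * ((g : GL ι F) : Matrix ι ι F) =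
      (multFun Q g : F) • gramM Q := by
  have hMB : Matrix.toBilin' (gramM Q) = QuadraticMap.polarBilin Q := Matrix.toBilin'_toMatrix' _
  apply Matrix.toBilin'.injective
  rw [← Matrix.toBilin'_comp, hMB]
  apply LinearMap.ext₂
  intro x y
  rw [LinearMap.BilinForm.comp_apply, Matrix.toLin'_apply, Matrix.toLin'_apply,
    QuadraticMap.polarBilin_apply_apply, polar_similarity, map_smul, hMB]
  rfl

end gram

section generic2

variable {F : Type u} [Field F] [Fintype F] [DecidableEq F] {ι : Type} [Fintype ι] [DecidableEq ι]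
variable {Q : QuadraticForm F (ι → F)}

/-- KEYSTONE 272106  K-S2721-B. -/
theorem exists_comm_sim (C : OC Q) (p : ℕ) [Fact p.Prime] [CharP F p] (h2 : (2 : F) ≠ 0)
    {u0 : ι → F} (hu0 : Q u0 = 1) (n : ℕ) (hcard : Fintype.card ι = 2 * n)
    {r : ℕ} (hro : Odd r) (hrF : (r : F) ≠ 0)
    (hB1 : ∀ (G S c : Matrix ι ι F) (ν : F), Gᵀ = G → IsUnit G.det → Sᵀ * G * S = G →
      cᵀ * G * c = ν • G → c * S = S * c → S ^ r = 1 → (∀ v : ι → F, S *ᵥ v = v → v = 0) →
      c.det = ν ^ n)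
    (hB2 : ∀ (S : Matrix ι ι F), (∀ v, Q (S *ᵥ v) = Q v) → S ^ r = 1 → ∀ w : ι → F, S *ᵥ w = w →
      w ≠ 0 → ∃ u : ι → F, S *ᵥ u = u ∧ Q u ≠ 0)
    (s : ↥(Cfsg.isometryGroup F ⇑Q)) (hs : s ^ r = 1)
    (g₀ : ↥(Cfsg.Geo.quadSimilarityGroup (F := F) ⇑Q)) (hg₀ : delta Q hu0 n g₀ = 1) :
    ∃ c : ↥(Cfsg.Geo.quadSimilarityGroup (F := F) ⇑Q),
      (c : GL ι F) * ((s : ↥(Cfsg.isometryGroup F ⇑Q)) : GL ι F) =
        ((s : ↥(Cfsg.isometryGroup F ⇑Q)) : GL ι F) * (c : GL ι F) ∧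
      multFun Q c = multFun Q g₀ ∧ delta Q hu0 n c = 1 := by
  classical
  have hQ := C.hQ
  -- the matrix of `s`
  have hSr : (omat Q s) ^ r = 1 := by rw [← omat_pow, hs, omat_one]
  have hSQ : ∀ v, Q ((omat Q s) *ᵥ v) = Q v := fun v => O_isometry (⇑Q) s v
  -- the conjugate `t = g₀ s g₀⁻¹`, an isometry
  have ht : multFun Q (g₀ * inclGO Q s * g₀⁻¹) = 1 := by
    rw [← mult_apply Q hu0, map_mul, map_mul, map_inv, mult_apply, mult_apply,
      multFun_inclGO Q hu0, mul_one, mul_inv_cancel]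
  have htQ : ∀ v, Q ((((g₀ * inclGO Q s * g₀⁻¹ : ↥(Cfsg.Geo.quadSimilarityGroup (F := F) ⇑Q)) :
      GL ι F) : Matrix ι ι F) *ᵥ v) = Q v := fun v => by
    rw [multFun_spec, ht, Units.val_one, one_mul]
  -- matrices
  have h01 : ((g₀ : GL ι F) : Matrix ι ι F) * (((g₀ : GL ι F)⁻¹ : GL ι F) : Matrix ι ι F) = 1 := by
    rw [← Units.val_mul, mul_inv_cancel, Units.val_one]
  have h10 : (((g₀ : GL ι F)⁻¹ : GL ι F) : Matrix ι ι F) * ((g₀ : GL ι F) : Matrix ι ι F) = 1 := by
    rw [← Units.val_mul, inv_mul_cancel, Units.val_one]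
  have hT : (((g₀ * inclGO Q s * g₀⁻¹ : ↥(Cfsg.Geo.quadSimilarityGroup (F := F) ⇑Q)) :
      GL ι F) : Matrix ι ι F) = ((g₀ : GL ι F) : Matrix ι ι F) * omat Q s *
        (((g₀ : GL ι F)⁻¹ : GL ι F) : Matrix ι ι F) := rfl
  -- the linear equivalence given by `g₀`
  let x : (ι → F) ≃ₗ[F] (ι → F) := LinearEquiv.ofLinearMap
    (Matrix.toLin' ((g₀ : GL ι F) : Matrix ι ι F))
    (Matrix.toLin' (((g₀ : GL ι F)⁻¹ : GL ι F) : Matrix ι ι F))
    (by rw [← Matrix.toLin'_mul, h01, Matrix.toLin'_one])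
    (by rw [← Matrix.toLin'_mul, h10, Matrix.toLin'_one])
  have hx : ∀ v, x (Matrix.toLin' (omat Q s) v) =
      Matrix.toLin' (((g₀ * inclGO Q s * g₀⁻¹ : ↥(Cfsg.Geo.quadSimilarityGroup (F := F) ⇑Q)) :
        GL ι F) : Matrix ι ι F) (x v) := by
    intro v
    show Matrix.toLin' ((g₀ : GL ι F) : Matrix ι ι F) (Matrix.toLin' (omat Q s) v) =
      Matrix.toLin' _ (Matrix.toLin' ((g₀ : GL ι F) : Matrix ι ι F) v)
    simp only [Matrix.toLin'_apply, Matrix.mulVec_mulVec]
    rw [hT, mul_assoc, mul_assoc, h10, mul_one]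
  have hak : Matrix.toLin' (omat Q s) ^ r = 1 := by
    rw [← Matrix.toLin'_pow, hSr, Matrix.toLin'_one]; rfl
  obtain ⟨y, hyQ, hy⟩ := exists_orth_conj r hrF hro (Matrix.toLin' (omat Q s))
    (Matrix.toLin' (((g₀ * inclGO Q s * g₀⁻¹ : ↥(Cfsg.Geo.quadSimilarityGroup (F := F) ⇑Q)) :
      GL ι F) : Matrix ι ι F)) hak Q hQ
    (fun v => by rw [Matrix.toLin'_apply]; exact hSQ v)
    (fun v => by rw [Matrix.toLin'_apply]; exact htQ v) x hx
  obtain ⟨gI, hgI⟩ := exists_isometryGroup_of_equiv Q y hyQ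
  -- `gI * t = s * gI` as matrices
  have hmat : omat Q gI * (((g₀ : GL ι F) : Matrix ι ι F) * omat Q s *
      (((g₀ : GL ι F)⁻¹ : GL ι F) : Matrix ι ι F)) = omat Q s * omat Q gI := by
    apply Matrix.toLin'.injective
    apply LinearMap.ext
    intro v
    rw [← hT, Matrix.toLin'_mul, Matrix.toLin'_mul, LinearMap.comp_apply, LinearMap.comp_apply,
      hgI]
    exact hy v
  -- the candidate
  have hcomm' : ((inclGO Q gI * g₀ : ↥(Cfsg.Geo.quadSimilarityGroup (F := F) ⇑Q)) : GL ι F) *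
      ((s : ↥(Cfsg.isometryGroup F ⇑Q)) : GL ι F) =
      ((s : ↥(Cfsg.isometryGroup F ⇑Q)) : GL ι F) *
        ((inclGO Q gI * g₀ : ↥(Cfsg.Geo.quadSimilarityGroup (F := F) ⇑Q)) : GL ι F) := by
    apply Units.ext
    show omat Q gI * ((g₀ : GL ι F) : Matrix ι ι F) * omat Q s =
      omat Q s * (omat Q gI * ((g₀ : GL ι F) : Matrix ι ι F))
    calc omat Q gI * ((g₀ : GL ι F) : Matrix ι ι F) * omat Q s
        = omat Q gI * (((g₀ : GL ι F) : Matrix ι ι F) * omat Q s *
            (((g₀ : GL ι F)⁻¹ : GL ι F) : Matrix ι ι F)) * ((g₀ : GL ι F) : Matrix ι ι F) := by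
          simp only [mul_assoc]; rw [h10, mul_one]
      _ = omat Q s * (omat Q gI * ((g₀ : GL ι F) : Matrix ι ι F)) := by
          rw [hmat, mul_assoc]
  have hmult' : multFun Q (inclGO Q gI * g₀) = multFun Q g₀ := by
    rw [← mult_apply Q hu0, map_mul, mult_apply, mult_apply, multFun_inclGO Q hu0, one_mul]
  have hdelta' : delta Q hu0 n (inclGO Q gI * g₀) = delta Q hu0 n (inclGO Q gI) := by
    rw [map_mul, hg₀, mul_one]
  rcases delta_cases Q hu0 n hQ hcard (inclGO Q gI) with h1 | hneg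
  · exact ⟨inclGO Q gI * g₀, hcomm', hmult', by rw [hdelta', h1]⟩
  · by_cases hfix : ∀ v : ι → F, omat Q s *ᵥ v = v → v = 0
    · exfalso
      have hS1 : multFun Q (inclGO Q s) = 1 := multFun_inclGO Q hu0 s
      have e1 := gramM_similarity Q (inclGO Q s)
      rw [hS1, Units.val_one, one_smul] at e1
      have e2 := gramM_similarity Q (inclGO Q gI * g₀)
      rw [hmult'] at e2
      have hdet := hB1 (gramM Q) (omat Q s)
        (((inclGO Q gI * g₀ : ↥(Cfsg.Geo.quadSimilarityGroup (F := F) ⇑Q)) : GL ι F) :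
          Matrix ι ι F) (multFun Q g₀ : F) (gramM_transpose Q) (gramM_isUnit_det Q hQ) e1 e2
        (congrArg (fun g : GL ι F => (g : Matrix ι ι F)) hcomm') hSr hfix
      have h1 : delta Q hu0 n (inclGO Q gI * g₀) = 1 := by
        rw [delta_eq_one_iff, hmult']; exact hdet
      rw [hdelta', hneg] at h1
      exact one_ne_neg_one_units h2 h1.symm
    · have hw : ∃ w : ι → F, omat Q s *ᵥ w = w ∧ w ≠ 0 := by
        by_contra hcon
        apply hfix
        intro v hv
        by_contra hv0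
        exact hcon ⟨v, hv, hv0⟩
      obtain ⟨w, hw, hw0⟩ := hw
      obtain ⟨u, hSu, hQu⟩ := hB2 (omat Q s) hSQ hSr w hw hw0
      have hρs : s * reflO Q u = reflO Q u * s := by
        have := conj_reflO Q s u hQu
        rw [show ((s : GL ι F) : Matrix ι ι F) *ᵥ u = u from hSu] at this
        exact this
      refine ⟨inclGO Q (reflO Q u) * (inclGO Q gI * g₀), ?_, ?_, ?_⟩
      · have hρs' : ((reflO Q u : ↥(Cfsg.isometryGroup F ⇑Q)) : GL ι F) *
            ((s : ↥(Cfsg.isometryGroup F ⇑Q)) : GL ι F) =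
            ((s : ↥(Cfsg.isometryGroup F ⇑Q)) : GL ι F) *
              ((reflO Q u : ↥(Cfsg.isometryGroup F ⇑Q)) : GL ι F) :=
          (congrArg (fun g : ↥(Cfsg.isometryGroup F ⇑Q) => (g : GL ι F)) hρs).symm
        show ((reflO Q u : ↥(Cfsg.isometryGroup F ⇑Q)) : GL ι F) *
            ((inclGO Q gI * g₀ : ↥(Cfsg.Geo.quadSimilarityGroup (F := F) ⇑Q)) : GL ι F) *
            ((s : ↥(Cfsg.isometryGroup F ⇑Q)) : GL ι F) = _
        rw [mul_assoc, hcomm', ← mul_assoc, hρs', mul_assoc]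
        rfl
      · rw [← mult_apply Q hu0, map_mul, mult_apply, mult_apply, multFun_inclGO Q hu0, one_mul,
          hmult']
      · rw [map_mul, hdelta', hneg]
        have : delta Q hu0 n (inclGO Q (reflO Q u)) = -1 := by
          rw [delta_apply, multFun_inclGO Q hu0, inv_one, one_pow, mul_one]
          exact detHom_reflO Q u hQu
        rw [this]
        simp

end generic2

end Cfsg.Agent.Lib.Helper89.S2721K
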