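import Mathlib
import Cfsg.Prelude.Def_GeometricClasses
import Cfsg.Prelude.Def_ClassicalGeometry
import Cfsg.Agent.Lib.Helper69.SLTDefs
import Cfsg.Agent.Lib.Helper18.Symp
import Cfsg.Agent.Lib.Helper89.SpFT3

/-!
# K-SpT pack (S5980, architect helper86), leaf 598010 K-SpT-Even: the `(-1)`-eigenspace of an
involution of `Sp_{2d}(F)`, `2 ≠ 0`, has even dimension.
-/

set_option autoImplicit false

namespace Cfsg.Agent.Lib.Helper89.SpT

open Matrix Cfsg Cfsg.Geo Cfsg.Agent.Lib.Helper69.SLT Cfsg.Agent.Lib.Helper38.SpF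

variable {F : Type*} [Field F]

theorem sympForm_smul_left (d : ℕ) (c : F) (u v : Fin d ⊕ Fin d → F) :
    sympForm d F (c • u) v = c * sympForm d F u v := by
  unfold sympForm
  rw [smul_dotProduct, smul_eq_mul]

theorem sympForm_smul_right (d : ℕ) (c : F) (u v : Fin d ⊕ Fin d → F) :
    sympForm d F u (c • v) = c * sympForm d F u v := by
  unfold sympForm
  rw [Matrix.mulVec_smul, dotProduct_smul, smul_eq_mul]

theorem sympForm_add_right (d : ℕ) (u v w : Fin d ⊕ Fin d → F) :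
    sympForm d F u (v + w) = sympForm d F u v + sympForm d F u w := by
  unfold sympForm
  rw [Matrix.mulVec_add, dotProduct_add]

theorem sympForm_neg_left (d : ℕ) (u v : Fin d ⊕ Fin d → F) :
    sympForm d F (-u) v = - sympForm d F u v := by
  unfold sympForm
  rw [neg_dotProduct]

/-- `sympForm` is nondegenerate -/
theorem sympForm_nondeg (d : ℕ) (u : Fin d ⊕ Fin d → F) (h : ∀ v, sympForm d F u v = 0) : u = 0 := by
  apply dotProduct_eq_zero
  intro w
  have := h (-(Matrix.J (Fin d) F *ᵥ w))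
  unfold sympForm at this
  rw [Matrix.mulVec_neg, Cfsg.Agent.Lib.Helper18.J_mulVec_J_mulVec, neg_neg] at this
  exact this

/-- the scalar subalgebra is of `S`-type with `k = 1` -/
theorem isSType_bot (d : ℕ) (hd : 0 < d) :
    IsSType d 1 (⊥ : Subalgebra F (Matrix (Fin d ⊕ Fin d) (Fin d ⊕ Fin d) F)) := by
  have : Nonempty (Fin d ⊕ Fin d) := ⟨Sum.inl ⟨0, hd⟩⟩
  refine ⟨⟨?_, ?_, ?_⟩, ?_, ?_⟩
  · intro x hx y _
    obtain ⟨c, rfl⟩ := Algebra.mem_bot.mp hx
    exact Algebra.commutes c y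
  · intro x hx hx0
    obtain ⟨c, rfl⟩ := Algebra.mem_bot.mp hx
    have hc : c ≠ 0 := by
      rintro rfl
      exact hx0 (map_zero _)
    refine ⟨algebraMap F _ c⁻¹, Algebra.mem_bot.mpr ⟨c⁻¹, rfl⟩, ?_⟩
    rw [← map_mul, mul_inv_cancel₀ hc, map_one]
  · exact Subalgebra.finrank_bot
  · intro a ha u v
    obtain ⟨c, rfl⟩ := Algebra.mem_bot.mp ha
    rw [Algebra.algebraMap_eq_smul_one, Matrix.smul_mulVec, Matrix.one_mulVec,
      Matrix.smul_mulVec, Matrix.one_mulVec, sympForm_smul_left, sympForm_smul_right]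
  · intro a ha v
    obtain ⟨c, rfl⟩ := Algebra.mem_bot.mp ha
    rw [Algebra.algebraMap_eq_smul_one, Matrix.smul_mulVec, Matrix.one_mulVec,
      sympForm_smul_left, Cfsg.Agent.Lib.Helper18.sympForm_self, mul_zero]

/-- KEYSTONE 598010  K-SpT-Even. -/
theorem even_eigDim_neg_one (h2 : (2 : F) ≠ 0) (d : ℕ) (x : GL (Fin d ⊕ Fin d) F)
    (hx : x ∈ Cfsg.spGL d F) (hx2 : x ^ 2 = 1) :
    Even (eigDim (x : Matrix (Fin d ⊕ Fin d) (Fin d ⊕ Fin d) F) (-1)) := by
  rcases Nat.eq_zero_or_pos d with rfl | hd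
  · have : eigDim (x : Matrix (Fin 0 ⊕ Fin 0) (Fin 0 ⊕ Fin 0) F) (-1) = 0 := by
      unfold eigDim
      exact Module.finrank_zero_of_subsingleton
    rw [this]
    exact Even.zero
  · have hM2 : (x : Matrix (Fin d ⊕ Fin d) (Fin d ⊕ Fin d) F) *
        (x : Matrix (Fin d ⊕ Fin d) (Fin d ⊕ Fin d) F) = 1 := by
      have := congrArg (fun g : GL (Fin d ⊕ Fin d) F =>
        (g : Matrix (Fin d ⊕ Fin d) (Fin d ⊕ Fin d) F)) hx2
      simpa [pow_two] using this
    have hpres : ∀ u v, sympForm d F ((x : Matrix (Fin d ⊕ Fin d) (Fin d ⊕ Fin d) F) *ᵥ u)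
        ((x : Matrix (Fin d ⊕ Fin d) (Fin d ⊕ Fin d) F) *ᵥ v) = sympForm d F u v := hx
    have hmemW : ∀ v, v ∈ Module.End.eigenspace
        (Matrix.toLin' (x : Matrix (Fin d ⊕ Fin d) (Fin d ⊕ Fin d) F)) (-1) ↔
        (x : Matrix (Fin d ⊕ Fin d) (Fin d ⊕ Fin d) F) *ᵥ v = -v := fun v => by
      rw [mem_eigenspace_toLin', neg_one_smul]
    have hdvd := Cfsg.Agent.Lib.Helper89.SpF.two_mul_dvd_finrank d 1 ⊥ (isSType_bot d hd)
      (Module.End.eigenspace (Matrix.toLin' (x : Matrix (Fin d ⊕ Fin d) (Fin d ⊕ Fin d) F)) (-1))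
      (by
        intro a ha w hw
        obtain ⟨c, rfl⟩ := Algebra.mem_bot.mp ha
        rw [Algebra.algebraMap_eq_smul_one, Matrix.smul_mulVec, Matrix.one_mulVec]
        exact Submodule.smul_mem _ c hw)
      (by
        intro u hu hperp
        apply sympForm_nondeg d u
        intro v
        have hu' := (hmemW u).mp hu
        -- the two components of `v`
        have hminus : v - (x : Matrix (Fin d ⊕ Fin d) (Fin d ⊕ Fin d) F) *ᵥ v ∈
            Module.End.eigenspace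
              (Matrix.toLin' (x : Matrix (Fin d ⊕ Fin d) (Fin d ⊕ Fin d) F)) (-1) := by
          rw [hmemW, Matrix.mulVec_sub, Matrix.mulVec_mulVec, hM2, Matrix.one_mulVec]
          abel
        have e1 := hperp _ hminus
        have e2 : sympForm d F u (v + (x : Matrix (Fin d ⊕ Fin d) (Fin d ⊕ Fin d) F) *ᵥ v) = 0 := by
          have h := hpres u (v + (x : Matrix (Fin d ⊕ Fin d) (Fin d ⊕ Fin d) F) *ᵥ v)
          rw [hu', Matrix.mulVec_add, Matrix.mulVec_mulVec, hM2, Matrix.one_mulVec,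
            sympForm_neg_left, add_comm ((x : Matrix (Fin d ⊕ Fin d) (Fin d ⊕ Fin d) F) *ᵥ v) v] at h
          have h' : (2 : F) * sympForm d F u
              (v + (x : Matrix (Fin d ⊕ Fin d) (Fin d ⊕ Fin d) F) *ᵥ v) = 0 := by
            linear_combination -h
          exact (mul_eq_zero.mp h').resolve_left h2
        have e3 : sympForm d F u ((2 : F) • v) = 0 := by
          have : (2 : F) • v = (v - (x : Matrix (Fin d ⊕ Fin d) (Fin d ⊕ Fin d) F) *ᵥ v) +
              (v + (x : Matrix (Fin d ⊕ Fin d) (Fin d ⊕ Fin d) F) *ᵥ v) := by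
            rw [two_smul]; abel
          rw [this, sympForm_add_right, e1, e2, add_zero]
        rw [sympForm_smul_right] at e3
        exact (mul_eq_zero.mp e3).resolve_left h2)
    obtain ⟨t, ht⟩ := hdvd
    refine ⟨t, ?_⟩
    unfold eigDim
    rw [ht]
    ring

end Cfsg.Agent.Lib.Helper89.SpT
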