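import Mathlib
import Cfsg.Agent.Lib.Helper53.StronglyEmbedded2

set_option autoImplicit false

/-!
A finite group `X` with a strongly `p`-embedded subgroup acting faithfully on an abelian group `V`:
a `p`-subgroup `T0` of `X` all of whose elements fix an element `l` of order dividing `p` and move
every element of `V` inside the coset of `⟨l⟩` has order at most `p`.
-/

namespace Cfsg.Agent.Lib.Helper89

open Cfsg Cfsg.Agent.Lib.Helper53

section StrEmbDual

variable {X V : Type*} [Group X] [Group V]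

theorem rho_apply_inv' (ρ : X →* MulAut V) (a : X) (v : V) : ρ a (ρ a⁻¹ v) = v := by
  rw [← MulAut.mul_apply, ← map_mul, mul_inv_cancel, map_one, MulAut.one_apply]

theorem rho_inv_apply' (ρ : X →* MulAut V) (a : X) (v : V) : ρ a⁻¹ (ρ a v) = v := by
  rw [← MulAut.mul_apply, ← map_mul, inv_mul_cancel, map_one, MulAut.one_apply]

/-- some nontrivial element of `T0` fixes a given element of `V` -/
theorem exists_ne_one_fix [Finite X] {p : ℕ} [Fact p.Prime]
    (ρ : X →* MulAut V) (T0 : Subgroup X) (hcard : p < Nat.card T0)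
    (l : V) (hl : l ^ p = 1)
    (hfix : ∀ t ∈ T0, ρ t l = l) (hquot : ∀ t ∈ T0, ∀ v : V, v⁻¹ * ρ t v ∈ Subgroup.zpowers l)
    (y : V) : ∃ t ∈ T0, t ≠ 1 ∧ ρ t y = y := by
  have hp : p.Prime := Fact.out
  have hfixz : ∀ t ∈ T0, ∀ d ∈ Subgroup.zpowers l, ρ t d = d := by
    intro t ht d hd
    obtain ⟨k, rfl⟩ := Subgroup.mem_zpowers_iff.mp hd
    rw [map_zpow, hfix t ht]
  let c : T0 →* V := MonoidHom.mk' (fun t => y⁻¹ * ρ (t : X) y) (by
    intro t s
    have h1 : ρ ((t * s : T0) : X) y = ρ (t : X) (ρ (s : X) y) := by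
      rw [Subgroup.coe_mul, map_mul, MulAut.mul_apply]
    have h2 : ρ (s : X) y = y * (y⁻¹ * ρ (s : X) y) := by group
    have h3 : ρ (t : X) (y⁻¹ * ρ (s : X) y) = y⁻¹ * ρ (s : X) y :=
      hfixz t t.2 _ (hquot s s.2 y)
    show y⁻¹ * ρ ((t * s : T0) : X) y = y⁻¹ * ρ (t : X) y * (y⁻¹ * ρ (s : X) y)
    rw [h1, h2, map_mul, h3]
    group)
  have hc : ∀ t : T0, c t = y⁻¹ * ρ (t : X) y := fun t => rfl
  have hrange : c.range ≤ Subgroup.zpowers l := by
    rintro _ ⟨t, rfl⟩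
    rw [hc]
    exact hquot t t.2 y
  have hzfin : Finite (Subgroup.zpowers l) := by
    have hpos : 0 < orderOf l := orderOf_pos_iff.mpr (isOfFinOrder_iff_pow_eq_one.mpr ⟨p, hp.pos, hl⟩)
    exact Nat.finite_of_card_ne_zero (by rw [Nat.card_zpowers]; exact hpos.ne')
  have hzcard : Nat.card (Subgroup.zpowers l) ≤ p := by
    rw [Nat.card_zpowers]
    exact Nat.le_of_dvd hp.pos (orderOf_dvd_of_pow_eq_one hl)
  have hrcard : Nat.card c.range ≤ p := (Subgroup.card_le_of_le hrange).trans hzcard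
  have hker : c.ker ≠ ⊥ := by
    intro hb
    have h1 : c.ker.index = Nat.card c.range := Subgroup.index_ker c
    rw [hb, Subgroup.index_bot] at h1
    omega
  obtain ⟨⟨t, htK⟩, ht1⟩ := (Subgroup.ne_bot_iff_exists_ne_one).mp hker
  refine ⟨(t : X), t.2, ?_, ?_⟩
  · intro h
    apply ht1
    apply Subtype.ext
    apply Subtype.ext
    exact h
  · have h1 : c t = 1 := htK
    rw [hc] at h1
    exact (inv_mul_eq_one.mp h1).symm

/-- the dual of Lemma T -/
theorem card_le_of_common_center [Finite X] {p : ℕ} [Fact p.Prime]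
    (hcomm : ∀ a b : V, a * b = b * a) (E : Subgroup X) (hE : IsStronglyPEmbedded p E)
    (ρ : X →* MulAut V) (hρ : Function.Injective ρ) (T0 : Subgroup X) (hT0 : IsPGroup p T0)
    (l : V) (hl : l ^ p = 1)
    (hfix : ∀ t ∈ T0, ρ t l = l) (hquot : ∀ t ∈ T0, ∀ v : V, v⁻¹ * ρ t v ∈ Subgroup.zpowers l) :
    Nat.card T0 ≤ p := by
  have hp : p.Prime := Fact.out
  by_contra hne
  have hcardT : p < Nat.card T0 := not_le.mp hne
  obtain ⟨P₁, hP₁ne, hP₁E, hB, -⟩ := exists_sylow_of_isStronglyPEmbedded hE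
  obtain ⟨T, hT0T⟩ := hT0.exists_le_sylow
  obtain ⟨g, hg⟩ := MulAction.exists_smul_eq X P₁ T
  set M := E.map (MulAut.conj g).toMonoidHom with hM
  have hBM : NormB p M := normB_map_conj hB g
  have hTM : (T : Subgroup X) ≤ M := by
    rw [← hg, coe_smul_sylow_eq_map]
    exact Subgroup.map_mono hP₁E
  have hT0M : T0 ≤ M := hT0T.trans hTM
  have hMne : M ≠ ⊤ := by
    intro h
    apply hE.2.1
    have h1 := map_conj_inv_map_conj E g
    rw [← hM, h] at h1
    rw [← h1, eq_top_iff]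
    intro y _
    rw [mem_map_conj_iff]
    trivial
  have hT0ne : T0 ≠ ⊥ := by
    intro h
    rw [h, Subgroup.card_bot] at hcardT
    exact absurd hcardT (not_lt.mpr hp.one_lt.le)
  have hpT : p ∣ Nat.card T0 := dvd_card_of_ne_bot_of_isPGroup hT0 hT0ne
  have hpM : p ∣ Nat.card M := hpT.trans (Subgroup.card_dvd_of_le hT0M)
  have hfixz : ∀ t ∈ T0, ∀ d ∈ Subgroup.zpowers l, ρ t d = d := by
    intro t ht d hd
    obtain ⟨k, rfl⟩ := Subgroup.mem_zpowers_iff.mp hd
    rw [map_zpow, hfix t ht]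
  have hall : ∀ a : X, a ∈ M := by
    intro a
    by_contra haM
    obtain ⟨t, htT, ht1, ht⟩ := exists_ne_one_fix ρ T0 hcardT l hl hfix hquot (ρ a l)
    obtain ⟨s, hsT, hs1, hs⟩ := exists_ne_one_fix ρ T0 hcardT l hl hfix hquot (ρ a⁻¹ l)
    have ht'v : ∀ v, ρ (a * s * a⁻¹) v = ρ a (ρ s (ρ a⁻¹ v)) := by
      intro v
      rw [map_mul, map_mul, MulAut.mul_apply, MulAut.mul_apply]
    -- `t'` fixes `l`
    have h3 : ρ (a * s * a⁻¹) l = l := by
      rw [ht'v, hs, rho_apply_inv']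
    -- `t'` displaces into `⟨ρ a l⟩`
    have h4 : ∀ v, ∃ k : ℤ, ρ (a * s * a⁻¹) v = v * (ρ a l) ^ k := by
      intro v
      obtain ⟨k, hk⟩ := Subgroup.mem_zpowers_iff.mp (hquot s hsT (ρ a⁻¹ v))
      refine ⟨k, ?_⟩
      have h5 : ρ s (ρ a⁻¹ v) = ρ a⁻¹ v * l ^ k := by
        rw [hk]; group
      rw [ht'v, h5, map_mul, rho_apply_inv', map_zpow]
    have hcommute : t * (a * s * a⁻¹) = (a * s * a⁻¹) * t := by
      apply hρ
      ext v
      show ρ (t * (a * s * a⁻¹)) v = ρ ((a * s * a⁻¹) * t) v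
      rw [map_mul ρ t, map_mul ρ (a * s * a⁻¹) t, MulAut.mul_apply, MulAut.mul_apply]
      obtain ⟨k, hk⟩ := h4 v
      obtain ⟨i, hi⟩ := Subgroup.mem_zpowers_iff.mp (hquot t htT v)
      have hd : ρ t v = v * l ^ i := by
        rw [hi]; group
      have e1 : ρ t (ρ (a * s * a⁻¹) v) = v * l ^ i * (ρ a l) ^ k := by
        rw [hk, map_mul, map_zpow, ht, hd]
      have e2 : ρ (a * s * a⁻¹) (ρ t v) = v * (ρ a l) ^ k * l ^ i := by
        rw [hd, map_mul, map_zpow, h3, hk]
      rw [e1, e2, mul_assoc, mul_assoc, hcomm (l ^ i)]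
    have ht'N : a * s * a⁻¹ ∈ Subgroup.normalizer ((Subgroup.zpowers t : Subgroup X) : Set X) := by
      apply Subgroup.centralizer_le_normalizer
      rw [Subgroup.mem_centralizer_iff]
      intro z hz
      obtain ⟨k, rfl⟩ := Subgroup.mem_zpowers_iff.mp hz
      have hc : Commute t (a * s * a⁻¹) := hcommute
      exact (hc.zpow_left k).eq
    have htM : Subgroup.zpowers t ≤ M := by
      rw [Subgroup.zpowers_le]; exact hT0M htT
    have htp : IsPGroup p (Subgroup.zpowers t) :=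
      hT0.to_le (by rw [Subgroup.zpowers_le]; exact htT)
    have ht'M : a * s * a⁻¹ ∈ M :=
      hBM (Subgroup.zpowers t) htM htp (by rw [Ne, Subgroup.zpowers_eq_bot]; exact ht1) ht'N
    have h2 : Subgroup.zpowers (a * s * a⁻¹) ≤ M ⊓ M.map (MulAut.conj a).toMonoidHom := by
      rw [Subgroup.zpowers_le]
      exact ⟨ht'M, conj_mem_map_conj (hT0M hsT)⟩
    have hsp : IsPGroup p (Subgroup.zpowers (a * s * a⁻¹)) := by
      have h7 : Subgroup.zpowers (a * s * a⁻¹) =
          (Subgroup.zpowers s).map (MulAut.conj a).toMonoidHom := by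
        rw [MonoidHom.map_zpowers]; rfl
      rw [h7]
      exact (hT0.to_le (by rw [Subgroup.zpowers_le]; exact hsT)).map _
    have hne' : Subgroup.zpowers (a * s * a⁻¹) ≠ ⊥ := by
      rw [Ne, Subgroup.zpowers_eq_bot]
      intro h
      apply hs1
      have : s = a⁻¹ * (a * s * a⁻¹) * a := by group
      rw [this, h]; group
    have hdvd : p ∣ Nat.card ↥(M ⊓ M.map (MulAut.conj a).toMonoidHom) :=
      (dvd_card_of_ne_bot_of_isPGroup hsp hne').trans (Subgroup.card_dvd_of_le h2)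
    exact (normB_iff_conj_inf hpM).mp hBM a haM hdvd
  exact hMne (eq_top_iff.mpr fun a _ => hall a)

end StrEmbDual

end Cfsg.Agent.Lib.Helper89
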