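import Mathlib

/-!
# Keystone pack TT68 (architect helper94), leaf T1 (555501, parallel hand by helper89):
a group generated by a triangle of involutions `a b c` with `(ab)³ = (bc)³ = (ca)³ = (a·cbc)³ = 1`
is finite of order dividing 54.
-/

set_option autoImplicit false
set_option linter.style.haveILetI false
set_option linter.unusedSimpArgs false

namespace Cfsg.Agent.Lib.Helper89.TT68

/-- cyclic step, absolute form -/
theorem card_dvd_of_cyclic_quotient {G : Type*} [Group G] (N : Subgroup G) [N.Normal] [Finite N]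
    (x : G) (k m : ℕ) (hk : 0 < k) (hxk : x ^ k ∈ N) (hgen : N ⊔ Subgroup.zpowers x = ⊤)
    (hm : Nat.card N ∣ m) : Finite G ∧ Nat.card G ∣ m * k := by
  have hz : Subgroup.zpowers (QuotientGroup.mk' N x) = ⊤ := by
    have h1 : (N ⊔ Subgroup.zpowers x).map (QuotientGroup.mk' N) = ⊤ := by
      rw [hgen, ← MonoidHom.range_eq_map]
      exact MonoidHom.range_eq_top.mpr (QuotientGroup.mk'_surjective N)
    rw [Subgroup.map_sup, QuotientGroup.map_mk'_self, bot_sup_eq, MonoidHom.map_zpowers] at h1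
    exact h1
  have hpow : (QuotientGroup.mk' N x) ^ k = 1 := by
    rw [← map_pow]; exact (QuotientGroup.eq_one_iff _).mpr hxk
  have hord : orderOf (QuotientGroup.mk' N x) ∣ k := orderOf_dvd_of_pow_eq_one hpow
  have hcardQ : Nat.card (G ⧸ N) = orderOf (QuotientGroup.mk' N x) := by
    rw [← Nat.card_zpowers, hz, Subgroup.card_top]
  have hpos : 0 < orderOf (QuotientGroup.mk' N x) := Nat.pos_of_dvd_of_pos hord hk
  have hcard : Nat.card G = Nat.card (G ⧸ N) * Nat.card N :=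
    Subgroup.card_eq_card_quotient_mul_card_subgroup N
  constructor
  · apply Nat.finite_of_card_ne_zero
    rw [hcard, hcardQ]
    exact Nat.mul_ne_zero hpos.ne' Nat.card_pos.ne'
  · rw [hcard, hcardQ, mul_comm]
    exact Nat.mul_dvd_mul hm hord

/-- cyclic step, relative form -/
theorem card_sup_zpowers_dvd {K : Type*} [Group K] (N : Subgroup K) [Finite N] (x : K) (k m : ℕ)
    (hk : 0 < k) (hx : ∀ n ∈ N, x * n * x⁻¹ ∈ N) (hxk : x ^ k ∈ N) (hm : Nat.card N ∣ m) :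
    Finite ↥(N ⊔ Subgroup.zpowers x) ∧ Nat.card ↥(N ⊔ Subgroup.zpowers x) ∣ m * k := by
  have hNM : N ≤ N ⊔ Subgroup.zpowers x := le_sup_left
  have hxM : x ∈ N ⊔ Subgroup.zpowers x := le_sup_right (α := Subgroup K) (Subgroup.mem_zpowers x)
  have hfin : Finite ((N : Set K)) := ‹Finite N›
  have hxn : x ∈ Subgroup.normalizer (N : Set K) := Subgroup.mem_normalizer_fintype hx
  have hMn : N ⊔ Subgroup.zpowers x ≤ Subgroup.normalizer (N : Set K) :=
    sup_le Subgroup.le_normalizer ((Subgroup.zpowers_le).mpr hxn)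
  haveI : (N.subgroupOf (N ⊔ Subgroup.zpowers x)).Normal :=
    Subgroup.normal_subgroupOf_of_le_normalizer hMn
  haveI : Finite (N.subgroupOf (N ⊔ Subgroup.zpowers x)) :=
    Finite.of_equiv _ (Subgroup.subgroupOfEquivOfLe hNM).symm.toEquiv
  have hc : Nat.card (N.subgroupOf (N ⊔ Subgroup.zpowers x)) = Nat.card N :=
    Nat.card_congr (Subgroup.subgroupOfEquivOfLe hNM).toEquiv
  refine card_dvd_of_cyclic_quotient (N.subgroupOf (N ⊔ Subgroup.zpowers x)) ⟨x, hxM⟩ k m hk ?_ ?_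
    (hc ▸ hm)
  · rw [Subgroup.mem_subgroupOf]
    simpa using hxk
  · apply Subgroup.map_injective (N ⊔ Subgroup.zpowers x).subtype_injective
    rw [Subgroup.map_sup, Subgroup.map_subgroupOf_eq_of_le hNM, MonoidHom.map_zpowers,
      ← MonoidHom.range_eq_map, Subgroup.range_subtype]
    rfl

theorem conj_sup_zpowers_le {K : Type*} [Group K] (N N' : Subgroup K) (x y : K)
    (h1 : ∀ n ∈ N, x * n * x⁻¹ ∈ N') (h2 : x * y * x⁻¹ ∈ N') :
    ∀ n ∈ N ⊔ Subgroup.zpowers y, x * n * x⁻¹ ∈ N' := by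
  have : N ⊔ Subgroup.zpowers y ≤ N'.comap (MulAut.conj x).toMonoidHom := by
    refine sup_le (fun n hn => ?_) ((Subgroup.zpowers_le).mpr ?_)
    · exact h1 n hn
    · exact h2
  intro n hn
  exact this hn

section words
variable {K : Type*} [Group K] (a b c : K)

theorem braid_of_cube (x y : K) (hx : x * x = 1) (hy : y * y = 1) (h : (x * y) ^ 3 = 1) :
    x * (y * x) = y * (x * y) := by
  have hx' : ∀ z, x * (x * z) = z := fun z => by rw [← mul_assoc, hx, one_mul]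
  have hy' : ∀ z, y * (y * z) = z := fun z => by rw [← mul_assoc, hy, one_mul]
  have h1 : (x * (y * x)) * (y * (x * y)) = 1 := by
    rw [← h]; simp only [pow_succ, pow_zero, one_mul, mul_assoc]
  have h2 : (y * (x * y)) * (y * (x * y)) = 1 := by
    simp only [mul_assoc, hy', hx', hy]
  exact mul_right_cancel (h1.trans h2.symm)

theorem tri_words (ha : a * a = 1) (hb : b * b = 1) (hc : c * c = 1)
    (hab : (a * b) ^ 3 = 1) (hbc : (b * c) ^ 3 = 1) (hca : (c * a) ^ 3 = 1) :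
    (a * (c * b * c)) * (b * (a * c * a)) = a * (b * (a * c)) ∧
    (b * (a * c * a)) * (a * (c * b * c)) = a * (b * (a * c)) ∧
    a * (a * (c * b * c)) * a⁻¹ = (a * (c * b * c))⁻¹ ∧
    b * (b * (a * c * a)) * b⁻¹ = (b * (a * c * a))⁻¹ ∧
    a * (b * (a * c * a)) * a⁻¹ = a * (b * (a * c)) ∧
    b * (a * (c * b * c)) * b⁻¹ = a * (b * (a * c)) ∧
    b * (a * c * a) = c * (a * (c * b * c))⁻¹ * c⁻¹ ∧
    c = a * (b * a) * (a * (b * (a * c))) := by
  have ha' : ∀ z, a * (a * z) = z := fun z => by rw [← mul_assoc, ha, one_mul]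
  have hb' : ∀ z, b * (b * z) = z := fun z => by rw [← mul_assoc, hb, one_mul]
  have hc' : ∀ z, c * (c * z) = z := fun z => by rw [← mul_assoc, hc, one_mul]
  have hai : a⁻¹ = a := inv_eq_of_mul_eq_one_right ha
  have hbi : b⁻¹ = b := inv_eq_of_mul_eq_one_right hb
  have hci : c⁻¹ = c := inv_eq_of_mul_eq_one_right hc
  have hAB : a * (b * a) = b * (a * b) := braid_of_cube a b ha hb hab
  have hBC : b * (c * b) = c * (b * c) := braid_of_cube b c hb hc hbc
  have hCA : c * (a * c) = a * (c * a) := braid_of_cube c a hc ha hca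
  have hAB' : ∀ z, b * (a * (b * z)) = a * (b * (a * z)) := fun z => by
    calc b * (a * (b * z)) = (b * (a * b)) * z := by simp only [mul_assoc]
      _ = (a * (b * a)) * z := by rw [hAB]
      _ = a * (b * (a * z)) := by simp only [mul_assoc]
  have hBC' : ∀ z, c * (b * (c * z)) = b * (c * (b * z)) := fun z => by
    calc c * (b * (c * z)) = (c * (b * c)) * z := by simp only [mul_assoc]
      _ = (b * (c * b)) * z := by rw [hBC]
      _ = b * (c * (b * z)) := by simp only [mul_assoc]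
  have hCA' : ∀ z, c * (a * (c * z)) = a * (c * (a * z)) := fun z => by
    calc c * (a * (c * z)) = (c * (a * c)) * z := by simp only [mul_assoc]
      _ = (a * (c * a)) * z := by rw [hCA]
      _ = a * (c * (a * z)) := by simp only [mul_assoc]
  have P : (a * (c * b * c)) * (b * (a * c * a)) = a * (b * (a * c)) := by
    calc (a * (c * b * c)) * (b * (a * c * a))
        = a * (c * (b * (c * (b * (a * (c * a)))))) := by simp only [mul_assoc]
      _ = a * (b * (c * (b * (b * (a * (c * a)))))) := by rw [hBC']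
      _ = a * (b * (c * (a * (c * a)))) := by rw [hb']
      _ = a * (b * (a * (c * (a * a)))) := by rw [hCA']
      _ = a * (b * (a * c)) := by rw [ha, mul_one]
  have P' : (b * (a * c * a)) * (a * (c * b * c)) = a * (b * (a * c)) := by
    calc (b * (a * c * a)) * (a * (c * b * c))
        = b * (a * (c * (a * (a * (c * (b * c)))))) := by simp only [mul_assoc]
      _ = b * (a * (c * (c * (b * c)))) := by rw [ha']
      _ = b * (a * (b * c)) := by rw [hc']
      _ = a * (b * (a * c)) := by rw [hAB']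
  refine ⟨P, P', ?_, ?_, ?_, ?_, ?_, ?_⟩
  · simp only [mul_inv_rev, hai, hbi, hci, mul_assoc, ha']
  · simp only [mul_inv_rev, hai, hbi, hci, mul_assoc, hb']
  · simp only [hai, mul_assoc, ha, mul_one]
  · calc b * (a * (c * b * c)) * b⁻¹ = b * (a * (c * (b * (c * b)))) := by
          simp only [hbi, mul_assoc]
      _ = b * (a * (b * (c * (b * b)))) := by rw [hBC']
      _ = b * (a * (b * c)) := by rw [hb, mul_one]
      _ = a * (b * (a * c)) := by rw [hAB']
  · calc b * (a * c * a) = b * (a * (c * a)) := by simp only [mul_assoc]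
      _ = b * (c * (a * c)) := by rw [hCA]
      _ = c * (a * (c * b * c))⁻¹ * c⁻¹ := by
          simp only [mul_inv_rev, hai, hbi, hci, mul_assoc, hc']
  · simp only [mul_assoc, ha', hb']

end words

theorem tri_card_dvd {K : Type*} [Group K] (a b c : K)
    (ha : a * a = 1) (hb : b * b = 1) (hc : c * c = 1)
    (hab : (a * b) ^ 3 = 1) (hbc : (b * c) ^ 3 = 1) (hca : (c * a) ^ 3 = 1)
    (ht : (a * (c * b * c)) ^ 3 = 1)
    (hgen : Subgroup.closure ({a, b, c} : Set K) = ⊤) :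
    Finite K ∧ Nat.card K ∣ 54 := by
  obtain ⟨P, P', W1, W4, W2, W3, W6, W7⟩ := tri_words a b c ha hb hc hab hbc hca
  have ha' : ∀ z, a * (a * z) = z := fun z => by rw [← mul_assoc, ha, one_mul]
  have hai : a⁻¹ = a := inv_eq_of_mul_eq_one_right ha
  have hbi : b⁻¹ = b := inv_eq_of_mul_eq_one_right hb
  obtain ⟨t1, ht1⟩ : ∃ t, t = a * (c * b * c) := ⟨_, rfl⟩
  obtain ⟨t2, ht2⟩ : ∃ t, t = b * (a * c * a) := ⟨_, rfl⟩
  rw [← ht1] at ht P P' W1 W3 W6
  rw [← ht2] at P P' W4 W2 W6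
  rw [← P] at W2 W3 W7
  have hcomm : t1 * t2 = t2 * t1 := P.trans P'.symm
  have ht2_3 : t2 ^ 3 = 1 := by
    rw [W6, conj_pow, inv_pow, ht, inv_one, mul_one, mul_inv_cancel]
  -- the chain
  have hbot : ∀ (N' : Subgroup K) (x : K), ∀ n ∈ (⊥ : Subgroup K), x * n * x⁻¹ ∈ N' := by
    intro N' x n hn
    rw [Subgroup.mem_bot] at hn
    rw [hn, mul_one, mul_inv_cancel]
    exact N'.one_mem
  have m11 : t1 ∈ (⊥ : Subgroup K) ⊔ Subgroup.zpowers t1 :=
    le_sup_right (α := Subgroup K) (Subgroup.mem_zpowers t1)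
  have m12 : t1 ∈ (⊥ : Subgroup K) ⊔ Subgroup.zpowers t1 ⊔ Subgroup.zpowers t2 :=
    le_sup_left (α := Subgroup K) m11
  have m22 : t2 ∈ (⊥ : Subgroup K) ⊔ Subgroup.zpowers t1 ⊔ Subgroup.zpowers t2 :=
    le_sup_right (α := Subgroup K) (Subgroup.mem_zpowers t2)
  -- step 1
  haveI : Finite (⊥ : Subgroup K) := inferInstance
  obtain ⟨f1, d1⟩ := card_sup_zpowers_dvd (⊥ : Subgroup K) t1 3 1 (by norm_num)
    (hbot ⊥ t1) (by rw [ht]; exact Subgroup.one_mem _) (by rw [Subgroup.card_bot])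
  -- step 2
  have c2 : ∀ n ∈ (⊥ : Subgroup K) ⊔ Subgroup.zpowers t1,
      t2 * n * t2⁻¹ ∈ (⊥ : Subgroup K) ⊔ Subgroup.zpowers t1 :=
    conj_sup_zpowers_le ⊥ _ t2 t1 (hbot _ t2) (by
      rw [← hcomm, mul_assoc, mul_inv_cancel, mul_one]; exact m11)
  obtain ⟨f2, d2⟩ := card_sup_zpowers_dvd ((⊥ : Subgroup K) ⊔ Subgroup.zpowers t1) t2 3 (1 * 3)
    (by norm_num) c2 (by rw [ht2_3]; exact Subgroup.one_mem _) d1
  -- invariance of N2 under a and b
  have hA2 : ∀ n ∈ (⊥ : Subgroup K) ⊔ Subgroup.zpowers t1 ⊔ Subgroup.zpowers t2,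
      a * n * a⁻¹ ∈ (⊥ : Subgroup K) ⊔ Subgroup.zpowers t1 ⊔ Subgroup.zpowers t2 :=
    conj_sup_zpowers_le _ _ a t2
      (conj_sup_zpowers_le ⊥ _ a t1 (hbot _ a) (by rw [W1]; exact Subgroup.inv_mem _ m12))
      (by rw [W2]; exact Subgroup.mul_mem _ m12 m22)
  have hB2 : ∀ n ∈ (⊥ : Subgroup K) ⊔ Subgroup.zpowers t1 ⊔ Subgroup.zpowers t2,
      b * n * b⁻¹ ∈ (⊥ : Subgroup K) ⊔ Subgroup.zpowers t1 ⊔ Subgroup.zpowers t2 :=
    conj_sup_zpowers_le _ _ b t2
      (conj_sup_zpowers_le ⊥ _ b t1 (hbot _ b) (by rw [W3]; exact Subgroup.mul_mem _ m12 m22))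
      (by rw [W4]; exact Subgroup.inv_mem _ m22)
  -- step 3
  have c3 : ∀ n ∈ (⊥ : Subgroup K) ⊔ Subgroup.zpowers t1 ⊔ Subgroup.zpowers t2,
      (a * b) * n * (a * b)⁻¹ ∈ (⊥ : Subgroup K) ⊔ Subgroup.zpowers t1 ⊔ Subgroup.zpowers t2 := by
    intro n hn
    have := hA2 _ (hB2 n hn)
    have e : (a * b) * n * (a * b)⁻¹ = a * (b * n * b⁻¹) * a⁻¹ := by
      rw [mul_inv_rev]; simp only [mul_assoc]
    rw [e]; exact this
  obtain ⟨f3, d3⟩ := card_sup_zpowers_dvd
    ((⊥ : Subgroup K) ⊔ Subgroup.zpowers t1 ⊔ Subgroup.zpowers t2) (a * b) 3 (1 * 3 * 3)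
    (by norm_num) c3 (by rw [hab]; exact Subgroup.one_mem _) d2
  -- step 4
  have m3 : a * b ∈ (⊥ : Subgroup K) ⊔ Subgroup.zpowers t1 ⊔ Subgroup.zpowers t2 ⊔
      Subgroup.zpowers (a * b) := le_sup_right (α := Subgroup K) (Subgroup.mem_zpowers _)
  have c4 : ∀ n ∈ (⊥ : Subgroup K) ⊔ Subgroup.zpowers t1 ⊔ Subgroup.zpowers t2 ⊔
      Subgroup.zpowers (a * b), a * n * a⁻¹ ∈ (⊥ : Subgroup K) ⊔ Subgroup.zpowers t1 ⊔
        Subgroup.zpowers t2 ⊔ Subgroup.zpowers (a * b) :=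
    conj_sup_zpowers_le _ _ a (a * b) (fun n hn => le_sup_left (α := Subgroup K) (hA2 n hn)) (by
      have e : a * (a * b) * a⁻¹ = (a * b)⁻¹ := by
        rw [mul_inv_rev, hai, hbi]; simp only [mul_assoc, ha']
      rw [e]; exact Subgroup.inv_mem _ m3)
  obtain ⟨f4, d4⟩ := card_sup_zpowers_dvd
    ((⊥ : Subgroup K) ⊔ Subgroup.zpowers t1 ⊔ Subgroup.zpowers t2 ⊔ Subgroup.zpowers (a * b)) a 2
    (1 * 3 * 3 * 3) (by norm_num) c4 (by rw [pow_two, ha]; exact Subgroup.one_mem _) d3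
  -- the last group is everything
  have htop : (⊥ : Subgroup K) ⊔ Subgroup.zpowers t1 ⊔ Subgroup.zpowers t2 ⊔
      Subgroup.zpowers (a * b) ⊔ Subgroup.zpowers a = ⊤ := by
    rw [eq_top_iff, ← hgen, Subgroup.closure_le]
    have ma : a ∈ (⊥ : Subgroup K) ⊔ Subgroup.zpowers t1 ⊔ Subgroup.zpowers t2 ⊔
        Subgroup.zpowers (a * b) ⊔ Subgroup.zpowers a :=
      le_sup_right (α := Subgroup K) (Subgroup.mem_zpowers _)
    have mab : a * b ∈ (⊥ : Subgroup K) ⊔ Subgroup.zpowers t1 ⊔ Subgroup.zpowers t2 ⊔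
        Subgroup.zpowers (a * b) ⊔ Subgroup.zpowers a := le_sup_left (α := Subgroup K) m3
    have mb : b ∈ (⊥ : Subgroup K) ⊔ Subgroup.zpowers t1 ⊔ Subgroup.zpowers t2 ⊔
        Subgroup.zpowers (a * b) ⊔ Subgroup.zpowers a := by
      have := Subgroup.mul_mem _ ma mab
      rwa [ha'] at this
    have mt1 : t1 ∈ (⊥ : Subgroup K) ⊔ Subgroup.zpowers t1 ⊔ Subgroup.zpowers t2 ⊔
        Subgroup.zpowers (a * b) ⊔ Subgroup.zpowers a :=
      le_sup_left (α := Subgroup K) (le_sup_left (α := Subgroup K) m12)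
    have mt2 : t2 ∈ (⊥ : Subgroup K) ⊔ Subgroup.zpowers t1 ⊔ Subgroup.zpowers t2 ⊔
        Subgroup.zpowers (a * b) ⊔ Subgroup.zpowers a :=
      le_sup_left (α := Subgroup K) (le_sup_left (α := Subgroup K) m22)
    rintro x (rfl | rfl | rfl)
    · exact ma
    · exact mb
    · rw [W7]
      exact Subgroup.mul_mem _ (Subgroup.mul_mem _ ma (Subgroup.mul_mem _ mb ma))
        (Subgroup.mul_mem _ mt1 mt2)
  rw [htop] at f4 d4
  rw [Subgroup.card_top] at d4
  exact ⟨Finite.of_equiv _ Subgroup.topEquiv.toEquiv, by norm_num at d4; exact d4⟩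

end Cfsg.Agent.Lib.Helper89.TT68
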