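import Mathlib
import Cfsg.Agent.Lib.Helper89.TT68T1

/-!
# Keystone pack TT68 (architect helper94), leaf T2 (555502): two groups of order 54 generated by a
triangle of involutions are isomorphic (uses `tri_card_dvd` from `TT68T1`).
-/

set_option autoImplicit false

namespace Cfsg.Agent.Lib.Helper89.TT68

/-- the seven relators of the triangle group -/
def triRels : Set (FreeGroup (Fin 3)) :=
  {FreeGroup.of 0 * FreeGroup.of 0, FreeGroup.of 1 * FreeGroup.of 1,
    FreeGroup.of 2 * FreeGroup.of 2,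
    (FreeGroup.of 0 * FreeGroup.of 1) ^ 3, (FreeGroup.of 1 * FreeGroup.of 2) ^ 3,
    (FreeGroup.of 2 * FreeGroup.of 0) ^ 3,
    (FreeGroup.of 0 * (FreeGroup.of 2 * FreeGroup.of 1 * FreeGroup.of 2)) ^ 3}

/-- the presented triangle group -/
abbrev TriGroup : Type := PresentedGroup triRels

theorem triGroup_card : Finite TriGroup ∧ Nat.card TriGroup ∣ 54 := by
  have rel : ∀ r ∈ triRels, PresentedGroup.mk triRels r = 1 :=
    fun r hr => PresentedGroup.one_of_mem hr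
  have e : ∀ i : Fin 3, PresentedGroup.mk triRels (FreeGroup.of i) =
      (PresentedGroup.of i : TriGroup) := fun _ => rfl
  refine tri_card_dvd (PresentedGroup.of 0 : TriGroup) (PresentedGroup.of 1) (PresentedGroup.of 2)
    ?_ ?_ ?_ ?_ ?_ ?_ ?_ ?_
  · have := rel (FreeGroup.of 0 * FreeGroup.of 0) (by simp [triRels])
    rwa [map_mul, e] at this
  · have := rel (FreeGroup.of 1 * FreeGroup.of 1) (by simp [triRels])
    rwa [map_mul, e] at this
  · have := rel (FreeGroup.of 2 * FreeGroup.of 2) (by simp [triRels])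
    rwa [map_mul, e] at this
  · have := rel ((FreeGroup.of 0 * FreeGroup.of 1) ^ 3) (by simp [triRels])
    rwa [map_pow, map_mul, e, e] at this
  · have := rel ((FreeGroup.of 1 * FreeGroup.of 2) ^ 3) (by simp [triRels])
    rwa [map_pow, map_mul, e, e] at this
  · have := rel ((FreeGroup.of 2 * FreeGroup.of 0) ^ 3) (by simp [triRels])
    rwa [map_pow, map_mul, e, e] at this
  · have := rel ((FreeGroup.of 0 * (FreeGroup.of 2 * FreeGroup.of 1 * FreeGroup.of 2)) ^ 3)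
      (by simp [triRels])
    rwa [map_pow, map_mul, map_mul, map_mul, e, e, e] at this
  · rw [← PresentedGroup.closure_range_of triRels]
    congr 1
    ext x
    constructor
    · rintro (rfl | rfl | rfl)
      · exact ⟨0, rfl⟩
      · exact ⟨1, rfl⟩
      · exact ⟨2, rfl⟩
    · rintro ⟨i, rfl⟩
      fin_cases i
      · exact Or.inl rfl
      · exact Or.inr (Or.inl rfl)
      · exact Or.inr (Or.inr rfl)

/-- a group of order 54 generated by a triangle is isomorphic to the presented triangle group -/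
theorem triGroup_equiv {K : Type*} [Group K] (a b c : K)
    (ha : a * a = 1) (hb : b * b = 1) (hc : c * c = 1)
    (hab : (a * b) ^ 3 = 1) (hbc : (b * c) ^ 3 = 1) (hca : (c * a) ^ 3 = 1)
    (ht : (a * (c * b * c)) ^ 3 = 1)
    (hgen : Subgroup.closure ({a, b, c} : Set K) = ⊤) (hcard : Nat.card K = 54) :
    Nonempty (TriGroup ≃* K) := by
  obtain ⟨hfin, hdvd⟩ := triGroup_card
  have hlift : ∀ r ∈ triRels, FreeGroup.lift (![a, b, c] : Fin 3 → K) r = 1 := by
    intro r hr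
    simp only [triRels, Set.mem_insert_iff, Set.mem_singleton_iff] at hr
    rcases hr with rfl | rfl | rfl | rfl | rfl | rfl | rfl
    · simpa using ha
    · simpa using hb
    · simpa using hc
    · simpa using hab
    · simpa using hbc
    · simpa using hca
    · simpa using ht
  let f : TriGroup →* K := PresentedGroup.toGroup hlift
  have f0 : f (PresentedGroup.of 0) = a := by
    show PresentedGroup.toGroup hlift (PresentedGroup.of 0) = a
    rw [PresentedGroup.toGroup.of]; rfl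
  have f1 : f (PresentedGroup.of 1) = b := by
    show PresentedGroup.toGroup hlift (PresentedGroup.of 1) = b
    rw [PresentedGroup.toGroup.of]; rfl
  have f2 : f (PresentedGroup.of 2) = c := by
    show PresentedGroup.toGroup hlift (PresentedGroup.of 2) = c
    rw [PresentedGroup.toGroup.of]; rfl
  have hsurj : Function.Surjective f := by
    rw [← MonoidHom.range_eq_top, eq_top_iff, ← hgen, Subgroup.closure_le]
    rintro x (rfl | rfl | rfl)
    · exact ⟨_, f0⟩
    · exact ⟨_, f1⟩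
    · exact ⟨_, f2⟩
  have hle : Nat.card TriGroup ≤ Nat.card K := by
    rw [hcard]
    exact Nat.le_of_dvd (by norm_num) hdvd
  exact ⟨MulEquiv.ofBijective f (hsurj.bijective_of_nat_card_le hle)⟩

/-- KEYSTONE 555502  K-TT68-T2. -/
theorem tri_mulEquiv {K₁ : Type*} {K₂ : Type*} [Group K₁] [Group K₂] (a₁ b₁ c₁ : K₁) (a₂ b₂ c₂ : K₂)
    (ha₁ : a₁ * a₁ = 1) (hb₁ : b₁ * b₁ = 1) (hc₁ : c₁ * c₁ = 1)
    (hab₁ : (a₁ * b₁) ^ 3 = 1) (hbc₁ : (b₁ * c₁) ^ 3 = 1) (hca₁ : (c₁ * a₁) ^ 3 = 1)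
    (ht₁ : (a₁ * (c₁ * b₁ * c₁)) ^ 3 = 1)
    (hgen₁ : Subgroup.closure ({a₁, b₁, c₁} : Set K₁) = ⊤) (hcard₁ : Nat.card K₁ = 54)
    (ha₂ : a₂ * a₂ = 1) (hb₂ : b₂ * b₂ = 1) (hc₂ : c₂ * c₂ = 1)
    (hab₂ : (a₂ * b₂) ^ 3 = 1) (hbc₂ : (b₂ * c₂) ^ 3 = 1) (hca₂ : (c₂ * a₂) ^ 3 = 1)
    (ht₂ : (a₂ * (c₂ * b₂ * c₂)) ^ 3 = 1)
    (hgen₂ : Subgroup.closure ({a₂, b₂, c₂} : Set K₂) = ⊤) (hcard₂ : Nat.card K₂ = 54) :
    Nonempty (K₁ ≃* K₂) := by
  obtain ⟨e₁⟩ := triGroup_equiv a₁ b₁ c₁ ha₁ hb₁ hc₁ hab₁ hbc₁ hca₁ ht₁ hgen₁ hcard₁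
  obtain ⟨e₂⟩ := triGroup_equiv a₂ b₂ c₂ ha₂ hb₂ hc₂ hab₂ hbc₂ hca₂ ht₂ hgen₂ hcard₂
  exact ⟨e₁.symm.trans e₂⟩

end Cfsg.Agent.Lib.Helper89.TT68
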